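import Groth.Agent.DQCoh.RpushSum
import Groth.Agent.DCat.Acyclic

/-!
# Complexes of quasi-coherent acyclic modules compute `Rf_*`
-/

set_option autoImplicit false
set_option backward.isDefEq.respectTransparency false
set_option backward.defeqAttrib.useBackward true
set_option linter.style.haveILetI false
set_option synthInstance.maxHeartbeats 100000

universe v u

open CategoryTheory CategoryTheory.Limits CategoryTheory.Pretriangulated DerivedCategory Opposite TopologicalSpace AlgebraicGeometry
open Groth.Agent.SiteDer16 Groth.Agent.DCat Groth.Agent.Coherent Groth.Agent.DCat.PullPerf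
open scoped ZeroObject

namespace Groth.Agent.DQCoh

section Stupid

variable {A : Type u} [Category.{v} A] [Abelian A]

/-- The stupid truncation in degrees `≥ m`, as a subcomplex. -/
theorem exists_stupid (K : CochainComplex A ℤ) (m : ℤ) :
    ∃ (P : CochainComplex A ℤ) (ι : P ⟶ K), Mono ι ∧ (∀ n, n < m → IsZero (P.X n)) ∧ ∀ n, m ≤ n → IsIso (ι.f n) := by
  let e := ComplexShape.embeddingUpIntGE m
  let P := K.stupidTrunc e
  have hlt : ∀ n, n < m → IsZero (P.X n) := fun n hn => HomologicalComplex.isZero_stupidTrunc_X K e n fun j hj => by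
    simp [e, ComplexShape.embeddingUpIntGE] at hj
    omega
  let ι₀ : ∀ n, P.X n ⟶ K.X n := fun n => if h : m ≤ n then
    (K.stupidTruncXIso e (i := (n - m).toNat) (by simp [e, ComplexShape.embeddingUpIntGE]; omega)).hom else 0
  let ι : P ⟶ K :=
    { f := ι₀
      comm' := fun p q hpq => by
        simp only [ComplexShape.up_Rel] at hpq
        by_cases hp : m ≤ p
        · have hq : m ≤ q := by omega
          simp only [ι₀, dif_pos hp, dif_pos hq, P, HomologicalComplex.stupidTrunc]
          rw [(K.restriction e).extend_d_eq e (i := (p - m).toNat) (j := (q - m).toNat)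
            (by simp [e, ComplexShape.embeddingUpIntGE]; omega) (by simp [e, ComplexShape.embeddingUpIntGE]; omega)]
          simp [HomologicalComplex.stupidTruncXIso]
          exact d_eqToHom K (by simp [e, ComplexShape.embeddingUpIntGE]; omega)
            (by simp [e, ComplexShape.embeddingUpIntGE]; omega) _ _
        · exact (hlt p (by omega)).eq_of_src _ _ }
  have hιiso : ∀ n, m ≤ n → IsIso (ι.f n) := fun n hn => by
    simp only [ι, ι₀, dif_pos hn]
    infer_instance
  refine ⟨P, ι, HomologicalComplex.mono_of_mono_f _ fun n => ?_, hlt, hιiso⟩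
  by_cases hn : m ≤ n
  · haveI := hιiso n hn
    infer_instance
  · exact ⟨fun g g' _ => (hlt n (by omega)).eq_of_tgt g g'⟩
where
  d_eqToHom (K : CochainComplex A ℤ) {p p' q q' : ℤ} (hp : p = p') (hq : q = q')
      (e₁ : K.X p = K.X p') (e₂ : K.X q = K.X q') :
      eqToHom e₁ ≫ K.d p' q' = K.d p q ≫ eqToHom e₂ := by
    subst hp
    subst hq
    simp

end Stupid

attribute [local instance] HasDerivedCategory.standard

variable {X S : Scheme.{u}}

/-- A complex with quasi-coherent terms has quasi-coherent cohomology. -/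
theorem isQCohD_Q (K : CochainComplex X.Modules ℤ) (h : ∀ n, Coh.IsQCoh (K.X n)) :
    DCoh.IsQCohD (DerivedCategory.Q.obj K) := fun j => by
  haveI : ∀ n, Coh.IsQCoh (K.X n) := h
  haveI : Coh.IsQCoh (K.cycles j) := by
    have := isQCoh_kernel (K.d j (j + 1))
    exact isQCoh_of_iso (X := X) ((kernelIsKernel (K.d j (j + 1))).conePointUniqueUpToIso
      (K.cyclesIsKernel j (j + 1) (by simp))) (h := this)
  haveI := isQCoh_cokernel (K.toCycles (j - 1) j)
  exact isQCoh_of_iso (((cokernelIsCokernel (K.toCycles (j - 1) j)).coconePointUniqueUpToIso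
      (K.homologyIsCokernel (j - 1) j (by simp))) ≪≫
    ((homologyFunctorFactors X.Modules j).app K).symm) (h := ‹_›)

variable (f : X ⟶ S) [QuasiCompact f] [QuasiSeparated f] [DCoh.HasRpush f]

/-- Over an affine open, `Rf_*` has bounded amplitude. -/
theorem exists_bound_restrict (W₀ : S.Opens) (hW₀ : IsAffineOpen W₀) :
    ∃ d : ℕ, ∀ (E : DCoh.D X), DCoh.IsQCohD E → ∀ a : ℤ, E.IsLE a → ∀ i : ℤ, a + d + 2 ≤ i →
      IsZero ((Scheme.Modules.restrictFunctor W₀.ι).obj (DCoh.HD ((DCoh.Rpush f).obj E) i)) := by
  obtain ⟨d, hd⟩ := exists_bound f W₀ hW₀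
  refine ⟨d, fun E hE a hle i hi => ?_⟩
  obtain ⟨_, _⟩ := exists_commShift_Rpush f
  let s := a + 1
  have hQ : DCoh.IsQCohD (E⟦s⟧) := fun q =>
    isQCoh_of_iso (((homologyFunctor X.Modules 0).shiftIso s q (s + q) rfl).app E).symm (h := hE (s + q))
  haveI := hd (E⟦s⟧) hQ (i - s) 0 (by omega)
  haveI := hle
  haveI : (E⟦s⟧).IsLE (-1) := DerivedCategory.TStructure.t.isLE_shift E a s (-1) (by omega)
  have hz : IsZero (CohCx.truncTower (E⟦s⟧) 0) :=
    (DerivedCategory.TStructure.t (C := X.Modules)).isZero_truncGE_obj_of_isLE (-1) _ (by simp) _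
  have hz' : IsZero ((Scheme.Modules.restrictFunctor W₀.ι).obj
      ((homologyFunctor S.Modules (i - s)).obj ((DCoh.Rpush f).obj (E⟦s⟧)))) :=
    IsZero.of_iso ((Scheme.Modules.restrictFunctor W₀.ι).map_isZero ((homologyFunctor S.Modules (i - s)).map_isZero
        ((DCoh.Rpush f).map_isZero hz)))
      (asIso ((Scheme.Modules.restrictFunctor W₀.ι).map ((homologyFunctor S.Modules (i - s)).map
        ((DCoh.Rpush f).map (CohCx.toTruncTower (E⟦s⟧) 0)))))
  exact hz'.of_iso ((Scheme.Modules.restrictFunctor W₀.ι).mapIso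
    ((((homologyFunctor S.Modules 0).shiftIso s (i - s) i (by omega)).app _).symm ≪≫
      (homologyFunctor S.Modules (i - s)).mapIso (((DCoh.Rpush f).commShiftIso s).app E).symm))

omit [QuasiCompact f] [QuasiSeparated f] in
/-- Bounded below complexes of acyclic modules compute `Rf_*`. -/
theorem isIso_unit_boundedBelow [HasInjectiveResolutions X.Modules] (P : CochainComplex X.Modules ℤ) (m : ℤ)
    [P.IsStrictlyGE m] (hP : ∀ n, DCat.Acyclic.Acy (Scheme.Modules.pushforward f) (P.X n)) :
    IsIso (((DCoh.pushKh f).totalRightDerivedUnit DerivedCategory.Qh (HomotopyCategory.quasiIso X.Modules (ComplexShape.up ℤ))).app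
      ((HomotopyCategory.quotient X.Modules (ComplexShape.up ℤ)).obj P)) := by
  haveI : EnoughInjectives X.Modules := DCat.Acyclic.enoughInjectives
  haveI : PreservesFiniteLimits (Scheme.Modules.pushforward f) :=
    haveI := (Scheme.Modules.pullbackPushforwardAdjunction f).rightAdjoint_preservesLimits
    inferInstance
  obtain ⟨L, i, hi, hL, hLm⟩ := CochainComplex.Plus.modelCategoryQuillen.exists_quasiIso_injective P m
  haveI := hL
  let η := (DCoh.pushKh f).totalRightDerivedUnit DerivedCategory.Qh (HomotopyCategory.quasiIso X.Modules (ComplexShape.up ℤ))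
  let qi := (HomotopyCategory.quotient X.Modules (ComplexShape.up ℤ)).map i
  have hq : HomotopyCategory.quasiIso X.Modules (ComplexShape.up ℤ) qi :=
    (HomotopyCategory.quotient_map_mem_quasiIso_iff i).2 hi
  haveI : IsIso (η.app ((HomotopyCategory.quotient X.Modules (ComplexShape.up ℤ)).obj L)) :=
    isIso_unit_of_kInj (modules_enoughKInj X) (DCoh.pushKh f) L (CochainComplex.isKInjective_of_injective L m)
  haveI : IsIso ((DCoh.pushKh f).map qi) :=
    DCat.Acyclic.isIso_Qh_map_map (F := Scheme.Modules.pushforward f) qi hq fun φ hφ => by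
      haveI : (CochainComplex.mappingCone φ).IsStrictlyGE (m - 1) := by
        rw [CochainComplex.isStrictlyGE_iff]
        intro k hk
        rw [CochainComplex.mappingCone.isZero_X_iff]
        exact ⟨CochainComplex.isZero_of_isStrictlyGE P m _ (by omega),
          CochainComplex.isZero_of_isStrictlyGE L m _ (by omega)⟩
      exact DCat.Acyclic.acyclic_map_boundedBelow _ (m - 1) hφ
        (DCat.Acyclic.acy_mappingCone_X φ hP fun n => DCat.Acyclic.acy_injective (L.X n))
  haveI : IsIso (DerivedCategory.Qh.map qi) := Localization.inverts _ _ _ hq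
  haveI : IsIso ((DCoh.pushKh f).map qi ≫ η.app ((HomotopyCategory.quotient X.Modules (ComplexShape.up ℤ)).obj L)) :=
    IsIso.comp_isIso
  haveI : IsIso (η.app ((HomotopyCategory.quotient X.Modules (ComplexShape.up ℤ)).obj P) ≫
      (DCoh.Rpush f).map (DerivedCategory.Qh.map qi)) :=
    (η.naturality qi).symm ▸ ‹_›
  exact IsIso.of_isIso_comp_right _ ((DCoh.Rpush f).map (DerivedCategory.Qh.map qi))

/-- Complexes of quasi-coherent acyclic modules compute `Rf_*`. -/
theorem isIso_unit_qcoh [HasInjectiveResolutions X.Modules]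
    (F : CochainComplex X.Modules ℤ) (hq : ∀ n : ℤ, Coh.IsQCoh (F.X n))
    (hac : ∀ (n : ℤ) (i : ℕ), 0 < i → IsZero ((Coh.Rpush f i).obj (F.X n))) :
    IsIso (((DCoh.pushKh f).totalRightDerivedUnit DerivedCategory.Qh (HomotopyCategory.quasiIso X.Modules (ComplexShape.up ℤ))).app
      ((HomotopyCategory.quotient X.Modules (ComplexShape.up ℤ)).obj F)) := by
  obtain ⟨_, _⟩ := exists_commShift_Rpush f
  let η := (DCoh.pushKh f).totalRightDerivedUnit DerivedCategory.Qh (HomotopyCategory.quasiIso X.Modules (ComplexShape.up ℤ))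
  let qF := (HomotopyCategory.quotient X.Modules (ComplexShape.up ℤ)).obj F
  obtain ⟨C, v, w, hTC⟩ := distinguished_cocone_triangle (η.app qF)
  refine (Triangle.isZero₃_iff_isIso₁ _ hTC).1 (isZero_of_isZero_hd C fun j => ?_)
  choose W hW hxW _ using fun x : S => exists_isAffineOpen_mem_and_subset (x := x) (U := (⊤ : S.Opens)) trivial
  refine isZero_of_restrict_cover _ W (fun x => ⟨x, hxW x⟩) fun x => ?_
  let G := Scheme.Modules.restrictFunctor (W x).ι
  obtain ⟨d, hd⟩ := exists_bound_restrict f (W x) (hW x)
  have hiso : ∀ i : ℤ, IsIso (G.map ((homologyFunctor S.Modules i).map (η.app qF))) := by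
    intro i
    obtain ⟨P, ι, hι, hlt, hge⟩ := exists_stupid F (i - d - 3)
    haveI : P.IsStrictlyGE (i - d - 3) := (CochainComplex.isStrictlyGE_iff _ _).2 hlt
    haveI := hι
    have hacy : ∀ n, DCat.Acyclic.Acy (Scheme.Modules.pushforward f) (P.X n) := fun n => by
      by_cases hn : i - d - 3 ≤ n
      · haveI := hge n hn
        exact DCat.Acyclic.Acy.of_iso (fun p hp => hac n p hp) (asIso (ι.f n)).symm
      · exact fun p _ => ((Scheme.Modules.pushforward f).rightDerived p).map_isZero (hlt n (by omega))
    haveI hP := isIso_unit_boundedBelow f P (i - d - 3) hacy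
    let S₀ : ShortComplex (CochainComplex X.Modules ℤ) := ShortComplex.mk ι (cokernel.π ι) (cokernel.condition ι)
    have hS₀ : S₀.ShortExact := { exact := ShortComplex.exact_cokernel _ }
    have hCq : DCoh.IsQCohD (DerivedCategory.Q.obj (cokernel ι)) := isQCohD_Q _ fun n => by
      haveI : Coh.IsQCoh (F.X n) := hq n
      haveI : Coh.IsQCoh (P.X n) := by
        by_cases hn : i - d - 3 ≤ n
        · haveI := hge n hn
          exact isQCoh_of_iso (asIso (ι.f n)).symm (h := hq n)
        · exact isQCoh_of_isZero (hlt n (by omega))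
      exact isQCoh_of_iso (PreservesCokernel.iso (HomologicalComplex.eval X.Modules (ComplexShape.up ℤ) n) ι).symm
        (h := isQCoh_cokernel (ι.f n))
    haveI : (cokernel ι).IsStrictlyLE (i - d - 4) := (CochainComplex.isStrictlyLE_iff _ _).2 fun n hn => by
      haveI : IsIso ((HomologicalComplex.eval X.Modules (ComplexShape.up ℤ) n).map ι) := hge n (by omega)
      exact IsZero.of_iso (isZero_cokernel_of_epi ((HomologicalComplex.eval X.Modules (ComplexShape.up ℤ) n).map ι))
        (PreservesCokernel.iso (HomologicalComplex.eval X.Modules (ComplexShape.up ℤ) n) ι)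
    have hle : (DerivedCategory.Q.obj (cokernel ι)).IsLE (i - d - 4) := inferInstance
    let T := (DCoh.Rpush f).mapTriangle.obj (DerivedCategory.triangleOfSES hS₀)
    have hT : T ∈ distTriang (DCoh.D S) :=
      (DCoh.Rpush f).map_distinguished _ (DerivedCategory.triangleOfSES_distinguished hS₀)
    have hz : ∀ k, i - 1 ≤ k → IsZero (G.obj ((homologyFunctor S.Modules k).obj T.obj₃)) := fun k hk =>
      hd _ hCq (i - d - 4) hle k (by omega)
    haveI : IsIso (G.map ((homologyFunctor S.Modules i).map T.mor₁)) := by
      haveI : Mono (G.map ((homologyFunctor S.Modules i).map T.mor₁)) :=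
        ((HomologySequence.exact₁ _ hT (i - 1) i (by omega)).map G).mono_g ((hz (i - 1) le_rfl).eq_of_src _ _)
      haveI : Epi (G.map ((homologyFunctor S.Modules i).map T.mor₁)) :=
        ((HomologySequence.exact₂ _ hT i).map G).epi_f ((hz i (by omega)).eq_of_tgt _ _)
      exact isIso_of_mono_of_epi _
    let qι := (HomotopyCategory.quotient X.Modules (ComplexShape.up ℤ)).map ι
    haveI : IsIso ((homologyFunctor S.Modules i).map ((DCoh.pushKh f).map qι)) := by
      let fι := ((Scheme.Modules.pushforward f).mapHomologicalComplex (ComplexShape.up ℤ)).map ι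
      have hfi : ∀ n, i - 1 ≤ n → IsIso (fι.f n) := fun n hn => by
        haveI := hge n (by omega)
        exact (inferInstance : IsIso ((Scheme.Modules.pushforward f).map (ι.f n)))
      haveI := hfi (i - 1) le_rfl
      haveI := hfi i (by omega)
      haveI := hfi (i + 1) (by omega)
      haveI : IsIso (HomologicalComplex.homologyMap fι i) :=
        ShortComplex.isIso_homologyMap_of_epi_of_isIso_of_mono'
          ((HomologicalComplex.shortComplexFunctor S.Modules (ComplexShape.up ℤ) i).map fι)
          ((inferInstance : Epi (fι.f (i - 1))) |> fun h => by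
            show Epi (fι.f ((ComplexShape.up ℤ).prev i)); rw [CochainComplex.prev]; exact h)
          (inferInstance : IsIso (fι.f i))
          ((inferInstance : Mono (fι.f (i + 1))) |> fun h => by
            show Mono (fι.f ((ComplexShape.up ℤ).next i)); rw [CochainComplex.next]; exact h)
      haveI : IsIso ((homologyFunctor S.Modules i).map (DerivedCategory.Q.map fι)) :=
        (NatIso.isIso_map_iff (homologyFunctorFactors S.Modules i) fι).2 ‹_›
      exact (NatIso.isIso_map_iff (Functor.isoWhiskerRight (DerivedCategory.quotientCompQhIso S.Modules)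
        (homologyFunctor S.Modules i)) fι).2 ‹_›
    have sq : (DCoh.pushKh f).map qι ≫ η.app qF =
        η.app ((HomotopyCategory.quotient X.Modules (ComplexShape.up ℤ)).obj P) ≫
          (DCoh.Rpush f).map (DerivedCategory.Qh.map qι) := η.naturality qι
    haveI : IsIso (G.map ((homologyFunctor S.Modules i).map ((DCoh.Rpush f).map (DerivedCategory.Qh.map qι)))) :=
      (NatIso.isIso_map_iff (Functor.isoWhiskerRight (DerivedCategory.quotientCompQhIso X.Modules)
        (DCoh.Rpush f ⋙ homologyFunctor S.Modules i ⋙ G)) ι).2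
        (‹_› : IsIso (G.map ((homologyFunctor S.Modules i).map T.mor₁)))
    have := congrArg (fun t => G.map ((homologyFunctor S.Modules i).map t)) sq
    simp only [Functor.map_comp] at this
    haveI : IsIso (G.map ((homologyFunctor S.Modules i).map ((DCoh.pushKh f).map qι)) ≫
        G.map ((homologyFunctor S.Modules i).map (η.app qF))) := this ▸ IsIso.comp_isIso
    exact IsIso.of_isIso_comp_left (G.map ((homologyFunctor S.Modules i).map ((DCoh.pushKh f).map qι))) _
  haveI := hiso j
  haveI := hiso (j + 1)
  refine ((HomologySequence.exact₃ _ hTC j (j + 1) rfl).map G).isZero_X₂ ?_ ?_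
  · exact ((HomologySequence.exact₂ _ hTC j).map G).epi_f_iff.1
      (inferInstance : Epi (G.map ((homologyFunctor S.Modules j).map (η.app qF))))
  · exact ((HomologySequence.exact₁ _ hTC j (j + 1) rfl).map G).mono_g_iff.1
      (inferInstance : Mono (G.map ((homologyFunctor S.Modules (j + 1)).map (η.app qF))))

end Groth.Agent.DQCoh
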