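import Groth.Agent.DQCoh.Local
import Groth.Agent.Flatn12.PullbackSections
import Groth.Agent.Coherent.RpushVanish
import Groth.Agent.S12898
import Mathlib.CategoryTheory.Adjunction.Restrict

/-!
# `tilde` against derived push and pull along a map of affine schemes
-/

set_option autoImplicit false
set_option backward.isDefEq.respectTransparency false
set_option backward.defeqAttrib.useBackward true
set_option linter.style.haveILetI false
set_option synthInstance.maxHeartbeats 100000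

universe u

open CategoryTheory CategoryTheory.Limits CategoryTheory.Pretriangulated DerivedCategory Opposite TopologicalSpace AlgebraicGeometry
open Groth.Agent.SiteDer16 Groth.Agent.DCat Groth.Agent.Coherent

namespace Groth.Agent.DQCoh

attribute [local instance] HasDerivedCategory.standard

variable {R S : CommRingCat.{u}} (φ : R ⟶ S)

theorem isQCoh_tilde (N : ModuleCat.{u} R) : Coh.IsQCoh ((tilde.functor R).obj N) :=
  (isQuasicoherent_iff_isIso_fromTildeΓ _).2 (isIso_fromTildeΓ_iff.2 (Functor.obj_mem_essImage _ _))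

/-- `φ_*(N~) = N_R~`. -/
theorem nonempty_tilde_push :
    Nonempty (tilde.functor S ⋙ Scheme.Modules.pushforward (Spec.map φ) ≅
      ModuleCat.restrictScalars φ.hom ⋙ tilde.functor R) := by
  have hq : ∀ N : ModuleCat.{u} S, IsIso (((Scheme.Modules.pushforward (Spec.map φ)).obj
      ((tilde.functor S).obj N)).fromTildeΓ) := fun N => by
    haveI : Coh.IsQCoh ((tilde.functor S).obj N) := isQCoh_tilde N
    exact (isQuasicoherent_iff_isIso_fromTildeΓ _).1 (isQCoh_push (Spec.map φ) _)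
  let G := tilde.functor S ⋙ Scheme.Modules.pushforward (Spec.map φ)
  let e₁ : G ⋙ moduleSpecΓFunctor ⋙ tilde.functor R ≅ G :=
    NatIso.ofComponents (fun N => @asIso _ _ _ _ ((G.obj N).fromTildeΓ) (hq N))
      (fun f => Scheme.Modules.fromTildeΓNatTrans.naturality _)
  exact ⟨e₁.symm ≪≫ Functor.isoWhiskerLeft (tilde.functor S)
      (Functor.isoWhiskerRight (Flatn12.pushforwardΓIso φ) (tilde.functor R)) ≪≫
    Functor.isoWhiskerRight (tilde.toTildeΓNatIso (R := S)).symm
      (ModuleCat.restrictScalars φ.hom ⋙ tilde.functor R)⟩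

/-- Quasi-coherent modules are acyclic for affine direct image. -/
theorem isZero_rpush_affine {X Y : Scheme.{u}} (f : X ⟶ Y) [IsAffineHom f] [HasInjectiveResolutions X.Modules]
    (M : X.Modules) [Coh.IsQCoh M] (i : ℕ) (hi : 0 < i) : IsZero ((Coh.Rpush f i).obj M) := by
  have h' : IsZero ((toAbFunctor Y).obj ((Coh.Rpush f i).obj M)) :=
    (isZero_rpushAb_of_isAffineHom f M i hi).of_iso ((toAbRpushNatIso f i).app _)
  rw [IsZero.iff_id_eq_zero] at h' ⊢
  exact (toAbFunctor Y).map_injective (((toAbFunctor Y).map_id _).trans (h'.trans ((toAbFunctor Y).map_zero _ _).symm))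

/-- Complexes of tilde modules compute `Rf_*`. -/
theorem nonempty_Q_tilde_Rpush [DCoh.HasRpush (Spec.map φ)] [PreservesFiniteLimits (tilde.functor S)] :
    Nonempty (DerivedCategory.Q ⋙ DCoh.tildeD S ⋙ DCoh.Rpush (Spec.map φ) ≅
      (tilde.functor S).mapHomologicalComplex (ComplexShape.up ℤ) ⋙
        (Scheme.Modules.pushforward (Spec.map φ)).mapHomologicalComplex (ComplexShape.up ℤ) ⋙ DerivedCategory.Q) := by
  let f := Spec.map φ
  let η := (DCoh.pushKh f).totalRightDerivedUnit DerivedCategory.Qh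
    (HomotopyCategory.quasiIso (Spec S).Modules (ComplexShape.up ℤ))
  let T := (tilde.functor S).mapHomologicalComplex (ComplexShape.up ℤ)
  let q := HomotopyCategory.quotient (Spec S).Modules (ComplexShape.up ℤ)
  haveI : ∀ K, IsIso ((Functor.whiskerLeft (T ⋙ q) η).app K) := fun K =>
    isIso_unit_qcoh f (T.obj K) (fun n => isQCoh_tilde (K.X n)) fun n i hi => by
      haveI : Coh.IsQCoh ((T.obj K).X n) := isQCoh_tilde (K.X n)
      exact isZero_rpush_affine f _ i hi
  haveI := NatIso.isIso_of_isIso_app (Functor.whiskerLeft (T ⋙ q) η)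
  exact ⟨Functor.isoWhiskerRight (tilde.functor S).mapDerivedCategoryFactors (DCoh.Rpush f) ≪≫
    Functor.isoWhiskerLeft T (Functor.isoWhiskerRight (DerivedCategory.quotientCompQhIso _).symm (DCoh.Rpush f)) ≪≫
    (asIso (Functor.whiskerLeft (T ⋙ q) η)).symm ≪≫
    Functor.isoWhiskerLeft T (Functor.isoWhiskerLeft
      ((Scheme.Modules.pushforward f).mapHomologicalComplex (ComplexShape.up ℤ))
      (DerivedCategory.quotientCompQhIso _))⟩

theorem nonempty_lift_generic {A B B' C : Type*} [Category A] [Abelian A] [HasDerivedCategory A]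
    [Category B] [Abelian B] [Category B'] [Abelian B'] [HasDerivedCategory B']
    [Category C] [Abelian C] [HasDerivedCategory C]
    (T : A ⥤ B) [T.Additive] (P : B ⥤ C) [P.Additive]
    (G : A ⥤ B') [G.Additive] [PreservesFiniteLimits G] [PreservesFiniteColimits G]
    (H : B' ⥤ C) [H.Additive] [PreservesFiniteLimits H] [PreservesFiniteColimits H]
    (b : T ⋙ P ≅ G ⋙ H) (E : DerivedCategory A ⥤ DerivedCategory C)
    (a : Nonempty (DerivedCategory.Q ⋙ E ≅
      T.mapHomologicalComplex (ComplexShape.up ℤ) ⋙ P.mapHomologicalComplex (ComplexShape.up ℤ) ⋙ DerivedCategory.Q))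
    (Z : DerivedCategory A ⥤ DerivedCategory C) (hZ : Z = G.mapDerivedCategory ⋙ H.mapDerivedCategory) :
    Nonempty (E ≅ Z) := by
  subst hZ
  obtain ⟨a⟩ := a
  let m : T.mapHomologicalComplex (ComplexShape.up ℤ) ⋙ P.mapHomologicalComplex (ComplexShape.up ℤ) ≅
      G.mapHomologicalComplex (ComplexShape.up ℤ) ⋙ H.mapHomologicalComplex (ComplexShape.up ℤ) :=
    NatIso.mapHomologicalComplex b (ComplexShape.up ℤ)
  let c : DerivedCategory.Q ⋙ E ≅ DerivedCategory.Q ⋙ G.mapDerivedCategory ⋙ H.mapDerivedCategory :=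
    a ≪≫ Functor.isoWhiskerRight m DerivedCategory.Q ≪≫
      Functor.isoWhiskerLeft (G.mapHomologicalComplex (ComplexShape.up ℤ)) H.mapDerivedCategoryFactors.symm ≪≫
      (Functor.isoWhiskerRight G.mapDerivedCategoryFactors H.mapDerivedCategory).symm
  exact ⟨Localization.liftNatIso DerivedCategory.Q (HomologicalComplex.quasiIso A (ComplexShape.up ℤ))
    (DerivedCategory.Q ⋙ E) (DerivedCategory.Q ⋙ G.mapDerivedCategory ⋙ H.mapDerivedCategory) _ _ c⟩

/-- The two exact functors `D(B) ⥤ D(O_{Spec A})`. -/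
theorem nonempty_tildeD_Rpush [DCoh.HasRpush (Spec.map φ)] [PreservesFiniteLimits (tilde.functor S)]
    [PreservesFiniteLimits (tilde.functor R)] :
    Nonempty (DCoh.tildeD S ⋙ DCoh.Rpush (Spec.map φ) ≅ DRing.restrictD φ.hom ⋙ DCoh.tildeD R) := by
  obtain ⟨b⟩ := nonempty_tilde_push φ
  exact nonempty_lift_generic (B := (Spec (CommRingCat.of S)).Modules) (C := (Spec (CommRingCat.of R)).Modules) (tilde.functor S) (Scheme.Modules.pushforward (Spec.map φ))
    (ModuleCat.restrictScalars φ.hom) (tilde.functor R) b (DCoh.tildeD S ⋙ DCoh.Rpush (Spec.map φ))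
    (nonempty_Q_tilde_Rpush φ) (DRing.restrictD φ.hom ⋙ DCoh.tildeD R) rfl

/-- Fully faithful functors through which a left adjoint factors inherit the adjunction. -/
theorem nonempty_comp_iso_of_adj {A B A' B' : Type*} [Category A] [Category B] [Category A'] [Category B']
    (iA : A ⥤ A') (hA : iA.FullyFaithful) (iB : B ⥤ B') (hB : iB.FullyFaithful)
    {L : A' ⥤ B'} {Rg : B' ⥤ A'} (adj : L ⊣ Rg) {L₀ : A ⥤ B} {R₀ : B ⥤ A} (adj₀ : L₀ ⊣ R₀)
    (c : iB ⋙ Rg ≅ R₀ ⋙ iA) (h : ∀ a, iB.essImage (L.obj (iA.obj a))) :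
    Nonempty (L₀ ⋙ iB ≅ iA ⋙ L) := by
  haveI := hB.full
  haveI := hB.faithful
  let Lr : A ⥤ B := iB.essImage.lift (iA ⋙ L) h ⋙ iB.toEssImage.inv
  let e : Lr ⋙ iB ≅ iA ⋙ L :=
    Functor.associator _ _ _ ≪≫ Functor.isoWhiskerLeft (iB.essImage.lift (iA ⋙ L) h)
      (Functor.isoWhiskerLeft iB.toEssImage.inv iB.toEssImageCompι.symm ≪≫ (Functor.associator _ _ _).symm ≪≫
        Functor.isoWhiskerRight iB.toEssImage.asEquivalence.counitIso iB.essImage.ι ≪≫ Functor.leftUnitor _) ≪≫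
      ObjectProperty.liftCompιIso iB.essImage (iA ⋙ L) h
  let adj' : Lr ⊣ R₀ := adj.restrictFullyFaithful hA hB e.symm c
  exact ⟨Functor.isoWhiskerRight (adj₀.leftAdjointUniq adj') iB ≪≫ e⟩

theorem exists_affine_adj [DRing.HasLBaseChange φ.hom] [DCoh.HasLpull (Spec.map φ)] :
    ∃ _ : DCoh.HasRpush (Spec.map φ), Nonempty (DRing.LBaseChange φ.hom ⊣ DRing.restrictD φ.hom) ∧
      Nonempty (DCoh.Lpull (Spec.map φ) ⊣ DCoh.Rpush (Spec.map φ)) := by
  haveI := hasRpush (Spec.map φ)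
  exact ⟨this, Groth.Agent.S12898.result φ.hom, nonempty_pullPushAdj _⟩

/-- `(M ⊗^L_A B)~ = Lf^*(M~)`. -/
theorem nonempty_LBaseChange_tildeD [DRing.HasLBaseChange φ.hom] [DCoh.HasLpull (Spec.map φ)]
    [PreservesFiniteLimits (tilde.functor S)] [PreservesFiniteLimits (tilde.functor R)] :
    Nonempty (DRing.LBaseChange φ.hom ⋙ DCoh.tildeD S ≅ DCoh.tildeD R ⋙ DCoh.Lpull (Spec.map φ)) := by
  obtain ⟨_, ⟨a₁⟩, ⟨a₂⟩⟩ := exists_affine_adj φ
  obtain ⟨c⟩ := nonempty_tildeD_Rpush φ
  obtain ⟨hR₁, hR₂, hR₃⟩ := tildeD_main R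
  obtain ⟨hS₁, hS₂, hS₃⟩ := tildeD_main S
  haveI := hR₁; haveI := hR₂; haveI := hS₁; haveI := hS₂
  refine nonempty_comp_iso_of_adj (DCoh.tildeD R) (Functor.FullyFaithful.ofFullyFaithful _) (DCoh.tildeD S)
    (Functor.FullyFaithful.ofFullyFaithful _) a₂ a₁ c fun M => ?_
  obtain ⟨N, ⟨e⟩⟩ := (hS₃ _).1 (isQCohD_Lpull (Spec.map φ) _ (isQCohD_tildeD R M))
  exact ⟨N, ⟨e⟩⟩

end Groth.Agent.DQCoh
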