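import Groth.Agent.DQCoh.PscNoeth
import Groth.Agent.DQCoh.TildePush
import Groth.Agent.DQCoh.AcyclicPush
import Groth.Agent.DCat.OpenDerived
import Groth.Agent.DRingLib.PCRestrict

/-!
# Pseudo-coherence along affine morphisms with pseudo-coherent direct image of `O`
-/

set_option autoImplicit false
set_option backward.isDefEq.respectTransparency false
set_option backward.defeqAttrib.useBackward true
set_option linter.style.haveILetI false
set_option synthInstance.maxHeartbeats 100000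
set_option linter.unusedVariables false
set_option backward.isDefEq.respectTransparency.types false

universe u

open CategoryTheory CategoryTheory.Limits CategoryTheory.Pretriangulated DerivedCategory Opposite TopologicalSpace AlgebraicGeometry
open Groth.Agent.SiteDer16 Groth.Agent.DCat Groth.Agent.Coherent

namespace Groth.Agent.DQCoh

attribute [local instance] HasDerivedCategory.standard
attribute [-instance] Int.instConditionallyCompleteLinearOrder

variable {X Y : Scheme.{u}}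

theorem nonempty_rd_congr {W : Scheme.{u}} {k k' : W ⟶ X} [IsOpenImmersion k] [IsOpenImmersion k'] (h : k = k') :
    Nonempty (PerfLocal.rd k ≅ PerfLocal.rd k') := by
  subst h
  exact ⟨Iso.refl _⟩

/-- Direct image along an isomorphism is restriction along its inverse. -/
theorem nonempty_Rpush_iso (e : X ≅ Y) [DCoh.HasRpush e.hom] (E : DCoh.D X) :
    Nonempty ((DCoh.Rpush e.hom).obj E ≅ (PerfLocal.rd e.inv).obj E) := by
  obtain ⟨a⟩ := PerfLocal.nonempty_rd_rpush e.hom E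
  obtain ⟨b⟩ := PerfLocal.rd_comp e.inv e.hom ((DCoh.Rpush e.hom).obj E)
  obtain ⟨c⟩ := nonempty_rd_congr (k := e.inv ≫ e.hom) (k' := 𝟙 Y) e.inv_hom_id
  obtain ⟨d⟩ := PCTriangle.rd_id ((DCoh.Rpush e.hom).obj E)
  exact ⟨d.symm ≪≫ (c.app _).symm ≪≫ b ≪≫ (PerfLocal.rd e.inv).mapIso a⟩

theorem psc_rd_iso_iff (e : X ≅ Y) (m : ℤ) (E : DCoh.D Y) :
    DCoh.IsPseudoCoherentD m ((PerfLocal.rd e.hom).obj E) ↔ DCoh.IsPseudoCoherentD m E :=
  ⟨fun h => psc_of_local E fun y => ⟨X, e.hom, inferInstance,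
    ⟨e.inv y, (Scheme.Hom.comp_apply e.inv e.hom y).symm.trans (by simp)⟩, h⟩, psc_rd e.hom⟩

/-- A quasi-coherent module is acyclic for affine direct image. -/
theorem nonempty_Rpush_inD (f : X ⟶ Y) [IsAffineHom f] [DCoh.HasRpush f] (M : X.Modules) [hM : Coh.IsQCoh M] :
    Nonempty ((DCoh.Rpush f).obj (DCoh.inD X M) ≅ DCoh.inD Y ((Scheme.Modules.pushforward f).obj M)) := by
  let F := (HomologicalComplex.single X.Modules (ComplexShape.up ℤ) 0).obj M
  have hq : ∀ n : ℤ, Coh.IsQCoh (F.X n) := fun n => by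
    by_cases hn : n = 0
    · subst hn
      exact isQCoh_of_iso (HomologicalComplex.singleObjXSelf (ComplexShape.up ℤ) 0 M).symm (h := hM)
    · exact isQCoh_of_isZero (HomologicalComplex.isZero_single_obj_X _ _ _ _ hn)
  haveI := isIso_unit_qcoh f F hq fun n i hi => by
    haveI := hq n
    exact isZero_rpush_affine f _ i hi
  let η := (DCoh.pushKh f).totalRightDerivedUnit DerivedCategory.Qh
    (HomotopyCategory.quasiIso X.Modules (ComplexShape.up ℤ))
  exact ⟨(DCoh.Rpush f).mapIso ((DerivedCategory.singleFunctorIsoCompQ X.Modules 0).app M ≪≫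
      (DerivedCategory.quotientCompQhIso _).symm.app F) ≪≫
    (asIso (η.app ((HomotopyCategory.quotient X.Modules (ComplexShape.up ℤ)).obj F))).symm ≪≫
    DerivedCategory.Qh.mapIso ((((Scheme.Modules.pushforward f).mapHomotopyCategoryFactors (ComplexShape.up ℤ)).app F)) ≪≫
    (DerivedCategory.quotientCompQhIso _).app _ ≪≫
    DerivedCategory.Q.mapIso ((HomologicalComplex.singleMapHomologicalComplex (Scheme.Modules.pushforward f)
      (ComplexShape.up ℤ) 0).app M) ≪≫
    ((DerivedCategory.singleFunctorIsoCompQ Y.Modules 0).app _).symm⟩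

/-- Over an affine open, an affine morphism is `Spec` of a ring map. -/
theorem exists_affine_model (f : X ⟶ Y) [IsAffineHom f] [DCoh.HasRpush f] (V : Y.Opens) (hV : IsAffineOpen V) :
    ∃ (R S : CommRingCat.{u}) (φ : R ⟶ S) (j : Spec S ⟶ X) (_ : IsOpenImmersion j) (_ : DCoh.HasRpush (Spec.map φ)),
      (∀ x : X, f x ∈ V → x ∈ j.opensRange) ∧ ∀ (m : ℤ) (E : DCoh.D X),
        DCoh.IsPseudoCoherentD m ((PerfLocal.rd V.ι).obj ((DCoh.Rpush f).obj E)) ↔
          DCoh.IsPseudoCoherentD m ((DCoh.Rpush (Spec.map φ)).obj ((PerfLocal.rd j).obj E)) := by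
  let U := f ⁻¹ᵁ V
  haveI : IsAffine V.toScheme := hV
  haveI : IsAffine U.toScheme := hV.preimage f
  let g : U.toScheme ⟶ V.toScheme := f ∣_ V
  let α := U.toScheme.isoSpec
  let β := V.toScheme.isoSpec
  let φ : Γ(V.toScheme, ⊤) ⟶ Γ(U.toScheme, ⊤) := g.appTop
  have hg : α.hom ≫ Spec.map φ ≫ β.inv = g := by
    have h := Scheme.isoSpec_hom_naturality g
    rw [reassoc_of% h, Iso.hom_inv_id, Category.comp_id]
  haveI := hasRpush g
  haveI := hasRpush α.hom
  haveI := hasRpush β.inv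
  haveI : DCoh.HasRpush β.symm.hom := hasRpush β.inv
  haveI hφ := hasRpush (Spec.map φ)
  haveI := hasRpush (α.hom ≫ Spec.map φ)
  haveI := hasRpush ((α.hom ≫ Spec.map φ) ≫ β.inv)
  obtain ⟨c₁⟩ := nonempty_RpushComp (α.hom) (Spec.map φ)
  obtain ⟨c₂⟩ := nonempty_RpushComp (α.hom ≫ Spec.map φ) β.inv
  haveI := PullPerf.preservesFiniteLimits_restrict V.ι
  haveI := PullPerf.preservesFiniteLimits_restrict U.ι
  let r := OpenDerived.rpushRestrictIso f V
  refine ⟨_, _, φ, α.inv ≫ U.ι, inferInstance, hφ, fun x hx => ?_, fun m E => ?_⟩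
  · exact ⟨α.hom ⟨x, hx⟩, by simp⟩
  obtain ⟨a⟩ := nonempty_Rpush_iso α ((PerfLocal.rd U.ι).obj E)
  obtain ⟨c⟩ := PerfLocal.rd_comp α.inv U.ι E
  obtain ⟨b⟩ := nonempty_Rpush_iso β.symm ((DCoh.Rpush (Spec.map φ)).obj ((PerfLocal.rd (α.inv ≫ U.ι)).obj E))
  have key : Nonempty ((PerfLocal.rd V.ι).obj ((DCoh.Rpush f).obj E) ≅
      (PerfLocal.rd β.hom).obj ((DCoh.Rpush (Spec.map φ)).obj ((PerfLocal.rd (α.inv ≫ U.ι)).obj E))) := by
    have hcongr : ∀ (g' : U.toScheme ⟶ V.toScheme) [DCoh.HasRpush g'], g' = g →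
        Nonempty (DCoh.Rpush g ≅ DCoh.Rpush g') := by
      intro g' _ h
      subst h
      exact ⟨Iso.refl _⟩
    obtain ⟨d⟩ := hcongr ((α.hom ≫ Spec.map φ) ≫ β.inv) (by rw [Category.assoc]; exact hg)
    exact ⟨r.app E ≪≫ d.app _ ≪≫ (c₂.app _).symm ≪≫ (DCoh.Rpush β.inv).mapIso ((c₁.app _).symm) ≪≫
      (DCoh.Rpush β.inv).mapIso ((DCoh.Rpush (Spec.map φ)).mapIso (a ≪≫ c.symm)) ≪≫ b⟩
  obtain ⟨k⟩ := key
  exact Iff.trans ⟨PCTriangle.psc_iso k, PCTriangle.psc_iso k.symm⟩ (psc_rd_iso_iff β m _)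

/-- Restriction of the structure sheaf to an affine chart. -/
theorem nonempty_rd_structure (R : CommRingCat.{u}) [PreservesFiniteLimits (tilde.functor R)] (j : Spec R ⟶ X)
    [IsOpenImmersion j] :
    Nonempty ((DCoh.tildeD R).obj ((singleFunctor (ModuleCat.{u} R) 0).obj (ModuleCat.of R R)) ≅
      (PerfLocal.rd j).obj (DCoh.inD X (Coh.structureModule X))) :=
  haveI := preservesFiniteColimits_tilde R
  ⟨((tilde.functor R).mapDerivedCategorySingleFunctor 0).app (ModuleCat.of R R) ≪≫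
    (singleFunctor _ 0).mapIso ((topIso R).symm ≪≫ topStructIso (Spec R) ≪≫ (Scheme.Modules.restrictUnitIso j).symm) ≪≫
    (((Scheme.Modules.restrictFunctor j).mapDerivedCategorySingleFunctor 0).app _).symm⟩

/-- Along an affine morphism with pseudo-coherent `f_* O`, pseudo-coherence is detected after direct image. -/
theorem psc_iff_Rpush (f : X ⟶ Y) [IsAffineHom f] [DCoh.HasRpush f]
    (hO : ∀ m : ℤ, DCoh.IsPseudoCoherentD m (DCoh.inD Y ((Scheme.Modules.pushforward f).obj (Coh.structureModule X))))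
    (E : DCoh.D X) (hE : DCoh.IsQCohD E) (m : ℤ) :
    DCoh.IsPseudoCoherentD m E ↔ DCoh.IsPseudoCoherentD m ((DCoh.Rpush f).obj E) := by
  haveI := QCohLoc.isQCoh_structureModule X
  obtain ⟨eO⟩ := nonempty_Rpush_inD f (Coh.structureModule X)
  have hO' : ∀ n : ℤ, DCoh.IsPseudoCoherentD n ((DCoh.Rpush f).obj (DCoh.inD X (Coh.structureModule X))) :=
    fun n => PCTriangle.psc_iso eO.symm (hO n)
  have key : ∀ (V : Y.Opens), IsAffineOpen V → ∃ (S : CommRingCat.{u}) (j : Spec S ⟶ X) (_ : IsOpenImmersion j),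
      (∀ x : X, f x ∈ V → x ∈ j.opensRange) ∧ (DCoh.IsPseudoCoherentD m ((PerfLocal.rd V.ι).obj ((DCoh.Rpush f).obj E)) ↔
        DCoh.IsPseudoCoherentD m ((PerfLocal.rd j).obj E)) := by
    intro V hV
    obtain ⟨R, S, φ, j, _, _, hrange, hiff⟩ := exists_affine_model f V hV
    haveI := AffSchLib.preservesFiniteLimits_tilde R
    haveI := AffSchLib.preservesFiniteLimits_tilde S
    obtain ⟨c⟩ := nonempty_tildeD_Rpush φ
    obtain ⟨M, ⟨e⟩⟩ := ((tildeD_main S).2.2 _).1 (isQCohD_rd j hE)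
    have conv : ∀ (n : ℤ) (F : DCoh.D X) (N : Dual.D S), ((DCoh.tildeD S).obj N ≅ (PerfLocal.rd j).obj F) →
        (DCoh.IsPseudoCoherentD n ((PerfLocal.rd V.ι).obj ((DCoh.Rpush f).obj F)) ↔
          DRing.IsPseudoCoherent R n ((DRing.restrictD φ.hom).obj N)) := fun n F N e' => by
      rw [hiff n F]
      let i : (DCoh.Rpush (Spec.map φ)).obj ((PerfLocal.rd j).obj F) ≅
          (DCoh.tildeD R).obj ((DRing.restrictD φ.hom).obj N) :=
        (DCoh.Rpush (Spec.map φ)).mapIso e'.symm ≪≫ c.app N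
      exact ⟨fun h => pc_of_psc_tildeD (PCTriangle.psc_iso i h),
        fun h => PCTriangle.psc_iso i.symm (psc_tildeD h)⟩
    obtain ⟨e₀⟩ := nonempty_rd_structure S j
    have h : ∀ n, DRing.IsPseudoCoherentModule R n ((ModuleCat.restrictScalars.{u} φ.hom).obj (ModuleCat.of S S)) :=
      fun n => DRingLib.pc_iso (((ModuleCat.restrictScalars.{u} φ.hom).mapDerivedCategorySingleFunctor 0).app
          (ModuleCat.of S S))
        ((conv n _ _ e₀).1 (psc_rd V.ι (hO' n)))
    refine ⟨S, j, inferInstance, hrange, (conv m E M e).trans ((DRingLib.pc_restrict_iff h M m).symm.trans ?_)⟩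
    exact ⟨fun h => PCTriangle.psc_iso e (psc_tildeD h), fun h => pc_of_psc_tildeD (PCTriangle.psc_iso e.symm h)⟩
  constructor
  · intro h
    refine psc_of_local _ fun y => ?_
    obtain ⟨V, hV, hy, -⟩ := exists_isAffineOpen_mem_and_subset (x := y) (U := (⊤ : Y.Opens)) trivial
    obtain ⟨S, j, _, -, hiff⟩ := key V hV
    exact ⟨V, V.ι, inferInstance, by simpa using hy, hiff.2 (psc_rd j h)⟩
  · intro h
    refine psc_of_local _ fun x => ?_
    obtain ⟨V, hV, hy, -⟩ := exists_isAffineOpen_mem_and_subset (x := f x) (U := (⊤ : Y.Opens)) trivial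
    obtain ⟨S, j, _, hr, hiff⟩ := key V hV
    exact ⟨_, j, inferInstance, hr x hy, hiff.1 (psc_rd V.ι h)⟩

end Groth.Agent.DQCoh
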