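import Groth.Agent.DQCoh.PerfectTor
import Groth.Agent.DQCoh.PscFinite
import Groth.Agent.FlatMor12.ApproxModule
import Groth.Agent.EGA43.DvrCrit.Main
import Groth.Agent.Desc19b.FlatOverBC
import Groth.Agent.DCat.ExtKFlat

/-!
# Finite tor dimension relative to a base, on affine charts
-/

set_option autoImplicit false
set_option backward.isDefEq.respectTransparency false
set_option backward.defeqAttrib.useBackward true
set_option linter.style.haveILetI false
set_option synthInstance.maxHeartbeats 100000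
set_option linter.unusedVariables false
set_option backward.isDefEq.respectTransparency.types false

universe u

open CategoryTheory CategoryTheory.Limits CategoryTheory.Pretriangulated DerivedCategory Opposite TopologicalSpace AlgebraicGeometry
open Groth.Agent.SiteDer16 Groth.Agent.DCat Groth.Agent.Coherent
open MonoidalCategory
open scoped TensorProduct

namespace Groth.Agent.DQCoh

attribute [local instance] HasDerivedCategory.standard
attribute [-instance] Int.instConditionallyCompleteLinearOrder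

variable {X Y S : Scheme.{u}}

/-- Flatness over the target of an open immersion. -/
theorem isFlatOverAt_comp_iff (f : X ⟶ Y) (q : Y ⟶ S) [IsOpenImmersion q] (M : X.Modules) (x : X) :
    FlatMod.IsFlatOverAt (f ≫ q) M x ↔ FlatMod.IsFlatOverAt f M x := by
  letI : Algebra (S.presheaf.stalk ((f ≫ q).base x)) (Y.presheaf.stalk (f.base x)) :=
    (q.stalkMap (f.base x)).hom.toAlgebra
  letI := FlatMod.moduleStalkOver (f ≫ q) M x
  letI := FlatMod.moduleStalkOver f M x
  have hb : Function.Bijective (algebraMap (S.presheaf.stalk ((f ≫ q).base x)) (Y.presheaf.stalk (f.base x))) :=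
    ConcreteCategory.bijective_of_isIso (q.stalkMap (f.base x))
  haveI : IsScalarTower (S.presheaf.stalk ((f ≫ q).base x)) (Y.presheaf.stalk (f.base x)) (M.presheaf.stalk x) :=
    IsScalarTower.of_algebraMap_smul fun r m => by
      show (f.stalkMap x).hom ((q.stalkMap (f.base x)).hom r) • m = ((f ≫ q).stalkMap x).hom r • m
      rw [Scheme.Hom.stalkMap_comp]
      rfl
  constructor
  · intro (h : Module.Flat (S.presheaf.stalk ((f ≫ q).base x)) (M.presheaf.stalk x))
    exact Props12.flat_of_bijective hb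
  · intro (h : Module.Flat (Y.presheaf.stalk (f.base x)) (M.presheaf.stalk x))
    haveI : Module.Flat (S.presheaf.stalk ((f ≫ q).base x)) (Y.presheaf.stalk (f.base x)) :=
      Module.Flat.of_linearEquiv (LinearEquiv.ofBijective (Algebra.linearMap _ _) hb).symm
    exact Module.Flat.trans _ (Y.presheaf.stalk (f.base x)) _

/-- Restriction keeps flatness over the base. -/
theorem isFlatOver_restrict (k : Y ⟶ X) [IsOpenImmersion k] (f : X ⟶ S) {M : X.Modules}
    (h : FlatMod.IsFlatOver f M) : FlatMod.IsFlatOver (k ≫ f) ((Scheme.Modules.restrictFunctor k).obj M) := fun y =>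
  EGA43.DvrCrit.isFlatOverAt_of_iso (k ≫ f) ((Scheme.Modules.restrictFunctorIsoPullback k).symm.app M) y
    ((Props12.isFlatOverAt_pullback_iff k f M y (RingHom.Flat.of_bijective
      (ConcreteCategory.bijective_of_isIso (k.stalkMap y)))).1 (h (k.base y)))

theorem relAmp_iso {f : X ⟶ S} {a b : ℤ} {K L : DCoh.D X} (e : K ≅ L) (h : DCoh.HasRelFlatAmplitudeIn f a b K) :
    DCoh.HasRelFlatAmplitudeIn f a b L := by
  obtain ⟨E, hE, hf, ⟨eE⟩⟩ := h
  exact ⟨E, hE, hf, ⟨eE ≪≫ e⟩⟩

/-- Restriction keeps relative amplitude. -/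
theorem relAmp_rd {W : Scheme.{u}} (k : W ⟶ X) [IsOpenImmersion k] {f : X ⟶ S} {a b : ℤ} {K : DCoh.D X}
    (h : DCoh.HasRelFlatAmplitudeIn f a b K) : DCoh.HasRelFlatAmplitudeIn (k ≫ f) a b ((PerfLocal.rd k).obj K) := by
  obtain ⟨E, hE, hf, ⟨eE⟩⟩ := h
  exact ⟨((Scheme.Modules.restrictFunctor k).mapHomologicalComplex (ComplexShape.up ℤ)).obj E,
    fun i hi => (Scheme.Modules.restrictFunctor k).map_isZero (hE i hi), fun i => isFlatOver_restrict k f (hf i),
    ⟨((Scheme.Modules.restrictFunctor k).mapDerivedCategoryFactors.app E).symm ≪≫ (PerfLocal.rd k).mapIso eE⟩⟩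

theorem relAmp_congr {f f' : X ⟶ S} (hf : f = f') {a b : ℤ} {K : DCoh.D X}
    (h : DCoh.HasRelFlatAmplitudeIn f a b K) : DCoh.HasRelFlatAmplitudeIn f' a b K := hf ▸ h

/-- Local finite relative tor dimension through open immersions. -/
theorem locRel_iff (f : X ⟶ S) (K : DCoh.D X) : DCoh.LocHasFiniteRelTorDim f K ↔
    ∀ x : X, ∃ (W : Scheme.{u}) (k : W ⟶ X) (_ : IsOpenImmersion k) (a b : ℤ), x ∈ k.opensRange ∧
      DCoh.HasRelFlatAmplitudeIn (k ≫ f) a b ((PerfLocal.rd k).obj K) := by
  constructor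
  · intro h x
    obtain ⟨V, a, b, hx, hV⟩ := h x
    exact ⟨V, V.ι, inferInstance, a, b, by simpa using hx,
      relAmp_iso (((Scheme.Modules.restrictFunctor V.ι).mapDerivedCategoryFactors.app _).symm ≪≫
        (PerfLocal.rd V.ι).mapIso (DerivedCategory.Q.objObjPreimageIso K))
        (hV _ ⟨DerivedCategory.Q.objObjPreimageIso K⟩)⟩
  · intro h x
    obtain ⟨W, k, hk, a, b, hx, hW⟩ := h x
    refine ⟨k.opensRange, a, b, hx, fun F ⟨eF⟩ => ?_⟩
    obtain ⟨c⟩ := PerfLocal.rd_comp k.isoOpensRange.inv k K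
    obtain ⟨d⟩ := nonempty_rd_congr (X := X) k.isoOpensRange_inv_comp
    refine relAmp_iso (c.symm ≪≫ d.app K ≪≫ (PerfLocal.rd k.opensRange.ι).mapIso eF.symm ≪≫
      (Scheme.Modules.restrictFunctor k.opensRange.ι).mapDerivedCategoryFactors.app F)
      (relAmp_congr ?_ (relAmp_rd k.isoOpensRange.inv hW))
    rw [← Category.assoc, k.isoOpensRange_inv_comp]

section Stalk

/-- The stalk, as a module over the stalk of the base. -/
noncomputable abbrev stalkOver (f : X ⟶ S) (x : X) : X.Modules ⥤ ModuleCat.{u} (S.presheaf.stalk (f.base x)) :=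
  DerSch.stalkFunctor X x ⋙ ModuleCat.restrictScalars (f.stalkMap x).hom

/-- A bounded-above complex of flat sheaves of finite relative amplitude has flat cokernels. -/
theorem isFlatOver_cokernel (f : X ⟶ S) (C : CochainComplex X.Modules ℤ) (c : ℤ) (hC : ∀ i, c < i → IsZero (C.X i))
    (hCf : ∀ i, FlatMod.IsFlatOver f (C.X i)) {a b : ℤ}
    (h : DCoh.HasRelFlatAmplitudeIn f a b (DerivedCategory.Q.obj C)) :
    FlatMod.IsFlatOver f (cokernel (C.d (a - 1) a)) := by
  obtain ⟨E, hE, hEf, ⟨e⟩⟩ := h
  intro x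
  let R := S.presheaf.stalk (f.base x)
  let F := stalkOver f x
  haveI : PreservesFiniteLimits F := inferInstance
  haveI : PreservesFiniteColimits F := inferInstance
  haveI : F.Additive := inferInstance
  haveI : ∀ N : ModuleCat.{u} R, DRing.HasLTensor R N := fun N => DCat.hasLTensor N
  let C' : DRing.Cx R := (F.mapHomologicalComplex (ComplexShape.up ℤ)).obj C
  let E' : DRing.Cx R := (F.mapHomologicalComplex (ComplexShape.up ℤ)).obj E
  have hamp : DRing.HasTorAmplitudeIn R a b (DRing.toD C') :=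
    ⟨E', fun i hi => F.map_isZero (hE i hi), fun i => hEf i x,
      ⟨(F.mapDerivedCategoryFactors.app E).symm ≪≫ F.mapDerivedCategory.mapIso e ≪≫ F.mapDerivedCategoryFactors.app C⟩⟩
  have hC' : DRing.TermwiseFlat C' := fun i => hCf i x
  have hfl := DCat.flat_cokernel_cat C' (isKFlatFor_of_flat C' c (fun i hi => F.map_isZero (hC i hi)) hC') hC' a
    (Iso.refl _) fun N => DCat.vanish_of_flatAmp hamp N (Or.inl (by omega))
  haveI : Module.Flat R (cokernel (C'.d (a - 1) a) : ModuleCat.{u} R) := hfl
  exact show Module.Flat R (F.obj (cokernel (C.d (a - 1) a))) from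
    Module.Flat.of_linearEquiv (M := (cokernel (C'.d (a - 1) a) : ModuleCat.{u} R))
      (PreservesCokernel.iso F (C.d (a - 1) a)).toLinearEquiv

end Stalk

theorem flat_of_iso {R : Type u} [CommRing R] {M N : ModuleCat.{u} R} (e : M ≅ N) (h : Module.Flat R M) :
    Module.Flat R N :=
  Module.Flat.of_linearEquiv e.symm.toLinearEquiv

section Affine

variable {A B : CommRingCat.{u}} (φ : A ⟶ B)

/-- Sections of a flat sheaf are flat. -/
theorem flat_of_isFlatOver_tilde (N : ModuleCat.{u} B) (h : FlatMod.IsFlatOver (Spec.map φ) (tilde N)) :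
    Module.Flat A ((ModuleCat.restrictScalars φ.hom).obj N) := by
  let _ : Module A N := Module.compHom N φ.hom
  have := Props12.isQCoh_tilde N
  let _ := EGA43.QcohFlat.overModule (Spec.map φ) (tilde N) ⊤ ⊤
    (le_top : (⊤ : (Spec B).Opens) ≤ Spec.map φ ⁻¹ᵁ ⊤)
  have hfl : Module.Flat Γ(Spec A, ⊤) Γ(tilde N, ⊤) := (Props12.flat_sections_iff (Spec.map φ) (tilde N) (isAffineOpen_top _)
    (isAffineOpen_top _) (le_top : (⊤ : (Spec B).Opens) ≤ Spec.map φ ⁻¹ᵁ ⊤)).2 fun x _ => h x
  let _ : Algebra A Γ(Spec A, ⊤) := (Scheme.ΓSpecIso A).inv.hom.toAlgebra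
  let _ : Module A Γ(tilde N, ⊤) := Module.compHom _ (algebraMap A Γ(Spec A, ⊤))
  have : IsScalarTower A Γ(Spec A, ⊤) Γ(tilde N, ⊤) :=
    IsScalarTower.of_algebraMap_smul fun _ _ => rfl
  have hcomm : ∀ r : A, ((Spec.map φ).appLE ⊤ ⊤ le_top).hom ((Scheme.ΓSpecIso A).inv.hom r) =
      (Scheme.ΓSpecIso B).inv.hom (φ.hom r) := fun r => by
    rw [Scheme.Hom.appLE]
    simp
    exact (ConcreteCategory.congr_hom (Scheme.ΓSpecIso_inv_naturality φ) r).symm
  let e : N ≃ₗ[A] Γ(tilde N, ⊤) :=
    { (Props12.topEquiv N).toAddEquiv with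
      map_smul' := fun r m => by
        show Props12.topEquiv N (φ.hom r • m) =
          ((Spec.map φ).appLE ⊤ ⊤ le_top).hom ((Scheme.ΓSpecIso A).inv.hom r) • Props12.topEquiv N m
        rw [hcomm, map_smul]
        exact (IsScalarTower.algebraMap_smul Γ(Spec B, ⊤) _ _).symm }
  have hb : Function.Bijective (algebraMap A Γ(Spec A, ⊤)) :=
    ConcreteCategory.bijective_of_isIso (Scheme.ΓSpecIso A).inv
  haveI : Module.Flat A Γ(Spec A, ⊤) := Module.Flat.of_linearEquiv (LinearEquiv.ofBijective (Algebra.linearMap _ _) hb).symm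
  haveI : Module.Flat A Γ(tilde N, ⊤) := Module.Flat.trans A Γ(Spec A, ⊤) _
  exact Module.Flat.of_linearEquiv e

variable [PreservesFiniteLimits (tilde.functor B)]

/-- The good truncation of a complex exact below `a` with flat cokernel at `a`. -/
theorem flat_truncation_of (P : DRing.Cx B) (c : ℤ) (hP : DRing.VanishesAbove P c)
    (hPf : ∀ i, Module.Flat A ((ModuleCat.restrictScalars φ.hom).obj (P.X i))) {a : ℤ}
    (hlow : ∀ i, i < a → IsZero (DCoh.HD ((DCoh.tildeD B).obj (DRing.toD P)) i))
    (hQ : FlatMod.IsFlatOver (Spec.map φ)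
      (cokernel ((((tilde.functor B).mapHomologicalComplex (ComplexShape.up ℤ)).obj P).d (a - 1) a))) :
    QuasiIso (P.πTruncGE a) ∧ DRing.VanishesOutside (P.truncGE a) a (max a c) ∧
      ∀ i, Module.Flat A ((ModuleCat.restrictScalars φ.hom).obj ((P.truncGE a).X i)) := by
  haveI := preservesFiniteColimits_tilde B
  let T := tilde.functor B
  haveI : P.IsGE a := by
    rw [CochainComplex.isGE_iff]
    intro i hi
    rw [HomologicalComplex.exactAt_iff_isZero_homology]
    obtain ⟨η⟩ := nonempty_homology_natIso (tilde.functor B) i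
    exact (isZero_of_isZero_tilde ((hlow i hi).of_iso (η.app _).symm)).of_iso
      ((homologyFunctorFactors (ModuleCat.{u} B) i).app P).symm
  refine ⟨inferInstance, fun i hi => ?_, fun i => ?_⟩
  · rcases hi with hi | hi
    · exact CochainComplex.isZero_of_isStrictlyGE _ a i hi
    · exact (hP i (lt_of_le_of_lt (le_max_right _ _) hi)).of_iso
        (P.truncGEXIso a i (lt_of_le_of_lt (le_max_left _ _) hi))
  · rcases lt_trichotomy i a with hi | rfl | hi
    · haveI : Subsingleton ((ModuleCat.restrictScalars φ.hom).obj ((P.truncGE a).X i)) :=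
        ModuleCat.subsingleton_of_isZero ((ModuleCat.restrictScalars φ.hom).map_isZero
          (CochainComplex.isZero_of_isStrictlyGE _ a i hi))
      infer_instance
    · have hq : Module.Flat A ((ModuleCat.restrictScalars φ.hom).obj (cokernel (P.d (i - 1) i))) :=
        flat_of_isFlatOver_tilde φ _ fun x => EGA43.DvrCrit.isFlatOverAt_of_iso _
          (PreservesCokernel.iso T (P.d (i - 1) i)).symm x (hQ x)
      let ec : cokernel (P.d (i - 1) i) ≅ (P.truncGE i).X i :=
        IsColimit.coconePointUniqueUpToIso (colimit.isColimit _) (P.opcyclesIsCokernel (i - 1) i (by simp)) ≪≫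
          (P.truncGEXIsoOpcycles i).symm
      exact flat_of_iso ((ModuleCat.restrictScalars φ.hom).mapIso ec) hq
    · exact flat_of_iso ((ModuleCat.restrictScalars φ.hom).mapIso (P.truncGEXIso a i hi).symm) (hPf i)

/-- The good truncation of a bounded-above complex of finite relative amplitude is flat over the base. -/
theorem exists_flat_truncation (P : DRing.Cx B) (c : ℤ) (hP : DRing.VanishesAbove P c)
    (hPf : ∀ i, Module.Flat A ((ModuleCat.restrictScalars φ.hom).obj (P.X i))) {a b : ℤ}
    (h : DCoh.HasRelFlatAmplitudeIn (Spec.map φ) a b ((DCoh.tildeD B).obj (DRing.toD P))) :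
    QuasiIso (P.πTruncGE a) ∧ DRing.VanishesOutside (P.truncGE a) a (max a c) ∧
      ∀ i, Module.Flat A ((ModuleCat.restrictScalars φ.hom).obj ((P.truncGE a).X i)) := by
  haveI := preservesFiniteColimits_tilde B
  let T := tilde.functor B
  refine flat_truncation_of φ P c hP hPf (fun i hi => ?_) ?_
  · obtain ⟨E, hE, -, ⟨eE⟩⟩ := h
    exact ((ShortComplex.isZero_homology_of_isZero_X₂ _ (hE i (Or.inl hi))).of_iso
      ((homologyFunctorFactors (Spec B).Modules i).app E)).of_iso ((homologyFunctor _ i).mapIso eE.symm)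
  · exact isFlatOver_cokernel (Spec.map φ) _ c (fun i hi => T.map_isZero (hP i hi))
      (fun i => FlatMor12.ApproxModule.isFlatOver_tilde φ (P.X i) (hPf i))
      (relAmp_iso (T.mapDerivedCategoryFactors.app P) h)

end Affine

section BaseChange

variable {A B A' : CommRingCat.{u}} (φ : A ⟶ B) (ψ : A ⟶ A')

/-- The pushout of `φ` and `ψ`. -/
noncomputable abbrev pushRing : CommRingCat.{u} :=
  letI := φ.hom.toAlgebra
  letI := ψ.hom.toAlgebra
  CommRingCat.of (TensorProduct A B A')

/-- `B → B ⊗ A'`. -/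
noncomputable abbrev pushInl : B ⟶ pushRing φ ψ :=
  letI := φ.hom.toAlgebra
  letI := ψ.hom.toAlgebra
  CommRingCat.ofHom Algebra.TensorProduct.includeLeftRingHom

/-- `A' → B ⊗ A'`. -/
noncomputable abbrev pushInr : A' ⟶ pushRing φ ψ :=
  letI := φ.hom.toAlgebra
  letI := ψ.hom.toAlgebra
  CommRingCat.ofHom (Algebra.TensorProduct.includeRight (R := A) (A := B) (B := A')).toRingHom

/-- `B ⊗ A'` as the extension of `A'`. -/
noncomputable def pushModIso : (ModuleCat.extendScalars φ.hom).obj ((ModuleCat.restrictScalars ψ.hom).obj (ModuleCat.of A' A')) ≅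
    (ModuleCat.restrictScalars (pushInl φ ψ).hom).obj (ModuleCat.of (pushRing φ ψ) (pushRing φ ψ)) :=
  letI := φ.hom.toAlgebra
  letI := ψ.hom.toAlgebra
  let eA : ↑((ModuleCat.restrictScalars φ.hom).obj (ModuleCat.of B B)) ≃ₗ[A] B :=
    { AddEquiv.refl B with map_smul' := fun r a => (Algebra.smul_def r (show B from a)).symm }
  let eA' : ↑((ModuleCat.restrictScalars ψ.hom).obj (ModuleCat.of A' A')) ≃ₗ[A] A' :=
    { AddEquiv.refl A' with map_smul' := fun r a => (Algebra.smul_def r (show A' from a)).symm }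
  LinearEquiv.toModuleIso
    (X₁ := (ModuleCat.extendScalars φ.hom).obj ((ModuleCat.restrictScalars ψ.hom).obj (ModuleCat.of A' A')))
    (X₂ := (ModuleCat.restrictScalars (pushInl φ ψ).hom).obj (ModuleCat.of (pushRing φ ψ) (pushRing φ ψ)))
    { (TensorProduct.congr eA eA').toAddEquiv with
      map_smul' := fun b x => by
        have hsm : TensorProduct.congr eA eA' (b • x) =
            ((b ⊗ₜ[A] (1 : A')) * TensorProduct.congr eA eA' x : TensorProduct A B A') := by
          induction x using TensorProduct.induction_on with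
          | zero => rw [smul_zero, map_zero, mul_zero]
          | add u v hu hv => rw [smul_add, map_add, map_add, mul_add, hu, hv]
          | tmul a m =>
            let a' : B := a
            let m' : A' := m
            show ((b * a') ⊗ₜ[A] m' : TensorProduct A B A') = (b ⊗ₜ[A] (1 : A')) * (a' ⊗ₜ[A] m')
            rw [Algebra.TensorProduct.tmul_mul_tmul, one_mul]
        exact hsm }

/-- `(res M) ⊗ A'` computes the extension of `M` to `B ⊗ A'`. -/
noncomputable def pushExtIso :
    ModuleCat.restrictScalars.{u} φ.hom ⋙ ModuleCat.extendScalars ψ.hom ⋙ ModuleCat.restrictScalars ψ.hom ≅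
      ModuleCat.extendScalars (pushInl φ ψ).hom ⋙ ModuleCat.restrictScalars (pushInl φ ψ).hom ⋙
        ModuleCat.restrictScalars.{u} φ.hom :=
  let P := (ModuleCat.restrictScalars ψ.hom).obj (ModuleCat.of A' A')
  let ε₁ : tensorRight P ≅ ModuleCat.extendScalars ψ.hom ⋙ ModuleCat.restrictScalars ψ.hom :=
    (BraidedCategory.tensorLeftIsoTensorRight P).symm ≪≫ restrictExtIso ψ.hom
  let ε₂ : tensorRight ((ModuleCat.restrictScalars (pushInl φ ψ).hom).obj (ModuleCat.of (pushRing φ ψ) (pushRing φ ψ))) ≅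
      ModuleCat.extendScalars (pushInl φ ψ).hom ⋙ ModuleCat.restrictScalars (pushInl φ ψ).hom :=
    (BraidedCategory.tensorLeftIsoTensorRight _).symm ≪≫ restrictExtIso (pushInl φ ψ).hom
  let ε₃ : ModuleCat.restrictScalars.{u} φ.hom ⋙ tensorRight P ≅
      tensorRight ((ModuleCat.extendScalars φ.hom).obj P) ⋙ ModuleCat.restrictScalars.{u} φ.hom :=
    NatIso.ofComponents (fun M => (extCancelIso φ.hom M P).symm) fun {M M'} g => by
      refine (Iso.comp_inv_eq _).2 ?_
      rw [Category.assoc]
      refine (Iso.eq_inv_comp _).2 ?_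
      exact (extCancelIso_natural₁ φ.hom g P).symm
  Functor.isoWhiskerLeft _ ε₁.symm ≪≫ ε₃ ≪≫
    Functor.isoWhiskerRight ((tensoringRight (ModuleCat.{u} B)).mapIso (pushModIso φ ψ) ≪≫ ε₂) _ ≪≫
    Functor.associator _ _ _

/-- Base change preserves flatness over the base. -/
theorem flat_push (M : ModuleCat.{u} B) [Module.Flat A ((ModuleCat.restrictScalars φ.hom).obj M)] :
    Module.Flat A' ((ModuleCat.restrictScalars (pushInr φ ψ).hom).obj ((ModuleCat.extendScalars (pushInl φ ψ).hom).obj M)) := by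
  letI := φ.hom.toAlgebra
  letI := ψ.hom.toAlgebra
  letI : Algebra A' (TensorProduct A B A') := Algebra.TensorProduct.rightAlgebra
  letI : Module A M := Module.compHom M φ.hom
  haveI : IsScalarTower A B M := IsScalarTower.of_algebraMap_smul fun _ _ => rfl
  haveI : Algebra.IsPushout A A' B (TensorProduct A B A') := Algebra.IsPushout.symm inferInstance
  haveI hM : Module.Flat A M := ‹Module.Flat A ((ModuleCat.restrictScalars φ.hom).obj M)›
  haveI : Module.Flat A' (TensorProduct B (TensorProduct A B A') M) :=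
    Module.Flat.of_linearEquiv (Algebra.IsPushout.cancelBaseChange A A' B (TensorProduct A B A') M)
  let e := FlatMor12.ApproxModule.extendEquiv (R := B) (TensorProduct A B A') M
  exact Module.Flat.of_linearEquiv (M := TensorProduct B (TensorProduct A B A') M)
    ({ e.toAddEquiv with
      map_smul' := fun r x => e.map_smul ((pushInr φ ψ).hom r) x } :
      ↑((ModuleCat.restrictScalars (pushInr φ ψ).hom).obj ((ModuleCat.extendScalars (pushInl φ ψ).hom).obj M)) ≃ₗ[A']
        TensorProduct B (TensorProduct A B A') M)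

/-- Base change of the truncation. -/
theorem quasiIso_push {P Q : DRing.Cx B} {b : ℤ} (hP : DRing.VanishesAbove P b) (hQ : DRing.VanishesAbove Q b)
    (hPf : ∀ i, Module.Flat A ((ModuleCat.restrictScalars φ.hom).obj (P.X i)))
    (hQf : ∀ i, Module.Flat A ((ModuleCat.restrictScalars φ.hom).obj (Q.X i))) (π : P ⟶ Q) [QuasiIso π] :
    QuasiIso (((ModuleCat.extendScalars (pushInl φ ψ).hom).mapHomologicalComplex (ComplexShape.up ℤ)).map π) := by
  let rA := ModuleCat.restrictScalars.{u} φ.hom
  let π₀ := (rA.mapHomologicalComplex (ComplexShape.up ℤ)).map π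
  haveI : QuasiIso π₀ := inferInstance
  haveI := quasiIso_extendScalars_of_kflat ψ.hom
    (isKFlatFor_of_flat ((rA.mapHomologicalComplex (ComplexShape.up ℤ)).obj P) b (fun i hi => rA.map_isZero (hP i hi)) hPf)
    (isKFlatFor_of_flat ((rA.mapHomologicalComplex (ComplexShape.up ℤ)).obj Q) b (fun i hi => rA.map_isZero (hQ i hi)) hQf) π₀
  let G₁ := ModuleCat.restrictScalars.{u} φ.hom ⋙ ModuleCat.extendScalars ψ.hom ⋙ ModuleCat.restrictScalars ψ.hom
  let G₂ := ModuleCat.restrictScalars.{u} (pushInl φ ψ).hom ⋙ ModuleCat.restrictScalars.{u} φ.hom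
  let F := ModuleCat.extendScalars (pushInl φ ψ).hom
  have h₁ : QuasiIso ((G₁.mapHomologicalComplex (ComplexShape.up ℤ)).map π) :=
    inferInstanceAs (QuasiIso (((ModuleCat.restrictScalars ψ.hom).mapHomologicalComplex (ComplexShape.up ℤ)).map
      (((ModuleCat.extendScalars ψ.hom).mapHomologicalComplex (ComplexShape.up ℤ)).map π₀)))
  have h₂ : QuasiIso (((F ⋙ G₂).mapHomologicalComplex (ComplexShape.up ℤ)).map π) :=
    (quasiIso_iff_of_arrow_mk_iso _ _ (Arrow.isoMk
      ((NatIso.mapHomologicalComplex (pushExtIso φ ψ) (ComplexShape.up ℤ)).app P)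
      ((NatIso.mapHomologicalComplex (pushExtIso φ ψ) (ComplexShape.up ℤ)).app Q)
      ((NatIso.mapHomologicalComplex (pushExtIso φ ψ) (ComplexShape.up ℤ)).hom.naturality π).symm)).1 h₁
  exact (HomologicalComplex.quasiIso_map_iff_of_preservesHomology _ G₂).1 h₂

end BaseChange

end Groth.Agent.DQCoh
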