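import Groth.Agent.DQCoh.PerfectAffine
import Groth.Agent.DRingLib.PCGen
import Groth.Agent.KZeroLib.RegularPerfect
import Groth.Agent.Coherent.Devissage
import Groth.Agent.H8Lim.ModEq
import Groth.Agent.FlatMor12.FlatFun.GenPtsStage

/-!
# Pseudo-coherence of modules, and on locally Noetherian schemes
-/

set_option autoImplicit false
set_option backward.isDefEq.respectTransparency false
set_option backward.defeqAttrib.useBackward true
set_option linter.style.haveILetI false
set_option synthInstance.maxHeartbeats 100000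
set_option linter.unusedVariables false
set_option backward.isDefEq.respectTransparency.types false

universe u

open CategoryTheory CategoryTheory.Limits CategoryTheory.Pretriangulated DerivedCategory Opposite TopologicalSpace AlgebraicGeometry
open Groth.Agent.SiteDer16 Groth.Agent.DCat Groth.Agent.Coherent

namespace Groth.Agent.DQCoh

attribute [local instance] HasDerivedCategory.standard
attribute [-instance] Int.instConditionallyCompleteLinearOrder

variable {X : Scheme.{u}}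

/-- Pseudo-coherence is local. -/
theorem psc_of_local {m : ℤ} (K : DCoh.D X) (h : ∀ x : X, ∃ (W : Scheme.{u}) (k : W ⟶ X) (_ : IsOpenImmersion k),
    x ∈ k.opensRange ∧ DCoh.IsPseudoCoherentD m ((PerfLocal.rd k).obj K)) : DCoh.IsPseudoCoherentD m K := by
  refine (PerfLocal.isPseudoCoherentD_iff m K).2 fun x => ?_
  obtain ⟨W, k, _, ⟨y, rfl⟩, hW⟩ := h x
  obtain ⟨W', g, hg, ⟨z, rfl⟩, hz⟩ := (PerfLocal.isPseudoCoherentD_iff m _).1 hW y
  exact ⟨W', g ≫ k, inferInstance, ⟨z, rfl⟩, PCTriangle.pscAt_trans hz⟩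

/-- Pseudo-coherence restricts to opens. -/
theorem psc_rd {m : ℤ} {K : DCoh.D X} {W : Scheme.{u}} (k : W ⟶ X) [IsOpenImmersion k]
    (h : DCoh.IsPseudoCoherentD m K) : DCoh.IsPseudoCoherentD m ((PerfLocal.rd k).obj K) := by
  haveI := hasLpull k
  obtain ⟨e⟩ := nonempty_Lpull_restrict k K
  exact PCTriangle.psc_iso e (PullPerf.isPseudoCoherentD_Lpull k m K h)

/-- A finite locally free module in degree zero. -/
theorem psc_inD_finLocFree (m : ℤ) {M : X.Modules} (hM : FlatMod.IsFinLocFree M) :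
    DCoh.IsPseudoCoherentD m (DCoh.inD X M) := by
  refine PCTriangle.psc_of_gpsc ⟨(HomologicalComplex.single X.Modules (ComplexShape.up ℤ) 0).obj M,
    ((DerivedCategory.singleFunctorIsoCompQ X.Modules 0).app M).inv,
    ⟨⟨0, 0, fun i hi => HomologicalComplex.isZero_single_obj_X _ _ _ _ (by omega)⟩, fun i => ?_⟩,
    PullPerf.apx_of_isIso m _⟩
  by_cases hi : i = 0
  · subst hi
    exact PerfTensor.isFinLocFree_of_iso (HomologicalComplex.singleObjXSelf (ComplexShape.up ℤ) 0 _).symm hM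
  · exact PerfTensor.isFinLocFree_of_isZero (HomologicalComplex.isZero_single_obj_X _ _ _ _ hi)

/-- Locally a module of finite type is a quotient of a finite free one. -/
theorem exists_epi_free_nhd (F : X.Modules) (hF : CohB1.IsFT F) (x : X) :
    ∃ (V : X.Opens) (n : ℕ) (p : FlatMod.freeMod V n ⟶ (Scheme.Modules.restrictFunctor V.ι).obj F),
      x ∈ V ∧ Epi p := by
  obtain ⟨V, I, _, s, hxV, hs⟩ := locallyFinGen_of_isFT F hF x
  obtain ⟨π, hπ⟩ : ∃ π : freeMod V.toScheme I ⟶ (Scheme.Modules.restrictFunctor V.ι).obj F, Epi π :=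
    ⟨_, epi_of_genOn_top (genOn_restrict_top F hs)⟩
  haveI := hπ
  let e : ULift.{u} (Fin (Fintype.card I)) ≃ I := Equiv.ulift.trans (Fintype.equivFin I).symm
  exact ⟨V, Fintype.card I, (Props12.freeModIso _ _).inv ≫ ((SheafOfModules.freeFunctor
    (R := V.toScheme.ringCatSheaf)).mapIso e.toIso).hom ≫ π, hxV,
    epi_comp _ _⟩

/-- The pseudo-coherence of a quotient of a finite free module. -/
theorem psc_inD_of_epi {V : Scheme.{u}} {M : V.Modules} {n : ℕ} (p : FlatMod.freeMod V n ⟶ M) [Epi p] (m : ℤ)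
    (hk : DCoh.IsPseudoCoherentD (m + 1) (DCoh.inD V (kernel p))) : DCoh.IsPseudoCoherentD m (DCoh.inD V M) := by
  let S := ShortComplex.mk (kernel.ι p) p (kernel.condition p)
  have hS : S.ShortExact := { exact := S.exact_of_f_is_kernel (kernelIsKernel p) }
  exact PCTriangle.psc_cone (hS.singleTriangle_distinguished) hk
    (psc_inD_finLocFree m (FlatMor12.FlatFun.isFinLocFree_freeMod V n))

/-- Modules of finite type are `0`-pseudo-coherent. -/
theorem psc_zero_of_isFT (F : X.Modules) (hF : CohB1.IsFT F) : DCoh.IsPseudoCoherentD 0 (DCoh.inD X F) := by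
  refine psc_of_local _ fun x => ?_
  obtain ⟨V, n, p, hxV, _⟩ := exists_epi_free_nhd F hF x
  refine ⟨V, V.ι, inferInstance, by simpa using hxV, ?_⟩
  exact PCTriangle.psc_iso (((Scheme.Modules.restrictFunctor V.ι).mapDerivedCategorySingleFunctor 0).app F).symm
    (psc_inD_of_epi p 0 (PCTriangle.psc_of_gpsc (PCTriangle.psc_of_isLE (n := 0) (by omega) inferInstance)))

/-- Modules of finite presentation are `(-1)`-pseudo-coherent. -/
theorem psc_neg_one_of_isFP (F : X.Modules) (hF : CohB1.IsFP F) : DCoh.IsPseudoCoherentD (-1) (DCoh.inD X F) := by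
  haveI : SheafOfModules.IsFinitePresentation.{u} (R := X.ringCatSheaf) F := hF
  refine psc_of_local _ fun x => ?_
  obtain ⟨V, n, p, hxV, _⟩ := exists_epi_free_nhd F inferInstance x
  refine ⟨V, V.ι, inferInstance, by simpa using hxV, ?_⟩
  refine PCTriangle.psc_iso (((Scheme.Modules.restrictFunctor V.ι).mapDerivedCategorySingleFunctor 0).app F).symm
    (psc_inD_of_epi p (-1) ?_)
  have hFV : CohB1.IsFP ((Scheme.Modules.restrictFunctor V.ι).obj F) :=
    (SheafOfModules.isFinitePresentation V.toScheme.ringCatSheaf).prop_of_iso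
      ((Scheme.Modules.restrictFunctorIsoPullback V.ι).app F).symm (Desc19b.ModStFib.isFP_pullback V.ι F hF)
  haveI : SheafOfModules.IsFinitePresentation.{u} (R := V.toScheme.ringCatSheaf)
    ((Scheme.Modules.restrictFunctor V.ι).obj F) := hFV
  haveI : Coh.IsQCoh ((Scheme.Modules.restrictFunctor V.ι).obj F) := inferInstanceAs
    (SheafOfModules.IsQuasicoherent.{u} (R := V.toScheme.ringCatSheaf) _)
  have hfree := FlatMor12.FlatFun.isFinLocFree_freeMod (V : Scheme.{u}) n
  haveI : Coh.IsQCoh (FlatMod.freeMod (V : Scheme.{u}) n) := PullPerf.isQCoh_of_finLocFree hfree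
  have hfreeFP := Props12.isFP_of_isFinLocFree _ hfree
  haveI : SheafOfModules.IsFinitePresentation.{u} (R := V.toScheme.ringCatSheaf)
    (FlatMod.freeMod (V : Scheme.{u}) n) := hfreeFP
  rw [show (-1 : ℤ) + 1 = 0 by omega]
  exact psc_zero_of_isFT _ (H8Lim.isFT_kernel_of_fp p inferInstance hFV)

theorem psc_inD_iff (F : X.Modules) :
    (DCoh.IsPseudoCoherentD 0 (DCoh.inD X F) ↔ CohB1.IsFT F) ∧
    (DCoh.IsPseudoCoherentD (-1) (DCoh.inD X F) ↔ CohB1.IsFP F) := by
  have hz : ∀ i : ℤ, 0 < i → IsZero (DCoh.HD (DCoh.inD X F) i) := fun i hi =>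
    isZero_of_isLE (DCoh.inD X F) 0 i hi
  let e : DCoh.HD (DCoh.inD X F) 0 ≅ F := (singleFunctorCompHomologyFunctorIso X.Modules 0).app F
  refine ⟨⟨fun h => ?_, psc_zero_of_isFT F⟩, ⟨fun h => ?_, psc_neg_one_of_isFP F⟩⟩
  · exact Coherent.isFT_of_epi e.hom ((top_of_psc 0 _ h).1 hz)
  · have h' := (top_of_psc (-1) _ h).2 fun i hi => hz i (by omega)
    rw [show (-1 : ℤ) + 1 = 0 by omega] at h'
    exact (SheafOfModules.isFinitePresentation X.ringCatSheaf).prop_of_iso e h'

/-- Affine charts of a locally Noetherian scheme. -/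
theorem exists_noetherian_chart [IsLocallyNoetherian X] (x : X) :
    ∃ (R : CommRingCat.{u}) (_ : IsNoetherianRing R) (k : Spec R ⟶ X) (_ : IsOpenImmersion k), x ∈ k.opensRange := by
  obtain ⟨U, hU, hxU, -⟩ := exists_isAffineOpen_mem_and_subset (X := X) (x := x) (U := ⊤) trivial
  exact ⟨Γ(X, U), IsLocallyNoetherian.component_noetherian ⟨U, hU⟩, hU.fromSpec, inferInstance,
    hU.opensRange_fromSpec.symm ▸ hxU⟩

/-- Bounded above objects with coherent cohomology in degrees `≥ m` are `m`-pseudo-coherent. -/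
theorem psc_of_isCoh [IsLocallyNoetherian X] (K : DCoh.D X) (hq : DCoh.IsQCohD K) (b : ℤ) [K.IsLE b] (m : ℤ)
    (h : ∀ i, m ≤ i → Coh.IsCoh (DCoh.HD K i)) : DCoh.IsPseudoCoherentD m K := by
  refine psc_of_local _ fun x => ?_
  obtain ⟨R, _, k, _, hx⟩ := exists_noetherian_chart x
  refine ⟨_, k, inferInstance, hx, ?_⟩
  haveI := AffSchLib.preservesFiniteLimits_tilde R
  obtain ⟨M, ⟨e⟩⟩ := ((tildeD_main R).2.2 _).1 (isQCohD_rd k hq)
  refine PCTriangle.psc_iso e (psc_tildeD ?_)
  have hb : ((DCoh.tildeD R).obj M).IsLE b :=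
    ⟨(DerivedCategory.TStructure.t.le b).prop_of_iso e.symm (PerfLocal.isLE_rd k K b inferInstance).le⟩
  refine DRingLib.pc_of_finite_homology (isLE_of_isLE_tildeD hb) fun i hi => ?_
  haveI := preservesFiniteColimits_tilde R
  obtain ⟨η⟩ := nonempty_homology_natIso (tilde.functor R) i
  refine (Props12.isFT_tilde_iff _).1 ?_
  let φ : (Scheme.Modules.restrictFunctor k).obj (DCoh.HD K i) ≅ tilde ((homologyFunctor (ModuleCat.{u} R) i).obj M) :=
    (SuppOpen.hdMapIso (Scheme.Modules.restrictFunctor k) K i).symm ≪≫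
      (homologyFunctor _ i).mapIso e.symm ≪≫ η.app M
  exact Coherent.isFT_of_epi φ.hom (AmpleLib.isCoh_restrict k _ (h i hi)).2

/-- Cohomology sheaves of pseudo-coherent objects in `D_QCoh` of a locally Noetherian scheme are coherent. -/
theorem isCoh_HD_of_psc [IsLocallyNoetherian X] (K : DCoh.D X) (hq : DCoh.IsQCohD K) (m : ℤ)
    (hK : DCoh.IsPseudoCoherentD m K) (i : ℤ) (hi : m ≤ i) : Coh.IsCoh (DCoh.HD K i) := by
  refine ⟨hq i, isFT_of_local _ fun x => ?_⟩
  obtain ⟨R, _, k, _, hx⟩ := exists_noetherian_chart x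
  refine ⟨_, k, inferInstance, hx, ?_⟩
  haveI := AffSchLib.preservesFiniteLimits_tilde R
  haveI := preservesFiniteColimits_tilde R
  obtain ⟨M, ⟨e⟩⟩ := ((tildeD_main R).2.2 _).1 (isQCohD_rd k hq)
  obtain ⟨η⟩ := nonempty_homology_natIso (tilde.functor R) i
  haveI := (DRingLib.finite_homology_of_pc (pc_of_psc_tildeD (PCTriangle.psc_iso e.symm (psc_rd k hK)))).2 i hi
  let φ : tilde ((homologyFunctor (ModuleCat.{u} R) i).obj M) ≅ (Scheme.Modules.restrictFunctor k).obj (DCoh.HD K i) :=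
    (η.app M).symm ≪≫ (homologyFunctor _ i).mapIso e ≪≫ SuppOpen.hdMapIso (Scheme.Modules.restrictFunctor k) K i
  exact Coherent.isFT_of_epi φ.hom ((Props12.isFT_tilde_iff _).2 inferInstance)

/-- Pseudo-coherence on a Noetherian scheme. -/
theorem psc_iff_noetherian [IsNoetherian X] (E : DCoh.D X) (hE : DCoh.IsQCohD E) (m : ℤ) :
    DCoh.IsPseudoCoherentD m E ↔ (∀ i : ℤ, m ≤ i → Coh.IsCoh (DCoh.HD E i)) ∧ ∃ b : ℤ, E.IsLE b :=
  ⟨fun h => ⟨isCoh_HD_of_psc E hE m h, exists_isLE_psc h⟩, fun ⟨h, b, _⟩ => psc_of_isCoh E hE b m h⟩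

/-- Coherent modules form a class stable under kernels, cokernels and extensions. -/
def coh (W : Scheme.{u}) : ObjectProperty W.Modules := fun M => Coh.IsCoh M

instance (W : Scheme.{u}) [IsLocallyNoetherian W] : (coh W).IsClosedUnderIsomorphisms :=
  ⟨fun e h => Coherent.isCoh_iso e h⟩

theorem coh_ops (W : Scheme.{u}) [IsLocallyNoetherian W] :
    (∀ M, IsZero M → coh W M) ∧ (∀ {M N : W.Modules} (φ : M ⟶ N), coh W M → coh W N → coh W (kernel φ)) ∧
    (∀ {M N : W.Modules} (φ : M ⟶ N), coh W M → coh W N → coh W (cokernel φ)) ∧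
    (∀ {T : ShortComplex W.Modules}, T.ShortExact → coh W T.X₁ → coh W T.X₃ → coh W T.X₂) :=
  ⟨fun M hM => (KZeroLib.isCoh_isZero hM), fun φ h₁ h₂ => Coherent.isCoh_kernel φ h₁ h₂.1,
    fun φ h₁ h₂ => Coherent.isCoh_cokernel φ h₁.1 h₂,
    fun hT h₁ h₃ => Coherent.isCoh_X₂ hT h₁ h₃⟩

/-- Reading off a cohomology sheaf of a restriction. -/
theorem isCoh_restrict_HD {W : Scheme.{u}} [IsLocallyNoetherian W] (k : W ⟶ X) [IsOpenImmersion k] (R : DCoh.D X ⥤ DCoh.D X)
    (S : DCoh.D W ⥤ DCoh.D W) (F : DCoh.D X ⥤ DCoh.D W) (hF : F = PerfLocal.rd k) (e : R ⋙ F ≅ F ⋙ S) (L : DCoh.D X)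
    (i : ℤ) (h : coh W (DCoh.HD (S.obj (F.obj L)) i)) :
    Coh.IsCoh ((Scheme.Modules.restrictFunctor k).obj (DCoh.HD (R.obj L) i)) := by
  subst hF
  exact Coherent.isCoh_iso ((homologyFunctor _ i).mapIso (e.app L).symm ≪≫
    SuppOpen.hdMapIso (Scheme.Modules.restrictFunctor k) (R.obj L) i) h

/-- `RHom(K, L)` is coherent for `K` bounded above and `L` bounded below, both with coherent cohomology. -/
theorem isCohD_RHom [IsLocallyNoetherian X] (K : CochainComplex X.Modules ℤ) (b : ℤ)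
    [(DerivedCategory.Q.obj K).IsLE b] (hK : DCoh.IsCohD (DerivedCategory.Q.obj K)) [DCoh.HasLTensorCx K]
    [DCoh.HasRSheafHom K] (L : DCoh.D X) (r : ℤ) [L.IsGE r] (hL : DCoh.IsCohD L) :
    DCoh.IsCohD ((DCoh.RSheafHom K).obj L) := fun j => by
  obtain ⟨n, hn⟩ : ∃ n : ℤ, n = r - j - 1 := ⟨_, rfl⟩
  have hpsc : DCoh.IsPseudoCoherentD n (DerivedCategory.Q.obj K) :=
    psc_of_isCoh _ (fun i => (hK i).1) b n fun i _ => hK i
  choose W k hk E a c α hx hE hfree hα using exists_free_approx hpsc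
  haveI := hk
  have key : ∀ x, Coh.IsCoh ((Scheme.Modules.restrictFunctor (k x)).obj (DCoh.HD ((DCoh.RSheafHom K).obj L) j)) := by
    intro x
    haveI := LTensorSheaf.hasLTensorCx (((Scheme.Modules.restrictFunctor (k x)).mapHomologicalComplex (ComplexShape.up ℤ)).obj K)
    haveI := RHomExist.hasRSheafHom (((Scheme.Modules.restrictFunctor (k x)).mapHomologicalComplex (ComplexShape.up ℤ)).obj K)
    haveI := isGE_rd (k x) L r
    haveI : IsLocallyNoetherian (W x) := isLocallyNoetherian_of_isOpenImmersion (k x)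
    obtain ⟨e⟩ := ShriekTensor.nonempty_restrict_RHom_of_eq (k x) K
      (((Scheme.Modules.restrictFunctor (k x)).mapHomologicalComplex (ComplexShape.up ℤ)).obj K) rfl (PerfLocal.rd (k x)) rfl
    obtain ⟨h0, h1, h2, h3⟩ := coh_ops (W x)
    obtain ⟨q⟩ := nonempty_Q_map (Scheme.Modules.restrictFunctor (k x)) K
    have hL' : ∀ i, coh (W x) (DCoh.HD ((PerfLocal.rd (k x)).obj L) i) := fun i =>
      Coherent.isCoh_iso (SuppOpen.hdMapIso (Scheme.Modules.restrictFunctor (k x)) L i).symm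
        (AmpleLib.isCoh_restrict (k x) _ (hL i))
    exact isCoh_restrict_HD (k x) (DCoh.RSheafHom K) _ (PerfLocal.rd (k x)) rfl e L j
      (prop_RHom_psc (coh (W x)) h0 h1 h2 h3 _ (E x) (hE x) (hfree x) n
        (α x ≫ q.inv)
        ((hα x).comp (PullPerf.apx_of_isIso n _)) _ hL' r j (by omega))
  exact ⟨isQCoh_of_openImmersion_cover _ k (fun x => ⟨x, hx x⟩) fun x => (key x).1,
    isFT_of_local _ fun x => ⟨W x, k x, inferInstance, hx x, (key x).2⟩⟩

/-- Bounded coherent objects on regular schemes are perfect. -/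
theorem isPerfect_of_regular [IsLocallyNoetherian X] (hreg : ∀ x : X, IsRegularLocalRing (X.presheaf.stalk x))
    (K : DCoh.D X) (a b : ℤ) [K.IsGE a] [K.IsLE b] (hK : DCoh.IsCohD K) : DCoh.IsPerfect K := by
  refine (PerfLocal.isPerfect_iff _).2 fun x => ?_
  obtain ⟨R, _, k, _, hx⟩ := exists_noetherian_chart x
  have hreg' : ∀ p, IsRegularLocalRing ((Spec R).presheaf.stalk p) := fun p => by
    haveI := hreg (k p)
    exact IsRegularLocalRing.of_ringEquiv (asIso (k.stalkMap p)).commRingCatIsoToRingEquiv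
  have hP : DCoh.IsPerfect ((PerfLocal.rd k).obj K) :=
    (KZeroLib.isPerfect_iff_bounded_coh hreg' _).2
      ⟨fun i => Coherent.isCoh_iso (SuppOpen.hdMapIso (Scheme.Modules.restrictFunctor k) K i).symm
        (AmpleLib.isCoh_restrict k _ (hK i)), a, b, isGE_rd k K a, PerfLocal.isLE_rd k K b inferInstance⟩
  obtain ⟨y, rfl⟩ := hx
  obtain ⟨W, g, hg, ⟨z, rfl⟩, hP'⟩ := (PerfLocal.isPerfect_iff _).1 hP y
  exact ⟨W, g ≫ k, inferInstance, ⟨z, rfl⟩, PCTriangle.perfAt_trans hP'⟩

end Groth.Agent.DQCoh
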