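import Groth.Agent.DQCoh.RelTor

/-!
# Base change of objects perfect relative to the base
-/

set_option autoImplicit false
set_option backward.isDefEq.respectTransparency false
set_option backward.defeqAttrib.useBackward true
set_option linter.style.haveILetI false
set_option synthInstance.maxHeartbeats 100000
set_option linter.unusedVariables false
set_option backward.isDefEq.respectTransparency.types false

universe u

open CategoryTheory CategoryTheory.Limits CategoryTheory.Pretriangulated DerivedCategory Opposite TopologicalSpace AlgebraicGeometry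
open Groth.Agent.SiteDer16 Groth.Agent.DCat Groth.Agent.Coherent

namespace Groth.Agent.DQCoh

attribute [local instance] HasDerivedCategory.standard
attribute [-instance] Int.instConditionallyCompleteLinearOrder

variable {X S S' : Scheme.{u}}

/-- Pseudo-coherent objects have quasi-coherent cohomology. -/
theorem isQCohD_of_psc {K : DCoh.D X} (hK : ∀ m : ℤ, DCoh.IsPseudoCoherentD m K) : DCoh.IsQCohD K := fun i => by
  choose A hA k hk M α hx hM hα using fun x : X => exists_affine_approx (hK (i - 1)) x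
  haveI := hk
  refine isQCoh_of_openImmersion_cover _ k (fun x => ⟨x, hx x⟩) fun x => ?_
  haveI := hA x
  haveI := (hα x).1 i (by omega)
  exact isQCoh_of_iso (asIso ((homologyFunctor _ i).map (α x)) ≪≫
    (SuppOpen.hdMapIso (Scheme.Modules.restrictFunctor (k x)) K i)) (h := isQCohD_tildeD (A x) (M x) i)

/-- A pullback square over a monomorphism. -/
theorem isPullback_comp_mono {P U V B Z : Scheme.{u}} {p : P ⟶ U} {q : P ⟶ V} {u : U ⟶ B} {v : V ⟶ B}
    (h : IsPullback p q u v) (j : B ⟶ Z) [Mono j] : IsPullback p q (u ≫ j) (v ≫ j) :=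
  ⟨⟨by rw [h.w_assoc]⟩, ⟨PullbackCone.IsLimit.mk _
    (fun s => h.lift s.fst s.snd ((cancel_mono j).1 (by simpa only [Category.assoc] using s.condition)))
    (fun s => h.lift_fst _ _ _) (fun s => h.lift_snd _ _ _)
    (fun s l hl₁ hl₂ => h.hom_ext (by rw [h.lift_fst]; exact hl₁) (by rw [h.lift_snd]; exact hl₂))⟩⟩

/-- A chart of a pseudo-coherent object of finite relative tor dimension, around a point. -/
theorem exists_rel_chart (f : X ⟶ S) [Flat f] (K : DCoh.D X) (hp : ∀ m : ℤ, DCoh.IsPseudoCoherentD m K)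
    (ht : DCoh.LocHasFiniteRelTorDim f K) (x : X) :
    ∃ (A B : CommRingCat.{u}) (_ : PreservesFiniteLimits (tilde.functor B)) (φ : A ⟶ B) (j : Spec A ⟶ S)
      (_ : IsOpenImmersion j) (k : Spec B ⟶ X) (_ : IsOpenImmersion k) (P : DRing.Cx B) (a b : ℤ),
      x ∈ k.opensRange ∧ Spec.map φ ≫ j = k ≫ f ∧ DRing.VanishesAbove P b ∧ DRing.TermwiseFlat P ∧
      (∀ i, Module.Flat A ((ModuleCat.restrictScalars φ.hom).obj (P.X i))) ∧
      Nonempty ((DCoh.tildeD B).obj (DRing.toD P) ≅ (PerfLocal.rd k).obj K) ∧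
      DCoh.HasRelFlatAmplitudeIn (Spec.map φ) a b ((DCoh.tildeD B).obj (DRing.toD P)) := by
  obtain ⟨W, k₁, _, a, b, hx, hrel⟩ := (locRel_iff f K).1 ht x
  obtain ⟨U, hU, hsU, -⟩ := exists_isAffineOpen_mem_and_subset (x := f x) (U := (⊤ : S.Opens)) trivial
  obtain ⟨V, hV, hxV, hle⟩ := exists_isAffineOpen_mem_and_subset (x := x) (U := k₁.opensRange ⊓ f ⁻¹ᵁ U) ⟨hx, hsU⟩
  let A : CommRingCat.{u} := Γ(S, U)
  let B : CommRingCat.{u} := Γ(X, V)
  let k : Spec B ⟶ X := hV.fromSpec
  let j : Spec A ⟶ S := hU.fromSpec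
  haveI hB := AffSchLib.preservesFiniteLimits_tilde B
  let φ : A ⟶ B := f.appLE U V (hle.trans inf_le_right)
  have hφ : Spec.map φ ≫ j = k ≫ f := IsAffineOpen.SpecMap_appLE_fromSpec f hU hV _
  haveI : Flat (Spec.map φ) := by
    haveI : Flat (Spec.map φ ≫ j) := by rw [hφ]; infer_instance
    exact MorphismProperty.of_postcomp (W' := @IsOpenImmersion) @Flat (Spec.map φ) j inferInstance ‹_›
  have hφflat : φ.hom.Flat := (HasRingHomProperty.Spec_iff (P := @Flat)).1 inferInstance
  have hrk : Set.range k ⊆ Set.range k₁ := by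
    intro y hy
    have : y ∈ (V : Set X) := by rw [← hV.range_fromSpec]; exact hy
    exact (hle this).1
  let h := IsOpenImmersion.lift k₁ k hrk
  have hh : h ≫ k₁ = k := IsOpenImmersion.lift_fac _ _ _
  haveI : IsOpenImmersion h := by
    haveI : IsOpenImmersion (h ≫ k₁) := by rw [hh]; infer_instance
    exact IsOpenImmersion.of_comp h k₁
  obtain ⟨M, ⟨e⟩⟩ := ((tildeD_main B).2.2 _).1 (isQCohD_rd k (isQCohD_of_psc hp))
  obtain ⟨P, b', hPb, hPf, ⟨eP⟩⟩ := DRingLib.pc'_of_forall fun m =>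
    pc_of_psc_tildeD (PCTriangle.psc_iso e.symm (psc_rd k (hp m)))
  obtain ⟨c⟩ := PerfLocal.rd_comp h k₁ K
  obtain ⟨d⟩ := nonempty_rd_congr (X := X) hh
  let i₀ : (DCoh.tildeD B).obj (DRing.toD P) ≅ (PerfLocal.rd k).obj K := (DCoh.tildeD B).mapIso eP ≪≫ e
  refine ⟨A, B, hB, φ, j, inferInstance, k, inferInstance, P, a, max b b', ?_, hφ,
    fun i hi => hPb i (lt_of_le_of_lt (le_max_right _ _) hi), fun i => haveI := (hPf i).2; inferInstance,
    fun i => ?_, ⟨i₀⟩, ?_⟩
  · show x ∈ hV.fromSpec.opensRange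
    rw [hV.opensRange_fromSpec]
    exact hxV
  · letI := φ.hom.toAlgebra
    haveI : Module.Flat A B := hφflat
    haveI := (hPf i).2
    letI : Module A (P.X i) := Module.compHom _ φ.hom
    haveI : IsScalarTower A B (P.X i) := IsScalarTower.of_algebraMap_smul fun _ _ => rfl
    exact Module.Flat.trans A B (P.X i)
  · obtain ⟨E, hE, hEf, ⟨eE⟩⟩ := relAmp_iso (c.symm ≪≫ d.app K ≪≫ i₀.symm) (relAmp_rd h hrel)
    refine ⟨E, fun i hi => hE i (hi.imp_right fun hi => lt_of_le_of_lt (le_max_left _ _) hi), fun i x => ?_, ⟨eE⟩⟩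
    refine (isFlatOverAt_comp_iff (Spec.map φ) j _ x).1 ?_
    rw [hφ, ← hh, Category.assoc]
    exact hEf i x

/-- A bounded complex of modules flat over the base gives relative amplitude. -/
theorem relAmp_tildeD {A R : CommRingCat.{u}} [PreservesFiniteLimits (tilde.functor R)] (φ : A ⟶ R) (j : Spec A ⟶ S)
    [IsOpenImmersion j] (C : DRing.Cx R) {a b : ℤ} (hC : DRing.VanishesOutside C a b)
    (hf : ∀ i, Module.Flat A ((ModuleCat.restrictScalars φ.hom).obj (C.X i))) :
    DCoh.HasRelFlatAmplitudeIn (Spec.map φ ≫ j) a b ((DCoh.tildeD R).obj (DRing.toD C)) :=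
  ⟨((tilde.functor R).mapHomologicalComplex (ComplexShape.up ℤ)).obj C,
    fun i hi => (tilde.functor R).map_isZero (hC i hi),
    fun i x => (isFlatOverAt_comp_iff (Spec.map φ) j _ x).2 (FlatMor12.ApproxModule.isFlatOver_tilde φ _ (hf i) x),
    ⟨((tilde.functor R).mapDerivedCategoryFactors.app C).symm⟩⟩

/-- Base change of pseudo-coherent objects of finite relative tor dimension. -/
theorem locRel_Lpull_fst (f : X ⟶ S) [Flat f] (g : S' ⟶ S) [DCoh.HasLpull (pullback.fst f g)] (K : DCoh.D X)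
    (hp : ∀ m : ℤ, DCoh.IsPseudoCoherentD m K) (ht : DCoh.LocHasFiniteRelTorDim f K) :
    DCoh.LocHasFiniteRelTorDim (pullback.snd f g) ((DCoh.Lpull (pullback.fst f g)).obj K) := by
  rw [locRel_iff]
  intro x'
  obtain ⟨A, B, hB, φ, j, hj, k, hk, P, a, b, hx, hφ, hPb, hPflat, hPA, ⟨i₀⟩, hrel⟩ :=
    exists_rel_chart f K hp ht (pullback.fst f g x')
  obtain ⟨hqis, hout, hflat⟩ := exists_flat_truncation φ P b hPb hPA hrel
  have hs : g (pullback.snd f g x') ∈ j.opensRange := by
    obtain ⟨y, hy⟩ := hx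
    refine ⟨Spec.map φ y, ?_⟩
    rw [← Scheme.Hom.comp_apply, hφ, Scheme.Hom.comp_apply, hy, ← Scheme.Hom.comp_apply, pullback.condition,
      Scheme.Hom.comp_apply]
  obtain ⟨U', hU', hs', hle⟩ := exists_isAffineOpen_mem_and_subset (x := pullback.snd f g x')
    (U := g ⁻¹ᵁ j.opensRange) hs
  let A' : CommRingCat.{u} := Γ(S', U')
  let j' : Spec A' ⟶ S' := hU'.fromSpec
  have hr : Set.range (j' ≫ g) ⊆ Set.range j := by
    rintro _ ⟨z, rfl⟩
    have hz : j' z ∈ (U' : Set S') := by rw [← hU'.range_fromSpec]; exact ⟨z, rfl⟩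
    exact hle hz
  let ψ : A ⟶ A' := Spec.preimage (IsOpenImmersion.lift j (j' ≫ g) hr)
  have hψ : Spec.map ψ ≫ j = j' ≫ g := by rw [Spec.map_preimage, IsOpenImmersion.lift_fac]
  let inl := pushInl φ ψ
  let inr := pushInr φ ψ
  have hsq : IsPullback (Spec.map inl) (Spec.map inr) (k ≫ f) (j' ≫ g) := by
    rw [← hφ, ← hψ]
    refine isPullback_comp_mono ?_ j
    letI := φ.hom.toAlgebra
    letI := ψ.hom.toAlgebra
    exact isPullback_SpecMap_of_isPushout _ _ _ _ (CommRingCat.isPushout_tensorProduct A B A')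
  let m : pullback (k ≫ f) (j' ≫ g) ⟶ pullback f g :=
    pullback.map (k ≫ f) (j' ≫ g) f g k j' (𝟙 S) (by simp) (by simp)
  let k' : Spec (pushRing φ ψ) ⟶ pullback f g := hsq.isoPullback.hom ≫ m
  have hk1 : k' ≫ pullback.fst f g = Spec.map inl ≫ k := by
    simp only [k', m, Category.assoc, pullback.map, pullback.lift_fst]
    rw [← Category.assoc, hsq.isoPullback_hom_fst]
  have hk2 : k' ≫ pullback.snd f g = Spec.map inr ≫ j' := by
    simp only [k', m, Category.assoc, pullback.map, pullback.lift_snd]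
    rw [← Category.assoc, hsq.isoPullback_hom_snd]
  haveI : IsOpenImmersion k' := inferInstance
  have hxk : x' ∈ k'.opensRange := by
    have : x' ∈ Set.range m := by
      rw [Scheme.Pullback.range_map]
      refine ⟨?_, ?_⟩
      · exact hx
      · show pullback.snd f g x' ∈ Set.range hU'.fromSpec
        rw [hU'.range_fromSpec]
        exact hs'
    obtain ⟨z, hz⟩ := this
    refine ⟨hsq.isoPullback.inv z, ?_⟩
    show (hsq.isoPullback.inv ≫ hsq.isoPullback.hom ≫ m) z = x'
    rw [Iso.inv_hom_id_assoc]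
    exact hz
  refine ⟨_, k', inferInstance, a, max a b, hxk, ?_⟩
  let B' := pushRing φ ψ
  haveI := AffSchLib.preservesFiniteLimits_tilde B'
  haveI := hasLpull k'
  haveI := hasLpull k
  haveI := hasLpull (Spec.map inl)
  haveI := hasLpull (k' ≫ pullback.fst f g)
  haveI := hasLpull (Spec.map inl ≫ k)
  haveI : DRing.HasLBaseChange inl.hom := hasLBaseChange inl.hom
  obtain ⟨r'⟩ := nonempty_Lpull_restrict k' ((DCoh.Lpull (pullback.fst f g)).obj K)
  obtain ⟨c'⟩ := nonempty_LpullComp k' (pullback.fst f g)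
  obtain ⟨c⟩ := nonempty_LpullComp (Spec.map inl) k
  obtain ⟨r⟩ := nonempty_Lpull_restrict k K
  obtain ⟨bc⟩ := nonempty_LBaseChange_tildeD inl
  have hc : ∀ (q : Spec B' ⟶ X) [DCoh.HasLpull q], q = Spec.map inl ≫ k →
      Nonempty ((DCoh.Lpull q).obj K ≅ (DCoh.Lpull (Spec.map inl ≫ k)).obj K) := fun q _ h => by
    subst h
    exact ⟨Iso.refl _⟩
  obtain ⟨q⟩ := hc _ hk1
  let F := ModuleCat.extendScalars inl.hom
  haveI := hqis
  haveI : QuasiIso ((F.mapHomologicalComplex (ComplexShape.up ℤ)).map (P.πTruncGE a)) :=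
    quasiIso_push φ ψ (b := max a b) (fun i hi => hPb i (lt_of_le_of_lt (le_max_right _ _) hi))
      (fun i hi => hout i (Or.inr hi)) hPA hflat _
  refine relAmp_iso ?_ (relAmp_congr hk2.symm (relAmp_tildeD inr j'
    ((F.mapHomologicalComplex (ComplexShape.up ℤ)).obj (P.truncGE a))
    (fun i hi => F.map_isZero (hout i hi)) fun i => haveI := hflat i; flat_push φ ψ ((P.truncGE a).X i)))
  exact (DCoh.tildeD B').mapIso ((asIso (DerivedCategory.Q.map ((F.mapHomologicalComplex (ComplexShape.up ℤ)).map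
        (P.πTruncGE a)))).symm ≪≫ (lbaseChangeIso inl.hom (isKFlatFor_of_flat P b hPb hPflat)).symm) ≪≫
      bc.app (DRing.toD P) ≪≫ (DCoh.Lpull (Spec.map inl)).mapIso (i₀ ≪≫ r.symm) ≪≫ c.app K ≪≫ q.symm ≪≫
      (c'.app K).symm ≪≫ r'

end Groth.Agent.DQCoh
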