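import Groth.Agent.DQCoh.PerfectTor
import Groth.Agent.DRingLib.FibreExact
import Groth.Agent.DCat.PerfTensor

/-!
# Where a perfect object is a shifted vector bundle of given rank
-/

set_option autoImplicit false
set_option backward.isDefEq.respectTransparency false
set_option backward.defeqAttrib.useBackward true
set_option linter.style.haveILetI false
set_option synthInstance.maxHeartbeats 100000
set_option linter.unusedVariables false
set_option backward.isDefEq.respectTransparency.types false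

universe u

open CategoryTheory CategoryTheory.Limits CategoryTheory.Pretriangulated DerivedCategory Opposite TopologicalSpace AlgebraicGeometry
open Groth.Agent.SiteDer16 Groth.Agent.DCat Groth.Agent.Coherent
open scoped TensorProduct

namespace Groth.Agent.DQCoh

attribute [local instance] HasDerivedCategory.standard
attribute [-instance] Int.instConditionallyCompleteLinearOrder

variable {X Y : Scheme.{u}}

/-- The dimension of the cohomology of the derived pullback along a field-valued point. -/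
noncomputable def fdim (E : DCoh.D X) (L : CommRingCat.{u}) (g : Spec L ⟶ X) [DCoh.HasLpull g] (p : ℤ) : ℕ :=
  Module.finrank (Coh.Γtop (Spec L)) ((DCoh.HD ((DCoh.Lpull g).obj E) p).val.obj (op ⊤))

theorem fdim_congr {L : CommRingCat.{u}} {g g' : Spec L ⟶ X} [DCoh.HasLpull g] [DCoh.HasLpull g'] (h : g = g')
    (E : DCoh.D X) (p : ℤ) : fdim E L g p = fdim E L g' p := by
  subst h
  rfl

theorem fdim_iso {L : CommRingCat.{u}} (g : Spec L ⟶ X) [DCoh.HasLpull g] {E E' : DCoh.D X} (e : E ≅ E') (p : ℤ) :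
    fdim E L g p = fdim E' L g p :=
  finrank_top_congr ((homologyFunctor _ p).mapIso ((DCoh.Lpull g).mapIso e))

/-- Points of a pullback. -/
theorem fdim_comp {L : CommRingCat.{u}} (f : Y ⟶ X) [DCoh.HasLpull f] (g : Spec L ⟶ Y) [DCoh.HasLpull g]
    [DCoh.HasLpull (g ≫ f)] (E : DCoh.D X) (p : ℤ) :
    fdim ((DCoh.Lpull f).obj E) L g p = fdim E L (g ≫ f) p := by
  obtain ⟨c⟩ := nonempty_LpullComp g f
  exact finrank_top_congr ((homologyFunctor _ p).mapIso (c.app E))

/-- Fibre dimensions computed on a chart, at any field-valued point. -/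
theorem fdim_chart (E : DCoh.D X) {R : CommRingCat.{u}}
    [PreservesFiniteLimits (tilde.functor R)] (k : Spec R ⟶ X) [IsOpenImmersion k] (P : DRing.Cx R)
    (hPk : IsKFlatFor (modT R) P) (m : ℤ) (α : (DCoh.tildeD R).obj (DRing.toD P) ⟶ (PerfLocal.rd k).obj E)
    (hα : PullPerf.Apx m α) (L : CommRingCat.{u}) (g : Spec L ⟶ X) [DCoh.HasLpull g]
    (ψ : R ⟶ L) (hψ : Spec.map ψ ≫ k = g) (p : ℤ) (hp : m < p) :
    fdim E L g p = Module.finrank L
      ((((ModuleCat.extendScalars ψ.hom).mapHomologicalComplex (ComplexShape.up ℤ)).obj P).homology p) := by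
  haveI := hasLpull k
  haveI := hasLpull (Spec.map ψ)
  haveI := hasLpull (Spec.map ψ ≫ k)
  haveI : DRing.HasLBaseChange ψ.hom := hasLBaseChange ψ.hom
  haveI := AffSchLib.preservesFiniteLimits_tilde L
  haveI := preservesFiniteColimits_tilde L
  obtain ⟨c⟩ := nonempty_LpullComp (Spec.map ψ) k
  obtain ⟨r⟩ := nonempty_Lpull_restrict k E
  obtain ⟨b⟩ := nonempty_LBaseChange_tildeD ψ
  obtain ⟨η⟩ := nonempty_homology_natIso (tilde.functor L) p
  haveI := (PullPerf.apx_Lpull (Spec.map ψ) hα).1 p hp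
  subst hψ
  let e : DCoh.HD ((DCoh.Lpull (Spec.map ψ ≫ k)).obj E) p ≅
      tilde ((((ModuleCat.extendScalars ψ.hom).mapHomologicalComplex (ComplexShape.up ℤ)).obj P).homology p) :=
    (homologyFunctor _ p).mapIso ((c.app E).symm ≪≫ (DCoh.Lpull (Spec.map ψ)).mapIso r) ≪≫
      (asIso ((homologyFunctor _ p).map ((DCoh.Lpull (Spec.map ψ)).map α))).symm ≪≫
      (homologyFunctor _ p).mapIso ((b.app (DRing.toD P)).symm) ≪≫ η.app _ ≪≫
      (tilde.functor L).mapIso
        ((homologyFunctor _ p).mapIso (lbaseChangeIso ψ.hom hPk) ≪≫ DRingLib.HQ _ p)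
  exact (finrank_top_congr e).trans (finrank_top_tilde _ _)

/-- For perfect objects the fibre dimension only depends on the point. -/
theorem fdim_eq_betti [∀ x : X, DCoh.HasLpull (X.fromSpecResidueField x)] (E : DCoh.D X) (hE : DCoh.IsPerfect E)
    (L : CommRingCat.{u}) (hL : IsField L) (g : Spec L ⟶ X) [DCoh.HasLpull g] (z : Spec L) (p : ℤ) :
    fdim E L g p = PerfD.betti E (g z) p := by
  letI := hL.toField
  obtain ⟨R, _, k, _, P, a, b, hxk, hP, hp, ⟨e⟩⟩ := exists_affine_perfect hE (g z)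
  haveI : Subsingleton (Spec L) := inferInstanceAs (Subsingleton (PrimeSpectrum L))
  obtain ⟨y, hy⟩ := hxk
  have hr : Set.range g ⊆ Set.range k := by
    rintro _ ⟨z', rfl⟩
    exact ⟨y, hy.trans (congrArg g (Subsingleton.elim _ _))⟩
  let ψ : R ⟶ L := Spec.preimage (IsOpenImmersion.lift k g hr)
  have hψ : Spec.map ψ ≫ k = g := by rw [Spec.map_preimage, IsOpenImmersion.lift_fac]
  have hpt : PrimeSpectrum.comap ψ.hom ⊥ = y := by
    apply k.isOpenEmbedding.injective
    refine Eq.trans ?_ ((congrArg g (Subsingleton.elim (⊥ : PrimeSpectrum L) z)).trans hy.symm)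
    rw [← congrArg (fun φ : Spec L ⟶ X => φ (⊥ : PrimeSpectrum L)) hψ]
    rfl
  have h1 := betti_formula E k hP hp (p - 1) e.hom (PullPerf.apx_of_isIso _ _) p (by omega) y
  rw [hy] at h1
  have h2 := finrank_extend_field P hp L ψ.hom y hpt p
  rw [← fdim_chart E k P (isKFlatFor_finiteProjective hP hp) (p - 1) e.hom (PullPerf.apx_of_isIso _ _) L g ψ hψ p
    (by omega)] at h2
  omega

/-- Rank of the global sections of a free module. -/
theorem finrank_freeMod (X : Scheme.{u}) [Nontrivial Γ(X, ⊤)] (n : ℕ) :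
    Module.finrank (Coh.Γtop X) ((FlatMod.freeMod X n).val.obj (op ⊤)) = n := by
  classical
  refine (finrank_top_congr (Props12.freeModIso X n).symm).trans ?_
  exact (Coherent.freeSectionsEquiv (I := ULift.{u} (Fin n)) ⊤).finrank_eq.trans
    ((Module.finrank_fintype_fun_eq_card (R := Γ(X, ⊤)) (η := ULift.{u} (Fin n))).trans (by simp))

theorem strictlyPerfect_single {M : X.Modules} (hM : FlatMod.IsFinLocFree M) :
    DCoh.IsStrictlyPerfect ((HomologicalComplex.single X.Modules (ComplexShape.up ℤ) 0).obj M) := by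
  refine ⟨⟨0, 0, fun i hi => HomologicalComplex.isZero_single_obj_X _ _ _ _ (by omega)⟩, fun i => ?_⟩
  by_cases hi : i = 0
  · subst hi
    exact PerfTensor.isFinLocFree_of_iso (HomologicalComplex.singleObjXSelf (ComplexShape.up ℤ) 0 _).symm hM
  · exact PerfTensor.isFinLocFree_of_isZero (HomologicalComplex.isZero_single_obj_X _ _ _ _ hi)

/-- Derived pullback of a vector bundle. -/
theorem nonempty_Lpull_inD (f : Y ⟶ X) [DCoh.HasLpull f] {M : X.Modules} (hM : FlatMod.IsFinLocFree M) :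
    Nonempty ((DCoh.Lpull f).obj (DCoh.inD X M) ≅ DCoh.inD Y ((Scheme.Modules.pullback f).obj M)) :=
  ⟨(DCoh.Lpull f).mapIso ((DerivedCategory.singleFunctorIsoCompQ X.Modules 0).app M) ≪≫
    PullPerf.lpullIso f (PullPerf.isKFlatFor_of_strictlyPerfect (strictlyPerfect_single hM)) ≪≫
    DerivedCategory.Q.mapIso ((HomologicalComplex.singleMapHomologicalComplex (Scheme.Modules.pullback f)
      (ComplexShape.up ℤ) 0).app M) ≪≫
    ((DerivedCategory.singleFunctorIsoCompQ Y.Modules 0).app _).symm⟩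

/-- The cohomology of a shifted module. -/
theorem nonempty_HD_inD_shift (M : X.Modules) (i : ℤ) :
    Nonempty (DCoh.HD ((DCoh.inD X M)⟦-i⟧) i ≅ M) ∧ ∀ p, p ≠ i → IsZero (DCoh.HD ((DCoh.inD X M)⟦-i⟧) p) := by
  refine ⟨⟨((homologyFunctor X.Modules 0).shiftIso (-i) i 0 (by omega)).app _ ≪≫
    (singleFunctorCompHomologyFunctorIso X.Modules 0).app M⟩, fun p hp => ?_⟩
  refine IsZero.of_iso ?_ (((homologyFunctor X.Modules 0).shiftIso (-i) p (p - i) (by omega)).app _)
  rcases lt_or_gt_of_ne hp with h | h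
  · exact DerivedCategory.isZero_of_isGE (DCoh.inD X M) 0 (p - i) (by omega)
  · exact DerivedCategory.isZero_of_isLE (DCoh.inD X M) 0 (p - i) (by omega)

/-- Fibre dimensions of a shifted vector bundle. -/
theorem fdim_inD_shift {W : X.Modules} {n : ℕ} (hW : FlatMod.IsFinLocFree W) (i : ℤ) (L : CommRingCat.{u})
    (hL : IsField L) (g : Spec L ⟶ X) [DCoh.HasLpull g] (z : Spec L) (U : X.Opens) (hzU : g z ∈ U)
    (eU : W.restrict U.ι ≅ FlatMod.freeMod U n) (p : ℤ) :
    fdim ((DCoh.inD X W)⟦-i⟧) L g p = if p = i then n else 0 := by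
  letI := hL.toField
  haveI : Subsingleton (Spec L) := inferInstanceAs (Subsingleton (PrimeSpectrum L))
  haveI : Nontrivial Γ(Spec L, ⊤) :=
    (ConcreteCategory.bijective_of_isIso (Scheme.ΓSpecIso L).inv).1.nontrivial
  haveI : Nontrivial (Coh.Γtop (Spec L)) := (inferInstance : Nontrivial Γ(Spec L, ⊤))
  obtain ⟨_, _⟩ := PullPerf.exists_commShift_Lpull g
  have hr : Set.range g ⊆ Set.range U.ι := by
    rintro _ ⟨z', rfl⟩
    rw [Scheme.Opens.range_ι, Subsingleton.elim z' z]
    exact hzU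
  let g' := IsOpenImmersion.lift U.ι g hr
  have hg : g' ≫ U.ι = g := IsOpenImmersion.lift_fac _ _ _
  obtain ⟨ef⟩ := PerfTensor.nonempty_pullback_free g' n
  let eW : (Scheme.Modules.pullback g).obj W ≅ FlatMod.freeMod (Spec L) n :=
    (Scheme.Modules.pullbackCongr hg.symm).app W ≪≫ ((Scheme.Modules.pullbackComp g' U.ι).app W).symm ≪≫
      (Scheme.Modules.pullback g').mapIso ((Scheme.Modules.restrictFunctorIsoPullback U.ι).symm.app W ≪≫ eU) ≪≫ ef
  obtain ⟨eL⟩ := nonempty_Lpull_inD g hW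
  obtain ⟨⟨e0⟩, hz⟩ := nonempty_HD_inD_shift (FlatMod.freeMod (Spec L) n) i
  let e : (DCoh.Lpull g).obj ((DCoh.inD X W)⟦-i⟧) ≅ (DCoh.inD (Spec L) (FlatMod.freeMod (Spec L) n))⟦-i⟧ :=
    ((DCoh.Lpull g).commShiftIso (-i)).app _ ≪≫
      (shiftFunctor _ (-i)).mapIso (eL ≪≫ (singleFunctor _ 0).mapIso eW)
  refine (finrank_top_congr ((homologyFunctor _ p).mapIso e)).trans ?_
  split_ifs with h
  · subst h
    exact (finrank_top_congr e0).trans (finrank_freeMod _ n)
  · haveI : Subsingleton ((DCoh.HD ((DCoh.inD (Spec L) (FlatMod.freeMod (Spec L) n))⟦-i⟧) p).val.obj (op ⊤)) :=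
      ModuleCat.subsingleton_of_isZero ((PresheafOfModules.evaluation _ (op ⊤)).map_isZero
        ((SheafOfModules.forget _).map_isZero (hz p h)))
    exact Module.finrank_zero_of_subsingleton

/-- Finite local freeness is local. -/
theorem isFinLocFree_of_local (M : X.Modules) (h : ∀ x : X, ∃ (W : Scheme.{u}) (k : W ⟶ X) (_ : IsOpenImmersion k),
    x ∈ k.opensRange ∧ FlatMod.IsFinLocFree ((Scheme.Modules.restrictFunctor k).obj M)) :
    FlatMod.IsFinLocFree M := by
  intro x
  obtain ⟨W, k, _, ⟨y, rfl⟩, hW⟩ := h x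
  obtain ⟨U, n, hyU, ⟨e⟩⟩ := hW y
  let j := U.ι ≫ k
  obtain ⟨ef⟩ := PerfTensor.nonempty_pullback_free j.isoOpensRange.inv n
  refine ⟨j.opensRange, n, ⟨⟨y, hyU⟩, rfl⟩, ⟨?_⟩⟩
  exact (Scheme.Modules.restrictFunctorCongr j.isoOpensRange_inv_comp.symm).app M ≪≫
    (Scheme.Modules.restrictFunctorComp j.isoOpensRange.inv j).app M ≪≫
    (Scheme.Modules.restrictFunctorIsoPullback j.isoOpensRange.inv).app _ ≪≫
    (Scheme.Modules.pullback j.isoOpensRange.inv).mapIso
      ((Scheme.Modules.restrictFunctorComp U.ι k).app M ≪≫ e) ≪≫ ef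

/-- A complex of finite projectives whose fibres are exact outside one degree. -/
theorem exists_single_of_fibres {A : Type u} [CommRing A] (P : DRing.Cx A) {a b : ℤ}
    (hP : DRing.VanishesOutside P a b) (hp : DRing.TermwiseFiniteProjective P) (i : ℤ)
    (h : ∀ (m : Ideal A) [m.IsMaximal] (p : ℤ), p ≠ i →
      (((ModuleCat.extendScalars (Ideal.Quotient.mk m)).mapHomologicalComplex (ComplexShape.up ℤ)).obj P).ExactAt p) :
    ∃ Q : DRing.Cx A, DRing.VanishesOutside Q i i ∧ DRing.TermwiseFiniteProjective Q ∧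
      Nonempty (DRing.toD Q ≅ DRing.toD P) := by
  haveI : ∀ N : ModuleCat.{u} A, DRing.HasLTensor A N := fun N => DCat.hasLTensor N
  have hamp : DRing.HasTorAmplitudeIn A i i (DRing.toD P) := DCat.flatAmp_of_vanish fun N p hpi => by
    rw [DCat.isZero_ltensor_iff N (isKFlatFor_finiteProjective hP hp) (Iso.refl _) p]
    haveI := (hp p).1
    haveI := (hp p).2
    haveI := (hp (p + 1)).2
    exact DRingLib.exactAt_tensor_of_fibres P p (fun m hm => haveI := hm; h m p (by omega)) N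
  exact DRingLib.exists_finiteProjective le_rfl
    (DRingLib.pc_of_pc' ((DRingLib.perfect_iff _).1 ⟨P, a, b, hP, hp, ⟨Iso.refl _⟩⟩).1 _) hamp

section Locus

variable [∀ x : X, DCoh.HasLpull (X.fromSpecResidueField x)] (E : DCoh.D X)

/-- The locus of shifted vector bundles of rank `r`. -/
def bundleLocus (i : ℤ) (r : ℕ) : Set X :=
  {x | (∀ p, p ≠ i → PerfD.betti E x p = 0) ∧ PerfD.betti E x i = r}

theorem isOpen_bundleLocus (hE : DCoh.IsPerfect E) (i : ℤ) (r : ℕ) : IsOpen (bundleLocus E i r) := by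
  rw [isOpen_iff_eventually]
  intro x hx
  obtain ⟨R, _, k, _, P, a, b, hxk, hP, hp, ⟨e⟩⟩ := exists_affine_perfect hE x
  have hout : ∀ x' ∈ k.opensRange, ∀ p, p ∉ Finset.Icc (a - 1) b → PerfD.betti E x' p = 0 := by
    rintro _ ⟨y, rfl⟩ p hp'
    simp only [Finset.mem_Icc, not_and_or, not_le] at hp'
    have h := betti_formula E k hP hp (p - 1) e.hom (PullPerf.apx_of_isIso _ _) p (by omega) y
    haveI := ModuleCat.subsingleton_of_isZero (hP p (by omega))
    haveI := ModuleCat.subsingleton_of_isZero (hP (p + 1) (by omega))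
    rw [Module.rankAtStalk_eq_zero_of_subsingleton] at h
    have z1 : ∀ (M : Type u) [AddCommGroup M] [Module R M] [Subsingleton M],
        FlatCxLib.fibreRank (A := R) M y = 0 := fun M _ _ _ => Module.finrank_zero_of_subsingleton
    haveI : Subsingleton (P.X p ⧸ LinearMap.range (P.d (p - 1) p).hom) :=
      (Submodule.mkQ_surjective _).subsingleton
    haveI : Subsingleton (P.X (p + 1) ⧸ LinearMap.range (P.d p (p + 1)).hom) :=
      (Submodule.mkQ_surjective _).subsingleton
    rw [z1, z1] at h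
    simpa using h
  have h1 : ∀ᶠ z in nhds x, ∀ p ∈ (Finset.Icc (a - 1) b).erase i, PerfD.betti E z p < 1 :=
    (Finset.eventually_all _).2 fun p hp' => (isOpen_betti_lt E (psc_of_perfect hE) p 1).mem_nhds
      (show PerfD.betti E x p < 1 by rw [hx.1 p (Finset.mem_erase.1 hp').1]; exact one_pos)
  filter_upwards [h1, k.opensRange.2.mem_nhds hxk, (isLocallyConstant_eulerChar E hE).eventually_eq x] with z hz hzk hχ
  have hz0 : ∀ p, p ≠ i → PerfD.betti E z p = 0 := fun p hpi => by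
    by_cases hp' : p ∈ Finset.Icc (a - 1) b
    · exact Nat.lt_one_iff.1 (hz p (Finset.mem_erase.2 ⟨hpi, hp'⟩))
    · exact hout z hzk p hp'
  refine ⟨hz0, ?_⟩
  have hsingle : ∀ w : X, (∀ p, p ≠ i → PerfD.betti E w p = 0) →
      PerfD.eulerChar E w = (i.negOnePow : ℤ) * (PerfD.betti E w i : ℤ) := fun w hw =>
    finsum_eq_single _ i fun p hpi => by rw [hw p hpi, Nat.cast_zero, mul_zero]
  have h2 := hχ
  rw [hsingle z hz0, hsingle x hx.1, hx.2] at h2
  exact_mod_cast mul_left_cancel₀ (Units.ne_zero i.negOnePow) h2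

/-- On the locus the object is a shifted vector bundle. -/
theorem exists_bundle (hE : DCoh.IsPerfect E) (i : ℤ) (r : ℕ) (U : X.Opens) (hU : (U : Set X) ⊆ bundleLocus E i r) :
    ∃ H : (U : Scheme.{u}).Modules, FlatMod.IsFinLocFreeOfRank r H ∧
      Nonempty ((PerfLocal.rd U.ι).obj E ≅ (DCoh.inD (U : Scheme.{u}) H)⟦-i⟧) := by
  let EU := (PerfLocal.rd U.ι).obj E
  have hloc : ∀ u : (U : Scheme.{u}), ∃ (W : Scheme.{u}) (k : W ⟶ (U : Scheme.{u})) (_ : IsOpenImmersion k)
      (N : W.Modules), u ∈ k.opensRange ∧ FlatMod.IsFinLocFree N ∧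
        Nonempty ((PerfLocal.rd k).obj EU ≅ (DCoh.inD W N)⟦-i⟧) := by
    intro u
    haveI := hasLpull U.ι
    haveI : ∀ w : (U : Scheme.{u}), DCoh.HasLpull ((U : Scheme.{u}).fromSpecResidueField w) := fun w => hasLpull _
    have hEU : DCoh.IsPerfect EU := by
      obtain ⟨c⟩ := nonempty_Lpull_restrict U.ι E
      exact PCTriangle.perfect_iso c (PullPerf.isPerfect_Lpull U.ι E hE)
    obtain ⟨R, _, k, _, P, a, b, hxk, hP, hp, ⟨e⟩⟩ := exists_affine_perfect hEU u
    obtain ⟨Q, hQ, hQp, ⟨eQ⟩⟩ := exists_single_of_fibres P hP hp i fun m hm p hpi => by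
      letI : Field (R ⧸ m) := Ideal.Quotient.field m
      let ψ : R ⟶ CommRingCat.of (R ⧸ m) := CommRingCat.ofHom (Ideal.Quotient.mk m)
      let g : Spec (CommRingCat.of (R ⧸ m)) ⟶ (U : Scheme.{u}) := Spec.map ψ ≫ k
      haveI := hasLpull g
      haveI := hasLpull (g ≫ U.ι)
      have h0 := fdim_chart EU k P (isKFlatFor_finiteProjective hP hp) (p - 1) e.hom (PullPerf.apx_of_isIso _ _)
        (CommRingCat.of (R ⧸ m)) g ψ rfl p (by omega)
      have h1 : fdim EU (CommRingCat.of (R ⧸ m)) g p = 0 := by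
        obtain ⟨c⟩ := nonempty_Lpull_restrict U.ι E
        rw [← fdim_iso g c p, fdim_comp U.ι g E p,
          fdim_eq_betti E hE _ (Field.toIsField (R ⧸ m)) (g ≫ U.ι) (⊥ : PrimeSpectrum (R ⧸ m)) p]
        exact (hU (g (⊥ : PrimeSpectrum (R ⧸ m))).2).1 p hpi
      rw [h1] at h0
      rw [HomologicalComplex.exactAt_iff_isZero_homology]
      let C := ((ModuleCat.extendScalars.{u, u, u} (Ideal.Quotient.mk m)).mapHomologicalComplex (ComplexShape.up ℤ)).obj P
      haveI : Module.Finite (R ⧸ m) (C.X p) := by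
        haveI := (hp p).1
        letI := (Ideal.Quotient.mk m).toAlgebra
        exact Module.Finite.base_change R (R ⧸ m) (P.X p)
      haveI : Module.Finite (R ⧸ m) (C.homology p) :=
        DRingLib.finite_homology_of_finite_cycles p inferInstance
      exact @ModuleCat.isZero_of_subsingleton _ _ _ (Module.finrank_zero_iff.1 h0.symm)
    haveI := (hQp i).1
    haveI := (hQp i).2
    refine ⟨_, k, inferInstance, tilde (Q.X i), hxk, (Props12.isFinLocFree_tilde_iff (Q.X i)).2 ⟨inferInstance, inferInstance⟩, ⟨?_⟩⟩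
    haveI : Q.IsStrictlyGE i := (CochainComplex.isStrictlyGE_iff _ i).2 fun n hn => hQ n (Or.inl hn)
    haveI : Q.IsStrictlyLE i := (CochainComplex.isStrictlyLE_iff _ i).2 fun n hn => hQ n (Or.inr hn)
    let es : Q ≅ ((CochainComplex.singleFunctors (ModuleCat.{u} R)).functor i).obj (Q.X i) :=
      HomologicalComplex.Hom.isoOfComponents (fun n => if h : n = i then
          Q.XIsoOfEq h ≪≫ (HomologicalComplex.singleObjXSelf (ComplexShape.up ℤ) i (Q.X i)).symm ≪≫
            (((HomologicalComplex.single _ (ComplexShape.up ℤ) i).obj (Q.X i)).XIsoOfEq h).symm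
        else (hQ n (by omega)).iso (HomologicalComplex.isZero_single_obj_X _ _ _ _ h))
        (fun p q hpq => by
          simp only [ComplexShape.up_Rel] at hpq
          by_cases h : p = i
          · exact (HomologicalComplex.isZero_single_obj_X _ _ _ _ (show q ≠ i by omega)).eq_of_tgt _ _
          · exact (hQ p (by omega)).eq_of_src _ _)
    exact e.symm ≪≫ (DCoh.tildeD R).mapIso (eQ.symm ≪≫ DerivedCategory.Q.mapIso es ≪≫
        ((DerivedCategory.singleFunctorIsoCompQ (ModuleCat.{u} R) i).app (Q.X i)).symm ≪≫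
        (((DerivedCategory.singleFunctors (ModuleCat.{u} R)).shiftIso (-i) i 0 (by omega)).app (Q.X i)).symm) ≪≫
      ((DCoh.tildeD R).commShiftIso (-i)).app _ ≪≫
      (shiftFunctor _ (-i)).mapIso (((tilde.functor R).mapDerivedCategorySingleFunctor 0).app (Q.X i))
  choose W k hk N hxk hN hiso using hloc
  haveI := hk
  have hzero : ∀ p, p ≠ i → IsZero (DCoh.HD EU p) := fun p hpi =>
    ModStalk.isZero_of_stalks fun u => by
      obtain ⟨eu⟩ := hiso u
      obtain ⟨z, hz'⟩ := hxk u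
      have hz : IsZero ((Scheme.Modules.restrictFunctor (k _)).obj (DCoh.HD EU p)) :=
        ((nonempty_HD_inD_shift (N _) i).2 p hpi).of_iso
          ((SuppOpen.hdMapIso (Scheme.Modules.restrictFunctor (k _)) EU p).symm ≪≫ (homologyFunctor _ p).mapIso eu)
      haveI := SuppOpen.subsingleton_stalk_of_restrict (k _) (DCoh.HD EU p) z
        (SuppOpen.subsingleton_of_isZero_stalkFunctor _ z ((DerSch.stalkFunctor (W _) z).map_isZero hz))
      rw [← hz']
      exact SuppOpen.isZero_stalkFunctor _ _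
  haveI : EU.IsGE i := (DerivedCategory.isGE_iff _ _).2 fun p hp => hzero p (by omega)
  haveI : EU.IsLE i := (DerivedCategory.isLE_iff _ _).2 fun p hp => hzero p (by omega)
  obtain ⟨H, ⟨eH⟩⟩ := DerivedCategory.exists_iso_singleFunctor_obj_of_isGE_of_isLE EU i
  let eH' : EU ≅ (DCoh.inD (U : Scheme.{u}) H)⟦-i⟧ :=
    eH ≪≫ (((DerivedCategory.singleFunctors (U : Scheme.{u}).Modules).shiftIso (-i) i 0 (by omega)).app H).symm
  have hH : FlatMod.IsFinLocFree H := isFinLocFree_of_local H fun u => by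
    obtain ⟨eu⟩ := hiso u
    obtain ⟨⟨e1⟩, -⟩ := nonempty_HD_inD_shift (N u) i
    obtain ⟨⟨e2⟩, -⟩ := nonempty_HD_inD_shift H i
    refine ⟨W u, k u, hk u, hxk u, PerfTensor.isFinLocFree_of_iso ?_ (hN u)⟩
    exact e1.symm ≪≫ (homologyFunctor _ i).mapIso eu.symm ≪≫
      SuppOpen.hdMapIso (Scheme.Modules.restrictFunctor (k u)) EU i ≪≫
      (Scheme.Modules.restrictFunctor (k u)).mapIso ((homologyFunctor _ i).mapIso eH' ≪≫ e2)
  refine ⟨H, fun u => ?_, ⟨eH'⟩⟩
  obtain ⟨V, n, huV, ⟨eV⟩⟩ := hH u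
  suffices hn : n = r by subst hn; exact ⟨V, huV, ⟨eV⟩⟩
  haveI := hasLpull U.ι
  let g := (U : Scheme.{u}).fromSpecResidueField u
  haveI := hasLpull g
  haveI := hasLpull (g ≫ U.ι)
  let z : Spec ((U : Scheme.{u}).residueField u) := (⊥ : PrimeSpectrum ((U : Scheme.{u}).residueField u))
  obtain ⟨c⟩ := nonempty_Lpull_restrict U.ι E
  have hgz : g z = u := Scheme.fromSpecResidueField_apply _ _
  have h1 := fdim_inD_shift hH i _ (Field.toIsField _) g z V (hgz.symm ▸ huV) eV i
  rw [if_pos rfl, ← fdim_iso g (c ≪≫ eH') i, fdim_comp U.ι g E i,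
    fdim_eq_betti E hE _ (Field.toIsField _) (g ≫ U.ι) z i] at h1
  exact h1.symm.trans (hU (g z).2).2

end Locus

/-- The open where a perfect object is a shifted vector bundle represents that condition. -/
theorem exists_bundle_open (E : DCoh.D X) (hE : DCoh.IsPerfect E) (i : ℤ) (r : ℕ) :
    ∃ U : X.Opens, ∀ (Y : Scheme.{u}) (f : Y ⟶ X) [DCoh.HasLpull f],
      Set.range f.base ⊆ (U : Set X) ↔
        ∃ V : Y.Modules, FlatMod.IsFinLocFreeOfRank r V ∧ Nonempty ((DCoh.Lpull f).obj E ≅ (DCoh.inD Y V)⟦-i⟧) := by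
  haveI : ∀ x : X, DCoh.HasLpull (X.fromSpecResidueField x) := fun x => hasLpull _
  let U : X.Opens := ⟨bundleLocus E i r, isOpen_bundleLocus E hE i r⟩
  obtain ⟨H, hH, ⟨eH⟩⟩ := exists_bundle E hE i r U le_rfl
  refine ⟨U, fun Y f _ => ⟨fun hf => ?_, ?_⟩⟩
  · have hr : Set.range f ⊆ Set.range U.ι := by rw [Scheme.Opens.range_ι]; exact hf
    let g := IsOpenImmersion.lift U.ι f hr
    have hg : g ≫ U.ι = f := IsOpenImmersion.lift_fac _ _ _
    haveI := hasLpull g
    haveI := hasLpull U.ι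
    haveI := hasLpull (g ≫ U.ι)
    obtain ⟨_, _⟩ := PullPerf.exists_commShift_Lpull g
    have hHf : FlatMod.IsFinLocFree H := fun u => let ⟨V, h1, h2⟩ := hH u; ⟨V, r, h1, h2⟩
    refine ⟨(Scheme.Modules.pullback g).obj H, fun y => ?_, ?_⟩
    · obtain ⟨V, hV, ⟨eV⟩⟩ := hH (g y)
      obtain ⟨ef⟩ := PerfTensor.nonempty_pullback_free (g ∣_ V) r
      exact ⟨g ⁻¹ᵁ V, hV, ⟨(PullPerf.pullRestrict g V).app H ≪≫ (Scheme.Modules.pullback (g ∣_ V)).mapIso eV ≪≫ ef⟩⟩
    obtain ⟨c⟩ := nonempty_LpullComp g U.ι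
    obtain ⟨d⟩ := nonempty_Lpull_restrict U.ι E
    obtain ⟨eL⟩ := nonempty_Lpull_inD g hHf
    have hc : ∀ (f' : Y ⟶ X) [DCoh.HasLpull f'], f' = f →
        Nonempty ((DCoh.Lpull f).obj E ≅ (DCoh.Lpull f').obj E) := fun f' _ h => by
      subst h
      exact ⟨Iso.refl _⟩
    obtain ⟨q⟩ := hc _ hg
    exact ⟨q ≪≫ (c.app E).symm ≪≫ (DCoh.Lpull g).mapIso (d ≪≫ eH) ≪≫
      ((DCoh.Lpull g).commShiftIso (-i)).app _ ≪≫ (shiftFunctor _ (-i)).mapIso eL⟩
  · rintro ⟨V, hV, ⟨e⟩⟩ _ ⟨y, rfl⟩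
    let g := Y.fromSpecResidueField y
    haveI := hasLpull g
    haveI := hasLpull (g ≫ f)
    let z : Spec (Y.residueField y) := (⊥ : PrimeSpectrum (Y.residueField y))
    have hgz : g z = y := Scheme.fromSpecResidueField_apply _ _
    obtain ⟨V₀, hyV, ⟨eV⟩⟩ := hV y
    have key : ∀ p, PerfD.betti E (f y) p = if p = i then r else 0 := fun p => by
      rw [show f y = (g ≫ f) z from (congrArg f hgz).symm.trans (Scheme.Hom.comp_apply g f z).symm,
        ← fdim_eq_betti E hE _ (Field.toIsField _) (g ≫ f) z p, ← fdim_comp f g E p, fdim_iso g e p]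
      exact fdim_inD_shift (fun w => let ⟨V', h1, h2⟩ := hV w; ⟨V', r, h1, h2⟩) i _ (Field.toIsField _) g z V₀
        (hgz.symm ▸ hyV) eV p
    exact ⟨fun p hp => (key p).trans (if_neg hp), (key i).trans (if_pos rfl)⟩

end Groth.Agent.DQCoh
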