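import Groth.Agent.DQCoh.Sections
import Groth.Agent.DCat.PullPush
import Groth.Agent.DCat.PullPerf
import Groth.Agent.SiteDer16.RpushBounded
import Groth.Agent.Coherent.HigherQcoh
import Groth.Agent.Coherent.RpushVanish
import Groth.Agent.ModStalk.FlatCover
import Groth.Prelude.Def_WeakSerre

/-!
# Derived direct images of objects with quasi-coherent cohomology
-/

set_option autoImplicit false
set_option backward.isDefEq.respectTransparency false
set_option backward.defeqAttrib.useBackward true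
set_option linter.style.haveILetI false
set_option synthInstance.maxHeartbeats 100000

universe u

open CategoryTheory CategoryTheory.Limits CategoryTheory.Pretriangulated DerivedCategory Opposite TopologicalSpace AlgebraicGeometry
open Groth.Agent.SiteDer16 Groth.Agent.DCat Groth.Agent.Coherent Groth.Agent.DCat.PullPerf
open scoped ZeroObject

attribute [local instance] HasDerivedCategory.standard

namespace Groth.Agent.DQCoh

variable {X S : Scheme.{u}}

/-- Quasi-coherent modules as an object property. -/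
abbrev qc (X : Scheme.{u}) : ObjectProperty X.Modules := fun M => Coh.IsQCoh M

instance isWeakSerre_qc (X : Scheme.{u}) : WSerre.IsWeakSerre (qc X) :=
  haveI : (qc X).ContainsZero := ⟨⟨0, isZero_zero _, isQCoh_of_isZero (isZero_zero _)⟩⟩
  haveI : (qc X).IsClosedUnderKernels := ⟨by
    rintro K ⟨f, k, hk, hM, hN⟩
    haveI := hM
    haveI := hN
    exact isQCoh_of_iso ((kernelIsKernel f).conePointUniqueUpToIso hk) (h := isQCoh_kernel f)⟩
  haveI : (qc X).IsClosedUnderCokernels := ⟨by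
    rintro K ⟨f, k, hk, hM, hN⟩
    haveI := hM
    haveI := hN
    exact isQCoh_of_iso ((cokernelIsCokernel f).coconePointUniqueUpToIso hk) (h := isQCoh_cokernel f)⟩
  haveI : (qc X).IsClosedUnderExtensions := ⟨fun {T} hT h₁ h₃ => by
    haveI : Coh.IsQCoh T.X₁ := h₁
    haveI : Coh.IsQCoh T.X₃ := h₃
    exact isQCoh_X₂ hT⟩
  ⟨⟩

/-- `j_! O_U` is flat. -/
theorem isFlat_freeModOn (U : X.Opens) : FlatMod.IsFlat ((freeModOn X).obj U) := by
  let W : PUnit.{u + 1} → X.Opens := fun _ => U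
  let e₀ : ModStalk.repSum W ≅ yoneda.obj U :=
    NatIso.ofComponents (fun V =>
      { hom := TypeCat.ofHom fun s => homOfLE s.2.down
        inv := TypeCat.ofHom fun g => ⟨⟨⟩, ⟨leOfHom g⟩⟩
        hom_inv_id := by ext ⟨⟨⟩, ⟨h⟩⟩; rfl
        inv_hom_id := by ext g; rfl }) (fun {V V'} j => by ext s; rfl)
  let e : DCoh.shP.obj (ModStalk.freeRep W) ≅ (freeModOn X).obj U :=
    (PresheafOfModules.sheafification (𝟙 X.ringCatSheaf.obj)).mapIso
      ((PresheafOfModules.free X.ringCatSheaf.obj).mapIso e₀)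
  intro x
  haveI := ModStalk.projective_stalk_freeRep W x
  haveI : Module.Projective (X.presheaf.stalk x) ((DerSch.stalkFunctor X x).obj ((freeModOn X).obj U)) :=
    (IsProjective.iff_projective _).2 (Projective.of_iso
      (((ModStalk.shPStalkIso x).app (ModStalk.freeRep W)).symm ≪≫ (DerSch.stalkFunctor X x).mapIso e) inferInstance)
  exact (inferInstance : Module.Flat (X.presheaf.stalk x) ((DerSch.stalkFunctor X x).obj ((freeModOn X).obj U)))

/-- `f^* j_! O_W = j_! O_{f⁻¹W}`. -/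
noncomputable def pullFreeIso (f : X ⟶ S) (W : S.Opens) :
    (Scheme.Modules.pullback f).obj ((freeModOn S).obj W) ≅ (freeModOn X).obj (f ⁻¹ᵁ W) := by
  let E₁ : ∀ M : X.Modules, ((freeModOn X).obj (f ⁻¹ᵁ W) ⟶ M) ≃ Γ(M, f ⁻¹ᵁ W) := freeModOnEquiv _
  let E₂ : ∀ M : X.Modules, ((Scheme.Modules.pullback f).obj ((freeModOn S).obj W) ⟶ M) ≃ Γ(M, f ⁻¹ᵁ W) := fun M =>
    ((Scheme.Modules.pullbackPushforwardAdjunction f).homEquiv _ M).trans
      (freeModOnEquiv W ((Scheme.Modules.pushforward f).obj M))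
  have h₁ : ∀ {M N : X.Modules} (g : (freeModOn X).obj (f ⁻¹ᵁ W) ⟶ M) (φ : M ⟶ N),
      E₁ N (g ≫ φ) = φ.app _ (E₁ M g) := fun g φ => freeModOnEquiv_comp _ g φ
  have h₂ : ∀ {M N : X.Modules} (g : (Scheme.Modules.pullback f).obj ((freeModOn S).obj W) ⟶ M) (φ : M ⟶ N),
      E₂ N (g ≫ φ) = φ.app _ (E₂ M g) := fun g φ => by
    simp only [E₂, Equiv.trans_apply, Adjunction.homEquiv_naturality_right]
    exact freeModOnEquiv_comp W _ _
  exact
    { hom := (E₂ _).symm (E₁ _ (𝟙 _))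
      inv := (E₁ _).symm (E₂ _ (𝟙 _))
      hom_inv_id := (E₂ _).injective (by
        rw [h₂, Equiv.apply_symm_apply, ← h₁, Category.id_comp, Equiv.apply_symm_apply])
      inv_hom_id := (E₁ _).injective (by
        rw [h₁, Equiv.apply_symm_apply, ← h₂, Category.id_comp, Equiv.apply_symm_apply]) }

/-- Hypercohomology of `Rf_*` is that upstairs. -/
theorem exists_homEquiv (f : X ⟶ S) [DCoh.HasRpush f] (W : S.Opens) (k : ℤ) :
    ∃ b : ∀ K : DCoh.D X, ((((sec S).pt.obj W)⟦k⟧ ⟶ (DCoh.Rpush f).obj K) ≃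
        (((sec X).pt.obj (f ⁻¹ᵁ W))⟦k⟧ ⟶ K)),
      ∀ {K L : DCoh.D X} (φ : K ⟶ L) (g : ((sec S).pt.obj W)⟦k⟧ ⟶ (DCoh.Rpush f).obj K),
        b L (g ≫ (DCoh.Rpush f).map φ) = b K g ≫ φ := by
  haveI := hasLpull f
  obtain ⟨adj⟩ := nonempty_pullPushAdj f
  obtain ⟨_, _⟩ := exists_commShift_Lpull f
  have hk : IsKFlatFor (shT S) ((HomologicalComplex.single S.Modules (ComplexShape.up ℤ) 0).obj ((freeModOn S).obj W)) := by
    refine isKFlatFor_sheaf_of_flat _ 0 (fun n hn => HomologicalComplex.isZero_single_obj_X _ _ _ _ (by omega)) fun n => ?_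
    by_cases hn : n = 0
    · subst hn
      intro x
      haveI h : Module.Flat (S.presheaf.stalk x) ((DerSch.stalkFunctor S x).obj ((freeModOn S).obj W)) :=
        isFlat_freeModOn W x
      exact Module.Flat.of_linearEquiv ((DerSch.stalkFunctor S x).mapIso
        (HomologicalComplex.singleObjXSelf (ComplexShape.up ℤ) 0 _)).toLinearEquiv
    · intro x
      show Module.Flat (S.presheaf.stalk x) ((DerSch.stalkFunctor S x).obj
          (((HomologicalComplex.single S.Modules (ComplexShape.up ℤ) 0).obj ((freeModOn S).obj W)).X n))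
      haveI : Subsingleton ((DerSch.stalkFunctor S x).obj
          (((HomologicalComplex.single S.Modules (ComplexShape.up ℤ) 0).obj ((freeModOn S).obj W)).X n)) :=
        ModuleCat.subsingleton_of_isZero ((DerSch.stalkFunctor S x).map_isZero
          (HomologicalComplex.isZero_single_obj_X _ _ _ _ hn))
      infer_instance
  let e : (DCoh.Lpull f).obj ((sec S).pt.obj W) ≅ (sec X).pt.obj (f ⁻¹ᵁ W) :=
    lpullIso f hk ≪≫ DerivedCategory.Q.mapIso
      ((HomologicalComplex.singleMapHomologicalComplex (Scheme.Modules.pullback f) (ComplexShape.up ℤ) 0).app _ ≪≫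
        (HomologicalComplex.single X.Modules (ComplexShape.up ℤ) 0).mapIso (pullFreeIso f W))
  let e' : (DCoh.Lpull f).obj (((sec S).pt.obj W)⟦k⟧) ≅ ((sec X).pt.obj (f ⁻¹ᵁ W))⟦k⟧ :=
    ((DCoh.Lpull f).commShiftIso k).app _ ≪≫ (shiftFunctor (DCoh.D X) k).mapIso e
  exact ⟨fun K => (adj.homEquiv _ K).symm.trans e'.homFromEquiv, fun φ g => by
    simp [Adjunction.homEquiv_naturality_right_symm]⟩

variable {V : X.Opens} {d : ℕ}
  (hd : ∀ (M : X.Modules), Coh.IsQCoh M → ∀ p : ℕ, d ≤ p → Subsingleton (Sheaf.H' (Coh.toAb M) p V))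

include hd in
theorem subsingleton_ext_bound [HasExt.{u + 1} X.Modules] (M : X.Modules) (hM : Coh.IsQCoh M) (p : ℕ) (hp : d ≤ p) :
    Subsingleton (Abelian.Ext.{u + 1} ((sec X).P.obj V) M p) := by
  haveI : Subsingleton (Abelian.Ext.{u} (freeSh (X := X.toTopCat) V) (Coh.toAb M) p) := hd M hM p hp
  haveI : Subsingleton (Abelian.Ext.{u} ((freeModOn X).obj V) M p) := (bijective_extToH V p M).1.subsingleton
  exact @Equiv.subsingleton _ _
    (show Abelian.Ext.{u + 1} ((sec X).P.obj V) M p ≃ Abelian.Ext.{u} ((freeModOn X).obj V) M p from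
      Abelian.Ext.chgUniv) ‹_›

include hd in
/-- Hypercohomology over `V` sees only truncations. -/
theorem bijective_trunc [HasExt.{u + 1} X.Modules] (K : DCoh.D X) (hK : DCoh.IsQCohD K) (k : ℤ) (N : ℕ)
    (hN : (d : ℤ) ≤ k + N) :
    Function.Bijective (fun y : ((sec X).pt.obj V)⟦-k⟧ ⟶ K => y ≫ CohCx.toTruncTower K N) := by
  haveI := DCat.hasProductsOfShape_derived (A := X.Modules) DCat.enoughKInj_of_isGrothendieckAbelian ℕ
  have hv : ∀ (k' : ℤ) (n : ℕ) {Z : DCoh.D X}, k - 1 ≤ k' → N ≤ n → Z.IsGE (-(n : ℤ) - 2) →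
      (∀ q, q ≠ -(n : ℤ) - 2 → IsZero ((homologyFunctor X.Modules q).obj Z)) →
      Nonempty ((homologyFunctor X.Modules (-(n : ℤ) - 2)).obj Z ≅ (homologyFunctor X.Modules (-(n : ℤ) - 1)).obj K) →
      ∀ g : ((sec X).pt.obj V)⟦-k'⟧ ⟶ Z, g = 0 := fun k' n Z hk hn hge hz ⟨e⟩ => by
    refine (sec X).eq_zero_of_boundedBelow V k' Z (-(n : ℤ) - 2) fun q p hp => ?_
    by_cases hq : q = -(n : ℤ) - 2
    · subst hq
      haveI := subsingleton_ext_bound hd _ (hK (-(n : ℤ) - 1)) p (by omega)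
      exact subsingleton_ext_of_iso' _ e p
    · exact subsingleton_ext_of_isZero _ (hz q hq) p
  let e1 : ((sec X).pt.obj V)⟦-(k - 1)⟧ ≅ (((sec X).pt.obj V)⟦-k⟧)⟦(1 : ℤ)⟧ :=
    (shiftFunctorAdd' (DCoh.D X) (-k) 1 (-(k - 1)) (by omega)).app _
  refine bijective_comp_of_isRlimVia _ (CohCx.truncTowerMap K) _ N (isRlim K hK) (fun n hn => ?_) (fun n hn => ?_) <;>
    obtain ⟨Z, g, δ, hT, hge, hz, he⟩ := exists_cone_truncTowerMap K n
  · refine ⟨injective_comp_of_triangle hT _ fun u => ?_, surjective_comp_of_triangle hT _ fun u => ?_⟩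
    · rw [← cancel_epi e1.hom, comp_zero]
      exact hv (k - 1) n le_rfl hn hge hz he _
    · exact hv k n (by omega) hn hge hz he u
  · refine surjective_comp_of_triangle hT _ fun u => ?_
    rw [← cancel_epi e1.hom, comp_zero]
    exact hv (k - 1) n le_rfl hn hge hz he _

/-- A module with no sections inside `O` restricts to zero. -/
theorem isZero_restrict (M : X.Modules) (O : X.Opens)
    (h : ∀ V : X.Opens, V ≤ O → ∀ x : (sec X).P.obj V ⟶ M, x = 0) :
    IsZero ((Scheme.Modules.restrictFunctor O.ι).obj M) := by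
  refine (sec (O : Scheme.{u})).gen fun V x => ?_
  apply (freeModOnEquiv V _).injective
  have hle : O.ι ''ᵁ V ≤ O := by
    intro y hy
    obtain ⟨z, -, rfl⟩ := hy
    exact z.2
  have hsub : Subsingleton (Γ(M, O.ι ''ᵁ V)) := by
    refine subsingleton_of_forall_eq 0 fun s => ?_
    have h0 : (freeModOnEquiv (O.ι ''ᵁ V) M).symm s = 0 := h _ hle _
    rw [← (freeModOnEquiv (O.ι ''ᵁ V) M).apply_symm_apply s, h0]
    exact map_zero (secMod (O.ι ''ᵁ V) M)
  exact @Subsingleton.elim _ hsub _ _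

/-- An object with no hypercohomology on a basis inside `O` has vanishing cohomology there. -/
theorem isZero_restrict_homology (C : DCoh.D X) (j : ℤ) (O : X.Opens) (B : Set X.Opens)
    (hB : ∀ (x : X) (U : X.Opens), x ∈ O → x ∈ U → ∃ W ∈ B, x ∈ W ∧ W ≤ U)
    (h : ∀ W ∈ B, ∀ y : ((sec X).pt.obj W)⟦-j⟧ ⟶ C, y = 0) :
    IsZero ((Scheme.Modules.restrictFunctor O.ι).obj (DCoh.HD C j)) := by
  refine isZero_restrict _ O fun V hV x => ?_
  let σ := (homologyFunctor X.Modules 0).shiftIso j 0 j (by omega)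
  obtain ⟨T, hT, hl⟩ := (sec X).exists_local_lift (X := C⟦j⟧) (x ≫ σ.inv.app C)
  rw [← cancel_mono (σ.inv.app C), zero_comp]
  choose W' g hg hxW' using fun p : {p : X // p ∈ V} => hT p.1 p.2
  choose W hWB hxW hW using fun p : {p : X // p ∈ V} => hB p.1 (W' p) (hV p.2) (hxW' p)
  refine (sec X).sep _ (Sieve.ofArrows W fun p => homOfLE (hW p) ≫ g p) (fun p hp => ?_) ?_
  · exact ⟨_, homOfLE (hW ⟨p, hp⟩) ≫ g ⟨p, hp⟩, Sieve.ofArrows_mk _ _ (⟨p, hp⟩ : {p : X // p ∈ V}), hxW _⟩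
  rintro U k ⟨_, k', _, ⟨p⟩, rfl⟩
  obtain ⟨y, hy⟩ := hl (homOfLE (hW p) ≫ g p) (T.downward_closed (hg p) _)
  let eW := (shiftFunctorCompIsoId (DCoh.D X) (-j) j (by omega)).app ((sec X).pt.obj (W p))
  have hy0 : y = 0 := by
    obtain ⟨z, hz⟩ := (shiftFunctor (DCoh.D X) j).map_surjective (eW.hom ≫ y)
    rw [← cancel_epi eW.hom, comp_zero, ← hz, h _ (hWB p) z, Functor.map_zero]
  rw [Functor.map_comp, Category.assoc, ← hy, hy0]
  simp [SiteDer16.Sections.θ]

variable (f : X ⟶ S) [QuasiCompact f] [QuasiSeparated f] [DCoh.HasRpush f]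

/-- Over an affine open the cohomology of `Rf_* K` is that of `Rf_*` of a truncation. -/
theorem exists_bound (W₀ : S.Opens) (hW₀ : IsAffineOpen W₀) :
    ∃ d : ℕ, ∀ (K : DCoh.D X), DCoh.IsQCohD K → ∀ (j : ℤ) (n : ℕ), (d : ℤ) + 1 ≤ j + n →
      IsIso ((Scheme.Modules.restrictFunctor W₀.ι).map ((homologyFunctor S.Modules j).map
        ((DCoh.Rpush f).map (CohCx.toTruncTower K n)))) := by
  obtain ⟨d, hd⟩ := exists_bound_subsingleton_H'_preimage f hW₀
  refine ⟨d, fun K hK j n hn => ?_⟩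
  haveI : HasExt.{u + 1} X.Modules := hasExt_of_hasDerivedCategory _
  obtain ⟨_, _⟩ := exists_commShift_Rpush f
  let φ := (DCoh.Rpush f).map (CohCx.toTruncTower K n)
  obtain ⟨C, v, w, hT⟩ := distinguished_cocone_triangle φ
  let B : Set S.Opens := {W | ∃ r : Γ(S, W₀), W = S.basicOpen r}
  have hB : ∀ (x : S) (U : S.Opens), x ∈ W₀ → x ∈ U → ∃ W ∈ B, x ∈ W ∧ W ≤ U := fun x U hx hxU => by
    obtain ⟨r, hr, hxr⟩ := hW₀.exists_basicOpen_le ⟨x, hxU⟩ hx
    exact ⟨_, ⟨r, rfl⟩, hxr, hr⟩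
  have hbij : ∀ W ∈ B, ∀ k : ℤ, (d : ℤ) ≤ k + n →
      Function.Bijective (fun y : ((sec S).pt.obj W)⟦-k⟧ ⟶ (DCoh.Rpush f).obj K => y ≫ φ) := by
    rintro W ⟨r, rfl⟩ k hk
    obtain ⟨b, hb⟩ := exists_homEquiv f (S.basicOpen r) (-k)
    have h := bijective_trunc (V := f ⁻¹ᵁ S.basicOpen r) (fun M hM p hp => hd M hM r p hp) K hK k n hk
    have e : (fun y => y ≫ CohCx.toTruncTower K n) ∘ b K =
        b _ ∘ fun y : ((sec S).pt.obj (S.basicOpen r))⟦-k⟧ ⟶ (DCoh.Rpush f).obj K => y ≫ φ :=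
      funext fun y => (hb _ y).symm
    exact (Function.Bijective.of_comp_iff' (b _).bijective _).1 (e ▸ h.comp (b K).bijective)
  have hC : ∀ i : ℤ, j - 1 ≤ i → IsZero ((Scheme.Modules.restrictFunctor W₀.ι).obj (DCoh.HD C i)) := fun i hi => by
    refine isZero_restrict_homology C i W₀ B hB fun W hW y => ?_
    have hw : y ≫ w = 0 := by
      refine eq_zero_of_comp_shift_eq_zero φ 1 (fun z hz => ?_) _ ?_
      · let e2 : ((sec S).pt.obj W)⟦-(i + 1)⟧ ≅ (((sec S).pt.obj W)⟦-i⟧)⟦-(1 : ℤ)⟧ :=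
          (shiftFunctorAdd' (DCoh.D S) (-i) (-1) (-(i + 1)) (by omega)).app _
        rw [← cancel_epi e2.hom, comp_zero]
        apply (hbij W hW (i + 1) (by omega)).1
        simp [hz]
      · rw [Category.assoc]
        exact (congrArg (y ≫ ·) (comp_distTriang_mor_zero₃₁ _ hT)).trans comp_zero
    obtain ⟨y', rfl⟩ := Triangle.coyoneda_exact₃ _ hT y hw
    obtain ⟨y'', rfl⟩ := (hbij W hW i (by omega)).2 y'
    exact (Category.assoc _ _ _).trans ((congrArg (y'' ≫ ·) (comp_distTriang_mor_zero₁₂ _ hT)).trans comp_zero)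
  let G := Scheme.Modules.restrictFunctor W₀.ι
  haveI : Mono (G.map ((homologyFunctor S.Modules j).map φ)) :=
    ((HomologySequence.exact₁ _ hT (j - 1) j (by omega)).map G).mono_g ((hC (j - 1) le_rfl).eq_of_src _ _)
  haveI : Epi (G.map ((homologyFunctor S.Modules j).map φ)) :=
    ((HomologySequence.exact₂ _ hT j).map G).epi_f ((hC j (by omega)).eq_of_tgt _ _)
  exact isIso_of_mono_of_epi _

/-- `Rf_*` of a bounded below object with quasi-coherent cohomology. -/
theorem isQCohD_Rpush_of_isGE (K : DCoh.D X) (a : ℤ) [K.IsGE a] (hK : DCoh.IsQCohD K) :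
    DCoh.IsQCohD ((DCoh.Rpush f).obj K) := by
  obtain ⟨_, _⟩ := exists_commShift_Rpush f
  haveI : HasInjectiveResolutions X.Modules := hasInjectiveResolutions_modules X
  haveI : EnoughInjectives X.Modules := inferInstance
  refine cohIn_obj_of_boundedBelow (DCoh.Rpush f) (qc X) (qc S) (fun M hM q => ?_)
    (fun Y m hY => isGE_totalRightDerived (modules_enoughKInj X) (Scheme.Modules.pushforward f) Y m) K a hK
  rcases lt_or_ge q 0 with h | h
  · exact isQCoh_of_isZero (isZero_of_isGE _ 0 q h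
      (hX := isGE_totalRightDerived (modules_enoughKInj X) (Scheme.Modules.pushforward f) _ 0))
  · obtain ⟨p, rfl⟩ := Int.eq_ofNat_of_zero_le h
    obtain ⟨e⟩ := nonempty_iso_homology_single (modules_enoughKInj X) (Scheme.Modules.pushforward f) M p
    haveI : Coh.IsQCoh M := hM
    exact isQCoh_of_iso e.symm (h := isQCoh_rpush f M p)

/-- `Rf_*` preserves quasi-coherent cohomology. -/
theorem isQCohD_Rpush (K : DCoh.D X) (hK : DCoh.IsQCohD K) : DCoh.IsQCohD ((DCoh.Rpush f).obj K) := fun j => by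
  refine isQCoh_of_openImmersion_cover _ (fun V : S.affineOpens => V.1.ι) (fun x => ?_) fun V => ?_
  · obtain ⟨W, hW, hxW, -⟩ := Opens.isBasis_iff_nbhd.mp S.isBasis_affineOpens (Opens.mem_top x)
    exact ⟨⟨W, hW⟩, by rw [Scheme.Opens.opensRange_ι]; exact hxW⟩
  · obtain ⟨d, hd⟩ := exists_bound f V.1 V.2
    let n := ((d : ℤ) + 1 - j).toNat
    haveI := hd K hK j n (by omega)
    have hP : DCoh.IsQCohD (CohCx.truncTower K n) :=
      WayOut.prop_homology_truncGE (qc X) (fun Z hZ => isQCoh_of_isZero hZ) K _ hK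
    haveI : (CohCx.truncTower K n).IsGE (-(n : ℤ)) := (inferInstance :
      ((DerivedCategory.TStructure.t (C := X.Modules)).truncGE (-(n : ℤ)) |>.obj K).IsGE (-(n : ℤ)))
    haveI : Coh.IsQCoh (DCoh.HD ((DCoh.Rpush f).obj (CohCx.truncTower K n)) j) :=
      isQCohD_Rpush_of_isGE f _ (-(n : ℤ)) hP j
    have : Coh.IsQCoh ((DCoh.HD ((DCoh.Rpush f).obj (CohCx.truncTower K n)) j).restrict V.1.ι) := inferInstance
    exact @isQCoh_of_iso _ _ _ (asIso ((Scheme.Modules.restrictFunctor V.1.ι).map ((homologyFunctor S.Modules j).map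
      ((DCoh.Rpush f).map (CohCx.toTruncTower K n))))).symm this

end Groth.Agent.DQCoh
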