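import Groth.Agent.DQCoh.Betti
import Mathlib.Algebra.BigOperators.Finprod

/-!
# Semicontinuity of fibre dimensions and local constancy of the Euler characteristic
-/

set_option autoImplicit false
set_option backward.isDefEq.respectTransparency false
set_option backward.defeqAttrib.useBackward true
set_option linter.style.haveILetI false
set_option synthInstance.maxHeartbeats 100000
set_option linter.unusedVariables false
set_option backward.isDefEq.respectTransparency.types false

universe u

open CategoryTheory CategoryTheory.Limits CategoryTheory.Pretriangulated DerivedCategory Opposite TopologicalSpace AlgebraicGeometry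
open Groth.Agent.SiteDer16 Groth.Agent.DCat Groth.Agent.Coherent
open scoped TensorProduct

namespace Groth.Agent.DQCoh

attribute [local instance] HasDerivedCategory.standard
attribute [-instance] Int.instConditionallyCompleteLinearOrder

variable {X : Scheme.{u}}

/-- A perfect object is locally the image of a bounded complex of finite projective modules. -/
theorem exists_affine_perfect {E : DCoh.D X} (hE : DCoh.IsPerfect E) (x : X) :
    ∃ (R : CommRingCat.{u}) (_ : PreservesFiniteLimits (tilde.functor R)) (k : Spec R ⟶ X) (_ : IsOpenImmersion k)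
      (P : DRing.Cx R) (a b : ℤ), x ∈ k.opensRange ∧ DRing.VanishesOutside P a b ∧
      DRing.TermwiseFiniteProjective P ∧ Nonempty ((DCoh.tildeD R).obj (DRing.toD P) ≅ (PerfLocal.rd k).obj E) := by
  obtain ⟨W, g, hg, hx, C, hC, ⟨c⟩⟩ := (PerfLocal.isPerfect_iff E).1 hE x
  obtain ⟨y, rfl⟩ := hx
  obtain ⟨V, hV, hyV, -⟩ := exists_isAffineOpen_mem_and_subset (x := y) (U := (⊤ : W.Opens)) trivial
  let R : CommRingCat.{u} := Γ(W, V)
  let j : Spec R ⟶ W := hV.fromSpec
  haveI hR := AffSchLib.preservesFiniteLimits_tilde R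
  let C' := ((Scheme.Modules.restrictFunctor j).mapHomologicalComplex (ComplexShape.up ℤ)).obj C
  have hC' : DCoh.IsStrictlyPerfect C' := PerfLocal.strictlyPerfect_restrict j hC
  haveI : ∀ i, Coh.IsQCoh (C'.X i) := fun i => PullPerf.isQCoh_of_finLocFree (hC'.2 i)
  obtain ⟨M, ⟨e⟩⟩ := ((tildeD_main R).2.2 _).1 (isQCohD_Q C' fun i => inferInstance)
  obtain ⟨P, a, b, hP, hp, ⟨eP⟩⟩ := perfect_of_isPerfect_tildeD (PCTriangle.perfect_iso e.symm
    ((PerfLocal.isPerfect_iff _).2 fun z => ⟨_, 𝟙 _, inferInstance, ⟨z, rfl⟩, C', hC', PCTriangle.rd_id _⟩))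
  obtain ⟨c'⟩ := PerfLocal.rd_comp j g E
  refine ⟨R, hR, j ≫ g, inferInstance, P, a, b, ?_, hP, hp, ⟨(DCoh.tildeD R).mapIso eP ≪≫ e ≪≫
    ((Scheme.Modules.restrictFunctor j).mapDerivedCategoryFactors.app C).symm ≪≫ (PerfLocal.rd j).mapIso c.symm ≪≫ c'.symm⟩⟩
  obtain ⟨z, hz⟩ : y ∈ hV.fromSpec.opensRange := by rw [hV.opensRange_fromSpec]; exact hyV
  exact ⟨z, congrArg g.base hz⟩

theorem isKFlatFor_finiteProjective {A : Type u} [CommRing A] {P : DRing.Cx A} {a b : ℤ}
    (hP : DRing.VanishesOutside P a b) (hp : DRing.TermwiseFiniteProjective P) : IsKFlatFor (modT A) P :=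
  isKFlatFor_of_flat P b (fun i hi => hP i (Or.inr hi)) fun i => haveI := (hp i).2; inferInstance

section Formula

variable [∀ x : X, DCoh.HasLpull (X.fromSpecResidueField x)] (E : DCoh.D X) {R : CommRingCat.{u}}
  [PreservesFiniteLimits (tilde.functor R)] (k : Spec R ⟶ X) [IsOpenImmersion k] {P : DRing.Cx R} {a b : ℤ}

/-- The fibre dimension along a chart. -/
theorem betti_formula (hP : DRing.VanishesOutside P a b) (hp : DRing.TermwiseFiniteProjective P) (m : ℤ)
    (α : (DCoh.tildeD R).obj (DRing.toD P) ⟶ (PerfLocal.rd k).obj E) (hα : PullPerf.Apx m α) (p : ℤ) (hmp : m < p)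
    (y : Spec R) :
    PerfD.betti E (k y) p + Module.rankAtStalk (P.X (p + 1)) y =
      FlatCxLib.fibreRank (A := R) (P.X p ⧸ LinearMap.range (P.d (p - 1) p).hom) y +
        FlatCxLib.fibreRank (A := R) (P.X (p + 1) ⧸ LinearMap.range (P.d p (p + 1)).hom) y := by
  obtain ⟨ψ, hψ, hy⟩ := exists_point_ring k y
  rw [betti_chart E k P (isKFlatFor_finiteProjective hP hp) m α hα (k y) ψ hψ p hmp]
  exact finrank_extend_field P hp _ ψ.hom y hy p

end Formula

/-- Upper semicontinuity of fibre dimensions. -/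
theorem isOpen_betti_lt [∀ x : X, DCoh.HasLpull (X.fromSpecResidueField x)] (E : DCoh.D X)
    (hE : ∀ m : ℤ, DCoh.IsPseudoCoherentD m E) (i : ℤ) (n : ℕ) : IsOpen {x : X | PerfD.betti E x i < n} := by
  rw [isOpen_iff_eventually]
  intro x hx
  obtain ⟨R, _, k, _, M, α, hxk, ⟨P, a, b, hP, hp, ⟨eP⟩⟩, hα⟩ := exists_affine_approx (hE (i - 1)) x
  obtain ⟨y, rfl⟩ := hxk
  have hformula := betti_formula E k hP hp (i - 1) ((DCoh.tildeD R).map eP.hom ≫ α)
    ((PullPerf.apx_of_isIso _ _).comp hα) i (by omega)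
  haveI := (hp i).1
  haveI := (hp (i + 1)).1
  haveI := (hp (i + 1)).2
  haveI := Module.finitePresentation_of_projective R (P.X (i + 1))
  have h1 := FlatCxLib.upperSemicontinuous_fibreRank (A := R) (P.X i ⧸ LinearMap.range (P.d (i - 1) i).hom) y _
    (Nat.lt_succ_self _)
  have h2 := FlatCxLib.upperSemicontinuous_fibreRank (A := R) (P.X (i + 1) ⧸ LinearMap.range (P.d i (i + 1)).hom) y _
    (Nat.lt_succ_self _)
  have h3 := (Module.isLocallyConstant_rankAtStalk (R := R) (M := P.X (i + 1))).eventually_eq y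
  refine (k.isOpenEmbedding.map_nhds_eq y) ▸ Filter.eventually_map.2 ?_
  filter_upwards [h1, h2, h3] with z hz1 hz2 hz3
  have hy' := hformula y
  have hz' := hformula z
  show PerfD.betti E (k z) i < n
  have hx' : PerfD.betti E (k y) i < n := hx
  have hz3' : Module.rankAtStalk (P.X (i + 1)) z = Module.rankAtStalk (P.X (i + 1)) y := hz3
  linarith [hy', hz', Nat.lt_succ_iff.1 hz1, Nat.lt_succ_iff.1 hz2, hz3', hx']

/-- Local constancy of the Euler characteristic. -/
theorem isLocallyConstant_eulerChar [∀ x : X, DCoh.HasLpull (X.fromSpecResidueField x)] (E : DCoh.D X)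
    (hE : DCoh.IsPerfect E) : IsLocallyConstant fun x : X => PerfD.eulerChar E x := by
  rw [IsLocallyConstant.iff_eventually_eq]
  intro x
  obtain ⟨R, _, k, _, P, a, b, hxk, hP, hp, ⟨e⟩⟩ := exists_affine_perfect hE x
  obtain ⟨y, rfl⟩ := hxk
  let r : ℤ → Spec R → ℤ := fun p z => (Module.rankAtStalk (P.X p) z : ℤ)
  have hzero : ∀ p, (p < a ∨ b < p) → ∀ (M : Type u) [AddCommGroup M] [Module R M] (π : P.X p →ₗ[R] M),
      Function.Surjective π → Subsingleton M := fun p hp' M _ _ π hπ => by
    haveI := ModuleCat.subsingleton_of_isZero (hP p hp')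
    exact hπ.subsingleton
  have key : ∀ z : Spec R, PerfD.eulerChar E (k z) = ∑ p ∈ Finset.Icc a b, (p.negOnePow : ℤ) * r p z := by
    intro z
    let f : ℤ → ℤ := fun p =>
      (p.negOnePow : ℤ) * (FlatCxLib.fibreRank (A := R) (P.X p ⧸ LinearMap.range (P.d (p - 1) p).hom) z : ℤ)
    let g : ℤ → ℤ := fun p => (p.negOnePow : ℤ) * r p z
    have hf : ∀ p ∉ Finset.Icc a b, f p = 0 := fun p hp' => by
      simp only [Finset.mem_Icc, not_and_or, not_le] at hp'
      haveI := hzero p hp' _ (LinearMap.range (P.d (p - 1) p).hom).mkQ (Submodule.mkQ_surjective _)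
      show (p.negOnePow : ℤ) * (Module.finrank z.asIdeal.ResidueField (z.asIdeal.ResidueField ⊗[R] _) : ℤ) = 0
      rw [Module.finrank_zero_of_subsingleton, Nat.cast_zero, mul_zero]
    have hg : ∀ p ∉ Finset.Icc a b, g p = 0 := fun p hp' => by
      simp only [Finset.mem_Icc, not_and_or, not_le] at hp'
      haveI := hzero p hp' _ LinearMap.id Function.surjective_id
      simp [g, r, Module.rankAtStalk_eq_zero_of_subsingleton]
    have fin : ∀ {h : ℤ → ℤ}, (∀ p ∉ Finset.Icc a b, h p = 0) → Function.support h ⊆ ↑(Finset.Icc a b) :=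
      fun hh p hp' => by_contra fun hn => hp' (hh p hn)
    have ff : (Function.support f).Finite := (Finset.Icc a b).finite_toSet.subset (fin hf)
    have fg : (Function.support g).Finite := (Finset.Icc a b).finite_toSet.subset (fin hg)
    let σ : ℤ ≃ ℤ := Equiv.addRight 1
    have shift : ∀ {h : ℤ → ℤ}, (Function.support h).Finite → (Function.support fun p => h (σ p)).Finite :=
      fun hh => (hh.preimage σ.injective.injOn).subset fun p hp' => hp'
    have hterm : ∀ p : ℤ, (p.negOnePow : ℤ) * (PerfD.betti E (k z) p : ℤ) = (f p - f (σ p)) + g (σ p) := fun p => by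
      have h := betti_formula E k hP hp (p - 1) e.hom (PullPerf.apx_of_isIso _ _) p (by omega) z
      have hσ : σ p = p + 1 := rfl
      rw [hσ]
      simp only [f, g, r, Int.negOnePow_succ, Units.val_neg]
      rw [show p + 1 - 1 = p by omega]
      have h' : (PerfD.betti E (k z) p : ℤ) + (Module.rankAtStalk (P.X (p + 1)) z : ℤ) =
          (FlatCxLib.fibreRank (A := R) (P.X p ⧸ LinearMap.range (P.d (p - 1) p).hom) z : ℤ) +
            (FlatCxLib.fibreRank (A := R) (P.X (p + 1) ⧸ LinearMap.range (P.d p (p + 1)).hom) z : ℤ) := by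
        exact_mod_cast h
      linear_combination (p.negOnePow : ℤ) * h'
    show finsum (fun p : ℤ => (p.negOnePow : ℤ) * (PerfD.betti E (k z) p : ℤ)) = _
    rw [finsum_congr hterm, finsum_add_distrib ((ff.union (shift ff)).subset (Function.support_sub f _)) (shift fg),
      finsum_sub_distrib ff (shift ff), finsum_comp_equiv σ (f := f), finsum_comp_equiv σ (f := g), sub_self, zero_add]
    exact finsum_eq_sum_of_support_subset _ (fin hg)
  have hr : ∀ p ∈ Finset.Icc a b, ∀ᶠ z in nhds y, r p z = r p y := fun p _ => by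
    haveI := (hp p).1
    haveI := (hp p).2
    haveI := Module.finitePresentation_of_projective R (P.X p)
    filter_upwards [(Module.isLocallyConstant_rankAtStalk (R := R) (M := P.X p)).eventually_eq y] with z hz
    show (Module.rankAtStalk (P.X p) z : ℤ) = _
    rw [hz]
  refine (k.isOpenEmbedding.map_nhds_eq y) ▸ Filter.eventually_map.2 ?_
  filter_upwards [(Finset.Icc a b).eventually_all.2 hr] with z hz
  show PerfD.eulerChar E (k z) = PerfD.eulerChar E (k y)
  rw [key, key]
  exact Finset.sum_congr rfl fun p hp' => by rw [hz p hp']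

end Groth.Agent.DQCoh
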