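import Groth.Agent.DQCoh.TorAmpAffine
import Groth.Agent.DQCoh.BettiPerf

/-!
# Perfect = pseudo-coherent of finite tor dimension
-/

set_option autoImplicit false
set_option backward.isDefEq.respectTransparency false
set_option backward.defeqAttrib.useBackward true
set_option linter.style.haveILetI false
set_option synthInstance.maxHeartbeats 100000
set_option linter.unusedVariables false
set_option backward.isDefEq.respectTransparency.types false

universe u

open CategoryTheory CategoryTheory.Limits CategoryTheory.Pretriangulated DerivedCategory Opposite TopologicalSpace AlgebraicGeometry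
open Groth.Agent.SiteDer16 Groth.Agent.DCat Groth.Agent.Coherent

namespace Groth.Agent.DQCoh

attribute [local instance] HasDerivedCategory.standard
attribute [-instance] Int.instConditionallyCompleteLinearOrder

variable {X : Scheme.{u}}

/-- Perfectness is local. -/
theorem isPerfect_of_local (K : DCoh.D X) (h : ∀ x : X, ∃ (W : Scheme.{u}) (k : W ⟶ X) (_ : IsOpenImmersion k),
    x ∈ k.opensRange ∧ DCoh.IsPerfect ((PerfLocal.rd k).obj K)) : DCoh.IsPerfect K := by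
  refine (PerfLocal.isPerfect_iff K).2 fun x => ?_
  obtain ⟨W, k, _, ⟨y, rfl⟩, hW⟩ := h x
  obtain ⟨W', g, hg, ⟨z, rfl⟩, hz⟩ := (PerfLocal.isPerfect_iff _).1 hW y
  exact ⟨W', g ≫ k, inferInstance, ⟨z, rfl⟩, PCTriangle.perfAt_trans hz⟩

theorem flatAmp_rd {W : Scheme.{u}} (k : W ⟶ X) [IsOpenImmersion k] {a b : ℤ} {E : DCoh.D X}
    (h : DCoh.HasFlatAmplitudeIn a b E) : DCoh.HasFlatAmplitudeIn a b ((PerfLocal.rd k).obj E) := by
  haveI := hasLpull k
  obtain ⟨e⟩ := nonempty_Lpull_restrict k E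
  obtain ⟨F, hF, hf, ⟨eF⟩⟩ := DCat.flatAmp_lpull k h
  exact ⟨F, hF, hf, ⟨eF ≪≫ e⟩⟩

/-- Finite tor amplitude and pseudo-coherence just below it give perfectness. -/
theorem isPerfect_of_flatAmp (E : DCoh.D X) (a b : ℤ) (hab : a ≤ b) (h1 : DCoh.HasFlatAmplitudeIn a b E)
    (h2 : DCoh.IsPseudoCoherentD (a - 1) E) : DCoh.IsPerfect E := by
  refine isPerfect_of_local E fun x => ?_
  obtain ⟨R, hR, k, _, M₀, α, hx, -, hα⟩ := exists_affine_approx h2 x
  refine ⟨_, k, inferInstance, hx, ?_⟩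
  haveI := preservesFiniteColimits_tilde R
  have hF := flatAmp_rd k h1
  have hq : DCoh.IsQCohD ((PerfLocal.rd k).obj E) := fun i => by
    rcases lt_or_ge (a - 1) i with hi | hi
    · haveI := hα.1 i hi
      exact isQCoh_of_iso (asIso ((homologyFunctor _ i).map α)) (h := isQCohD_tildeD R M₀ i)
    · exact isQCoh_of_isZero (isZero_HD_of_flatAmp hF i (Or.inl (by omega)))
  obtain ⟨M, ⟨e⟩⟩ := ((tildeD_main R).2.2 _).1 hq
  have hM : DCoh.HasFlatAmplitudeIn a b ((DCoh.tildeD R).obj M) := by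
    obtain ⟨F, hF', hf, ⟨eF⟩⟩ := hF
    exact ⟨F, hF', hf, ⟨eF ≪≫ e.symm⟩⟩
  obtain ⟨P, hP, hp, hiso⟩ := DRingLib.exists_finiteProjective hab
    (pc_of_psc_tildeD (PCTriangle.psc_iso e.symm (psc_rd k h2))) ((flatAmp_tildeD_iff M a b).1 hM)
  exact PCTriangle.perfect_iso e (isPerfect_tildeD ⟨P, a, b, hP, hp, hiso⟩)

/-- Perfect objects are pseudo-coherent. -/
theorem psc_of_perfect {E : DCoh.D X} (hE : DCoh.IsPerfect E) (m : ℤ) : DCoh.IsPseudoCoherentD m E := by
  refine (PerfLocal.isPseudoCoherentD_iff m E).2 fun x => ?_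
  obtain ⟨W, k, hk, hx, C, hC, ⟨e⟩⟩ := (PerfLocal.isPerfect_iff E).1 hE x
  exact ⟨W, k, hk, hx, C, e.inv, hC, PullPerf.apx_of_isIso m _⟩

theorem isPerfect_iff_psc_torDim (E : DCoh.D X) :
    DCoh.IsPerfect E ↔ (∀ m : ℤ, DCoh.IsPseudoCoherentD m E) ∧ DCoh.LocHasFiniteTorDim E := by
  constructor
  · refine fun h => ⟨psc_of_perfect h, fun x => ?_⟩
    obtain ⟨V, hx, hV⟩ := h x
    obtain ⟨C₀, ⟨⟨a, b, hab⟩, hf₀⟩, ⟨e₀⟩⟩ := hV _ ⟨DerivedCategory.Q.objObjPreimageIso E⟩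
    refine ⟨V, a, b, hx, fun F' hF' => ⟨C₀, hab, fun i => PullPerf.isFlat_of_finLocFree (hf₀ i), ?_⟩⟩
    obtain ⟨eF⟩ := hF'
    exact ⟨e₀.symm ≪≫ ((Scheme.Modules.restrictFunctor V.ι).mapDerivedCategoryFactors.app _).symm ≪≫
      (PerfLocal.rd V.ι).mapIso (DerivedCategory.Q.objObjPreimageIso E ≪≫ eF.symm) ≪≫
      (Scheme.Modules.restrictFunctor V.ι).mapDerivedCategoryFactors.app F'⟩
  · rintro ⟨hp, ht⟩
    refine isPerfect_of_local E fun x => ?_
    obtain ⟨V, a, b, hx, hV⟩ := ht x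
    refine ⟨V, V.ι, inferInstance, by simpa using hx, ?_⟩
    obtain ⟨F, hF, hf, ⟨eF⟩⟩ := hV _ ⟨DerivedCategory.Q.objObjPreimageIso E⟩
    refine isPerfect_of_flatAmp _ a (max a b) (le_max_left a b) ⟨F, fun i hi => hF i ?_, hf,
      ⟨eF ≪≫ ((Scheme.Modules.restrictFunctor V.ι).mapDerivedCategoryFactors.app _).symm ≪≫
        (PerfLocal.rd V.ι).mapIso (DerivedCategory.Q.objObjPreimageIso E)⟩⟩ (psc_rd V.ι (hp _))
    rcases hi with hi | hi
    · exact Or.inl hi
    · exact Or.inr (lt_of_le_of_lt (le_max_right a b) hi)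

end Groth.Agent.DQCoh
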