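import Groth.Agent.DQCoh.FlatDescPsc17
import Groth.Agent.DQCoh.PerfectTor
import Groth.Agent.DCat.TorSheaf
import Groth.Agent.DCat.TorTriangle

/-!
# Tor amplitude and perfectness descend along flat surjective morphisms
-/

set_option autoImplicit false
set_option backward.isDefEq.respectTransparency false
set_option backward.defeqAttrib.useBackward true
set_option linter.style.haveILetI false
set_option synthInstance.maxHeartbeats 100000
set_option backward.isDefEq.respectTransparency.types false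

universe u

open CategoryTheory CategoryTheory.Limits CategoryTheory.Pretriangulated DerivedCategory Opposite TopologicalSpace AlgebraicGeometry
open scoped TensorProduct
open Groth.Agent.DCat Groth.Agent.OmegaLib

namespace Groth.Agent.DQCoh.FlatDesc17

attribute [local instance] HasDerivedCategory.standard
attribute [-instance] Int.instConditionallyCompleteLinearOrder

variable {Y : Scheme.{u}}

/-- Flatness of stalks descends. -/
theorem isFlatAt_of_pullback {X : Scheme.{u}} (f : X ⟶ Y) [Flat f] (M : Y.Modules) (x : X)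
    (h : FlatMod.IsFlatAt ((Scheme.Modules.pullback f).obj M) x) : FlatMod.IsFlatAt M (f x) := by
  letI := (f.stalkMap x).hom.toAlgebra
  haveI := faithfullyFlat_stalkMap f x
  obtain ⟨E, -⟩ := exists_pullback_stalk_equiv f M x
  haveI : Module.Flat (X.presheaf.stalk x) ((DerSch.stalkFunctor X x).obj ((Scheme.Modules.pullback f).obj M)) := h
  haveI := Module.Flat.of_linearEquiv E
  exact Module.Flat.of_flat_tensorProduct (Y.presheaf.stalk (f x)) ((DerSch.stalkFunctor Y (f x)).obj M)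
    (X.presheaf.stalk x)

/-- Tor amplitude descends along jointly surjective families of flat morphisms. -/
theorem flatAmp_desc {ι : Type*} {X : ι → Scheme.{u}} (g : ∀ i, X i ⟶ Y) [∀ i, Flat (g i)]
    (hcov : ∀ y : Y, ∃ (i : ι) (x : X i), g i x = y) (K : DCoh.D Y) (a b : ℤ)
    (h : ∀ i, DCoh.HasFlatAmplitudeIn a b ((fd (g i)).obj K)) : DCoh.HasFlatAmplitudeIn a b K := by
  have hz : ∀ j : ℤ, (j < a ∨ b < j) → IsZero (DCoh.HD K j) := fun j hj => ModStalk.isZero_of_stalks fun y => by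
    obtain ⟨i, x, rfl⟩ := hcov y
    haveI := subsingleton_stalk_of_fd (g i) K j x (isZero_HD_of_flatAmp (h i) j hj)
    exact SuppOpen.isZero_stalkFunctor _ _
  by_cases hab : a ≤ b
  swap
  · have hK : IsZero K := SuppOpen.isZero_of_hd K fun j => hz j (by omega)
    obtain ⟨Z, hZ⟩ := HasZeroObject.zero (C := CochainComplex Y.Modules ℤ)
    exact ⟨Z, fun j _ => (HomologicalComplex.eval _ _ j).map_isZero ⟨hZ.1, hZ.2⟩,
      fun j => isFlat_of_isZero ((HomologicalComplex.eval _ _ j).map_isZero ⟨hZ.1, hZ.2⟩),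
      ⟨(DerivedCategory.Q.map_isZero ⟨hZ.1, hZ.2⟩).iso hK⟩⟩
  haveI : K.IsLE b := (DerivedCategory.isLE_iff _ _).2 fun j hj => hz j (Or.inr hj)
  obtain ⟨L, hL, ⟨eL⟩⟩ := DerivedCategory.exists_iso_Q_obj_of_isLE K b
  obtain ⟨P, c, hP, hPf, hc, hPb⟩ := exists_kflat_sheaf_le L b (fun n hn => L.isZero_of_isStrictlyLE b n hn)
  haveI := hc
  have e' : DCoh.toD Y P ≅ K := asIso (DerivedCategory.Q.map c) ≪≫ eL.symm
  have hcok : FlatMod.IsFlat (cokernel (P.d (a - 1) a)) := fun y => by
    obtain ⟨i, x, rfl⟩ := hcov y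
    let G := Scheme.Modules.pullback (g i)
    let P' := (G.mapHomologicalComplex (ComplexShape.up ℤ)).obj P
    have hP'f : ∀ n, FlatMod.IsFlat (P'.X n) := fun n => isFlat_pullback (g i) (hPf n)
    have hP' := isKFlatFor_sheaf_of_flat P' b (fun n hn => G.map_isZero (hPb n hn)) hP'f
    have e'' : DCoh.toD (X i) P' ≅ (fd (g i)).obj K :=
      (G.mapDerivedCategoryFactors.app P).symm ≪≫ (fd (g i)).mapIso e'
    have hc' : FlatMod.IsFlat (cokernel (P'.d (a - 1) a)) := isFlat_cokernel_of_exactAt P' hP'f a fun F => by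
      haveI := hasLTensorMod F
      exact (isZero_HD_ltensorMod_iff F hP' e'' (a - 1)).1 (torAmp_of_flatAmp (h i) F (a - 1) (Or.inl (by omega)))
    exact isFlatAt_of_pullback (g i) _ x (isFlat_of_iso (PreservesCokernel.iso G (P.d (a - 1) a)).symm hc' x)
  haveI : P.IsGE a := by
    rw [CochainComplex.isGE_iff]
    intro j hj
    rw [← isZero_HD_toD_iff]
    exact (hz j (Or.inl hj)).of_iso ((DerivedCategory.homologyFunctor Y.Modules j).mapIso e')
  haveI : P.IsStrictlyLE b := by
    rw [CochainComplex.isStrictlyLE_iff]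
    exact hPb
  refine ⟨P.truncGE a, fun i hi => ?_, fun i => ?_, ⟨(asIso (DerivedCategory.Q.map (P.πTruncGE a))).symm ≪≫ e'⟩⟩
  · obtain hi | hi := hi
    · exact CochainComplex.isZero_of_isStrictlyGE _ a i hi
    · exact (hPb i hi).of_iso (P.truncGEXIso a i (by omega))
  · rcases lt_trichotomy i a with hi | rfl | hi
    · exact isFlat_of_isZero (CochainComplex.isZero_of_isStrictlyGE _ a i hi)
    · refine isFlat_of_iso ?_ hcok
      exact IsColimit.coconePointUniqueUpToIso (colimit.isColimit _)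
        (P.opcyclesIsCokernel (i - 1) i (by simp)) ≪≫ (P.truncGEXIsoOpcycles i).symm
    · exact isFlat_of_iso (P.truncGEXIso a i (by omega)).symm (hPf i)

/-- Composites of exact functors on derived categories. -/
theorem nonempty_mdc_comp {A B C : Type (u + 1)} [Category.{u} A] [Abelian A] [Category.{u} B] [Abelian B]
    [Category.{u} C] [Abelian C] (F : A ⥤ B) (G : B ⥤ C) [F.Additive] [G.Additive] [PreservesFiniteLimits F]
    [PreservesFiniteColimits F] [PreservesFiniteLimits G] [PreservesFiniteColimits G] (K : DerivedCategory A) :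
    Nonempty (G.mapDerivedCategory.obj (F.mapDerivedCategory.obj K) ≅ (F ⋙ G).mapDerivedCategory.obj K) := by
  let P := DerivedCategory.Q.objPreimage K
  let i := DerivedCategory.Q.objObjPreimageIso K
  exact ⟨G.mapDerivedCategory.mapIso (F.mapDerivedCategory.mapIso i.symm ≪≫ F.mapDerivedCategoryFactors.app P) ≪≫
    G.mapDerivedCategoryFactors.app _ ≪≫
    DerivedCategory.Q.mapIso (HomologicalComplex.Hom.isoOfComponents (fun n => Iso.refl _) (by simp) :
      (G.mapHomologicalComplex (ComplexShape.up ℤ)).obj ((F.mapHomologicalComplex (ComplexShape.up ℤ)).obj P) ≅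
        ((F ⋙ G).mapHomologicalComplex (ComplexShape.up ℤ)).obj P) ≪≫
    ((F ⋙ G).mapDerivedCategoryFactors.app P).symm ≪≫ (F ⋙ G).mapDerivedCategory.mapIso i⟩

/-- Perfectness descends along flat surjective submersions with compact neighbourhood lifts. -/
theorem perfect_desc {X : Scheme.{u}} (f : X ⟶ Y) [Flat f] [Surjective f] (hq : Topology.IsQuotientMap f.base)
    (hU : ∀ y : Y, ∃ U : X.Opens, IsCompact (U : Set X) ∧ f '' (U : Set X) ∈ nhds y)
    (K : DCoh.D Y) (h : DCoh.IsPerfect ((fd f).obj K)) : DCoh.IsPerfect K := by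
  have hp : ∀ m : ℤ, DCoh.IsPseudoCoherentD m K := fun m => psc_desc f hq hU K (psc_of_perfect h m)
  refine isPerfect_of_local K fun y => ?_
  obtain ⟨U, hUc, hy⟩ := hU y
  obtain ⟨V₀, hVU, hV, hyV⟩ := mem_nhds_iff.1 hy
  let V : Y.Opens := ⟨V₀, hV⟩
  choose W k hk hxW E hE e using (PerfLocal.isPerfect_iff _).1 h
  haveI := hk
  obtain ⟨t, ht⟩ := hUc.elim_finite_subcover (fun x => ((k x).opensRange : Set X))
    (fun x => (k x).opensRange.2) (fun x _ => Set.mem_iUnion.2 ⟨x, hxW x⟩)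
  choose a b hab using fun x => (hE x).1
  obtain ⟨B, hB⟩ := (t.image b).finite_toSet.bddAbove
  obtain ⟨A, hA⟩ := (t.image a).finite_toSet.bddBelow
  let T : t → Scheme.{u} := fun x => ((k x.1) ⁻¹ᵁ (f ⁻¹ᵁ V)).toScheme
  let g : ∀ x : t, T x ⟶ V := fun x => ((k x.1) ∣_ (f ⁻¹ᵁ V)) ≫ (f ∣_ V)
  have hflat : ∀ x, Flat (g x) := fun x => by dsimp only [g]; infer_instance
  haveI := hflat
  have hamp : ∀ x : t, DCoh.HasFlatAmplitudeIn A B ((fd (g x)).obj ((PerfLocal.rd V.ι).obj K)) := fun x => by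
    let k' := (k x.1) ⁻¹ᵁ (f ⁻¹ᵁ V)
    let F := E x.1
    obtain ⟨eF⟩ := e x.1
    have hF : DCoh.HasFlatAmplitudeIn A B ((PerfLocal.rd (k x.1)).obj ((fd f).obj K)) := by
      refine ⟨F, fun i hi => hab x.1 i ?_, fun i => PullPerf.isFlat_of_finLocFree ((hE x.1).2 i), ⟨eF.symm⟩⟩
      rcases hi with hi | hi
      · exact Or.inl (lt_of_lt_of_le hi (hA (Finset.mem_image_of_mem _ x.2)))
      · exact Or.inr (lt_of_le_of_lt (hB (Finset.mem_image_of_mem _ x.2)) hi)
    haveI : ((Scheme.Modules.restrictFunctor V.ι) ⋙ Scheme.Modules.pullback (g x)).Additive := inferInstance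
    obtain ⟨F', h1, h2, ⟨h3⟩⟩ := flatAmp_rd k'.ι hF
    refine ⟨F', h1, h2, ⟨h3 ≪≫ (PerfLocal.rd k'.ι).mapIso
      (nonempty_mdc_comp (Scheme.Modules.pullback f) (Scheme.Modules.restrictFunctor (k x.1)) K).some ≪≫ ?_⟩⟩
    refine (FlatCx12.EmbPush.nonempty_mdc_sq (Scheme.Modules.pullback f ⋙ Scheme.Modules.restrictFunctor (k x.1))
      (Scheme.Modules.restrictFunctor k'.ι) (Scheme.Modules.restrictFunctor V.ι) (Scheme.Modules.pullback (g x))
      ?_ K).some
    exact Functor.isoWhiskerLeft (Scheme.Modules.pullback f ⋙ Scheme.Modules.restrictFunctor (k x.1))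
        (Scheme.Modules.restrictFunctorIsoPullback k'.ι) ≪≫
      Functor.isoWhiskerRight (Functor.isoWhiskerLeft (Scheme.Modules.pullback f)
        (Scheme.Modules.restrictFunctorIsoPullback (k x.1))) _ ≪≫
      Functor.associator _ _ _ ≪≫
      Functor.isoWhiskerLeft _ (Scheme.Modules.pullbackComp k'.ι (k x.1)) ≪≫
      Scheme.Modules.pullbackComp (k'.ι ≫ k x.1) f ≪≫
      Scheme.Modules.pullbackCongr (by dsimp only [g, k']; simp [morphismRestrict_ι]) ≪≫
      (Scheme.Modules.pullbackComp (g x) V.ι).symm ≪≫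
      Functor.isoWhiskerRight (Scheme.Modules.restrictFunctorIsoPullback V.ι).symm _
  have hcov : ∀ v : V, ∃ (x : t) (z : T x), g x z = v := fun v => by
    obtain ⟨w, hw, hwv⟩ := hVU v.2
    obtain ⟨x, hxt, ⟨z, hz⟩⟩ := Set.mem_iUnion₂.1 (ht hw)
    refine ⟨⟨x, hxt⟩, ⟨z, show f (k x z) ∈ V by rw [hz, hwv]; exact v.2⟩, ?_⟩
    apply Subtype.ext
    have e1 : g ⟨x, hxt⟩ ≫ V.ι = ((k x) ⁻¹ᵁ (f ⁻¹ᵁ V)).ι ≫ k x ≫ f := by
      dsimp only [g]; simp [morphismRestrict_ι]
    show V.ι (g ⟨x, hxt⟩ _) = v.1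
    rw [← Scheme.Hom.comp_apply, e1, Scheme.Hom.comp_apply, Scheme.Hom.comp_apply]
    show f (k x z) = v.1
    rw [hz, hwv]
  refine ⟨V, V.ι, inferInstance, by simpa [V] using hyV, ?_⟩
  obtain ⟨F, hF, hf, hi⟩ := flatAmp_desc g hcov _ A B hamp
  exact isPerfect_of_flatAmp _ A (max A B) (le_max_left _ _)
    ⟨F, fun i hi => hF i (hi.imp id (lt_of_le_of_lt (le_max_right A B))), hf, hi⟩ (psc_rd V.ι (hp _))

end Groth.Agent.DQCoh.FlatDesc17
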