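import Groth.Agent.DQCoh.ModLift17
import Groth.Agent.DQCoh.FlatDescAmp17
import Groth.Agent.DCat.PCTriangle
import Groth.Agent.Coherent.SubFTApps
import Groth.Agent.H8Lim.ModEq
import Groth.Agent.H8Lim.ModFPDescent

/-!
# Strictly perfect resolutions on schemes with the resolution property
-/

set_option autoImplicit false
set_option backward.isDefEq.respectTransparency false
set_option backward.defeqAttrib.useBackward true
set_option linter.style.haveILetI false
set_option synthInstance.maxHeartbeats 100000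
set_option backward.isDefEq.respectTransparency.types false

universe u

open CategoryTheory CategoryTheory.Limits CategoryTheory.Pretriangulated DerivedCategory AlgebraicGeometry TopologicalSpace HomologicalComplex
open Groth.Agent.DCat Groth.Agent.Coherent

namespace Groth.Agent.DQCoh.ResProp17

attribute [local instance] HasDerivedCategory.standard
attribute [-instance] Int.instConditionallyCompleteLinearOrder

variable {X : Scheme.{u}}

/-- A finite type quotient of a quasi-coherent module is the image of a finite type quasi-coherent module. -/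
theorem exists_ft_lift [CompactSpace X] [QuasiSeparatedSpace X] {M H : X.Modules} [Coh.IsQCoh M] [Coh.IsQCoh H]
    (p : M ⟶ H) [Epi p] (hH : CohB1.IsFT H) :
    ∃ (G : X.Modules) (v : G ⟶ M), Coh.IsQCoh G ∧ CohB1.IsFT G ∧ Epi (v ≫ p) := by
  classical
  obtain ⟨t, ht, hcov⟩ := isCompact_iff_finite_and_eq_biUnion_affineOpens.1
    (show IsCompact ((⊤ : X.Opens) : Set X) from isCompact_univ)
  have := ht.to_subtype
  choose n g hg using fun j : t =>
    haveI := H8Lim.finite_sections_of_isFT hH j.1.2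
    Module.Finite.exists_fin (R := Γ(X, j.1.1)) (M := Γ(H, j.1.1))
  choose s hs using fun (j : t) (i : Fin (n j)) => H8Lim.app_surjective_of_epi p j.1.2 (g j i)
  choose Q hQ hsQ using fun j : t =>
    exists_good_containing_qcqs (F := M) (U := j.1.1) j.1.2.isCompact (I := ULift.{u} (Fin (n j)))
      (fun i => s j i.down)
  have hS := SubM.good_sum Q hQ
  refine ⟨(SubM.sum Q).toMod, (SubM.sum Q).toι, SubM.isQCoh hS, SubM.isFT hS,
    Coherent.epi_of_locally_surjective _ fun W a y hy => ?_⟩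
  have hy' : y ∈ ((⊤ : X.Opens) : Set X) := trivial
  rw [hcov] at hy'
  simp only [Opens.mem_iSup, SetLike.mem_coe] at hy'
  obtain ⟨V, hV, hyV⟩ := hy'
  let j : t := ⟨V, hV⟩
  have hgen : GenOn H V.1 (fun i : ULift.{u} (Fin (n j)) => g j i.down) := genOn_of_span_top H V.2 _ (by
    have h0 := hg j
    rw [← h0]
    exact congrArg _ (Equiv.ulift.surjective.range_comp (g j)))
  obtain ⟨W', hW', hyW', c, hc⟩ := hgen (W ⊓ V.1) inf_le_right (resM H inf_le_left a) y ⟨hy, hyV⟩
  have hle : W' ≤ V.1 := hW'.trans inf_le_right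
  refine ⟨W', hW'.trans inf_le_left, hyW', ?_⟩
  have hmem : (∑ i, c i • resM M hle (s j i.down)) ∈ (SubM.sum Q).carrier W' :=
    Submodule.sum_mem _ fun i _ => Submodule.smul_mem _ _ (SubM.le_sum Q j W' ((Q j).res hle (hsQ j i)))
  refine ⟨⟨_, hmem⟩, ?_⟩
  show p.app W' (∑ i, c i • resM M hle (s j i.down)) = _
  rw [← resM_resM H (inf_le_left : W ⊓ V.1 ≤ W) hW' a, hc, map_sum]
  refine Finset.sum_congr rfl fun i _ => ?_
  rw [Scheme.Modules.Hom.app_smul]
  congr 1
  exact (app_resM p hle (s j i.down)).trans (congrArg _ (hs j i.down))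

theorem isQCoh_cycles (K : CochainComplex X.Modules ℤ) (hK : ∀ i, Coh.IsQCoh (K.X i)) (j : ℤ) :
    Coh.IsQCoh (K.cycles j) := by
  haveI := hK j
  haveI := hK (j + 1)
  exact isQCoh_of_iso ((kernelIsKernel (K.d j (j + 1))).conePointUniqueUpToIso
    (K.cyclesIsKernel j (j + 1) (by simp))) (h := isQCoh_kernel (K.d j (j + 1)))

theorem isQCoh_homology (K : CochainComplex X.Modules ℤ) (hK : ∀ i, Coh.IsQCoh (K.X i)) (j : ℤ) :
    Coh.IsQCoh (K.homology j) := by
  haveI := hK (j - 1)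
  haveI := isQCoh_cycles K hK j
  exact isQCoh_of_iso ((cokernelIsCokernel (K.toCycles (j - 1) j)).coconePointUniqueUpToIso
    (K.homologyIsCokernel (j - 1) j (by simp))) (h := isQCoh_cokernel _)

theorem psc_of_strictlyPerfect {E : CochainComplex X.Modules ℤ} (hE : DCoh.IsStrictlyPerfect E) (m : ℤ) :
    DCoh.IsPseudoCoherentD m (DerivedCategory.Q.obj E) :=
  PCTriangle.psc_of_gpsc ⟨E, 𝟙 _, hE, PullPerf.apx_of_isIso m _⟩

/-- One step of the descending construction. -/
theorem exists_step [CompactSpace X] [QuasiSeparatedSpace X] (hX : PerfAux.HasResolutionProperty X)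
    (F : CochainComplex X.Modules ℤ) (hFq : ∀ n, Coh.IsQCoh (F.X n)) (j : ℤ)
    (hF : DCoh.IsPseudoCoherentD j (DerivedCategory.Q.obj F))
    (G : CochainComplex X.Modules ℤ) (u : G ⟶ F) (hG : DCoh.IsStrictlyPerfect G)
    (hz : ∀ i, i < j + 1 → IsZero (G.X i)) (hu : PCohLib.NQis u (j + 1)) :
    ∃ (G' : CochainComplex X.Modules ℤ) (u' : G' ⟶ F), DCoh.IsStrictlyPerfect G' ∧
      (∀ i, i < j → IsZero (G'.X i)) ∧ PCohLib.NQis u' j := by
  let C := CochainComplex.mappingCone u
  have hCq : ∀ i, Coh.IsQCoh (C.X i) := fun i => by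
    haveI : Coh.IsQCoh (G.X (i + 1)) := PullPerf.isQCoh_of_finLocFree (hG.2 (i + 1))
    haveI := hFq i
    exact isQCoh_of_iso (homotopyCofiber.XIsoBiprod u i (i + 1) (by simp)).symm (h := isQCoh_biprod _ _)
  haveI := isQCoh_cycles C hCq j
  haveI := isQCoh_homology C hCq j
  have hC : DCoh.IsPseudoCoherentD j (DerivedCategory.Q.obj C) :=
    PCTriangle.psc_cone (PCohLib.cone_distinguished u) (psc_of_strictlyPerfect hG (j + 1)) hF
  have hFT : CohB1.IsFT (C.homology j) := Coherent.isFT_of_epi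
    ((DerivedCategory.homologyFunctorFactors X.Modules j).app C).hom
    ((top_of_psc j _ hC).1 fun i hi =>
      (PCohLib.isZero_H_iff C i).2 ((PCohLib.nQis_iff_cone u (j + 1)).1 hu i (by omega)))
  obtain ⟨G₀, v₀, hG₀q, hG₀, hepi⟩ := exists_ft_lift (C.homologyπ j) hFT
  obtain ⟨E, π, hE, hπ⟩ := hX G₀ hG₀q hG₀
  haveI : Epi ((π ≫ v₀) ≫ C.homologyπ j) := by rw [Category.assoc]; exact epi_comp _ _
  obtain ⟨φ, u', -, hu'⟩ := exists_modification_of_lift u j hu (π ≫ v₀)
  have hs : DCoh.IsStrictlyPerfect ((CochainComplex.singleFunctor X.Modules (j + 1)).obj E) := by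
    refine ⟨⟨j + 1, j + 1, fun i hi => isZero_single_obj_X _ _ _ _ (by omega)⟩, fun i => ?_⟩
    by_cases hi : i = j + 1
    · subst hi
      exact PerfTensor.isFinLocFree_of_iso (singleObjXSelf (ComplexShape.up ℤ) (j + 1) E).symm hE
    · exact PerfTensor.isFinLocFree_of_isZero (isZero_single_obj_X _ _ _ _ hi)
  refine ⟨_, u', PCTriangle.strictlyPerfect_mappingCone φ hs hG, fun i hi => ?_, hu'⟩
  refine IsZero.of_iso ?_ (homotopyCofiber.XIsoBiprod φ i (i + 1) (by simp))
  rw [biprod_isZero_iff]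
  exact ⟨isZero_single_obj_X _ _ _ _ (by omega), hz i (by omega)⟩

/-- Approximation by strictly perfect complexes. -/
theorem exists_approx [CompactSpace X] [QuasiSeparatedSpace X] (hX : PerfAux.HasResolutionProperty X)
    (F : CochainComplex X.Modules ℤ) (hFq : ∀ n, Coh.IsQCoh (F.X n))
    (hF : ∀ m, DCoh.IsPseudoCoherentD m (DerivedCategory.Q.obj F)) (n : ℤ) :
    ∃ (G : CochainComplex X.Modules ℤ) (u : G ⟶ F), DCoh.IsStrictlyPerfect G ∧
      (∀ i, i < n → IsZero (G.X i)) ∧ PCohLib.NQis u n := by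
  obtain ⟨b, hb⟩ := exists_isLE_psc (hF 0)
  obtain ⟨G₀, hG₀z⟩ := HasZeroObject.zero (C := CochainComplex X.Modules ℤ)
  have key : ∀ t : ℕ, ∃ (G : CochainComplex X.Modules ℤ) (u : G ⟶ F), DCoh.IsStrictlyPerfect G ∧
      (∀ i, i < b + 1 - t → IsZero (G.X i)) ∧ PCohLib.NQis u (b + 1 - t) := by
    intro t
    induction t with
    | zero =>
      have hz : ∀ i, IsZero (G₀.X i) := fun i => (HomologicalComplex.eval _ _ i).map_isZero hG₀z
      exact ⟨G₀, 0, ⟨⟨0, 0, fun i _ => hz i⟩, fun i => PerfTensor.isFinLocFree_of_isZero (hz i)⟩, fun i _ => hz i,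
        PCohLib.nQis_zero hG₀z _ fun i hi =>
          (PCohLib.isZero_H_iff F i).1 ((DerivedCategory.isLE_iff _ _).1 hb i (by push_cast at hi; omega))⟩
    | succ t ih =>
      obtain ⟨G, u, hG, hz, hu⟩ := ih
      have e : b + 1 - (t : ℤ) = b + 1 - ((t + 1 : ℕ) : ℤ) + 1 := by push_cast; omega
      exact exists_step hX F hFq _ (hF _) G u hG (e ▸ hz) (e ▸ hu)
  obtain ⟨G, u, hG, hz, hu⟩ := key (b + 1 - n).toNat
  obtain ⟨G', u', hG', hz', hu'⟩ : ∃ (G : CochainComplex X.Modules ℤ) (u : G ⟶ F), DCoh.IsStrictlyPerfect G ∧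
      (∀ i, i < b + 1 - ((b + 1 - n).toNat : ℤ) → IsZero (G.X i)) ∧
      PCohLib.NQis u (b + 1 - ((b + 1 - n).toNat : ℤ)) := ⟨G, u, hG, hz, hu⟩
  rcases le_or_gt n (b + 1) with h | h
  · have e : b + 1 - ((b + 1 - n).toNat : ℤ) = n := by omega
    exact ⟨G', u', hG', e ▸ hz', e ▸ hu'⟩
  · refine ⟨G₀, 0, ⟨⟨0, 0, ?_⟩, ?_⟩, ?_, PCohLib.nQis_zero hG₀z _ fun i hi =>
      (PCohLib.isZero_H_iff F i).1 ((DerivedCategory.isLE_iff _ _).1 hb i (by omega))⟩
    all_goals intro i
    all_goals first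
      | exact fun _ => (HomologicalComplex.eval _ _ i).map_isZero hG₀z
      | exact PerfTensor.isFinLocFree_of_isZero ((HomologicalComplex.eval _ _ i).map_isZero hG₀z)

/-- A uniform lower bound on the amplitude of a perfect object. -/
theorem exists_amp_charts [CompactSpace X] {K : DCoh.D X} (hK : DCoh.IsPerfect K) :
    ∃ A : ℤ, ∀ x : X, ∃ (W : Scheme.{u}) (k : W ⟶ X) (_ : IsOpenImmersion k) (B : ℤ),
      x ∈ k.opensRange ∧ DCoh.HasFlatAmplitudeIn A B ((PerfLocal.rd k).obj K) := by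
  choose W k hk hxW E hE e using (PerfLocal.isPerfect_iff _).1 hK
  haveI := hk
  obtain ⟨t, ht⟩ := isCompact_univ.elim_finite_subcover (fun x => ((k x).opensRange : Set X))
    (fun x => (k x).opensRange.2) (fun x _ => Set.mem_iUnion.2 ⟨x, hxW x⟩)
  choose a b hab using fun x => (hE x).1
  obtain ⟨A, hA⟩ := (t.image a).finite_toSet.bddBelow
  refine ⟨A, fun x => ?_⟩
  obtain ⟨y, hyt, hxy⟩ := Set.mem_iUnion₂.1 (ht (Set.mem_univ x))
  obtain ⟨ey⟩ := e y
  refine ⟨W y, k y, inferInstance, b y, hxy, E y, fun i hi => hab y i ?_,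
    fun i => PullPerf.isFlat_of_finLocFree ((hE y).2 i), ⟨ey.symm⟩⟩
  rcases hi with hi | hi
  · exact Or.inl (lt_of_lt_of_le hi (hA (Finset.mem_image_of_mem _ hyt)))
  · exact Or.inr hi

/-- Vanishing of `H^i` of the tensor product above the range of the object. -/
theorem isZero_ltensor_of_isLE (M : X.Modules) [DCoh.HasLTensorMod M] (K : DCoh.D X) (b : ℤ) [K.IsLE b] (i : ℤ)
    (hi : b < i) : IsZero (DCoh.HD ((DCoh.LTensorMod M).obj K) i) := by
  obtain ⟨L, hL, ⟨eL⟩⟩ := DerivedCategory.exists_iso_Q_obj_of_isLE K b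
  obtain ⟨P, c, hP, -, hc, hPb⟩ := exists_kflat_sheaf_le L b (fun n hn => L.isZero_of_isStrictlyLE b n hn)
  haveI := hc
  refine (isZero_HD_ltensorMod_iff M hP (asIso (DerivedCategory.Q.map c) ≪≫ eL.symm) i).2 ?_
  rw [HomologicalComplex.exactAt_iff]
  exact ShortComplex.exact_of_isZero_X₂ _ ((DCoh.tensorRightMod M).map_isZero (hPb i hi))

/-- **Strictly perfect resolution.** -/
theorem exists_resolution [CompactSpace X] [QuasiSeparatedSpace X] (hX : PerfAux.HasResolutionProperty X)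
    (F : CochainComplex X.Modules ℤ) (hFb : ∃ a : ℤ, ∀ n : ℤ, n < a → IsZero (F.X n))
    (hFq : ∀ n : ℤ, Coh.IsQCoh (F.X n)) (hF : DCoh.IsPerfect (DCoh.toD X F)) :
    ∃ (E : CochainComplex X.Modules ℤ) (φ : E ⟶ F), DCoh.IsStrictlyPerfect E ∧ QuasiIso φ := by
  obtain ⟨a₀, ha₀⟩ := hFb
  obtain ⟨A, hA⟩ := exists_amp_charts hF
  obtain ⟨a, haA, ha⟩ : ∃ a : ℤ, a ≤ A ∧ a ≤ a₀ := ⟨min A a₀, min_le_left _ _, min_le_right _ _⟩
  haveI : F.IsStrictlyGE a := (CochainComplex.isStrictlyGE_iff _ _).2 fun i hi => ha₀ i (by omega)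
  obtain ⟨G, u, hG, -, hu⟩ := exists_approx hX F hFq (psc_of_perfect hF) (a - 2)
  obtain ⟨b₀, b, hb⟩ := hG.1
  let φ : G.truncGE a ⟶ F := CochainComplex.truncGEMap u a ≫ inv (F.πTruncGE a)
  have hφ : G.πTruncGE a ≫ φ = u := by simp [φ]
  have hq : QuasiIso φ := by
    rw [quasiIso_iff]
    intro i
    rw [quasiIsoAt_iff_isIso_homologyMap]
    rcases lt_or_ge i a with hi | hi
    · exact ⟨0, (ShortComplex.isZero_homology_of_isZero_X₂ _
          (CochainComplex.isZero_of_isStrictlyGE (G.truncGE a) a i hi)).eq_of_src _ _,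
        (ShortComplex.isZero_homology_of_isZero_X₂ _ (CochainComplex.isZero_of_isStrictlyGE F a i hi)).eq_of_src _ _⟩
    · haveI := G.quasiIsoAt_πTruncGE a i hi
      haveI : IsIso (homologyMap (G.πTruncGE a) i) := (quasiIsoAt_iff_isIso_homologyMap _ _).1 inferInstance
      haveI : IsIso (homologyMap (G.πTruncGE a) i ≫ homologyMap φ i) := by
        rw [← homologyMap_comp, hφ]
        exact hu.1 i (by omega)
      exact IsIso.of_isIso_comp_left (homologyMap (G.πTruncGE a) i) _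
  refine ⟨G.truncGE a, φ, ⟨⟨a, max a b, fun i hi => ?_⟩, fun i => ?_⟩, hq⟩
  · rcases hi with hi | hi
    · exact CochainComplex.isZero_of_isStrictlyGE _ a i hi
    · exact (hb i (Or.inr (lt_of_le_of_lt (le_max_right a b) hi))).of_iso
        (G.truncGEXIso a i (lt_of_le_of_lt (le_max_left a b) hi))
  rcases lt_trichotomy i a with hi | rfl | hi
  · exact PerfTensor.isFinLocFree_of_isZero (CochainComplex.isZero_of_isStrictlyGE _ a i hi)
  swap
  · exact PerfTensor.isFinLocFree_of_iso (G.truncGEXIso a i (by omega)).symm (hG.2 i)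
  let K := cokernel (G.d (i - 1) i)
  refine PerfTensor.isFinLocFree_of_iso ((IsColimit.coconePointUniqueUpToIso (colimit.isColimit _)
    (G.opcyclesIsCokernel (i - 1) i (by simp))) ≪≫ (G.truncGEXIsoOpcycles i).symm) (show FlatMod.IsFinLocFree K from ?_)
  haveI : Coh.IsQCoh (G.X (i - 1)) := PullPerf.isQCoh_of_finLocFree (hG.2 _)
  haveI : Coh.IsQCoh (G.X i) := PullPerf.isQCoh_of_finLocFree (hG.2 _)
  haveI : Coh.IsQCoh K := isQCoh_cokernel _
  have hFT : CohB1.IsFT (G.X (i - 1)) := by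
    haveI : SheafOfModules.IsFinitePresentation.{u} (R := X.ringCatSheaf) (G.X (i - 1)) :=
      Props12.isFP_of_isFinLocFree _ (hG.2 _)
    exact inferInstanceAs (SheafOfModules.IsFiniteType.{u} (R := X.ringCatSheaf) _)
  have hFP : CohB1.IsFP K := H8Lim.isFP_cokernel (G.d (i - 1) i) hFT (Props12.isFP_of_isFinLocFree _ (hG.2 _))
  refine Props12.isFinLocFree_of_isFP_of_free_stalks _ hFP fun x => ?_
  haveI : CohB1.IsFT K := H8Lim.isFT_cokernel (G.d (i - 1) i) (by
    haveI : SheafOfModules.IsFinitePresentation.{u} (R := X.ringCatSheaf) (G.X i) :=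
      Props12.isFP_of_isFinLocFree _ (hG.2 _)
    exact inferInstanceAs (SheafOfModules.IsFiniteType.{u} (R := X.ringCatSheaf) _))
  haveI := Props12.finite_stalk_of_isFT K ‹_› x
  suffices hfl : FlatMod.IsFlatAt K x by
    haveI : Module.Flat (X.presheaf.stalk x) (K.presheaf.stalk x) := hfl
    exact Module.free_of_flat_of_isLocalRing
  obtain ⟨W, k, _, B, ⟨w, rfl⟩, hamp⟩ := hA x
  let R := Scheme.Modules.restrictFunctor k
  let G' := (R.mapHomologicalComplex (ComplexShape.up ℤ)).obj G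
  have hG' : DCoh.IsStrictlyPerfect G' := PerfLocal.strictlyPerfect_restrict k hG
  obtain ⟨⟨a', b', hab'⟩, hf'⟩ := hG'
  have hG'k := isKFlatFor_sheaf_of_flat G' b' (fun n hn => hab' n (Or.inr hn))
    (fun n => PullPerf.isFlat_of_finLocFree (hf' n))
  let T := (PerfLocal.rd k).mapTriangle.obj (DerivedCategory.Q.mapTriangle.obj (CochainComplex.mappingCone.triangle u))
  have hT : T ∈ distinguishedTriangles :=
    (PerfLocal.rd k).map_distinguished _ (DerivedCategory.mappingCone_triangle_distinguished u)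
  haveI hC : (DerivedCategory.Q.obj (CochainComplex.mappingCone u)).IsLE (i - 3) :=
    (DerivedCategory.isLE_iff _ _).2 fun p hp =>
      (PCohLib.isZero_H_iff _ p).2 ((PCohLib.nQis_iff_cone u (i - 2)).1 hu p (by omega))
  haveI : T.obj₃.IsLE (i - 3) := PerfLocal.isLE_rd k _ _ hC
  have hcok : FlatMod.IsFlat (cokernel (G'.d (i - 1) i)) := by
    refine isFlat_cokernel_of_exactAt G' (fun n => PullPerf.isFlat_of_finLocFree (hf' n)) i fun M => ?_
    haveI := hasLTensorMod M
    have h₂ : IsZero (DCoh.HD ((DCoh.LTensorMod M).obj T.obj₂) (i - 1)) :=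
      torAmp_of_flatAmp hamp M (i - 1) (Or.inl (by omega))
    have h₃ : IsZero (DCoh.HD ((DCoh.LTensorMod M).obj T.obj₃) (i - 2)) :=
      isZero_ltensor_of_isLE M T.obj₃ (i - 3) (i - 2) (by omega)
    have h₁ := (torAmp_vanish hT M).2.2 (i - 2) h₃ (by rwa [show i - 2 + 1 = i - 1 by omega])
    rw [show i - 2 + 1 = i - 1 by omega] at h₁
    exact (isZero_HD_ltensorMod_iff M hG'k ((R.mapDerivedCategoryFactors.app G).symm) (i - 1)).1 h₁
  exact FlatDesc17.isFlatAt_of_pullback k K w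
    (isFlat_of_iso ((PreservesCokernel.iso R (G.d (i - 1) i)).symm ≪≫
      (Scheme.Modules.restrictFunctorIsoPullback k).app K) hcok w)

end Groth.Agent.DQCoh.ResProp17
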