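import Groth.Agent.DCat.RHomExist
import Groth.Agent.SerreDual.QCohCat
import Groth.Prelude.Def_DCoh2

/-!
# Cohomology of coproducts in derived categories
-/

set_option autoImplicit false
set_option backward.isDefEq.respectTransparency false
set_option backward.defeqAttrib.useBackward true
set_option linter.style.haveILetI false

universe w v u

open CategoryTheory CategoryTheory.Limits HomologicalComplex

namespace Groth.Agent.DQCoh

variable {A : Type u} [Category.{v} A] [Abelian A]

/-- Homology of a coproduct of complexes is the colimit of the homologies. -/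
theorem exists_homology_sigma {J : Type v} [HasColimitsOfShape (Discrete J) A]
    [HasExactColimitsOfShape (Discrete J) A] (K : J → CochainComplex A ℤ) (i : ℤ) :
    ∃ G : Discrete J ⥤ A, (∀ j, Nonempty (G.obj ⟨j⟩ ≅ (K j).homology i)) ∧
      Nonempty ((∐ K).homology i ≅ colimit G) := by
  let F : ℤ → (Discrete J ⥤ A) := fun n => Discrete.functor fun j => (K j).X n
  let dd : ∀ a b, F a ⟶ F b := fun a b => Discrete.natTrans fun j => (K j.as).d a b
  let S : ShortComplex (Discrete J ⥤ A) :=
    ShortComplex.mk (dd ((ComplexShape.up ℤ).prev i) i) (dd i ((ComplexShape.up ℤ).next i))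
      (by ext j; simp [dd])
  refine ⟨S.homology, fun j => ⟨(S.mapHomologyIso ((evaluation _ A).obj ⟨j⟩)).symm⟩, ?_⟩
  let hc : ∀ n, IsColimit ((HomologicalComplex.eval A (ComplexShape.up ℤ) n).mapCocone (colimit.cocone (Discrete.functor K))) :=
    fun n => isColimitOfPreserves _ (colimit.isColimit _)
  let φ : ∀ n, colimit (F n) ≅ (∐ K).X n := fun n =>
    (colimit.isColimit (F n)).coconePointsIsoOfNatIso (hc n) (Discrete.natIso fun _ => Iso.refl _)
  have hφ : ∀ n j, colimit.ι (F n) j ≫ (φ n).hom = (colimit.ι (Discrete.functor K) j).f n := fun n j =>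
    (IsColimit.comp_coconePointsIsoOfNatIso_hom (colimit.isColimit (F n)) (hc n) _ j).trans (Category.id_comp _)
  have comm : ∀ a b, (φ a).hom ≫ (∐ K).d a b = colim.map (dd a b) ≫ (φ b).hom := fun a b =>
    colimit.hom_ext fun j => by
      rw [reassoc_of% hφ a j, colim_map, ι_colimMap_assoc, hφ b j]
      exact (Hom.comm _ _ _).trans rfl
  let e : S.map colim ≅ (∐ K).sc i := ShortComplex.isoMk (φ _) (φ _) (φ _) (comm _ _) (comm _ _)
  exact ⟨(ShortComplex.homologyMapIso e).symm ≪≫ S.mapHomologyIso colim⟩

/-- Cohomology of a coproduct in the derived category. -/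
theorem exists_homology_sigma_derived [IsGrothendieckAbelian.{v} A] [HasDerivedCategory.{w} A] {J : Type v}
    (K : J → DerivedCategory A) [HasCoproduct K] (i : ℤ) :
    ∃ G : Discrete J ⥤ A,
      (∀ j, Nonempty (G.obj ⟨j⟩ ≅ (DerivedCategory.homologyFunctor A i).obj (K j))) ∧
      Nonempty ((DerivedCategory.homologyFunctor A i).obj (∐ K) ≅ colimit G) := by
  haveI := DCat.RHomExist.preservesCoproducts_Q (A := A) J
  haveI := DCat.hasCoproductsOfShape_derived (A := A) DCat.enoughKInj_of_isGrothendieckAbelian J
  let L := fun j => DerivedCategory.Q.objPreimage (K j)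
  haveI : HasCoproduct fun j => DerivedCategory.Q.obj (L j) :=
    hasColimit_of_iso (Discrete.natIso fun j => DerivedCategory.Q.objObjPreimageIso (K j.as) :
      (Discrete.functor fun j => DerivedCategory.Q.obj (L j)) ≅ Discrete.functor K)
  let e : DerivedCategory.Q.obj (∐ L) ≅ ∐ K := (PreservesCoproduct.iso DerivedCategory.Q L) ≪≫
    Sigma.mapIso fun j => DerivedCategory.Q.objObjPreimageIso (K j)
  obtain ⟨G, hG, ⟨h⟩⟩ := exists_homology_sigma L i
  refine ⟨G, fun j => ⟨(hG j).some ≪≫ ((DerivedCategory.homologyFunctorFactors A i).app (L j)).symm ≪≫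
    (DerivedCategory.homologyFunctor A i).mapIso (DerivedCategory.Q.objObjPreimageIso (K j))⟩, ⟨?_⟩⟩
  exact ((DerivedCategory.homologyFunctor A i).mapIso e).symm ≪≫
    (DerivedCategory.homologyFunctorFactors A i).app (∐ L) ≪≫ h

/-- Homology of complexes preserves coproducts when these are exact. -/
theorem preservesCoproducts_homology {J : Type v} [HasColimitsOfShape (Discrete J) A]
    [HasExactColimitsOfShape (Discrete J) A] (i : ℤ) :
    PreservesColimitsOfShape (Discrete J) (HomologicalComplex.homologyFunctor A (ComplexShape.up ℤ) i) := by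
  haveI : ∀ K : J → CochainComplex A ℤ, IsIso (sigmaComparison (HomologicalComplex.homologyFunctor A (ComplexShape.up ℤ) i) K) := by
    intro K
    let F : ℤ → (Discrete J ⥤ A) := fun n => Discrete.functor fun j => (K j).X n
    let dd : ∀ a b, F a ⟶ F b := fun a b => Discrete.natTrans fun j => (K j.as).d a b
    let S : ShortComplex (Discrete J ⥤ A) :=
      ShortComplex.mk (dd ((ComplexShape.up ℤ).prev i) i) (dd i ((ComplexShape.up ℤ).next i))
        (by ext j; simp [dd])
    let hc : ∀ n, IsColimit ((HomologicalComplex.eval A (ComplexShape.up ℤ) n).mapCocone (colimit.cocone (Discrete.functor K))) :=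
      fun n => isColimitOfPreserves _ (colimit.isColimit _)
    let φ : ∀ n, colimit (F n) ≅ (∐ K).X n := fun n =>
      (colimit.isColimit (F n)).coconePointsIsoOfNatIso (hc n) (Discrete.natIso fun _ => Iso.refl _)
    have hφ : ∀ n j, colimit.ι (F n) j ≫ (φ n).hom = (colimit.ι (Discrete.functor K) j).f n := fun n j =>
      (IsColimit.comp_coconePointsIsoOfNatIso_hom (colimit.isColimit (F n)) (hc n) _ j).trans (Category.id_comp _)
    have comm : ∀ a b, (φ a).hom ≫ (∐ K).d a b = colim.map (dd a b) ≫ (φ b).hom := fun a b =>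
      colimit.hom_ext fun j => by
        rw [reassoc_of% hφ a j, colim_map, ι_colimMap_assoc, hφ b j]
        exact (Hom.comm _ _ _).trans rfl
    let e : S.map colim ≅ (∐ K).sc i := ShortComplex.isoMk (φ _) (φ _) (φ _) (comm _ _) (comm _ _)
    let τ : ∀ j : J, (evaluation (Discrete J) A).obj ⟨j⟩ ⟶ colim :=
      fun j => { app := fun G => colimit.ι G ⟨j⟩, naturality := fun G G' g => (ι_colimMap g ⟨j⟩).symm }
    let ej : ∀ j : J, S.map ((evaluation (Discrete J) A).obj ⟨j⟩) ≅ (K j).sc i := fun j =>
      ShortComplex.isoMk (Iso.refl _) (Iso.refl _) (Iso.refl _) (by simp [S, dd, F]) (by simp [S, dd, F])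
    have he : ∀ j, S.mapNatTrans (τ j) ≫ e.hom =
        (ej j).hom ≫ (HomologicalComplex.shortComplexFunctor A (ComplexShape.up ℤ) i).map (Sigma.ι K j) := fun j => by
      ext
      · exact (hφ _ ⟨j⟩).trans (Category.id_comp _).symm
      · exact (hφ _ ⟨j⟩).trans (Category.id_comp _).symm
      · exact (hφ _ ⟨j⟩).trans (Category.id_comp _).symm
    let ψ : Discrete.functor (fun j => (K j).homology i) ≅ S.homology := Discrete.natIso fun j =>
      (ShortComplex.homologyMapIso (ej j.as)).symm ≪≫ S.mapHomologyIso ((evaluation (Discrete J) A).obj ⟨j.as⟩)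
    let Ψ : (∐ fun j => (K j).homology i) ≅ (∐ K).homology i :=
      (HasColimit.isoOfNatIso ψ ≪≫ (S.mapHomologyIso colim).symm) ≪≫ ShortComplex.homologyMapIso e
    have hΨ : sigmaComparison (HomologicalComplex.homologyFunctor A (ComplexShape.up ℤ) i) K = Ψ.hom := by
      refine Sigma.hom_ext _ _ fun j => ?_
      erw [ι_comp_sigmaComparison]
      show ShortComplex.homologyMap ((HomologicalComplex.shortComplexFunctor A (ComplexShape.up ℤ) i).map (Sigma.ι K j)) = _
      rw [show (HomologicalComplex.shortComplexFunctor A (ComplexShape.up ℤ) i).map (Sigma.ι K j) =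
        (ej j).inv ≫ S.mapNatTrans (τ j) ≫ e.hom by rw [he, Iso.inv_hom_id_assoc]]
      rw [ShortComplex.homologyMap_comp, ShortComplex.homologyMap_comp, ShortComplex.homologyMap_mapNatTrans]
      simp [Ψ, ψ, τ]
    exact hΨ ▸ inferInstance
  refine ⟨fun {G} => ?_⟩
  haveI : PreservesColimit (Discrete.functor (G.obj ∘ Discrete.mk)) (HomologicalComplex.homologyFunctor A (ComplexShape.up ℤ) i) :=
    PreservesCoproduct.of_iso_comparison _ (fun j => G.obj ⟨j⟩)
  exact preservesColimit_of_iso_diagram _ Discrete.natIsoFunctor.symm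

/-- Cohomology functors of the derived category preserve coproducts. -/
theorem preservesCoproducts_homologyFunctor [IsGrothendieckAbelian.{v} A] [HasDerivedCategory.{w} A] (J : Type v) (i : ℤ) :
    PreservesColimitsOfShape (Discrete J) (DerivedCategory.homologyFunctor A i) :=
  haveI := preservesCoproducts_homology (A := A) (J := J) i
  haveI : PreservesColimitsOfShape (Discrete J) (DerivedCategory.Q ⋙ DerivedCategory.homologyFunctor A i) :=
    preservesColimitsOfShape_of_natIso (DerivedCategory.homologyFunctorFactors A i).symm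
  DCat.RHomExist.preservesCoproducts_of_fac _ J

open AlgebraicGeometry in
attribute [local instance] HasDerivedCategory.standard in
/-- Coproducts of objects with quasi-coherent cohomology have quasi-coherent cohomology. -/
theorem isQCohD_sigma {X : Scheme.{u}} {ι : Type u} (K : ι → DCoh.D X) (hK : ∀ i, DCoh.IsQCohD (K i))
    [HasCoproduct K] : DCoh.IsQCohD (∐ K) := fun i => by
  obtain ⟨G, hG, ⟨e⟩⟩ := exists_homology_sigma_derived K i
  exact Coherent.isQCoh_of_iso e.symm (h := SerreDual.isQCoh_colimit X G fun ⟨j⟩ =>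
    Coherent.isQCoh_of_iso (hG j).some.symm (h := hK j i))

end Groth.Agent.DQCoh
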