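import Groth.Agent.DQCoh.Sections
import Groth.Agent.DQCoh.Coproduct
import Groth.Agent.Coherent.Affineness
import Groth.Agent.ZClosLib.Colim
import Mathlib.AlgebraicGeometry.Morphisms.QuasiSeparated

/-!
# Maps out of `j_! O_U` into coproducts of objects with quasi-coherent cohomology
-/

set_option autoImplicit false
set_option backward.isDefEq.respectTransparency false
set_option backward.defeqAttrib.useBackward true
set_option linter.style.haveILetI false
set_option synthInstance.maxHeartbeats 100000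

universe w v u

open CategoryTheory CategoryTheory.Limits CategoryTheory.Pretriangulated DerivedCategory Opposite TopologicalSpace AlgebraicGeometry
open Groth.Agent.SiteDer16 Groth.Agent.Coherent

namespace Groth.Agent.DQCoh

section SumFac

variable {D : Type u} [Category.{v} D] [Preadditive D] {κ : Type w} (K : κ → D) [HasCoproduct K]

open Classical in
/-- The idempotent onto a finite subsum. -/
noncomputable def subSum (s : Finset κ) : ∐ K ⟶ ∐ K :=
  Sigma.desc fun k => if k ∈ s then Sigma.ι K k else 0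

open Classical in
theorem ι_subSum (s : Finset κ) (k : κ) : Sigma.ι K k ≫ subSum K s = if k ∈ s then Sigma.ι K k else 0 :=
  Sigma.ι_desc _ _

theorem subSum_comp {s t : Finset κ} (h : s ⊆ t) : subSum K s ≫ subSum K t = subSum K s := by
  classical
  refine Sigma.hom_ext _ _ fun k => ?_
  rw [← Category.assoc, ι_subSum]
  split_ifs with hk
  · rw [ι_subSum, if_pos (h hk)]
  · exact zero_comp

theorem comp_subSum_of_subset {P : D} {α : P ⟶ ∐ K} {s t : Finset κ} (hs : α ≫ subSum K s = α) (h : s ⊆ t) :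
    α ≫ subSum K t = α := by
  rw [← hs, Category.assoc, subSum_comp K h]

/-- Every map from `P` to the coproduct lands in a finite subsum. -/
def SumFac (P : D) : Prop := ∀ α : P ⟶ ∐ K, ∃ s : Finset κ, α ≫ subSum K s = α

variable {K}

theorem SumFac.of_iso {P P' : D} (h : SumFac K P) (e : P ≅ P') : SumFac K P' := fun α => by
  obtain ⟨s, hs⟩ := h (e.hom ≫ α)
  exact ⟨s, by rwa [← cancel_epi e.hom, ← Category.assoc]⟩

variable [HasZeroObject D] [HasShift D ℤ] [∀ n : ℤ, (shiftFunctor D n).Additive] [Pretriangulated D]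

theorem SumFac.of_ext {T : Triangle D} (hT : T ∈ distTriang D) (h₁ : SumFac K T.obj₁) (h₃ : SumFac K T.obj₃) :
    SumFac K T.obj₂ := fun α => by
  classical
  obtain ⟨s, hs⟩ := h₁ (T.mor₁ ≫ α)
  have h0 : T.mor₁ ≫ (α - α ≫ subSum K s) = 0 := by
    rw [Preadditive.comp_sub, ← Category.assoc, hs, sub_self]
  obtain ⟨β, hβ⟩ := Triangle.yoneda_exact₂ _ hT _ h0
  obtain ⟨t, ht⟩ := h₃ β
  refine ⟨s ∪ t, ?_⟩
  have e : α = α ≫ subSum K s + T.mor₂ ≫ β := sub_eq_iff_eq_add'.1 hβ
  conv_lhs => rw [e, ← ht]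
  simp only [Preadditive.add_comp, Category.assoc]
  rw [subSum_comp K Finset.subset_union_left, subSum_comp K Finset.subset_union_right]
  conv_rhs => rw [e, ← ht]

/-- All shifts of `P` see only finite subsums. -/
def ShiftSumFac (K : κ → D) [HasCoproduct K] (P : D) : Prop := ∀ k : ℤ, SumFac K (P⟦k⟧)

omit [HasZeroObject D] [∀ n : ℤ, (shiftFunctor D n).Additive] [Pretriangulated D] in
theorem ShiftSumFac.of_iso {P P' : D} (h : ShiftSumFac K P) (e : P ≅ P') : ShiftSumFac K P' := fun k =>
  (h k).of_iso ((shiftFunctor D k).mapIso e)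

theorem ShiftSumFac.of_ext {T : Triangle D} (hT : T ∈ distTriang D) (h₁ : ShiftSumFac K T.obj₁)
    (h₃ : ShiftSumFac K T.obj₃) : ShiftSumFac K T.obj₂ := fun k =>
  SumFac.of_ext (Triangle.shift_distinguished T hT k) (h₁ k) (h₃ k)

theorem ShiftSumFac.of_cone {T : Triangle D} (hT : T ∈ distTriang D) (h₁ : ShiftSumFac K T.obj₁)
    (h₂ : ShiftSumFac K T.obj₂) : ShiftSumFac K T.obj₃ :=
  ShiftSumFac.of_ext (rot_of_distTriang _ hT) h₂ fun k =>
    (h₁ (1 + k)).of_iso ((shiftFunctorAdd D 1 k).app T.obj₁)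

end SumFac

variable {X : Scheme.{u}}

open ZClosLib in
/-- Sections over a quasi-compact open of a direct sum lie in a finite subsum. -/
theorem sumFac_freeModOn {ι : Type u} (M : ι → X.Modules) {U : X.Opens} (hU : IsCompact (U : Set X)) :
    SumFac M ((freeModOn X).obj U) := fun α => by
  classical
  let s := freeModOnEquiv U _ α
  have hst : ∀ (p : X) (z : (∐ M).presheaf.stalk p), ∃ t : Finset ι, stalkMap (subSum M t) p z = z := by
    intro p
    haveI := preservesColimitsOfShape_stalkFun (X := X) (Discrete ι) p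
    let hc := isColimitOfPreserves (stalkFun X p) (colimit.isColimit (Discrete.functor M))
    have hmono : ∀ (t t' : Finset ι), t ⊆ t' → ∀ z : (∐ M).presheaf.stalk p, stalkMap (subSum M t) p z = z →
        stalkMap (subSum M t') p z = z := fun t t' h z hz => by
      rw [← hz, ← stalkMap_comp_apply, subSum_comp M h]
    let H : AddSubgroup ((∐ M).presheaf.stalk p) :=
      { carrier := {z | ∃ t : Finset ι, stalkMap (subSum M t) p z = z}
        zero_mem' := ⟨∅, map_zero _⟩
        add_mem' := fun {a b} ⟨t, ht⟩ ⟨t', ht'⟩ => ⟨t ∪ t', by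
          rw [map_add, hmono _ _ Finset.subset_union_left a ht, hmono _ _ Finset.subset_union_right b ht']⟩
        neg_mem' := fun {a} ⟨t, ht⟩ => ⟨t, by rw [map_neg, ht]⟩ }
    let q : ((stalkFun X p).mapCocone (colimit.cocone (Discrete.functor M))).pt ⟶
        AddCommGrpCat.of ((∐ M).presheaf.stalk p ⧸ H) := AddCommGrpCat.ofHom (QuotientAddGroup.mk' H)
    have hq : q = 0 := hc.hom_ext fun ⟨i⟩ => by
      refine ConcreteCategory.hom_ext _ _ fun y => ?_
      change (QuotientAddGroup.mk' H) (stalkMap (Sigma.ι M i) p y) = 0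
      refine (QuotientAddGroup.eq_zero_iff _).2 ⟨{i}, ?_⟩
      rw [← stalkMap_comp_apply, ι_subSum, if_pos (Finset.mem_singleton_self i)]
    intro z
    exact (QuotientAddGroup.eq_zero_iff (N := H) _).1 (congr($hq z))
  have hloc : ∀ p : (U : Set X), ∃ (t : Finset ι) (W : X.Opens) (hW : W ≤ U),
      p.1 ∈ W ∧ res _ hW ((subSum M t).app U s) = res _ hW s := by
    rintro ⟨p, hp⟩
    obtain ⟨t, ht⟩ := hst p ((∐ M).presheaf.germ U p hp s)
    rw [stalkMap_germ] at ht
    obtain ⟨W, hpW, i, i', e⟩ := (∐ M).presheaf.germ_eq p hp hp _ _ ht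
    exact ⟨t, W, leOfHom i, hpW, e⟩
  choose t W hW hpW he using hloc
  obtain ⟨T, hT⟩ := hU.elim_finite_subcover (fun p => (W p : Set X)) (fun p => (W p).2)
    fun x hx => Set.mem_iUnion.2 ⟨⟨x, hx⟩, hpW _⟩
  refine ⟨T.biUnion t, (freeModOnEquiv U _).injective ?_⟩
  rw [freeModOnEquiv_comp]
  refine eq_of_local _ _ _ fun x hx => ?_
  obtain ⟨p, hp, hxp⟩ := Set.mem_iUnion₂.1 (hT hx)
  refine ⟨W p, hW p, hxp, ?_⟩
  calc res _ (hW p) ((subSum M (T.biUnion t)).app U s)
      = (subSum M (T.biUnion t)).app (W p) (res _ (hW p) s) := (app_res _ _ _).symm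
    _ = (subSum M (T.biUnion t)).app (W p) ((subSum M (t p)).app (W p) (res _ (hW p) s)) := by
        rw [app_res (subSum M (t p)), he p]
    _ = ((subSum M (t p)) ≫ subSum M (T.biUnion t)).app (W p) (res _ (hW p) s) := by
        rw [Scheme.Modules.Hom.comp_app]; rfl
    _ = res _ (hW p) s := by
        rw [subSum_comp M (Finset.subset_biUnion_of_mem t hp), app_res, he p]

/-- The short exact sequence of Mayer–Vietoris for `j_! O`. -/
noncomputable def mvFree (U V : X.Opens) : ShortComplex X.Modules :=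
  ShortComplex.mk
    (biprod.lift ((freeModOn X).map (homOfLE (inf_le_left : U ⊓ V ≤ U)))
      (-(freeModOn X).map (homOfLE (inf_le_right : U ⊓ V ≤ V))))
    (biprod.desc ((freeModOn X).map (homOfLE (le_sup_left : U ≤ U ⊔ V)))
      ((freeModOn X).map (homOfLE (le_sup_right : V ≤ U ⊔ V))))
    (by rw [biprod.lift_desc, Preadditive.neg_comp, ← Functor.map_comp, ← Functor.map_comp, ← sub_eq_add_neg,
      sub_eq_zero]; rfl)

/-- Two sections agreeing on the intersection glue. -/
theorem exists_glue' (M : X.Modules) {U V : X.Opens} (a : Γ(M, U)) (b : Γ(M, V))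
    (hab : resM M inf_le_left a = resM M (inf_le_right : U ⊓ V ≤ V) b) :
    ∃ x : Γ(M, U ⊔ V), resM M le_sup_left x = a ∧ resM M le_sup_right x = b := by
  let F := Coh.toAb M
  let eU := secH (X := X.toTopCat) F U
  let eV := secH (X := X.toTopCat) F V
  obtain ⟨z, hz₁, hz₂⟩ := exists_resH_sup (X := X.toTopCat) (F := F) (a := eU.symm a)
    (b := eV.symm b) (by
      apply (secH (X := X.toTopCat) F (U ⊓ V)).injective
      refine (secH_resH (X := X.toTopCat) _ _).trans ?_
      refine Eq.trans ?_ (secH_resH (X := X.toTopCat) _ _).symm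
      exact (congrArg _ (eU.apply_symm_apply a)).trans (hab.trans
        (congrArg _ (eV.apply_symm_apply b)).symm))
  exact ⟨secH (X := X.toTopCat) F (U ⊔ V) z,
    ((secH_resH (X := X.toTopCat) _ z).symm.trans (congrArg eU hz₁)).trans (eU.apply_symm_apply a),
    ((secH_resH (X := X.toTopCat) _ z).symm.trans (congrArg eV hz₂)).trans (eV.apply_symm_apply b)⟩

/-- The generator maps are determined on a cover. -/
theorem mvFree_shortExact (U V : X.Opens) : (mvFree U V).ShortExact := by
  have hres : ∀ {A B : X.Opens} (h : A ≤ B) (M : X.Modules) (f : (freeModOn X).obj B ⟶ M),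
      freeModOnEquiv A M ((freeModOn X).map (homOfLE h) ≫ f) = resM M h (freeModOnEquiv B M f) :=
    fun h M f => secMod_res h M f
  have hext : ∀ {M : X.Modules} (f g : (freeModOn X).obj (U ⊔ V) ⟶ M),
      (freeModOn X).map (homOfLE le_sup_left) ≫ f = (freeModOn X).map (homOfLE (le_sup_left : U ≤ U ⊔ V)) ≫ g →
      (freeModOn X).map (homOfLE le_sup_right) ≫ f = (freeModOn X).map (homOfLE (le_sup_right : V ≤ U ⊔ V)) ≫ g →
      f = g := fun {M} f g h₁ h₂ => (freeModOnEquiv _ M).injective
    (ZClosLib.eq_of_local M _ _ fun x hx => (Opens.mem_sup.1 hx).elim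
      (fun hU => ⟨U, le_sup_left, hU, by
        have := congrArg (freeModOnEquiv U M) h₁
        rwa [hres, hres] at this⟩)
      (fun hV => ⟨V, le_sup_right, hV, by
        have := congrArg (freeModOnEquiv V M) h₂
        rwa [hres, hres] at this⟩))
  haveI : Mono ((freeModOn X).map (homOfLE (inf_le_left : U ⊓ V ≤ U))) :=
    Coherent.isFlasque_toAb_of_injective.mono_freeModOn_map _
  haveI : Mono (mvFree U V).f := mono_of_mono_fac (biprod.lift_fst _ _)
  haveI : Epi (mvFree U V).g := ⟨fun f g h => hext f g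
    (by simpa [mvFree] using congr(biprod.inl ≫ $h)) (by simpa [mvFree] using congr(biprod.inr ≫ $h))⟩
  refine ⟨ShortComplex.exact_of_g_is_cokernel _ (CokernelCofork.IsColimit.ofπ' _ (mvFree U V).zero fun {M} k hk => ?_)⟩
  have hk' : (freeModOn X).map (homOfLE (inf_le_left : U ⊓ V ≤ U)) ≫ biprod.inl ≫ k =
      (freeModOn X).map (homOfLE (inf_le_right : U ⊓ V ≤ V)) ≫ biprod.inr ≫ k := by
    have h0 : biprod.lift ((freeModOn X).map (homOfLE (inf_le_left : U ⊓ V ≤ U)))
        (-(freeModOn X).map (homOfLE (inf_le_right : U ⊓ V ≤ V))) ≫ k = 0 := hk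
    rw [biprod.lift_eq, Preadditive.add_comp, Category.assoc, Category.assoc, Preadditive.neg_comp,
      ← sub_eq_add_neg, sub_eq_zero] at h0
    exact h0
  have hk'' := congrArg (freeModOnEquiv (U ⊓ V) M) hk'
  rw [hres, hres] at hk''
  have hx := exists_glue' M _ _ hk''
  let x := hx.choose
  have hx₁ := hx.choose_spec.1
  have hx₂ := hx.choose_spec.2
  refine ⟨(freeModOnEquiv (U ⊔ V) M).symm x, biprod.hom_ext' _ _ ?_ ?_⟩
  · refine (biprod.inl_desc_assoc _ _ _).trans ((freeModOnEquiv U M).injective ?_)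
    rw [hres, Equiv.apply_symm_apply]
    exact hx₁
  · refine (biprod.inr_desc_assoc _ _ _).trans ((freeModOnEquiv V M).injective ?_)
    rw [hres, Equiv.apply_symm_apply]
    exact hx₂

attribute [local instance] HasDerivedCategory.standard

variable {ι : Type u} {K : ι → DCoh.D X} [HasCoproduct K] (hK : ∀ i, DCoh.IsQCohD (K i))

include hK in
/-- Affine opens give compact objects relative to quasi-coherent cohomology. -/
theorem shiftSumFac_affine {U : X.Opens} (hU : IsAffineOpen U) : ShiftSumFac K ((sec X).pt.obj U) := fun k α => by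
  let F := shiftFunctor (DCoh.D X) k
  let η : ((∐ K)⟦-k⟧)⟦k⟧ ≅ ∐ K := (shiftFunctorCompIsoId (DCoh.D X) (-k) k (by omega)).app _
  obtain ⟨y, hy⟩ := F.map_surjective (α ≫ η.inv)
  let H := shiftFunctor (DCoh.D X) (-k) ⋙ homologyFunctor X.Modules 0
  haveI := preservesCoproducts_homologyFunctor (A := X.Modules) ι 0
  haveI : PreservesColimit (Discrete.functor K) (shiftFunctor (DCoh.D X) (-k)) := inferInstance
  haveI : PreservesColimit (Discrete.functor K) H := comp_preservesColimit _ _
  let c : (∐ fun i => H.obj (K i)) ≅ H.obj (∐ K) := (PreservesCoproduct.iso H K).symm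
  obtain ⟨s, hs⟩ := sumFac_freeModOn (fun i => H.obj (K i)) hU.isCompact ((sec X).θ y ≫ c.inv)
  refine ⟨s, ?_⟩
  have hc : subSum (fun i => H.obj (K i)) s ≫ c.hom = c.hom ≫ H.map (subSum K s) := by
    classical
    refine Sigma.hom_ext _ _ fun i => ?_
    simp only [c, Iso.symm_hom, PreservesCoproduct.inv_hom]
    rw [← Category.assoc, ι_subSum, ι_comp_sigmaComparison_assoc, ← H.map_comp, ι_subSum]
    split_ifs
    · rw [ι_comp_sigmaComparison]
    · rw [zero_comp, H.map_zero]
  have hQ : DCoh.IsQCohD ((∐ K)⟦-k⟧) := fun i =>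
    isQCoh_of_iso (((homologyFunctor X.Modules 0).shiftIso (-k) i (-k + i) rfl).app (∐ K)).symm
      (h := isQCohD_sigma K hK _)
  have he : y ≫ (shiftFunctor (DCoh.D X) (-k)).map (subSum K s) = y := by
    apply (bijective_θ _ hQ hU).1
    show (sec X).θ _ = _
    rw [(sec X).θ_comp, ← cancel_mono c.inv, Category.assoc]
    refine Eq.trans ?_ hs
    rw [Category.assoc]
    refine congrArg ((sec X).θ y ≫ ·) ?_
    rw [Iso.eq_inv_comp, ← Category.assoc]
    refine (congrArg (· ≫ c.inv) hc.symm).trans ?_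
    rw [Category.assoc, c.hom_inv_id, Category.comp_id]
  have e1 : α = F.map y ≫ η.hom := by rw [hy, Category.assoc, η.inv_hom_id, Category.comp_id]
  have e2 : F.map ((shiftFunctor (DCoh.D X) (-k)).map (subSum K s)) ≫ η.hom = η.hom ≫ subSum K s :=
    (shiftFunctorCompIsoId (DCoh.D X) (-k) k (by omega)).hom.naturality (subSum K s)
  rw [e1, Category.assoc, ← e2, ← F.map_comp_assoc, he]

/-- The Mayer–Vietoris triangle gives closure under unions. -/
theorem shiftSumFac_sup {U V : X.Opens} (hU : ShiftSumFac K ((sec X).pt.obj U))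
    (hV : ShiftSumFac K ((sec X).pt.obj V)) (hUV : ShiftSumFac K ((sec X).pt.obj (U ⊓ V))) :
    ShiftSumFac K ((sec X).pt.obj (U ⊔ V)) := by
  have h₂ : ShiftSumFac K ((singleFunctor X.Modules 0).obj (mvFree U V).X₂) :=
    ShiftSumFac.of_ext
      (ShortComplex.Splitting.ofHasBinaryBiproduct ((freeModOn X).obj U) ((freeModOn X).obj V)).shortExact.singleTriangle_distinguished
      hU hV
  exact ShiftSumFac.of_cone (mvFree_shortExact U V).singleTriangle_distinguished hUV h₂

include hK in
/-- Quasi-compact opens of a quasi-separated scheme give compact objects relative to quasi-coherent cohomology. -/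
theorem shiftSumFac_of_isCompact {W : X.Opens} (hWc : IsCompact (W : Set X))
    (hWs : IsQuasiSeparated (W : Set X)) : ShiftSumFac K ((sec X).pt.obj W) := by
  classical
  have hbot : ∀ Z : X.Opens, Z = ⊥ → ShiftSumFac K ((sec X).pt.obj Z) := fun Z hZ =>
    shiftSumFac_affine hK (hZ ▸ isAffineOpen_bot X)
  have hin : ∀ {U : X.Opens}, IsAffineOpen U → ∀ t : Finset Γ(X, U),
      ShiftSumFac K ((sec X).pt.obj (t.sup fun r => X.basicOpen r)) := by
    intro U hU
    have key : ∀ n (t : Finset Γ(X, U)), t.card ≤ n → ShiftSumFac K ((sec X).pt.obj (t.sup fun r => X.basicOpen r)) := by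
      intro n
      induction n with
      | zero => exact fun t ht => hbot _ (by rw [Finset.card_eq_zero.1 (Nat.le_zero.1 ht), Finset.sup_empty])
      | succ n ih =>
        intro t ht
        rcases t.eq_empty_or_nonempty with rfl | ⟨r, hr⟩
        · exact hbot _ Finset.sup_empty
        obtain ⟨t', hr', rfl⟩ : ∃ t', r ∉ t' ∧ insert r t' = t := ⟨t.erase r, Finset.notMem_erase _ _, Finset.insert_erase hr⟩
        rw [Finset.card_insert_of_notMem hr'] at ht
        rw [Finset.sup_insert]
        refine shiftSumFac_sup (shiftSumFac_affine hK (hU.basicOpen r)) (ih t' (by omega)) ?_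
        have : X.basicOpen r ⊓ t'.sup (fun a => X.basicOpen a) = (t'.image (r * ·)).sup fun a => X.basicOpen a := by
          rw [Finset.sup_inf_distrib_left, Finset.sup_image]
          simp [Function.comp_def, Scheme.basicOpen_mul]
        rw [this]
        exact ih _ (Finset.card_image_le.trans (by omega))
    exact fun t => key _ t le_rfl
  have haff : ∀ {U : X.Opens}, IsAffineOpen U → ∀ Z : X.Opens, Z ≤ U → IsCompact (Z : Set X) →
      ShiftSumFac K ((sec X).pt.obj Z) := by
    intro U hU Z hZU hZ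
    choose f hf hxf using fun x : {x : X // x ∈ Z} => hU.exists_basicOpen_le x (hZU x.2)
    obtain ⟨t, ht⟩ := hZ.elim_finite_subcover (fun x => ((X.basicOpen (f x)) : Set X)) (fun x => (X.basicOpen (f x)).2)
      fun x hx => Set.mem_iUnion.2 ⟨⟨x, hx⟩, hxf _⟩
    have e : Z = (t.image f).sup fun r => X.basicOpen r := by
      rw [Finset.sup_image]
      refine le_antisymm (fun x hx => ?_) (Finset.sup_le fun x _ => hf x)
      obtain ⟨y, hy, hxy⟩ := Set.mem_iUnion₂.1 (ht hx)
      exact (Finset.le_sup (f := (fun r => X.basicOpen r) ∘ f) hy : _) hxy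
    rw [e]
    exact hin hU _
  have hmain : ∀ (t : Finset X.affineOpens), (∀ V ∈ t, V.1 ≤ W) → ∀ Z : X.Opens, IsCompact (Z : Set X) →
      Z ≤ W → Z ≤ t.sup (fun V => V.1) → ShiftSumFac K ((sec X).pt.obj Z) := by
    intro t
    induction t using Finset.induction_on with
    | empty => exact fun _ Z _ _ hle => hbot Z (le_bot_iff.1 (by simpa using hle))
    | insert V t _ ih =>
      intro hVW Z hZ hZW hle
      simp only [Finset.sup_insert] at hle
      obtain ⟨hV, ht⟩ := Finset.forall_mem_insert _ _ _ |>.1 hVW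
      have hinf : ∀ A B : X.Opens, A ≤ W → B ≤ W → IsCompact (A : Set X) → IsCompact (B : Set X) →
          IsCompact ((A ⊓ B : X.Opens) : Set X) := fun A B hA hB hAc hBc =>
        hWs _ _ hA A.2 hAc hB B.2 hBc
      -- split `Z` into a part inside `V` and a part inside the rest
      have hex : ∀ x : {x : X // x ∈ Z}, ∃ A : X.Opens, IsAffineOpen A ∧ x.1 ∈ A ∧ (A ≤ Z ⊓ V.1 ∨ A ≤ Z ⊓ t.sup (fun V => V.1)) := by
        rintro ⟨x, hx⟩
        rcases Opens.mem_sup.1 (hle hx) with h | h
        · obtain ⟨A, hA, hxA, hAl⟩ := exists_isAffineOpen_mem_and_subset (x := x) (U := Z ⊓ V.1) ⟨hx, h⟩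
          exact ⟨A, hA, hxA, Or.inl hAl⟩
        · obtain ⟨A, hA, hxA, hAl⟩ := exists_isAffineOpen_mem_and_subset (x := x) (U := Z ⊓ t.sup fun V => V.1) ⟨hx, h⟩
          exact ⟨A, hA, hxA, Or.inr hAl⟩
      choose A hA hxA hAl using hex
      obtain ⟨T, hT⟩ := hZ.elim_finite_subcover (fun x => (A x : Set X)) (fun x => (A x).2)
        fun x hx => Set.mem_iUnion.2 ⟨⟨x, hx⟩, hxA _⟩
      let T₁ := T.filter fun x => A x ≤ Z ⊓ V.1
      let T₂ := T.filter fun x => A x ≤ Z ⊓ t.sup (fun V => V.1)
      let Z₁ := T₁.sup A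
      let Z₂ := T₂.sup A
      have hc : ∀ S : Finset {x : X // x ∈ Z}, IsCompact ((S.sup A : X.Opens) : Set X) := fun S => by
        induction S using Finset.induction_on with
        | empty => rw [Finset.sup_empty, Opens.coe_bot]; exact isCompact_empty
        | insert a S _ h => rw [Finset.sup_insert, Opens.coe_sup]; exact (hA a).isCompact.union h
      have h₁ : Z₁ ≤ Z ⊓ V.1 := Finset.sup_le fun x hx => (Finset.mem_filter.1 hx).2
      have h₂ : Z₂ ≤ Z ⊓ t.sup (fun V => V.1) := Finset.sup_le fun x hx => (Finset.mem_filter.1 hx).2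
      have hZe : Z = Z₁ ⊔ Z₂ := by
        refine le_antisymm (fun x hx => ?_) (sup_le (h₁.trans inf_le_left) (h₂.trans inf_le_left))
        obtain ⟨y, hy, hxy⟩ := Set.mem_iUnion₂.1 (hT hx)
        rcases hAl y with h | h
        · exact Opens.mem_sup.2 (Or.inl ((Finset.le_sup (f := A) (Finset.mem_filter.2 ⟨hy, h⟩) : A y ≤ Z₁) hxy))
        · exact Opens.mem_sup.2 (Or.inr ((Finset.le_sup (f := A) (Finset.mem_filter.2 ⟨hy, h⟩) : A y ≤ Z₂) hxy))
      rw [hZe]
      exact shiftSumFac_sup (haff V.2 _ (h₁.trans inf_le_right) (hc _))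
        (ih ht _ (hc _) (h₂.trans (inf_le_left.trans hZW)) (h₂.trans inf_le_right))
        (haff V.2 _ (inf_le_left.trans (h₁.trans inf_le_right))
          (hinf _ _ ((h₁.trans inf_le_left).trans hZW) ((h₂.trans inf_le_left).trans hZW) (hc _) (hc _)))
  choose A hA hxA hAl using fun x : {x : X // x ∈ W} => exists_isAffineOpen_mem_and_subset (x := x.1) (U := W) x.2
  obtain ⟨T, hT⟩ := hWc.elim_finite_subcover (fun x => (A x : Set X)) (fun x => (A x).2)
    fun x hx => Set.mem_iUnion.2 ⟨⟨x, hx⟩, hxA _⟩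
  refine hmain (T.image fun x => ⟨A x, hA x⟩) ?_ W hWc le_rfl fun x hx => ?_
  · simp only [Finset.mem_image]
    rintro V ⟨x, -, rfl⟩
    exact hAl x
  · obtain ⟨y, hy, hxy⟩ := Set.mem_iUnion₂.1 (hT hx)
    exact (Finset.le_sup (f := fun V : X.affineOpens => V.1) (Finset.mem_image_of_mem (fun x => (⟨A x, hA x⟩ : X.affineOpens)) hy) : A y ≤ _) hxy

end Groth.Agent.DQCoh
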