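import Groth.Agent.DQCoh.Push

/-!
# Boundedness of derived direct images
-/

set_option autoImplicit false
set_option backward.isDefEq.respectTransparency false
set_option backward.defeqAttrib.useBackward true
set_option linter.style.haveILetI false
set_option synthInstance.maxHeartbeats 100000

universe u

open CategoryTheory CategoryTheory.Limits CategoryTheory.Pretriangulated DerivedCategory Opposite TopologicalSpace AlgebraicGeometry
open Groth.Agent.SiteDer16 Groth.Agent.DCat Groth.Agent.Coherent Groth.Agent.DCat.PullPerf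
open scoped ZeroObject

attribute [local instance] HasDerivedCategory.standard

namespace Groth.Agent.DQCoh

variable {X S : Scheme.{u}}

/-- A module vanishing on the members of an open cover is zero. -/
theorem isZero_of_restrict_cover (M : X.Modules) {ι : Type u} (U : ι → X.Opens) (hU : ∀ x : X, ∃ i, x ∈ U i)
    (h : ∀ i, IsZero ((Scheme.Modules.restrictFunctor (U i).ι).obj M)) : IsZero M := by
  refine (sec X).gen fun V x => ?_
  refine (sec X).sep _ (Sieve.ofArrows (fun i => V ⊓ U i) fun i => homOfLE inf_le_left) (fun p hp => ?_) ?_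
  · obtain ⟨i, hi⟩ := hU p
    exact ⟨_, homOfLE inf_le_left, Sieve.ofArrows_mk _ _ i, ⟨hp, hi⟩⟩
  rintro W k ⟨_, k', _, ⟨i⟩, rfl⟩
  suffices hi : (sec X).P.map (homOfLE inf_le_left : V ⊓ U i ⟶ V) ≫ x = 0 by
    rw [Functor.map_comp, Category.assoc, hi, comp_zero]
  have hW : (U i).ι ''ᵁ ((U i).ι ⁻¹ᵁ (V ⊓ U i)) = V ⊓ U i := by
    rw [Scheme.Hom.image_preimage_eq_opensRange_inf, Scheme.Opens.opensRange_ι]
    exact inf_eq_right.2 inf_le_right
  have hsub : Subsingleton Γ(M, V ⊓ U i) := by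
    rw [← hW]
    have h0 := ModuleCat.subsingleton_of_isZero ((SheafOfModules.evaluation _ (op ((U i).ι ⁻¹ᵁ (V ⊓ U i)))).map_isZero (h i))
    exact h0
  exact (freeModOnEquiv (V ⊓ U i) M).injective (@Subsingleton.elim _ hsub _ _)

variable (f : X ⟶ S) [QuasiCompact f] [QuasiSeparated f] [DCoh.HasRpush f]

/-- `Rf_*` has finite cohomological amplitude on objects with quasi-coherent cohomology. -/
theorem exists_uniform_bound [CompactSpace ↥S] :
    ∃ N : ℤ, ∀ (E : DCoh.D X), DCoh.IsQCohD E → E.IsLE 0 → ∀ m : ℤ, N ≤ m →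
      IsZero (DCoh.HD ((DCoh.Rpush f).obj E) m) := by
  obtain ⟨t, ht⟩ := isCompact_univ.elim_finite_subcover (fun V : S.affineOpens => (V.1 : Set S)) (fun V => V.1.2)
    (fun x _ => by
      obtain ⟨W, hW, hxW, -⟩ := Opens.isBasis_iff_nbhd.mp S.isBasis_affineOpens (Opens.mem_top x)
      exact Set.mem_iUnion.2 ⟨⟨W, hW⟩, hxW⟩)
  choose d hd using fun V : S.affineOpens => exists_bound f V.1 V.2
  refine ⟨((t.sup d : ℕ) : ℤ) + 2, fun E hE hle m hm => ?_⟩
  obtain ⟨_, _⟩ := exists_commShift_Rpush f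
  refine isZero_of_restrict_cover _ (fun V : t => V.1.1) (fun x => ?_) fun V => ?_
  · obtain ⟨V, hV, hx⟩ := Set.mem_iUnion₂.1 (ht (Set.mem_univ x))
    exact ⟨⟨V, hV⟩, hx⟩
  · have hdle : d V.1 ≤ t.sup d := Finset.le_sup V.2
    have hQ : DCoh.IsQCohD (E⟦(1 : ℤ)⟧) := fun i =>
      isQCoh_of_iso (((homologyFunctor X.Modules 0).shiftIso 1 i (1 + i) rfl).app E).symm (h := hE (1 + i))
    haveI := hd V.1 (E⟦(1 : ℤ)⟧) hQ (m - 1) 0 (by omega)
    haveI : E.IsLE 0 := hle
    haveI : (E⟦(1 : ℤ)⟧).IsLE (-1) := DerivedCategory.TStructure.t.isLE_shift E 0 1 (-1) (by omega)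
    have hz : IsZero (CohCx.truncTower (E⟦(1 : ℤ)⟧) 0) :=
      (DerivedCategory.TStructure.t (C := X.Modules)).isZero_truncGE_obj_of_isLE (-1) _ (by simp) _
    have hz' : IsZero ((Scheme.Modules.restrictFunctor V.1.1.ι).obj
        ((homologyFunctor S.Modules (m - 1)).obj ((DCoh.Rpush f).obj (E⟦(1 : ℤ)⟧)))) :=
      IsZero.of_iso ((Scheme.Modules.restrictFunctor V.1.1.ι).map_isZero ((homologyFunctor S.Modules (m - 1)).map_isZero
          ((DCoh.Rpush f).map_isZero hz)))
        (asIso ((Scheme.Modules.restrictFunctor V.1.1.ι).map ((homologyFunctor S.Modules (m - 1)).map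
          ((DCoh.Rpush f).map (CohCx.toTruncTower (E⟦(1 : ℤ)⟧) 0)))))
    exact hz'.of_iso ((Scheme.Modules.restrictFunctor V.1.1.ι).mapIso
      ((((homologyFunctor S.Modules 0).shiftIso 1 (m - 1) m (by omega)).app _).symm ≪≫
        (homologyFunctor S.Modules (m - 1)).mapIso (((DCoh.Rpush f).commShiftIso (1 : ℤ)).app E).symm))

end Groth.Agent.DQCoh
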