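import Groth.Agent.DQCoh.Push
import Groth.Agent.DQCoh.Bound
import Groth.Agent.DQCoh.Compact

/-!
# Derived direct image commutes with direct sums of objects with quasi-coherent cohomology
-/

set_option autoImplicit false
set_option backward.isDefEq.respectTransparency false
set_option backward.defeqAttrib.useBackward true
set_option linter.style.haveILetI false
set_option synthInstance.maxHeartbeats 100000

universe w v u

open CategoryTheory CategoryTheory.Limits CategoryTheory.Pretriangulated DerivedCategory Opposite TopologicalSpace AlgebraicGeometry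
open scoped ZeroObject
open Groth.Agent.SiteDer16 Groth.Agent.DCat Groth.Agent.Coherent

namespace Groth.Agent.DQCoh

section Coord

variable {D : Type u} [Category.{v} D] [Preadditive D] {κ : Type w} (K : κ → D) [HasCoproduct K]

open Classical in
/-- The projection to a summand. -/
noncomputable def coord (i : κ) : ∐ K ⟶ K i :=
  Sigma.desc fun k => if h : k = i then eqToHom (congrArg K h) else 0

theorem subSum_eq_sum (s : Finset κ) : subSum K s = ∑ i ∈ s, coord K i ≫ Sigma.ι K i := by
  classical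
  refine Sigma.hom_ext _ _ fun k => ?_
  rw [ι_subSum, Preadditive.comp_sum]
  by_cases hk : k ∈ s
  · rw [if_pos hk, Finset.sum_eq_single k]
    · simp [coord]
    · intro i _ hi
      simp [coord, dif_neg (Ne.symm hi)]
    · exact fun h => absurd hk h
  · rw [if_neg hk, Finset.sum_eq_zero]
    intro i hi
    simp [coord, dif_neg (show ¬ k = i from fun h => hk (h ▸ hi))]

end Coord

attribute [local instance] HasDerivedCategory.standard

variable {X S : Scheme.{u}}

theorem isZero_of_isZero_hd (C : DCoh.D X) (h : ∀ i : ℤ, IsZero (DCoh.HD C i)) : IsZero C := by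
  haveI : IsIso (0 : C ⟶ 0) := (DerivedCategory.isIso_iff _ _).2 fun i =>
    (isZero_iso _ (h i) ((homologyFunctor X.Modules i).map_isZero (isZero_zero _)))
  exact (isZero_zero _).of_iso (asIso (0 : C ⟶ 0))
where
  isZero_iso {A B : X.Modules} (g : A ⟶ B) (hA : IsZero A) (hB : IsZero B) : IsIso g :=
    ⟨0, hA.eq_of_src _ _, hB.eq_of_src _ _⟩

/-- An isomorphism is detected by hypercohomology on affine opens. -/
theorem isIso_of_bijective_affine {A B : DCoh.D X} (φ : A ⟶ B)
    (h : ∀ (W : X.Opens), IsAffineOpen W → ∀ k : ℤ,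
      Function.Bijective (fun y : ((sec X).pt.obj W)⟦k⟧ ⟶ A => y ≫ φ)) : IsIso φ := by
  obtain ⟨C, v, w, hT⟩ := distinguished_cocone_triangle φ
  refine (Triangle.isZero₃_iff_isIso₁ _ hT).1 (isZero_of_isZero_hd C fun j => ?_)
  refine isZero_of_restrict_cover _ (fun _ : PUnit.{u + 1} => (⊤ : X.Opens)) (fun x => ⟨⟨⟩, trivial⟩) fun _ => ?_
  refine isZero_restrict_homology C j ⊤ {W | IsAffineOpen W} (fun x U _ hxU => ?_) fun W hW y => ?_
  · obtain ⟨W, hW, hxW, hWU⟩ := exists_isAffineOpen_mem_and_subset (x := x) (U := U) hxU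
    exact ⟨W, hW, hxW, hWU⟩
  have hw : y ≫ w = 0 := by
    refine eq_zero_of_comp_shift_eq_zero φ 1 (fun z hz => ?_) _ ?_
    · let e2 : ((sec X).pt.obj W)⟦-(j + 1)⟧ ≅ (((sec X).pt.obj W)⟦-j⟧)⟦-(1 : ℤ)⟧ :=
        (shiftFunctorAdd' (DCoh.D X) (-j) (-1) (-(j + 1)) (by omega)).app _
      rw [← cancel_epi e2.hom, comp_zero]
      apply (h W hW (-(j + 1))).1
      simp [hz]
    · rw [Category.assoc]
      exact (congrArg (y ≫ ·) (comp_distTriang_mor_zero₃₁ _ hT)).trans comp_zero
  obtain ⟨y', rfl⟩ := Triangle.coyoneda_exact₃ _ hT y hw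
  obtain ⟨y'', rfl⟩ := (h W hW _).2 y'
  exact (Category.assoc _ _ _).trans ((congrArg (y'' ≫ ·) (comp_distTriang_mor_zero₁₂ _ hT)).trans comp_zero)

/-- `Rf_*` commutes with direct sums of objects with quasi-coherent cohomology. -/
theorem isIso_sigmaDesc_Rpush (f : X ⟶ S) [QuasiCompact f] [QuasiSeparated f] [DCoh.HasRpush f]
    {ι : Type u} (K : ι → DCoh.D X) (hK : ∀ i, DCoh.IsQCohD (K i)) [HasCoproduct K]
    [HasCoproduct (fun i => (DCoh.Rpush f).obj (K i))] :
    IsIso (Sigma.desc (fun i => (DCoh.Rpush f).map (Sigma.ι K i))) := by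
  classical
  obtain ⟨_, _⟩ := exists_commShift_Rpush f
  refine isIso_of_bijective_affine _ fun W hW k => ?_
  let R := DCoh.Rpush f
  let K' := fun i => R.obj (K i)
  let Φ : ∐ K' ⟶ R.obj (∐ K) := Sigma.desc fun i => R.map (Sigma.ι K i)
  have hc : IsCompact ((f ⁻¹ᵁ W : X.Opens) : Set X) :=
    f.isCompact_preimage hW.isCompact
  have hs : IsQuasiSeparated ((f ⁻¹ᵁ W : X.Opens) : Set X) :=
    f.isQuasiSeparated_preimage hW.isQuasiSeparated
  constructor
  · intro h₁ h₂ h
    obtain ⟨s, hs'⟩ := shiftSumFac_affine (K := K') (fun i => isQCohD_Rpush f _ (hK i)) hW k (h₁ - h₂)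
    have hd : (h₁ - h₂) ≫ Φ = 0 := by
      rw [Preadditive.sub_comp, sub_eq_zero]
      exact h
    refine sub_eq_zero.1 ?_
    rw [← hs', subSum_eq_sum, Preadditive.comp_sum]
    refine Finset.sum_eq_zero fun i _ => ?_
    have e : Φ ≫ R.map (coord K i) = coord K' i := Sigma.hom_ext _ _ fun j => by
      simp only [Φ, coord, Sigma.ι_desc_assoc, Sigma.ι_desc, ← R.map_comp]
      split_ifs with hj
      · subst hj
        simp [R]
        rfl
      · exact R.map_zero _ _
    rw [← Category.assoc, ← e, ← Category.assoc, hd, zero_comp, zero_comp]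
  · intro g
    obtain ⟨b, hb⟩ := exists_homEquiv f W k
    obtain ⟨s, hs'⟩ := shiftSumFac_of_isCompact hK hc hs k (b _ g)
    have hg : g ≫ R.map (subSum K s) = g := (b _).injective ((hb _ g).trans hs')
    refine ⟨g ≫ ∑ i ∈ s, R.map (coord K i) ≫ Sigma.ι K' i, ?_⟩
    show (g ≫ ∑ i ∈ s, R.map (coord K i) ≫ Sigma.ι K' i) ≫ Φ = g
    conv_rhs => rw [← hg, subSum_eq_sum, Functor.map_sum]
    rw [Category.assoc, Preadditive.sum_comp]
    refine congrArg (g ≫ ·) (Finset.sum_congr rfl fun i _ => ?_)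
    rw [Category.assoc, R.map_comp]
    exact congrArg (R.map (coord K i) ≫ ·) (Sigma.ι_desc _ _)

end Groth.Agent.DQCoh
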