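import Groth.Agent.DQCoh.PerfectClass
import Groth.Agent.DQCoh.Compact
import Groth.Agent.DQCoh.RpushSum
import Groth.Agent.DCat.WayOut
import Groth.Prelude.Def_PerfAux
import Mathlib.CategoryTheory.Triangulated.TStructure.TruncLEGT

/-!
# Maps out of perfect objects into objects with quasi-coherent cohomology
-/

set_option autoImplicit false
set_option backward.isDefEq.respectTransparency false
set_option backward.defeqAttrib.useBackward true
set_option linter.style.haveILetI false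
set_option synthInstance.maxHeartbeats 100000
set_option linter.unusedVariables false

universe v' u u' w

open CategoryTheory CategoryTheory.Limits CategoryTheory.Pretriangulated DerivedCategory Opposite TopologicalSpace AlgebraicGeometry
open Groth.Agent.SiteDer16 Groth.Agent.DCat Groth.Agent.Coherent

namespace Groth.Agent.DQCoh

attribute [local instance] HasDerivedCategory.standard
attribute [-instance] Int.instConditionallyCompleteLinearOrder

variable {X : Scheme.{u}}

local notation "t₀" => (DerivedCategory.TStructure.t : CategoryTheory.Triangulated.TStructure (DCoh.D X))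

/-- `Hom(P[-i], E) = 0` for `i ≥ b + N`, whenever `E ∈ D_QCoh` is `≤ b`. -/
def UpperBound (P : DCoh.D X) : Prop :=
  ∃ N : ℤ, ∀ (E : DCoh.D X) (b : ℤ), DCoh.IsQCohD E → E.IsLE b → ∀ i, b + N ≤ i → ∀ φ : P⟦-i⟧ ⟶ E, φ = 0

/-- All shifts of `P` see only finite subsums of families in `D_QCoh`. -/
def QCompact (P : DCoh.D X) : Prop :=
  ∀ {ι : Type u} (K : ι → DCoh.D X) [HasCoproduct K], (∀ i, DCoh.IsQCohD (K i)) → ShiftSumFac K P

theorem isDev_upperBound : IsDev (UpperBound (X := X)) where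
  iso := fun {K L} e ⟨N, h⟩ => ⟨N, fun E b hE hb i hi φ => by
    rw [← cancel_epi ((shiftFunctor (DCoh.D X) (-i)).map e.hom), comp_zero]
    exact h E b hE hb i hi _⟩
  zero := fun K hK => ⟨0, fun E b _ _ i _ φ => ((shiftFunctor (DCoh.D X) (-i)).map_isZero hK).eq_of_src _ _⟩
  shift := fun K n ⟨N, h⟩ => ⟨N + n, fun E b hE hb i hi φ => by
    rw [← cancel_epi ((shiftFunctorAdd' (DCoh.D X) n (-i) (-(i - n)) (by omega)).hom.app K), comp_zero]
    exact h E b hE hb (i - n) (by omega) _⟩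
  ext := fun T hT ⟨N₁, h₁⟩ ⟨N₃, h₃⟩ => ⟨max N₁ N₃, fun E b hE hb i hi φ => by
    have hT' := Triangle.shift_distinguished T hT (-i)
    obtain ⟨g, hg⟩ := Triangle.yoneda_exact₂ _ hT' φ (h₁ E b hE hb i (by omega) _)
    rw [hg, h₃ E b hE hb i (by omega) g]
    exact comp_zero⟩

theorem isDev_qCompact : IsDev (QCompact (X := X)) where
  iso := fun {P Q} e h {ι} K _ hK => (h K hK).of_iso e
  zero := fun P hP {ι} K _ hK k α => ⟨∅, ((shiftFunctor (DCoh.D X) k).map_isZero hP).eq_of_src _ _⟩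
  shift := fun P n h {ι} K _ hK k => (h K hK (n + k)).of_iso ((shiftFunctorAdd (DCoh.D X) n k).app P)
  ext := fun T hT h₁ h₃ {ι} K _ hK => ShiftSumFac.of_ext hT (h₁ K hK) (h₃ K hK)

/-- Affine opens. -/
theorem upperBound_affine {U : X.Opens} (hU : IsAffineOpen U) : UpperBound ((sec X).pt.obj U) := by
  refine ⟨1, fun E b hE hb i hi φ => ?_⟩
  obtain ⟨y, hy⟩ := (shiftFunctor (DCoh.D X) (-i)).map_surjective
    (φ ≫ (shiftFunctorCompIsoId (DCoh.D X) i (-i) (by omega)).inv.app E)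
  have hy0 : y = 0 := by
    refine (bijective_θ (E⟦i⟧) (isQCohD_shift hE i) hU).1 ?_
    refine IsZero.eq_of_tgt ?_ _ _
    exact (isZero_of_isLE E b i (by omega)).of_iso (((homologyFunctor X.Modules 0).shiftIso i 0 i (by omega)).app E)
  rw [← cancel_mono ((shiftFunctorCompIsoId (DCoh.D X) i (-i) (by omega)).inv.app E), zero_comp, ← hy, hy0,
    Functor.map_zero]

/-- Quasi-compact opens inside an affine open, by Mayer–Vietoris for basic opens. -/
theorem basicOpens_induction (Φ : X.Opens → Prop) (haff : ∀ U : X.Opens, IsAffineOpen U → Φ U)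
    (hsup : ∀ U V : X.Opens, Φ U → Φ V → Φ (U ⊓ V) → Φ (U ⊔ V))
    {U : X.Opens} (hU : IsAffineOpen U) (Z : X.Opens) (hZ : IsCompact (Z : Set X)) (hle : Z ≤ U) : Φ Z := by
  classical
  have hbot : Φ ⊥ := haff _ (isAffineOpen_bot X)
  have key : ∀ n (t : Finset Γ(X, U)), t.card ≤ n → Φ (t.sup fun r => X.basicOpen r) := by
    intro n
    induction n with
    | zero => exact fun t ht => by rw [Finset.card_eq_zero.1 (Nat.le_zero.1 ht), Finset.sup_empty]; exact hbot
    | succ n ih =>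
      intro t ht
      rcases t.eq_empty_or_nonempty with rfl | ⟨r, hr⟩
      · rw [Finset.sup_empty]; exact hbot
      obtain ⟨t', hr', rfl⟩ : ∃ t', r ∉ t' ∧ insert r t' = t := ⟨t.erase r, Finset.notMem_erase _ _, Finset.insert_erase hr⟩
      rw [Finset.card_insert_of_notMem hr'] at ht
      rw [Finset.sup_insert]
      refine hsup _ _ (haff _ (hU.basicOpen r)) (ih t' (by omega)) ?_
      have : X.basicOpen r ⊓ t'.sup (fun a => X.basicOpen a) = (t'.image (r * ·)).sup fun a => X.basicOpen a := by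
        rw [Finset.sup_inf_distrib_left, Finset.sup_image]
        simp [Function.comp_def, Scheme.basicOpen_mul]
      rw [this]
      exact ih _ (Finset.card_image_le.trans (by omega))
  choose f hf hxf using fun x : {x : X // x ∈ Z} => hU.exists_basicOpen_le x (hle x.2)
  obtain ⟨t, ht⟩ := hZ.elim_finite_subcover (fun x => ((X.basicOpen (f x)) : Set X)) (fun x => (X.basicOpen (f x)).2)
    fun x hx => Set.mem_iUnion.2 ⟨⟨x, hx⟩, hxf _⟩
  have e : Z = (t.image f).sup fun r => X.basicOpen r := by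
    rw [Finset.sup_image]
    refine le_antisymm (fun x hx => ?_) (Finset.sup_le fun x _ => hf x)
    obtain ⟨y, hy, hxy⟩ := Set.mem_iUnion₂.1 (ht hx)
    exact (Finset.le_sup (f := (fun r => X.basicOpen r) ∘ f) hy : _) hxy
  rw [e]
  exact key _ _ le_rfl

/-- A class closed under the triangle operations contains all quasi-compact opens once it contains the affine ones. -/
theorem IsDev.of_affine [QuasiSeparatedSpace X] {P : ObjectProperty (DCoh.D X)} (hP : IsDev P)
    (h : ∀ U : X.Opens, IsAffineOpen U → P ((sec X).pt.obj U)) (Z : X.Opens) (hZ : IsCompact (Z : Set X)) :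
    P ((sec X).pt.obj Z) := by
  have hsup : ∀ U V : X.Opens, P ((sec X).pt.obj U) → P ((sec X).pt.obj V) → P ((sec X).pt.obj (U ⊓ V)) →
      P ((sec X).pt.obj (U ⊔ V)) := fun U V =>
    hP.mv (𝟭 _) (fun {T} hT => ⟨T.mor₃, hT⟩) U V
  refine opens_induction (fun Z => P ((sec X).pt.obj Z)) (h ⊥ (isAffineOpen_bot X)) hsup (fun x => ?_) Z hZ
  obtain ⟨U, hU, hx, -⟩ := exists_isAffineOpen_mem_and_subset (x := x) (U := (⊤ : X.Opens)) trivial
  exact ⟨U, hx, fun Z hZ hle => basicOpens_induction (fun Z => P ((sec X).pt.obj Z)) h hsup hU Z hZ hle⟩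

theorem upperBound_perfect [CompactSpace X] [QuasiSeparatedSpace X] (P : DCoh.D X) (hP : DCoh.IsPerfect P) :
    UpperBound P :=
  perfect_induction isDev_upperBound (isDev_upperBound.of_affine fun _ hU => upperBound_affine hU) P hP

theorem qCompact_perfect [CompactSpace X] [QuasiSeparatedSpace X] (P : DCoh.D X) (hP : DCoh.IsPerfect P) :
    QCompact P :=
  perfect_induction isDev_qCompact
    (isDev_qCompact.of_affine fun _ hU {ι} K _ hK => shiftSumFac_affine hK hU) P hP

/-- Perfect objects are bounded above. -/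
theorem exists_isLE_perfect [CompactSpace X] [QuasiSeparatedSpace X] (P : DCoh.D X) (hP : DCoh.IsPerfect P) :
    ∃ b : ℤ, P.IsLE b := by
  refine perfect_induction (P := fun P : DCoh.D X => ∃ b : ℤ, P.IsLE b)
    { iso := fun e ⟨b, hb⟩ => ⟨b, (t₀).le b |>.prop_of_iso e hb.le |> fun h => ⟨h⟩⟩
      zero := fun K hK => ⟨0, (t₀).isLE_of_isZero hK 0⟩
      shift := fun K n ⟨b, hb⟩ => ⟨b - n, (t₀).isLE_shift K b n (b - n) (by omega)⟩
      ext := fun T hT ⟨b₁, h₁⟩ ⟨b₃, h₃⟩ => ⟨max b₁ b₃, ?_⟩ } (fun Z _ => ⟨0, ?_⟩) P hP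
  · haveI := (t₀).isLE_of_le T.obj₁ b₁ (max b₁ b₃) (le_max_left _ _)
    haveI := (t₀).isLE_of_le T.obj₃ b₃ (max b₁ b₃) (le_max_right _ _)
    exact (t₀).isLE₂ T hT (max b₁ b₃) ‹_› ‹_›
  · exact (inferInstance : ((singleFunctor X.Modules 0).obj ((freeModOn X).obj Z)).IsLE 0)

theorem eq_zero_of_isGE {P E : DCoh.D X} (b a : ℤ) [hb : P.IsLE b] [hE : E.IsGE a] (i : ℤ) (hi : b + i < a)
    (φ : P⟦-i⟧ ⟶ E) : φ = 0 := by
  haveI := (t₀).isLE_shift P b (-i) (b + i) (by omega)
  exact (t₀).zero φ (b + i) a (by omega)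

theorem isQCohD_truncLT (E : DCoh.D X) (hE : DCoh.IsQCohD E) (a : ℤ) :
    DCoh.IsQCohD (((t₀).truncLT a).obj E) := fun i => by
  obtain hi | hi := lt_or_ge i a
  · haveI := mono_homology_truncLTι E a i
    haveI : Epi ((homologyFunctor X.Modules i).map (((t₀).truncLTι a).app E)) :=
      (HomologySequence.epi_homologyMap_mor₁_iff _ ((t₀).triangleLTGE_distinguished a E) i).2
        ((isZero_of_isGE (((t₀).truncGE a).obj E) a i hi).eq_of_tgt _ _)
    haveI := isIso_of_mono_of_epi ((homologyFunctor X.Modules i).map (((t₀).truncLTι a).app E))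
    exact isQCoh_of_iso (asIso ((homologyFunctor X.Modules i).map (((t₀).truncLTι a).app E))).symm (h := hE i)
  · haveI := (t₀).isLE_truncLT_obj E a (a - 1) (by omega)
    exact isQCoh_of_isZero (isZero_of_isLE (((t₀).truncLT a).obj E) (a - 1) i (by omega))

theorem hom_vanish_trans {A B C : DCoh.D X} {f : A ⟶ B} {g : B ⟶ C} {h : C ⟶ A⟦(1 : ℤ)⟧}
    (hT : Triangle.mk f g h ∈ distTriang _) {Y : DCoh.D X} (hA : ∀ φ : Y ⟶ A, φ = 0) (hC : ∀ φ : Y ⟶ C, φ = 0)
    (φ : Y ⟶ B) : φ = 0 := by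
  obtain ⟨ψ, rfl⟩ := Triangle.coyoneda_exact₂ _ hT φ (hC _)
  rw [hA ψ]
  exact zero_comp

/-- Vanishing of `Hom(P[-i], E)` for large `i` only depends on `τ_{≥a} E`. -/
theorem eventually_zero_truncGE [CompactSpace X] [QuasiSeparatedSpace X] (P : DCoh.D X) (hP : DCoh.IsPerfect P)
    (E : DCoh.D X) (hE : DCoh.IsQCohD E) (a : ℤ) :
    (∃ N : ℤ, ∀ i : ℤ, N ≤ i → ∀ φ : P⟦-i⟧ ⟶ E, φ = 0) ↔
      ∃ N : ℤ, ∀ i : ℤ, N ≤ i → ∀ φ : P⟦-i⟧ ⟶ ((t₀).truncGE a).obj E, φ = 0 := by
  obtain ⟨M, hM⟩ := upperBound_perfect P hP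
  let A := ((t₀).truncLT a).obj E
  have hA : DCoh.IsQCohD A := isQCohD_truncLT E hE a
  have hAle : A.IsLE (a - 1) := (t₀).isLE_truncLT_obj E a (a - 1) (by omega)
  haveI := hAle
  have hA1 : (A⟦(1 : ℤ)⟧).IsLE (a - 2) := (t₀).isLE_shift A (a - 1) 1 (a - 2) (by omega)
  have hT := (t₀).triangleLTGE_distinguished a E
  constructor
  · rintro ⟨N, hN⟩
    exact ⟨max N (a + M), fun i hi φ => hom_vanish_trans (rot_of_distTriang _ hT)
      (hN i (by omega)) (fun ψ => hM _ (a - 2) (isQCohD_shift hA 1) hA1 i (by omega) ψ) φ⟩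
  · rintro ⟨N, hN⟩
    exact ⟨max N (a + M), fun i hi φ => hom_vanish_trans hT
      (fun ψ => hM A (a - 1) hA hAle i (by omega) ψ) (hN i (by omega)) φ⟩

/-- Vanishing of `Hom(P[-i], E)` for small `i` only depends on `τ_{≤a} E`. -/
theorem eventually_zero_truncLE [CompactSpace X] [QuasiSeparatedSpace X] (P : DCoh.D X) (hP : DCoh.IsPerfect P)
    (E : DCoh.D X) (a : ℤ) :
    (∃ N : ℤ, ∀ i : ℤ, i ≤ N → ∀ φ : P⟦-i⟧ ⟶ E, φ = 0) ↔
      ∃ N : ℤ, ∀ i : ℤ, i ≤ N → ∀ φ : P⟦-i⟧ ⟶ ((t₀).truncLE a).obj E, φ = 0 := by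
  obtain ⟨b, hb⟩ := exists_isLE_perfect P hP
  haveI := hb
  have hT := (t₀).triangleLEGT_distinguished a E
  haveI hG : (((t₀).truncGT a).obj E).IsGE (a + 1) :=
    (inferInstance : (((t₀).truncGE (a + 1)).obj E).IsGE (a + 1))
  haveI hG1 : ((((t₀).truncGT a).obj E)⟦(-1 : ℤ)⟧).IsGE (a + 2) :=
    (t₀).isGE_shift (((t₀).truncGT a).obj E) (a + 1) (-1) (a + 2) (by omega)
  constructor
  · rintro ⟨N, hN⟩
    exact ⟨min N (a - b), fun i hi φ => hom_vanish_trans (inv_rot_of_distTriang _ hT)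
      (fun ψ => @eq_zero_of_isGE _ _ _ b (a + 2) hb hG1 i (by omega) ψ) (hN i (by omega)) φ⟩
  · rintro ⟨N, hN⟩
    exact ⟨min N (a - b), fun i hi φ => hom_vanish_trans hT
      (hN i (by omega)) (fun ψ => @eq_zero_of_isGE _ _ _ b (a + 1) hb hG i (by omega) ψ) φ⟩

/-- Compactness in bijective form. -/
theorem bijective_homSum {P : DCoh.D X} {κ : Type w} (K : κ → DCoh.D X) [HasCoproduct K] (h : SumFac K P) :
    Function.Bijective (PerfAux.homSumToHomCoprod P K) := by
  classical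
  have he : ∀ (z : DirectSum κ fun i => P ⟶ K i) (i : κ), PerfAux.homSumToHomCoprod P K z ≫ coord K i = z i := by
    intro z i
    induction z using DirectSum.induction_on with
    | zero => rw [map_zero, zero_comp]; rfl
    | of j x =>
      have e : PerfAux.homSumToHomCoprod P K (DirectSum.of (fun i => P ⟶ K i) j x) = x ≫ Sigma.ι K j := by
        simp [PerfAux.homSumToHomCoprod, Preadditive.rightComp]
      rw [e, Category.assoc]
      by_cases hji : j = i
      · subst hji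
        simp [coord]
      · rw [DirectSum.of_eq_of_ne _ _ _ (Ne.symm hji)]
        simp [coord, hji]
    | add a b ha hb => rw [map_add, Preadditive.add_comp, ha, hb]; rfl
  refine ⟨fun z z' hz => DFinsupp.ext fun i => by rw [← he, ← he, hz], fun α => ?_⟩
  obtain ⟨s, hs⟩ := h α
  refine ⟨∑ i ∈ s, DirectSum.of (fun i => P ⟶ K i) i (α ≫ coord K i), ?_⟩
  rw [map_sum]
  refine Eq.trans ?_ hs
  rw [subSum_eq_sum, Preadditive.comp_sum]
  refine Finset.sum_congr rfl fun i _ => ?_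
  simp [PerfAux.homSumToHomCoprod, Preadditive.rightComp]

/-- Perfect objects are compact relative to `D_QCoh`. -/
theorem isCompactObjRel_perfect [CompactSpace X] [QuasiSeparatedSpace X] (P : DCoh.D X) (hP : DCoh.IsPerfect P) :
    ∀ (ι : Type u) (K : ι → DCoh.D X) [HasCoproduct K], (∀ i, DCoh.IsQCohD (K i)) →
      Function.Bijective (PerfAux.homSumToHomCoprod P K) := fun _ K _ hK =>
  bijective_homSum K (((qCompact_perfect P hP) K hK 0).of_iso ((shiftFunctorZero (DCoh.D X) ℤ).app P))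

end Groth.Agent.DQCoh
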