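import Groth.Agent.DQCoh.RHomQCoh
import Groth.Agent.DQCoh.PerfectHom
import Groth.Agent.DCat.PCTriangle
import Groth.Agent.DCat.CompactStd
import Groth.Agent.DRingLib.PCMore
import Groth.Agent.Props12.TildeFin
import Groth.Agent.Coherent.CohOps
import Groth.Agent.Desc19b.ModStFibGrpd

/-!
# Perfect and pseudo-coherent objects on affine schemes
-/

set_option autoImplicit false
set_option backward.isDefEq.respectTransparency false
set_option backward.defeqAttrib.useBackward true
set_option linter.style.haveILetI false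
set_option synthInstance.maxHeartbeats 100000
set_option linter.unusedVariables false
set_option backward.isDefEq.respectTransparency.types false

universe u

open CategoryTheory CategoryTheory.Limits CategoryTheory.Pretriangulated DerivedCategory Opposite TopologicalSpace AlgebraicGeometry
open Groth.Agent.SiteDer16 Groth.Agent.DCat Groth.Agent.Coherent

namespace Groth.Agent.DQCoh

attribute [local instance] HasDerivedCategory.standard
attribute [-instance] Int.instConditionallyCompleteLinearOrder

theorem preservesFiniteColimits_tilde (R : CommRingCat.{u}) : PreservesFiniteColimits (tilde.functor R) :=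
  haveI := (tilde.adjunction (R := R)).leftAdjoint_preservesColimits
  inferInstance

/-- The derived tilde functor commutes with coproducts. -/
theorem preservesCoproducts_tildeD (R : CommRingCat.{u}) [PreservesFiniteLimits (tilde.functor R)] (J : Type u) :
    PreservesColimitsOfShape (Discrete J) (DCoh.tildeD R) := by
  haveI : PreservesColimitsOfShape (Discrete J) ((tilde.functor R).mapHomologicalComplex (ComplexShape.up ℤ)) :=
    haveI := (tilde.adjunction (R := R)).leftAdjoint_preservesColimits
    inferInstance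
  haveI := DCat.RHomExist.preservesCoproducts_Q (A := (Spec R).Modules) J
  haveI : PreservesColimitsOfShape (Discrete J) (DerivedCategory.Q ⋙ DCoh.tildeD R) :=
    preservesColimitsOfShape_of_natIso (tilde.functor R).mapDerivedCategoryFactors.symm
  exact DCat.RHomExist.preservesCoproducts_of_fac (DCoh.tildeD R) J

section Affine

variable {A : CommRingCat.{u}} [PreservesFiniteLimits (tilde.functor A)]

omit [PreservesFiniteLimits (tilde.functor A)] in
/-- A bounded complex of finite projective modules gives a strictly perfect complex. -/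
theorem strictlyPerfect_tilde {E : DRing.Cx A} {a b : ℤ} (hE : DRing.VanishesOutside E a b)
    (hp : ∀ i, Module.Finite A (E.X i) ∧ Module.Projective A (E.X i)) :
    DCoh.IsStrictlyPerfect (((tilde.functor A).mapHomologicalComplex (ComplexShape.up ℤ)).obj E) :=
  ⟨⟨a, b, fun i hi => (tilde.functor A).map_isZero (hE i hi)⟩,
    fun i => (Props12.isFinLocFree_tilde_iff (R := CommRingCat.of A) (E.X i)).2 (hp i)⟩

/-- Perfect modules give perfect objects. -/
theorem isPerfect_tildeD {M : Dual.D A} (h : DRing.IsPerfect A M) :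
    DCoh.IsPerfect ((DCoh.tildeD A).obj M) := by
  obtain ⟨E, a, b, hE, hp, ⟨e⟩⟩ := h
  refine PCTriangle.perfect_iso ((DCoh.tildeD A).mapIso e) ?_
  refine PCTriangle.perfect_iso ((tilde.functor A).mapDerivedCategoryFactors.app E).symm ?_
  refine (PerfLocal.isPerfect_iff _).2 fun x => ⟨_, 𝟙 _, inferInstance, ⟨x, rfl⟩, _, strictlyPerfect_tilde hE hp, ?_⟩
  exact PCTriangle.rd_id _

/-- Objects whose image is perfect are perfect. -/
theorem perfect_of_isPerfect_tildeD {M : Dual.D A}
    (h : DCoh.IsPerfect ((DCoh.tildeD A).obj M)) : DRing.IsPerfect A M := by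
  classical
  refine DCat.perfect_of_cpt fun κ Z c hc x => ?_
  let T := DCoh.tildeD A
  obtain ⟨hfull, hfaith, -⟩ := tildeD_main A
  haveI := hfull
  haveI := hfaith
  haveI := preservesCoproducts_tildeD A κ
  let hc' : IsColimit (Cofan.mk (T.obj c.pt) fun k => T.map (c.inj k)) :=
    (Cofan.isColimitMapCoconeEquiv _ _ _).1 (isColimitOfPreserves T hc)
  haveI : HasCoproduct fun k => T.obj (Z k) := ⟨⟨⟨_, hc'⟩⟩⟩
  let w := (coproductIsCoproduct fun k => T.obj (Z k)).coconePointUniqueUpToIso hc'
  have hw : ∀ k, Sigma.ι (fun k => T.obj (Z k)) k ≫ w.hom = T.map (c.inj k) := fun k =>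
    IsColimit.comp_coconePointUniqueUpToIso_hom (coproductIsCoproduct _) hc' ⟨k⟩
  obtain ⟨z, hz⟩ := (isCompactObjRel_perfect (T.obj M) h κ (fun k => T.obj (Z k))
    fun k => isQCohD_tildeD _ (Z k)).2 (T.map x ≫ w.inv)
  refine ⟨z.support, fun k => T.preimage (z k), T.map_injective ?_⟩
  rw [← DirectSum.sum_support_of z, map_sum] at hz
  have h2 := congrArg (· ≫ w.hom) hz
  simp only [Category.assoc, Iso.inv_hom_id, Category.comp_id, Preadditive.sum_comp] at h2
  rw [← h2, T.map_sum]
  refine Finset.sum_congr rfl fun k _ => ?_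
  rw [T.map_comp, T.map_preimage, ← hw k, ← Category.assoc]
  congr 1
  simp [PerfAux.homSumToHomCoprod, Preadditive.rightComp]

/-- Tilde preserves approximations. -/
theorem apx_tildeD {m : ℤ} {K L : Dual.D A} (f : K ⟶ L) (h : DRingLib.Apx m f) :
    PullPerf.Apx m ((DCoh.tildeD A).map f) := by
  haveI := preservesFiniteColimits_tilde A
  have key : ∀ i : ℤ, ∃ (a : _ ⟶ _) (b : _ ⟶ _), IsIso a ∧ IsIso b ∧
      (homologyFunctor (Spec A).Modules i).map ((DCoh.tildeD A).map f) =
        a ≫ (tilde.functor A).map ((homologyFunctor _ i).map f) ≫ b := fun i => by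
    obtain ⟨η⟩ := nonempty_homology_natIso (tilde.functor A) i
    refine ⟨η.hom.app K, η.inv.app L, inferInstance, inferInstance, ?_⟩
    exact (NatIso.naturality_2 η f).symm
  refine ⟨fun i hi => ?_, ?_⟩
  · obtain ⟨a, b, _, _, e⟩ := key i
    haveI := h.1 i hi
    exact (congrArg (fun φ => IsIso φ) e).mpr inferInstance
  · obtain ⟨a, b, _, _, e⟩ := key m
    haveI := h.2
    exact (congrArg (fun φ => Epi φ) e).mpr inferInstance

omit [PreservesFiniteLimits (tilde.functor A)] in
theorem isZero_of_isZero_tilde {N : ModuleCat.{u} A} (h : IsZero ((tilde.functor A).obj N)) :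
    IsZero N := by
  rw [IsZero.iff_id_eq_zero] at h ⊢
  exact (tilde.functor A).map_injective (by rw [CategoryTheory.Functor.map_id, h, Functor.map_zero])

theorem isLE_of_isLE_tildeD {M : Dual.D A} {b : ℤ}
    (h : ((DCoh.tildeD A).obj M).IsLE b) : M.IsLE b := by
  haveI := h
  haveI := preservesFiniteColimits_tilde A
  rw [DerivedCategory.isLE_iff]
  intro i hi
  obtain ⟨η⟩ := nonempty_homology_natIso (tilde.functor A) i
  exact isZero_of_isZero_tilde ((DerivedCategory.isZero_of_isLE _ b i hi).of_iso (η.app M).symm)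

/-- Pseudo-coherent modules give pseudo-coherent objects. -/
theorem psc_tildeD {M : Dual.D A} {m : ℤ} (h : DRing.IsPseudoCoherent A m M) :
    DCoh.IsPseudoCoherentD m ((DCoh.tildeD A).obj M) := by
  obtain ⟨E, a, b, α, hE, hf, hα⟩ := h
  refine PCTriangle.psc_of_gpsc ⟨_, ((tilde.functor A).mapDerivedCategoryFactors.app E).inv ≫
    (DCoh.tildeD A).map α, strictlyPerfect_tilde hE
      (fun i => ⟨(hf i).1, DRingLib.projective_of_free hf i⟩),
    (PullPerf.apx_of_isIso m _).comp (apx_tildeD α hα)⟩

omit [PreservesFiniteLimits (tilde.functor A)] in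
/-- The top cohomology of a perfect complex is finitely presented. -/
theorem finitePresentation_top {M : Dual.D A} (h : DRing.IsPerfect A M) (n : ℤ) [M.IsLE n] :
    Module.FinitePresentation A ((homologyFunctor (ModuleCat.{u} A) n).obj M) := by
  obtain ⟨E, a, b, hE, hp, ⟨e⟩⟩ := h
  have hex : ∀ i, n < i → E.ExactAt i := fun i hi => by
    rw [HomologicalComplex.exactAt_iff_isZero_homology]
    exact (DerivedCategory.isZero_of_isLE M n i hi).of_iso
      ((DRingLib.HQ E i).symm ≪≫ (homologyFunctor (ModuleCat.{u} A) i).mapIso e)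
  obtain ⟨hfin, hproj⟩ := DRingLib.finite_projective_cycles (fun i hi => hE i (Or.inr hi)) hp hex
  let S := E.sc' (n - 1) n (n + 1)
  haveI hfz : Module.FinitePresentation A S.cycles :=
    haveI : Module.Finite A (LinearMap.ker S.g.hom) := hfin
    haveI : Module.Projective A (LinearMap.ker S.g.hom) := hproj
    haveI : Module.FinitePresentation A (LinearMap.ker S.g.hom) := Module.finitePresentation_of_projective A _
    haveI : Module.FinitePresentation A S.moduleCatLeftHomologyData.K := this
    Module.FinitePresentation.of_equiv S.moduleCatCyclesIso.toLinearEquiv.symm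
  haveI : Module.Finite A S.X₁ := (hp (n - 1)).1
  haveI : Module.FinitePresentation A S.homology := by
    refine Module.finitePresentation_of_surjective S.homologyπ.hom ((ModuleCat.epi_iff_surjective _).1 inferInstance) ?_
    have hx : Function.Exact S.toCycles.hom S.homologyπ.hom :=
      (ShortComplex.ShortExact.moduleCat_exact_iff_function_exact (ShortComplex.mk _ _ S.toCycles_comp_homologyπ)).1
        (ShortComplex.exact_of_g_is_cokernel _ S.homologyIsCokernel)
    rw [LinearMap.exact_iff.1 hx, LinearMap.range_eq_map]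
    exact (Module.Finite.fg_top).map _
  exact Module.FinitePresentation.of_equiv ((E.homologyIsoSc' (n - 1) n (n + 1) (by simp) (by simp)).symm ≪≫
    (DRingLib.HQ E n).symm ≪≫ (homologyFunctor (ModuleCat.{u} A) n).mapIso e).toLinearEquiv

end Affine

section Scheme

variable {X : Scheme.{u}}

/-- Pseudo-coherent objects are locally approximated by perfect modules. -/
theorem exists_affine_approx {K : DCoh.D X} {m : ℤ} (hK : DCoh.IsPseudoCoherentD m K) (x : X) :
    ∃ (A : CommRingCat.{u}) (_ : PreservesFiniteLimits (tilde.functor A))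
      (k : Spec A ⟶ X) (_ : IsOpenImmersion k) (M : Dual.D A)
      (α : (DCoh.tildeD A).obj M ⟶ (PerfLocal.rd k).obj K),
      x ∈ k.opensRange ∧ DRing.IsPerfect A M ∧ PullPerf.Apx m α := by
  obtain ⟨W, k, hk, hx, E, α, hE, ha⟩ := (PerfLocal.isPseudoCoherentD_iff m K).1 hK x
  obtain ⟨y, rfl⟩ := hx
  obtain ⟨V, hV, hyV, -⟩ := exists_isAffineOpen_mem_and_subset (x := y) (U := (⊤ : W.Opens)) trivial
  let A : CommRingCat.{u} := Γ(W, V)
  let j : Spec A ⟶ W := hV.fromSpec
  haveI hA := AffSchLib.preservesFiniteLimits_tilde A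
  let E' := ((Scheme.Modules.restrictFunctor j).mapHomologicalComplex (ComplexShape.up ℤ)).obj E
  have hE' : DCoh.IsStrictlyPerfect E' := PerfLocal.strictlyPerfect_restrict j hE
  have hq : DCoh.IsQCohD (DerivedCategory.Q.obj E') :=
    haveI : ∀ i, Coh.IsQCoh (E'.X i) := fun i => PullPerf.isQCoh_of_finLocFree (hE'.2 i)
    isQCohD_Q _ fun i => inferInstance
  obtain ⟨M, ⟨e⟩⟩ := ((tildeD_main A).2.2 _).1 hq
  obtain ⟨c⟩ := PerfLocal.rd_comp j k K
  refine ⟨A, hA, j ≫ k, inferInstance, M,
    e.hom ≫ ((Scheme.Modules.restrictFunctor j).mapDerivedCategoryFactors.app E).inv ≫ (PerfLocal.rd j).map α ≫ c.inv,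
    ?_, perfect_of_isPerfect_tildeD (PCTriangle.perfect_iso e.symm ?_),
    (PullPerf.apx_of_isIso m _).comp ((PullPerf.apx_of_isIso m _).comp ((PerfLocal.apx_rd j ha).comp (PullPerf.apx_of_isIso m _)))⟩
  · obtain ⟨z, hz⟩ : y ∈ hV.fromSpec.opensRange := by rw [hV.opensRange_fromSpec]; exact hyV
    exact ⟨z, congrArg k.base hz⟩
  · exact (PerfLocal.isPerfect_iff _).2 fun z => ⟨_, 𝟙 _, inferInstance, ⟨z, rfl⟩, E', hE', PCTriangle.rd_id _⟩

/-- Finite type is local. -/
theorem isFT_of_local (M : X.Modules) (h : ∀ x : X, ∃ (W : Scheme.{u}) (k : W ⟶ X) (_ : IsOpenImmersion k),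
    x ∈ k.opensRange ∧ CohB1.IsFT ((Scheme.Modules.restrictFunctor k).obj M)) : CohB1.IsFT M := by
  refine isFT_of_locallyFinGen fun x => ?_
  obtain ⟨W, k, _, ⟨y, rfl⟩, hW⟩ := h x
  obtain ⟨V, I, _, s, hyV, hs⟩ := locallyFinGen_of_isFT (M.restrict k) hW y
  exact ⟨k ''ᵁ V, I, inferInstance, _, ⟨_, hyV, rfl⟩, genOn_of_restrict k M hs⟩

/-- Finite presentation is local. -/
theorem isFP_of_local (M : X.Modules) (h : ∀ x : X, ∃ (A : CommRingCat.{u}) (k : Spec A ⟶ X) (_ : IsOpenImmersion k),
    x ∈ k.opensRange ∧ CohB1.IsFP ((Scheme.Modules.restrictFunctor k).obj M)) : CohB1.IsFP M := by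
  choose A k hk hx hFP using h
  haveI := hk
  have hU : ∀ x, IsAffineOpen (k x).opensRange := fun x => isAffineOpen_opensRange (k x)
  have hfp : ∀ x, CohB1.IsFP (M.restrict (k x).opensRange.ι) := fun x => by
    have h1 := Desc19b.ModStFib.isFP_pullback (k x).isoOpensRange.inv _ (hFP x)
    refine (SheafOfModules.isFinitePresentation (k x).opensRange.toScheme.ringCatSheaf).prop_of_iso ?_ h1
    exact ((Scheme.Modules.restrictFunctorIsoPullback (k x).isoOpensRange.inv).app _).symm ≪≫
      ((Scheme.Modules.restrictFunctorComp (k x).isoOpensRange.inv (k x)).app M).symm ≪≫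
      (Scheme.Modules.restrictFunctorCongr (k x).isoOpensRange_inv_comp).app M
  have key : ∀ x, ∃ p : SheafOfModules.Presentation.{u} (R := (k x).opensRange.toScheme.ringCatSheaf)
      (M.restrict (k x).opensRange.ι), p.IsFinite := fun x => by
    haveI : IsAffine (k x).opensRange.toScheme := hU x
    haveI : SheafOfModules.IsFinitePresentation.{u} (R := (k x).opensRange.toScheme.ringCatSheaf)
      (M.restrict (k x).opensRange.ι) := hfp x
    haveI : Coh.IsQCoh (M.restrict (k x).opensRange.ι) := inferInstanceAs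
      (SheafOfModules.IsQuasicoherent.{u} (R := (k x).opensRange.toScheme.ringCatSheaf) _)
    exact exists_finite_presentation _ (EGA43.QcohFP.finitePresentation_sections _ (hfp x) (isAffineOpen_top _))
  choose p hp using key
  refine isFP_of_finite_presentations M (fun x => (k x).opensRange) ?_ p hp
  rw [IsOpenCover, eq_top_iff]
  exact fun x _ => Opens.mem_iSup.2 ⟨x, hx x⟩

/-- Finiteness of the top cohomology sheaves of pseudo-coherent objects. -/
theorem top_of_psc (m : ℤ) (K : DCoh.D X) (hK : DCoh.IsPseudoCoherentD m K) :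
    ((∀ i : ℤ, m < i → IsZero (DCoh.HD K i)) → CohB1.IsFT (DCoh.HD K m)) ∧
    ((∀ i : ℤ, m + 1 < i → IsZero (DCoh.HD K i)) → CohB1.IsFP (DCoh.HD K (m + 1))) := by
  have hle : ∀ (A : CommRingCat.{u}) [PreservesFiniteLimits (tilde.functor A)]
      (k : Spec A ⟶ X) [IsOpenImmersion k] (M : Dual.D A)
      (α : (DCoh.tildeD A).obj M ⟶ (PerfLocal.rd k).obj K), PullPerf.Apx m α → ∀ n, m ≤ n →
      (∀ i : ℤ, n < i → IsZero (DCoh.HD K i)) → M.IsLE n := by
    intro A _ k _ M α ha n hn h
    apply isLE_of_isLE_tildeD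
    rw [DerivedCategory.isLE_iff]
    intro i hi
    haveI := ha.1 i (by omega)
    exact IsZero.of_iso ((Scheme.Modules.restrictFunctor k).map_isZero (h i hi))
      (asIso ((homologyFunctor _ i).map α) ≪≫ SuppOpen.hdMapIso (Scheme.Modules.restrictFunctor k) K i)
  constructor
  · intro h
    refine isFT_of_local _ fun x => ?_
    obtain ⟨A, _, k, _, M, α, hx, hM, ha⟩ := exists_affine_approx hK x
    refine ⟨_, k, inferInstance, hx, ?_⟩
    haveI := hle A k M α ha m le_rfl h
    haveI := finitePresentation_top hM m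
    haveI := preservesFiniteColimits_tilde A
    obtain ⟨η⟩ := nonempty_homology_natIso (tilde.functor A) m
    haveI := ha.2
    let φ := (η.app M).inv ≫ (homologyFunctor _ m).map α ≫
      (SuppOpen.hdMapIso (Scheme.Modules.restrictFunctor k) K m).hom
    exact isFT_of_epi φ ((Props12.isFT_tilde_iff (R := CommRingCat.of A) _).2 inferInstance)
  · intro h
    refine isFP_of_local _ fun x => ?_
    obtain ⟨A, _, k, _, M, α, hx, hM, ha⟩ := exists_affine_approx hK x
    refine ⟨_, k, inferInstance, hx, ?_⟩
    haveI := hle A k M α ha (m + 1) (by omega) h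
    haveI := finitePresentation_top hM (m + 1)
    haveI := preservesFiniteColimits_tilde A
    obtain ⟨η⟩ := nonempty_homology_natIso (tilde.functor A) (m + 1)
    haveI := ha.1 (m + 1) (by omega)
    let e : tilde ((homologyFunctor (ModuleCat.{u} A) (m + 1)).obj M) ≅
        (Scheme.Modules.restrictFunctor k).obj (DCoh.HD K (m + 1)) := (η.app M).symm ≪≫
      asIso ((homologyFunctor _ (m + 1)).map α) ≪≫ SuppOpen.hdMapIso (Scheme.Modules.restrictFunctor k) K (m + 1)
    exact (SheafOfModules.isFinitePresentation (Spec A).ringCatSheaf).prop_of_iso e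
      ((Props12.isFP_tilde_iff (R := CommRingCat.of A) _).2 inferInstance)

/-- Pseudo-coherent objects on a quasi-compact scheme are bounded above. -/
theorem exists_isLE_psc [CompactSpace X] {K : DCoh.D X} {m : ℤ} (hK : DCoh.IsPseudoCoherentD m K) :
    ∃ b : ℤ, K.IsLE b := by
  choose W k hk hx E α hE ha using (PerfLocal.isPseudoCoherentD_iff m K).1 hK
  haveI := hk
  obtain ⟨t, ht⟩ := isCompact_univ.elim_finite_subcover (fun x => ((k x).opensRange : Set X))
    (fun x => (k x).opensRange.2) (fun x _ => Set.mem_iUnion.2 ⟨x, hx x⟩)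
  choose a b hab using fun x => (hE x).1
  obtain ⟨B, hB⟩ := (t.image fun x => max (b x) m).finite_toSet.bddAbove
  refine ⟨B, (DerivedCategory.isLE_iff _ _).2 fun i hi => ModStalk.isZero_of_stalks fun y => ?_⟩
  obtain ⟨x, hxt, ⟨z, rfl⟩⟩ := Set.mem_iUnion₂.1 (ht (Set.mem_univ y))
  have hle : ((PerfLocal.rd (k x)).obj K).IsLE (max (b x) m) := PCTriangle.isLE_of_apx (le_max_right _ _) (ha x)
    (haveI := PCTriangle.isLE_Q_of_strictlyPerfect (hab x)
     DerivedCategory.TStructure.t.isLE_of_le _ (b x) _ (le_max_left _ _))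
  haveI := hle
  have hi' : max (b x) m < i := lt_of_le_of_lt (hB (Finset.mem_image_of_mem _ hxt)) hi
  have hz := ((DerivedCategory.isZero_of_isLE _ (max (b x) m) i hi').of_iso
    (SuppOpen.hdMapIso (Scheme.Modules.restrictFunctor (k x)) K i).symm)
  haveI := SuppOpen.subsingleton_stalk_of_restrict (k x) (DCoh.HD K i) z
    (SuppOpen.subsingleton_of_isZero_stalkFunctor _ z ((DerSch.stalkFunctor (W x) z).map_isZero hz))
  exact SuppOpen.isZero_stalkFunctor _ _

end Scheme

section Affine

variable {A : CommRingCat.{u}} [PreservesFiniteLimits (tilde.functor A)]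

/-- Pseudo-coherence descends to modules. -/
theorem pc_of_psc_tildeD {M : Dual.D A} {m : ℤ}
    (h : DCoh.IsPseudoCoherentD m ((DCoh.tildeD A).obj M)) : DRing.IsPseudoCoherent A m M := by
  obtain ⟨b, hb⟩ := exists_isLE_psc h
  have hb' : M.IsLE b := isLE_of_isLE_tildeD hb
  haveI := preservesFiniteColimits_tilde A
  suffices key : ∀ (k : ℕ) (M : Dual.D A), M.IsLE (m - 1 + k) →
      DCoh.IsPseudoCoherentD m ((DCoh.tildeD A).obj M) → DRing.IsPseudoCoherent A m M by
    exact key (b - m + 1).toNat M (DerivedCategory.TStructure.t.isLE_of_le M b _ (by omega)) h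
  intro k
  induction k with
  | zero =>
    intro M hM _
    haveI : M.IsLE (m - 1) := by simpa using hM
    exact DRingLib.pc_of_isLE (n := m - 1) (by omega)
  | succ k ih =>
    intro M hM hp
    obtain ⟨n, hn⟩ : ∃ n, n = m + (k : ℤ) := ⟨_, rfl⟩
    haveI : M.IsLE n := by rwa [show m - 1 + ((k + 1 : ℕ) : ℤ) = n by push_cast; omega] at hM
    have hfin : Module.Finite A ((DRingLib.HF A n).obj M) := by
      obtain ⟨η⟩ := nonempty_homology_natIso (tilde.functor A) n
      refine (Props12.isFT_tilde_iff (R := CommRingCat.of A) _).1 ?_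
      refine isFT_of_epi (η.app M).hom ((top_of_psc n _ (PCTriangle.psc_mono (by omega) hp)).1 fun i hi => ?_)
      obtain ⟨η'⟩ := nonempty_homology_natIso (tilde.functor A) i
      exact ((tilde.functor A).map_isZero
        (DerivedCategory.isZero_of_isLE M n i hi)).of_iso (η'.app M)
    obtain ⟨r, T, hT, h1, h2, h3⟩ := DRingLib.exists_cover_cone M n hfin
    subst h2
    have h1' : DRing.IsPseudoCoherent A (m + 1) T.obj₁ := h1 ▸ DRingLib.pc_freeAt n r (m + 1)
    have hC : DCoh.IsPseudoCoherentD m ((DCoh.tildeD A).obj T.obj₃) :=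
      PCTriangle.psc_cone ((DCoh.tildeD A).map_distinguished _ hT) (psc_tildeD h1') hp
    have h3' : T.obj₃.IsLE (m - 1 + k) := by rwa [show n - 1 = m - 1 + (k : ℤ) by omega] at h3
    exact DRingLib.pc_ext hT (h1 ▸ DRingLib.pc_freeAt n r m) (ih _ h3' hC)

end Affine

end Groth.Agent.DQCoh
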