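import Groth.Agent.DQCoh.Tilde
import Groth.Agent.DQCoh.Coproduct
import Groth.Agent.DQCoh.Push
import Groth.Agent.DQCoh.AcyclicPush
import Groth.Agent.DCat.PullComp
import Groth.Agent.DCat.PullTot
import Groth.Agent.DCat.TensorCongr
import Groth.Agent.DCat.RHomExist
import Groth.Agent.DCat.LocGen
import Groth.Agent.DCat.SuppOpen
import Groth.Agent.AmpleLib.Tensor
import Groth.Agent.QCohLoc.Unit
import Groth.Agent.EGA43.InjFibre.Scheme
import Groth.Agent.DCat.PullTensor

/-!
# Derived pullback and derived tensor product preserve quasi-coherent cohomology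
-/

set_option autoImplicit false
set_option backward.isDefEq.respectTransparency false
set_option backward.defeqAttrib.useBackward true
set_option linter.style.haveILetI false
set_option synthInstance.maxHeartbeats 100000

universe v v' u u' w'

open CategoryTheory CategoryTheory.Limits CategoryTheory.Pretriangulated DerivedCategory Opposite TopologicalSpace AlgebraicGeometry
open Groth.Agent.SiteDer16 Groth.Agent.DCat Groth.Agent.Coherent Groth.Agent.DCat.PullPerf
open HomologicalComplex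
open scoped ZeroObject

namespace Groth.Agent.DQCoh

section Left

variable {A : Type u} [Category.{v} A] [Preadditive A] [HasZeroObject A] {B : Type u'} [Category.{v'} B] [Preadditive B]
  {C : Type w'} [Category.{v} C] [Abelian C]
  (T : A ⥤ B ⥤ C) [T.Additive] [∀ a, (T.obj a).Additive]
  [∀ (K₁ : CochainComplex A ℤ) (K₂ : CochainComplex B ℤ), CochainComplex.HasMapBifunctor K₁ K₂ T]

/-- The total complex with a single left term. -/
theorem exists_single_tot_iso (P : A) (M : CochainComplex B ℤ) :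
    Nonempty (((T.obj P).mapHomologicalComplex (ComplexShape.up ℤ)).obj M ≅
      tot T ((HomologicalComplex.single A (ComplexShape.up ℤ) 0).obj P) M) := by
  classical
  let S := (HomologicalComplex.single A (ComplexShape.up ℤ) 0).obj P
  let e := singleObjXSelf (ComplexShape.up ℤ) 0 P
  let inv' : ∀ n, (tot T S M).X n ⟶ (T.obj P).obj (M.X n) := fun n =>
    mapBifunctorDesc fun p q h => if hp : p = 0 then
      (T.obj (S.X p)).map (M.XIsoOfEq (show q = n by subst hp; simpa using h)).hom ≫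
        (T.map ((S.XIsoOfEq hp).hom ≫ e.hom)).app (M.X n) else 0
  refine ⟨Hom.isoOfComponents (fun n =>
    { hom := (T.map e.inv).app (M.X n) ≫ ιMapBifunctor S M T (ComplexShape.up ℤ) 0 n n (by simp)
      inv := inv' n
      hom_inv_id := by simp [inv', ← NatTrans.comp_app, ← Functor.map_comp, S, e]
      inv_hom_id := mapBifunctor.hom_ext fun p q h => by
        dsimp [inv']
        rw [ι_mapBifunctorDesc_assoc, Category.comp_id]
        by_cases hp : p = 0
        · subst hp
          obtain rfl : q = n := by simpa using h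
          simp [← NatTrans.comp_app_assoc, ← Functor.map_comp, S, e]
        · exact IsZero.eq_of_src
            ((T.flip.obj _).map_isZero (isZero_single_obj_X (ComplexShape.up ℤ) 0 P p hp)) _ _ }) ?_⟩
  intro i j hij
  dsimp
  simp only [S, Category.assoc, mapBifunctor.d_eq, Preadditive.comp_add, mapBifunctor.ι_D₁, mapBifunctor.ι_D₂]
  rw [mapBifunctor.d₁_eq _ _ _ _ (show (ComplexShape.up ℤ).Rel 0 1 by simp) _ _ (by simp at hij ⊢; omega),
    mapBifunctor.d₂_eq _ _ _ _ _ hij _ (by simpa using hij), single_obj_d]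
  simp

end Left

attribute [local instance] HasDerivedCategory.standard

variable {X Y : Scheme.{u}}

/-- `j_! O_X = O_X`. -/
noncomputable def topStructIso (X : Scheme.{u}) : (freeModOn X).obj ⊤ ≅ Coh.structureModule X := by
  let E₁ : ∀ M : X.Modules, ((freeModOn X).obj ⊤ ⟶ M) ≃ Γ(M, ⊤) := freeModOnEquiv ⊤
  let E₂ : ∀ M : X.Modules, (Coh.structureModule X ⟶ M) ≃ Γ(M, ⊤) := fun M =>
    { toFun := fun φ => unitVal φ ⊤
      invFun := unitDesc M
      left_inv := fun φ => Scheme.Modules.hom_ext _ _ fun V => by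
        ext (r : Γ(X, V))
        show (unitDesc M (unitVal φ ⊤)).app V r = φ.app V r
        rw [app_unit, app_unit, unitVal_unitDesc, resM_unitVal]
      right_inv := fun s => (unitVal_unitDesc M s ⊤).trans (by
        show M.presheaf.map (homOfLE le_top).op s = s
        rw [show (homOfLE (le_top : (⊤ : X.Opens) ≤ ⊤)).op = 𝟙 _ from rfl, CategoryTheory.Functor.map_id]
        rfl) }
  have h₁ : ∀ {M N : X.Modules} (g : (freeModOn X).obj ⊤ ⟶ M) (φ : M ⟶ N),
      E₁ N (g ≫ φ) = φ.app ⊤ (E₁ M g) := fun g φ => freeModOnEquiv_comp ⊤ g φ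
  have h₂ : ∀ {M N : X.Modules} (g : Coh.structureModule X ⟶ M) (φ : M ⟶ N),
      E₂ N (g ≫ φ) = φ.app ⊤ (E₂ M g) := fun g φ => rfl
  exact
    { hom := (E₁ _).symm (E₂ _ (𝟙 _))
      inv := (E₂ _).symm (E₁ _ (𝟙 _))
      hom_inv_id := (E₁ _).injective (by
        rw [h₁, Equiv.apply_symm_apply, ← h₂, Category.id_comp, Equiv.apply_symm_apply])
      inv_hom_id := (E₂ _).injective (by
        rw [h₂, Equiv.apply_symm_apply, ← h₁, Category.id_comp, Equiv.apply_symm_apply]) }

/-- `j_! O_X` is K-flat in degree zero. -/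
theorem isKFlatFor_single_top (X : Scheme.{u}) :
    IsKFlatFor (shT X) ((HomologicalComplex.single X.Modules (ComplexShape.up ℤ) 0).obj ((freeModOn X).obj ⊤)) := by
  refine isKFlatFor_sheaf_of_flat _ 0 (fun n hn => HomologicalComplex.isZero_single_obj_X _ _ _ _ (by omega)) fun n => ?_
  by_cases hn : n = 0
  · subst hn
    intro x
    haveI h : Module.Flat (X.presheaf.stalk x) ((DerSch.stalkFunctor X x).obj ((freeModOn X).obj ⊤)) :=
      isFlat_freeModOn ⊤ x
    exact Module.Flat.of_linearEquiv ((DerSch.stalkFunctor X x).mapIso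
      (HomologicalComplex.singleObjXSelf (ComplexShape.up ℤ) 0 _)).toLinearEquiv
  · intro x
    show Module.Flat (X.presheaf.stalk x) ((DerSch.stalkFunctor X x).obj
        (((HomologicalComplex.single X.Modules (ComplexShape.up ℤ) 0).obj ((freeModOn X).obj ⊤)).X n))
    haveI : Subsingleton ((DerSch.stalkFunctor X x).obj
        (((HomologicalComplex.single X.Modules (ComplexShape.up ℤ) 0).obj ((freeModOn X).obj ⊤)).X n)) :=
      ModuleCat.subsingleton_of_isZero ((DerSch.stalkFunctor X x).map_isZero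
        (HomologicalComplex.isZero_single_obj_X _ _ _ _ hn))
    infer_instance

theorem isQCoh_top (X : Scheme.{u}) : Coh.IsQCoh ((freeModOn X).obj ⊤) :=
  isQCoh_of_iso (topStructIso X).symm (h := QCohLoc.isQCoh_structureModule X)

/-- The left unitor. -/
noncomputable def unitNatIso (X : Scheme.{u}) : (shT X).obj (Coh.structureModule X) ≅ 𝟭 X.Modules :=
  NatIso.ofComponents (fun M => AmpleLib.unitTensorIso M) fun {M N} φ => AmpleLib.hom_ext fun U a b => by
    show (AmpleLib.unitTensorIso N).hom.app U ((((shT X).obj (Coh.structureModule X)).map φ).app U (AmpleLib.tmul a b)) =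
      φ.app U ((AmpleLib.unitTensorIso M).hom.app U (AmpleLib.tmul a b))
    rw [PullTensor.tensorBi_obj_map_tmul]
    refine (AmpleLib.Bilin.desc_tmul _ _ _ _).trans ?_
    refine Eq.trans ?_ (congrArg (φ.app U) (AmpleLib.Bilin.desc_tmul _ _ _ _).symm)
    exact (Scheme.Modules.Hom.app_smul φ _ b).symm

/-- `O ⊗^L M = M`. -/
theorem nonempty_unit_LTensor (M : CochainComplex X.Modules ℤ) [DCoh.HasLTensorCx M] :
    Nonempty ((DCoh.LTensorCx M).obj ((sec X).pt.obj ⊤) ≅ DerivedCategory.Q.obj M) := by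
  obtain ⟨e₁⟩ := exists_single_tot_iso (shT X) ((freeModOn X).obj ⊤) M
  exact ⟨LTensorSheaf.ltensorCxIso M (isKFlatFor_single_top X) ≪≫
    DerivedCategory.Q.mapIso (e₁.symm ≪≫
      (NatIso.mapHomologicalComplex ((shT X).mapIso (topStructIso X) ≪≫ unitNatIso X) (ComplexShape.up ℤ)).app M ≪≫
      (Functor.mapHomologicalComplexIdIso _ _).app M)⟩

/-- Quasi-coherent cohomology is invariant under isomorphism. -/
theorem isQCohD_of_iso {K L : DCoh.D X} (e : K ≅ L) (h : DCoh.IsQCohD K) : DCoh.IsQCohD L := fun i =>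
  isQCoh_of_iso ((homologyFunctor X.Modules i).mapIso e) (h := h i)

theorem isQCohD_shift {K : DCoh.D X} (h : DCoh.IsQCohD K) (n : ℤ) : DCoh.IsQCohD (K⟦n⟧) := fun i =>
  isQCoh_of_iso (((homologyFunctor X.Modules 0).shiftIso n i (n + i) rfl).app K).symm (h := h _)

theorem isQCohD_obj₃ {T : Triangle (DCoh.D X)} (hT : T ∈ distTriang _) (h₁ : DCoh.IsQCohD T.obj₁)
    (h₂ : DCoh.IsQCohD T.obj₂) : DCoh.IsQCohD T.obj₃ :=
  cohIn_obj₂ (rot_of_distTriang _ hT) h₂ (isQCohD_shift h₁ 1)
where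
  cohIn_obj₂ {T : Triangle (DCoh.D X)} (hT : T ∈ distTriang _) (h₁ : DCoh.IsQCohD T.obj₁)
      (h₃ : DCoh.IsQCohD T.obj₃) : DCoh.IsQCohD T.obj₂ :=
    SiteDer16.cohIn_obj₂ (qc X) hT h₁ h₃

/-- Derived pullback along an open immersion is restriction. -/
theorem nonempty_Lpull_restrict {U : Scheme.{u}} (j : U ⟶ X) [IsOpenImmersion j] [DCoh.HasLpull j] (K : DCoh.D X) :
    Nonempty ((DCoh.Lpull j).obj K ≅ (Scheme.Modules.restrictFunctor j).mapDerivedCategory.obj K) := by
  obtain ⟨N, hN, ⟨e⟩⟩ := exists_kflat_rep K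
  exact ⟨(DCoh.Lpull j).mapIso e.symm ≪≫ lpullIso j hN ≪≫
    DerivedCategory.Q.mapIso ((NatIso.mapHomologicalComplex (Scheme.Modules.restrictFunctorIsoPullback j).symm
      (ComplexShape.up ℤ)).app N) ≪≫
    ((Scheme.Modules.restrictFunctor j).mapDerivedCategoryFactors.app N).symm ≪≫
    (Scheme.Modules.restrictFunctor j).mapDerivedCategory.mapIso e⟩

theorem isQCohD_Lpull_open {U : Scheme.{u}} (j : U ⟶ X) [IsOpenImmersion j] [DCoh.HasLpull j] (K : DCoh.D X)
    (h : DCoh.IsQCohD K) : DCoh.IsQCohD ((DCoh.Lpull j).obj K) := by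
  obtain ⟨e⟩ := nonempty_Lpull_restrict j K
  refine isQCohD_of_iso e.symm fun i => ?_
  haveI : Coh.IsQCoh (DCoh.HD K i) := h i
  exact isQCoh_of_iso (SuppOpen.hdMapIso (Scheme.Modules.restrictFunctor j) K i).symm
    (h := (inferInstance : Coh.IsQCoh ((DCoh.HD K i).restrict j)))

/-- Quasi-coherence of cohomology is local. -/
theorem isQCohD_of_cover {ι : Type u} {U : ι → Scheme.{u}} (j : ∀ i, U i ⟶ X) [∀ i, IsOpenImmersion (j i)]
    (hj : ∀ x : X, ∃ i, x ∈ (j i).opensRange) [∀ i, DCoh.HasLpull (j i)] (K : DCoh.D X)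
    (h : ∀ i, DCoh.IsQCohD ((DCoh.Lpull (j i)).obj K)) : DCoh.IsQCohD K := fun q => by
  refine isQCoh_of_openImmersion_cover _ j hj fun i => ?_
  obtain ⟨e⟩ := nonempty_Lpull_restrict (j i) K
  exact isQCoh_of_iso (SuppOpen.hdMapIso (Scheme.Modules.restrictFunctor (j i)) K q)
    (h := isQCohD_of_iso e (h i) q)

/-- Dévissage: on an affine scheme quasi-coherent cohomology is generated by `O`. -/
theorem qcohD_induction (R : CommRingCat.{u}) (P : ObjectProperty (DCoh.D (Spec (CommRingCat.of R))))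
    (hiso : ∀ {K L}, (K ≅ L) → P K → P L)
    (hcone : ∀ T ∈ (distTriang (DCoh.D (Spec (CommRingCat.of R)))), P T.obj₁ → P T.obj₂ → P T.obj₃)
    (hsum : ∀ (κ : Type u) (Z : κ → DCoh.D (Spec (CommRingCat.of R))) (c : Cofan Z), IsColimit c → (∀ k, P (Z k)) → P c.pt)
    (hgen : ∀ n : ℤ, P (((sec (Spec (CommRingCat.of R))).pt.obj ⊤)⟦n⟧))
    (K : DCoh.D (Spec (CommRingCat.of R))) (hK : DCoh.IsQCohD K) : P K := by
  haveI : PreservesFiniteLimits (tilde.functor R) := AffSchLib.preservesFiniteLimits_tilde R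
  obtain ⟨M, ⟨e⟩⟩ := ((tildeD_main R).2.2 K).1 hK
  refine hiso e ?_
  let T := DCoh.tildeD R
  haveI : ∀ J : Type u, PreservesColimitsOfShape (Discrete J) T := fun J => by
    haveI : PreservesColimitsOfShape (Discrete J) ((tilde.functor R).mapHomologicalComplex (ComplexShape.up ℤ)) :=
      haveI := (tilde.adjunction (R := R)).leftAdjoint_preservesColimits
      inferInstance
    haveI := DCat.RHomExist.preservesCoproducts_Q (A := (Spec (CommRingCat.of R)).Modules) J
    haveI : PreservesColimitsOfShape (Discrete J) (DerivedCategory.Q ⋙ T) :=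
      preservesColimitsOfShape_of_natIso (tilde.functor R).mapDerivedCategoryFactors.symm
    exact DCat.RHomExist.preservesCoproducts_of_fac T J
  refine DCat.localizing_induction (R := R) (fun M => P (T.obj M)) (fun a h => hiso (T.mapIso a) h)
    (fun t ht h₁ h₂ => hcone _ (T.map_distinguished _ ht) h₁ h₂)
    (fun κ Z c hc h => hsum κ _ _ (isColimitOfPreserves T hc |> fun t => (Cofan.isColimitMapCoconeEquiv _ _ _).1 t) h)
    (fun n => ?_) M
  let eg : DerivedCategory.Q.obj (ringCx R n) ≅ (gen R)⟦-n⟧ :=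
    DerivedCategory.Q.mapIso (((CochainComplex.singleFunctors (ModuleCat.{u} R)).shiftIso (-n) n 0 (by omega)).app
      (ModuleCat.of R R)).symm ≪≫ (DerivedCategory.Q.commShiftIso (-n)).app _ ≪≫
    (shiftFunctor _ (-n)).mapIso (((SingleFunctors.evaluation _ _ 0).mapIso
      (DerivedCategory.singleFunctorsPostcompQIso (ModuleCat.{u} R))).app (ModuleCat.of R R)).symm
  exact hiso ((shiftFunctor _ (-n)).mapIso (genIso R).symm ≪≫ ((T.commShiftIso (-n)).app _).symm ≪≫ (T.mapIso eg).symm)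
    (hgen (-n))

/-- Derived pullback to an affine scheme from an affine scheme. -/
theorem isQCohD_Lpull_affine (R : CommRingCat.{u}) (g : Y ⟶ Spec (CommRingCat.of R)) [DCoh.HasLpull g]
    (K : DCoh.D (Spec (CommRingCat.of R))) (hK : DCoh.IsQCohD K) : DCoh.IsQCohD ((DCoh.Lpull g).obj K) := by
  obtain ⟨_, _⟩ := exists_commShift_Lpull g
  haveI := hasRpush g
  obtain ⟨adj⟩ := nonempty_pullPushAdj g
  haveI := adj.isLeftAdjoint
  refine qcohD_induction R (fun K => DCoh.IsQCohD ((DCoh.Lpull g).obj K))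
    (fun e h => isQCohD_of_iso ((DCoh.Lpull g).mapIso e) h)
    (fun T hT h₁ h₂ => isQCohD_obj₃ ((DCoh.Lpull g).map_distinguished _ hT) h₁ h₂)
    (fun κ Z c hc h => ?_) (fun n => ?_) K hK
  · let hc' : IsColimit (Cofan.mk ((DCoh.Lpull g).obj c.pt) fun k => (DCoh.Lpull g).map (c.inj k)) :=
      (Cofan.isColimitMapCoconeEquiv _ _ _).1 (isColimitOfPreserves (DCoh.Lpull g) hc)
    haveI : HasCoproduct fun k => (DCoh.Lpull g).obj (Z k) := ⟨⟨⟨_, hc'⟩⟩⟩
    exact isQCohD_of_iso ((coproductIsCoproduct _).coconePointUniqueUpToIso hc') (isQCohD_sigma _ h)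
  · refine isQCohD_of_iso (((DCoh.Lpull g).commShiftIso n).app _).symm (isQCohD_shift ?_ n)
    refine isQCohD_of_iso (lpullIso g (isKFlatFor_single_top _)).symm (isQCohD_Q _ fun m => ?_)
    haveI : Coh.IsQCoh (((HomologicalComplex.single _ (ComplexShape.up ℤ) 0).obj
        ((freeModOn (Spec (CommRingCat.of R))).obj ⊤)).X m) := by
      by_cases hm : m = 0
      · subst hm
        exact isQCoh_of_iso (HomologicalComplex.singleObjXSelf (ComplexShape.up ℤ) 0 _).symm (h := isQCoh_top _)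
      · exact isQCoh_of_isZero (HomologicalComplex.isZero_single_obj_X _ _ _ _ hm)
    exact EGA43.InjFibre.isQCoh_pullback g _

/-- Derived pullback preserves quasi-coherent cohomology. -/
theorem isQCohD_Lpull (f : Y ⟶ X) [DCoh.HasLpull f] (K : DCoh.D X) (hK : DCoh.IsQCohD K) :
    DCoh.IsQCohD ((DCoh.Lpull f).obj K) := by
  choose U hU hxU _ using fun y : Y => exists_isAffineOpen_mem_and_subset (x := f.base y) (U := (⊤ : X.Opens)) trivial
  choose V hV hyV hVU using fun y : Y => exists_isAffineOpen_mem_and_subset (x := y) (U := f ⁻¹ᵁ U y) (hxU y)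
  haveI : ∀ y, DCoh.HasLpull (hV y).fromSpec := fun y => hasLpull _
  refine isQCohD_of_cover (fun y => (hV y).fromSpec) (fun y => ⟨y, by rw [(hV y).opensRange_fromSpec]; exact hyV y⟩) _
    fun y => ?_
  let j := (hV y).fromSpec
  let k := (hU y).fromSpec
  let R : CommRingCat.{u} := Γ(X, U y)
  let g : Spec Γ(Y, V y) ⟶ Spec (CommRingCat.of R) := Spec.map (f.appLE (U y) (V y) (hVU y))
  have hsq : g ≫ k = j ≫ f := (hU y).SpecMap_appLE_fromSpec f (hV y) (hVU y)
  haveI := hasLpull k
  haveI := hasLpull g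
  haveI := hasLpull (j ≫ f)
  haveI := hasLpull (g ≫ k)
  obtain ⟨e₁⟩ := nonempty_LpullComp j f
  obtain ⟨e₂⟩ := nonempty_LpullComp g k
  refine isQCohD_of_iso (e₂.app K ≪≫ eqToIso (by congr 2) ≪≫ (e₁.app K).symm)
    (isQCohD_Lpull_affine R g _ (isQCohD_Lpull_open k K hK))

/-- `- ⊗^L M` sends distinguished triangles to distinguished triangles (for some connecting map). -/
theorem exists_triangle_LTensorCx (M : CochainComplex X.Modules ℤ) [DCoh.HasLTensorCx M]
    (hM : IsKFlatFor (shT X) M) {T : Triangle (DCoh.D X)} (hT : T ∈ distTriang _) :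
    ∃ δ, Triangle.mk ((DCoh.LTensorCx M).map T.mor₁) ((DCoh.LTensorCx M).map T.mor₂) δ ∈ distTriang _ :=
  RHomExist.exists_triangle ((DCoh.tensorCx (X := X)).flip.obj M)
    (RHomExist.TotColim.shortExact_of_eq (shT X) (DCoh.tensorCx (X := X)) rfl M)
    (TensorCongr.fac hM) hT

/-- The derived tensor product with a K-flat complex on an affine scheme. -/
theorem isQCohD_LTensor_affine (R : CommRingCat.{u}) (M : CochainComplex (Spec (CommRingCat.of R)).Modules ℤ)
    [DCoh.HasLTensorCx M] (hMk : IsKFlatFor (shT _) M) (hM : DCoh.IsQCohD (DerivedCategory.Q.obj M))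
    (E : DCoh.D (Spec (CommRingCat.of R))) (hE : DCoh.IsQCohD E) : DCoh.IsQCohD ((DCoh.LTensorCx M).obj E) := by
  haveI := RHomExist.hasRSheafHom M
  let G := DCoh.LTensorCx M
  have htri : ∀ T : Triangle (DCoh.D (Spec (CommRingCat.of R))), T ∈ distTriang _ → ∃ δ,
      Triangle.mk (G.map T.mor₁) (G.map T.mor₂) δ ∈ distTriang _ := fun T hT =>
    exists_triangle_LTensorCx M hMk hT
  have hsucc : ∀ Z : DCoh.D (Spec (CommRingCat.of R)),
      DCoh.IsQCohD (G.obj Z) ↔ DCoh.IsQCohD (G.obj (Z⟦(1 : ℤ)⟧)) := fun Z => by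
    obtain ⟨δ, hδ⟩ := htri _ (rot_of_distTriang _ (contractible_distinguished Z))
    have h0 : DCoh.IsQCohD (G.obj (0 : DCoh.D (Spec (CommRingCat.of R)))) := fun i =>
      isQCoh_of_isZero ((homologyFunctor _ i).map_isZero (G.map_isZero (isZero_zero _)))
    exact ⟨fun h => isQCohD_obj₃ hδ h h0, fun h =>
      isQCohD_obj₃.cohIn_obj₂ (inv_rot_of_distTriang _ hδ) (isQCohD_shift h _) h0⟩
  refine qcohD_induction R (fun K => DCoh.IsQCohD ((DCoh.LTensorCx M).obj K))
    (fun e h => isQCohD_of_iso ((DCoh.LTensorCx M).mapIso e) h)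
    (fun T hT h₁ h₂ => let ⟨_, hδ⟩ := htri T hT; isQCohD_obj₃ hδ h₁ h₂)
    (fun κ Z c hc h => ?_) (fun n => ?_) _ hE
  · let hc' : IsColimit (Cofan.mk ((DCoh.LTensorCx M).obj c.pt) fun k => (DCoh.LTensorCx M).map (c.inj k)) :=
      (Cofan.isColimitMapCoconeEquiv _ _ _).1 (isColimitOfPreserves (DCoh.LTensorCx M) hc)
    haveI : HasCoproduct fun k => (DCoh.LTensorCx M).obj (Z k) := ⟨⟨⟨_, hc'⟩⟩⟩
    exact isQCohD_of_iso ((coproductIsCoproduct _).coconePointUniqueUpToIso hc') (isQCohD_sigma _ h)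
  · obtain ⟨u⟩ := nonempty_unit_LTensor M
    let P₀ := (sec (Spec (CommRingCat.of R))).pt.obj ⊤
    have h0 : DCoh.IsQCohD (G.obj P₀) := isQCohD_of_iso u.symm hM
    show DCoh.IsQCohD (G.obj (P₀⟦n⟧))
    induction n using Int.induction_on with
    | zero => exact isQCohD_of_iso (G.mapIso ((shiftFunctorZero _ ℤ).app P₀).symm) h0
    | succ k ih => exact isQCohD_of_iso (G.mapIso ((shiftFunctorAdd' _ (k : ℤ) 1 _ rfl).app P₀).symm) ((hsucc _).1 ih)
    | pred k ih =>
      refine (hsucc _).2 (isQCohD_of_iso (G.mapIso ?_) ih)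
      exact (shiftFunctorAdd' _ (-(k : ℤ) - 1) 1 (-(k : ℤ)) (by omega)).app P₀

/-- The derived tensor product with a K-flat complex on an affine open. -/
theorem isQCohD_Lpull_LTensor_open (R : CommRingCat.{u}) (j : Spec (CommRingCat.of R) ⟶ X) [IsOpenImmersion j]
    [DCoh.HasLpull j] {N : CochainComplex X.Modules ℤ} (hN : IsKFlatFor (shT X) N) [DCoh.HasLTensorCx N]
    (hN' : DCoh.IsQCohD (DerivedCategory.Q.obj N)) (E : DCoh.D X) (hE : DCoh.IsQCohD E) :
    DCoh.IsQCohD ((DCoh.Lpull j).obj ((DCoh.LTensorCx N).obj E)) := by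
  haveI := LTensorSheaf.hasLTensorCx (((Scheme.Modules.pullback j).mapHomologicalComplex (ComplexShape.up ℤ)).obj N)
  obtain ⟨e⟩ := PullTot.nonempty_Lpull_LTensor j hN E
  exact isQCohD_of_iso e.symm (isQCohD_LTensor_affine R _ (PullTot.isKFlatFor_pullback j hN)
    (isQCohD_of_iso (lpullIso j hN) (isQCohD_Lpull_open j _ hN')) _ (isQCohD_Lpull_open j E hE))

/-- The derived tensor product preserves quasi-coherent cohomology. -/
theorem isQCohD_LTensorCx (F : CochainComplex X.Modules ℤ) (hF : DCoh.IsQCohD (DerivedCategory.Q.obj F))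
    [DCoh.HasLTensorCx F] (E : DCoh.D X) (hE : DCoh.IsQCohD E) : DCoh.IsQCohD ((DCoh.LTensorCx F).obj E) := by
  obtain ⟨N, hN, ⟨eN⟩⟩ := exists_kflat_rep (DerivedCategory.Q.obj F)
  haveI := LTensorSheaf.hasLTensorCx N
  obtain ⟨a⟩ := TensorCongr.nonempty_congr (E := F) (E' := N) eN.symm
  refine isQCohD_of_iso (a.app E).symm ?_
  choose U hU hxU _ using fun x : X => exists_isAffineOpen_mem_and_subset (x := x) (U := (⊤ : X.Opens)) trivial
  haveI : ∀ x, DCoh.HasLpull (hU x).fromSpec := fun x => hasLpull _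
  refine isQCohD_of_cover (fun x => (hU x).fromSpec) (fun x => ⟨x, by rw [(hU x).opensRange_fromSpec]; exact hxU x⟩) _
    fun x => ?_
  exact isQCohD_Lpull_LTensor_open Γ(X, U x) (hU x).fromSpec hN (isQCohD_of_iso eN.symm hF) E hE

end Groth.Agent.DQCoh
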