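import Groth.Agent.DQCoh.Sections
import Groth.Agent.DCat.GPDerived
import Groth.Agent.DCat.ProjHomology

/-!
# `D(A) ≌ D_qcoh(Spec A)`
-/

set_option autoImplicit false
set_option backward.isDefEq.respectTransparency false
set_option backward.defeqAttrib.useBackward true
set_option linter.style.haveILetI false
set_option backward.isDefEq.respectTransparency.types false

universe w w' v v' u u'

open CategoryTheory CategoryTheory.Limits DerivedCategory Opposite

namespace Groth.Agent.DQCoh

section Generic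

variable {A : Type u} [Category.{v} A] [Abelian A] [HasDerivedCategory.{w} A]
  {B : Type u'} [Category.{v'} B] [Abelian B] [HasDerivedCategory.{w'} B]
  (G : A ⥤ B) [G.Additive] [PreservesFiniteLimits G] [PreservesFiniteColimits G]

/-- Cohomology commutes with exact functors, naturally. -/
theorem nonempty_homology_natIso (i : ℤ) :
    Nonempty (G.mapDerivedCategory ⋙ homologyFunctor B i ≅ homologyFunctor A i ⋙ G) := by
  let W := HomologicalComplex.quasiIso A (ComplexShape.up ℤ)
  let e : G.mapHomologicalComplex (ComplexShape.up ℤ) ⋙ HomologicalComplex.homologyFunctor B (ComplexShape.up ℤ) i ≅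
      HomologicalComplex.homologyFunctor A (ComplexShape.up ℤ) i ⋙ G :=
    NatIso.ofComponents (fun K => (K.sc i).mapHomologyIso G) fun {K L} f =>
      ShortComplex.mapHomologyIso_hom_naturality ((HomologicalComplex.shortComplexFunctor A _ i).map f) G
  let E : Q ⋙ (G.mapDerivedCategory ⋙ homologyFunctor B i) ≅ Q ⋙ (homologyFunctor A i ⋙ G) :=
    (Functor.associator _ _ _).symm ≪≫ Functor.isoWhiskerRight G.mapDerivedCategoryFactors _ ≪≫
      Functor.associator _ _ _ ≪≫ Functor.isoWhiskerLeft _ (homologyFunctorFactors B i) ≪≫ e ≪≫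
      Functor.isoWhiskerRight (homologyFunctorFactors A i).symm G ≪≫ Functor.associator _ _ _
  exact ⟨Localization.liftNatIso Q W _ _ _ _ E⟩

/-- `G` is bijective on maps out of `a` which are seen by `H⁰` on both sides. -/
theorem bijective_map_of_homology {a : DerivedCategory A} {Y : DerivedCategory A}
    (h₁ : Function.Bijective (fun f : a ⟶ Y => (homologyFunctor A 0).map f))
    (h₂ : Function.Bijective (fun f : G.mapDerivedCategory.obj a ⟶ G.mapDerivedCategory.obj Y =>
      (homologyFunctor B 0).map f)) [G.Full] [G.Faithful] :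
    Function.Bijective (fun f : a ⟶ Y => G.mapDerivedCategory.map f) := by
  obtain ⟨η⟩ := nonempty_homology_natIso G 0
  let c : ((homologyFunctor A 0).obj a ⟶ (homologyFunctor A 0).obj Y) →
      ((homologyFunctor B 0).obj (G.mapDerivedCategory.obj a) ⟶ (homologyFunctor B 0).obj (G.mapDerivedCategory.obj Y)) :=
    fun g => η.hom.app a ≫ G.map g ≫ η.inv.app Y
  have hc : Function.Bijective c :=
    (((Functor.FullyFaithful.ofFullyFaithful G).homEquiv (X := _) (Y := _)).trans
      (Iso.homCongr (η.app a).symm (η.app Y).symm)).bijective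
  have e : (fun f : G.mapDerivedCategory.obj a ⟶ G.mapDerivedCategory.obj Y => (homologyFunctor B 0).map f) ∘
      (fun f : a ⟶ Y => G.mapDerivedCategory.map f) = c ∘ fun f : a ⟶ Y => (homologyFunctor A 0).map f := by
    funext f
    have h := η.hom.naturality f
    dsimp [c] at h ⊢
    rw [← reassoc_of% h, Iso.hom_inv_id_app]
    simp
  exact (Function.Bijective.of_comp_iff' h₂ _).1 (e ▸ hc.comp h₁)

/-- Bijectivity on maps out of `a` passes to shifts of `a`. -/
theorem bijective_map_shift {C : Type*} [Category C] [HasShift C ℤ] {D : Type*} [Category D] [HasShift D ℤ]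
    (F : C ⥤ D) [F.CommShift ℤ] (a : C) (h : ∀ Y, Function.Bijective (fun f : a ⟶ Y => F.map f)) (n : ℤ) (Y : C) :
    Function.Bijective (fun f : a⟦n⟧ ⟶ Y => F.map f) := by
  let eY := (shiftFunctorCompIsoId C (-n) n (by omega)).app Y
  let e₁ : (a ⟶ Y⟦-n⟧) ≃ (a⟦n⟧ ⟶ Y) :=
    ((Functor.FullyFaithful.ofFullyFaithful (shiftFunctor C n)).homEquiv).trans (Iso.homCongr (Iso.refl _) eY)
  let e₂ : (F.obj a ⟶ F.obj (Y⟦-n⟧)) ≃ (F.obj (a⟦n⟧) ⟶ F.obj Y) :=
    ((Functor.FullyFaithful.ofFullyFaithful (shiftFunctor D n)).homEquiv).trans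
      (Iso.homCongr ((F.commShiftIso n).app a).symm (((F.commShiftIso n).app _).symm ≪≫ F.mapIso eY))
  have e : (fun f : a⟦n⟧ ⟶ Y => F.map f) ∘ e₁ = e₂ ∘ fun g : a ⟶ Y⟦-n⟧ => F.map g := by
    funext g
    dsimp [e₁, e₂]
    rw [Category.id_comp, F.map_comp, ← F.commShiftIso_hom_naturality_assoc, Iso.hom_inv_id_app_assoc]
  exact (Function.Bijective.of_comp_iff _ e₁.bijective).1 (e ▸ e₂.bijective.comp (h _))

/-- Bijectivity on maps out of `a` gives bijectivity of `H⁰`. -/
theorem isIso_of_bijective_gen {P : A} [Projective P] (hP : IsSeparator P) {X Y : DerivedCategory A} (φ : X ⟶ Y)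
    (h : ∀ n : ℤ, Function.Bijective (fun f : ((singleFunctor A 0).obj P)⟦n⟧ ⟶ X => f ≫ φ)) : IsIso φ := by
  have key : ∀ (X' Y' : DerivedCategory A) (φ' : X' ⟶ Y'),
      Function.Bijective (fun f : (singleFunctor A 0).obj P ⟶ X' => f ≫ φ') →
      IsIso ((homologyFunctor A 0).map φ') := fun X' Y' φ' h' => by
    have b := DCat.ProjHomology.bijective_toH (P := P) X'
    have b' := DCat.ProjHomology.bijective_toH (P := P) Y'
    have hb : Function.Bijective (fun g : P ⟶ (homologyFunctor A 0).obj X' => g ≫ (homologyFunctor A 0).map φ') := by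
      have e : (fun g : P ⟶ (homologyFunctor A 0).obj X' => g ≫ (homologyFunctor A 0).map φ') ∘
          DCat.ProjHomology.toH = DCat.ProjHomology.toH ∘ fun f : (singleFunctor A 0).obj P ⟶ X' => f ≫ φ' :=
        funext fun f => (DCat.ProjHomology.toH_comp f φ').symm
      exact (Function.Bijective.of_comp_iff _ b).1 (e ▸ b'.comp h')
    haveI : Mono ((homologyFunctor A 0).map φ') := Preadditive.mono_of_cancel_zero _ fun {Z} g hg =>
      hP.def _ _ fun p => hb.1 (by simp [hg])
    haveI : Epi ((homologyFunctor A 0).map φ') := by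
      refine Preadditive.epi_of_cancel_zero _ fun {Z} g hg => hP.def _ _ fun p => ?_
      obtain ⟨q, rfl⟩ := hb.2 p
      simp [hg]
    exact isIso_of_mono_of_epi _
  rw [DerivedCategory.isIso_iff]
  intro i
  refine (NatIso.isIso_map_iff ((homologyFunctor A 0).shiftIso i 0 i (by omega)) φ).1 (key _ _ (φ⟦i⟧') ?_)
  let e₁ : ∀ Z : DerivedCategory A, (((singleFunctor A 0).obj P)⟦-i⟧ ⟶ Z) ≃ ((singleFunctor A 0).obj P ⟶ Z⟦i⟧) :=
    fun Z => ((Functor.FullyFaithful.ofFullyFaithful (shiftFunctor (DerivedCategory A) i)).homEquiv).trans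
      (Iso.homCongr ((shiftFunctorCompIsoId _ (-i) i (by omega)).app _) (Iso.refl _))
  have e : (fun f : (singleFunctor A 0).obj P ⟶ X⟦i⟧ => f ≫ φ⟦i⟧') ∘ e₁ X =
      e₁ Y ∘ fun f => f ≫ φ := by
    funext f
    simp [e₁]
  exact (Function.Bijective.of_comp_iff _ (e₁ X).bijective).1 (e ▸ (e₁ Y).bijective.comp (h (-i)))

end Generic

end Groth.Agent.DQCoh

namespace Groth.Agent.DQCoh

open AlgebraicGeometry Groth.Agent.Coherent

attribute [local instance] HasDerivedCategory.standard

/-- Maps out of `j_! O_⊤` see isomorphisms of quasi-coherent modules on an affine scheme. -/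
theorem isIso_of_bijective_top {R : CommRingCat.{u}} {M N : (Spec R).Modules} (hM : Coh.IsQCoh M) (hN : Coh.IsQCoh N)
    (f : M ⟶ N)
    (h : Function.Bijective (fun g : (tilde.functor R).obj (ModuleCat.of R R) ⟶ M => g ≫ f)) : IsIso f := by
  haveI := (isQuasicoherent_iff_isIso_fromTildeΓ M).1 hM
  haveI := (isQuasicoherent_iff_isIso_fromTildeΓ N).1 hN
  haveI : IsIso ((moduleSpecΓFunctor (R := R)).map f) := by
    rw [ConcreteCategory.isIso_iff_bijective]
    let ev : ∀ M' : (Spec R).Modules, ((tilde.functor R).obj (ModuleCat.of R R) ⟶ M') ≃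
        (moduleSpecΓFunctor (R := R)).obj M' := fun M' =>
      (tilde.adjunction.homEquiv (ModuleCat.of R R) M').trans
        ((ModuleCat.homEquiv).trans (LinearMap.ringLmapEquivSelf R ℕ _).toEquiv)
    have e : ev N ∘ (fun g => g ≫ f) = (moduleSpecΓFunctor (R := R)).map f ∘ ev M := by
      funext g
      simp only [ev, Equiv.trans_apply, Function.comp_apply, Adjunction.homEquiv_naturality_right]
      rfl
    exact (Function.Bijective.of_comp_iff _ (ev M).bijective).1 (e ▸ (ev N).bijective.comp h)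
  haveI : IsIso (tilde.functor R |>.map ((moduleSpecΓFunctor (R := R)).map f)) := inferInstance
  have h' := Scheme.Modules.fromTildeΓNatTrans.naturality f
  haveI : IsIso (M.fromTildeΓ ≫ f) := by
    exact h' ▸ IsIso.comp_isIso' this (by exact ‹IsIso N.fromTildeΓ›)
  exact IsIso.of_isIso_comp_left M.fromTildeΓ f

/-- `j_! O_X = O_X = R~`. -/
noncomputable def topIso (R : CommRingCat.{u}) :
    (freeModOn (Spec R)).obj ⊤ ≅ (tilde.functor R).obj (ModuleCat.of R R) := by
  let E₁ : ∀ M : (Spec R).Modules, ((freeModOn (Spec R)).obj ⊤ ⟶ M) ≃ Γ(M, ⊤) := freeModOnEquiv ⊤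
  let E₂ : ∀ M : (Spec R).Modules, ((tilde.functor R).obj (ModuleCat.of R R) ⟶ M) ≃ Γ(M, ⊤) := fun M =>
    (tilde.adjunction.homEquiv (ModuleCat.of R R) M).trans
      ((ModuleCat.homEquiv).trans (LinearMap.ringLmapEquivSelf R ℕ _).toEquiv)
  have h₁ : ∀ {M N : (Spec R).Modules} (g : (freeModOn (Spec R)).obj ⊤ ⟶ M) (f : M ⟶ N),
      E₁ N (g ≫ f) = f.app ⊤ (E₁ M g) := fun g f => freeModOnEquiv_comp ⊤ g f
  have h₂ : ∀ {M N : (Spec R).Modules} (g : (tilde.functor R).obj (ModuleCat.of R R) ⟶ M) (f : M ⟶ N),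
      E₂ N (g ≫ f) = f.app ⊤ (E₂ M g) := fun g f => by
    simp only [E₂, Equiv.trans_apply, Adjunction.homEquiv_naturality_right]
    rfl
  exact
    { hom := (E₁ _).symm (E₂ _ (𝟙 _))
      inv := (E₂ _).symm (E₁ _ (𝟙 _))
      hom_inv_id := (E₁ _).injective (by
        rw [h₁, Equiv.apply_symm_apply, ← h₂, Category.id_comp, Equiv.apply_symm_apply])
      inv_hom_id := (E₂ _).injective (by
        rw [h₂, Equiv.apply_symm_apply, ← h₁, Category.id_comp, Equiv.apply_symm_apply]) }

variable (R : CommRingCat.{u}) [PreservesFiniteLimits (tilde.functor R)]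

/-- Images have quasi-coherent cohomology. -/
theorem isQCohD_tildeD (Y : DerivedCategory (ModuleCat.{u} R)) : DCoh.IsQCohD ((DCoh.tildeD R).obj Y) := fun i => by
  obtain ⟨η⟩ := nonempty_homology_natIso (tilde.functor R) i
  refine isQCoh_of_iso (η.app Y).symm (h := ?_)
  show Coh.IsQCoh ((tilde.functor R).obj _)
  exact (isQuasicoherent_iff_isIso_fromTildeΓ _).2 (isIso_fromTildeΓ_iff.2 (Functor.obj_mem_essImage _ _))

/-- The generator of `D(R)`. -/
noncomputable abbrev gen : DerivedCategory (ModuleCat.{u} R) := (singleFunctor _ 0).obj (ModuleCat.of R R)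

/-- Its image is `j_! O_X`. -/
noncomputable def genIso : (DCoh.tildeD R).obj (gen R) ≅ (sec (Spec R)).pt.obj ⊤ :=
  ((tilde.functor R).mapDerivedCategorySingleFunctor 0).app (ModuleCat.of R R) ≪≫
    (singleFunctor _ 0).mapIso (topIso R).symm

theorem bijective_homology_map_gen {Z : DCoh.D (Spec R)} (hZ : DCoh.IsQCohD Z) :
    Function.Bijective (fun f : (DCoh.tildeD R).obj (gen R) ⟶ Z => (homologyFunctor (Spec R).Modules 0).map f) := by
  let τ := (sec (Spec R)).θ (𝟙 ((sec (Spec R)).pt.obj ⊤))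
  haveI : IsIso τ := by
    dsimp only [τ, SiteDer16.Sections.θ]
    haveI : IsIso ((homologyFunctor (Spec R).Modules 0).map (𝟙 ((sec (Spec R)).pt.obj ⊤))) := Functor.map_isIso _ _
    exact IsIso.comp_isIso' inferInstance (IsIso.comp_isIso' inferInstance this)
  let j := τ ≫ (homologyFunctor (Spec R).Modules 0).map (genIso R).inv
  have e : (fun x => j ≫ x) ∘ (fun f : (DCoh.tildeD R).obj (gen R) ⟶ Z => (homologyFunctor (Spec R).Modules 0).map f) =
      (fun y => (sec (Spec R)).θ y) ∘ fun f => (genIso R).inv ≫ f := by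
    funext f
    show j ≫ _ = (sec (Spec R)).θ ((genIso R).inv ≫ f)
    rw [show (genIso R).inv ≫ f = (𝟙 _ ≫ (genIso R).inv) ≫ f by rw [Category.id_comp],
      (sec (Spec R)).θ_comp, (sec (Spec R)).θ_comp]
  have hj : Function.Bijective (fun x : (homologyFunctor (Spec R).Modules 0).obj ((DCoh.tildeD R).obj (gen R)) ⟶
      (homologyFunctor (Spec R).Modules 0).obj Z => j ≫ x) := (asIso j).symm.homFromEquiv.bijective
  exact (Function.Bijective.of_comp_iff' hj _).1
    (e ▸ (bijective_θ Z hZ (isAffineOpen_top _)).comp (genIso R).homFromEquiv.bijective)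

theorem bijective_map_gen (Y : DerivedCategory (ModuleCat.{u} R)) :
    Function.Bijective (fun f : gen R ⟶ Y => (DCoh.tildeD R).map f) := by
  refine bijective_map_of_homology (tilde.functor R) ?_ (bijective_homology_map_gen R (isQCohD_tildeD R Y))
  have b := DCat.ProjHomology.bijective_toH (P := ModuleCat.of R R) Y
  exact (Function.Bijective.of_comp_iff' ((singleFunctorCompHomologyFunctorIso _ 0).app (ModuleCat.of R R)).symm.homFromEquiv.symm.bijective _).1
    (by exact b)

/-- The derived tilde functor is fully faithful with essential image the objects with quasi-coherent cohomology. -/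
theorem tildeD_main : (DCoh.tildeD R).Full ∧ (DCoh.tildeD R).Faithful ∧
    ∀ K : DCoh.D (Spec R), DCoh.IsQCohD K ↔ ∃ M, Nonempty ((DCoh.tildeD R).obj M ≅ K) := by
  haveI : (moduleSpecΓFunctor (R := R)).Additive := Adjunction.right_adjoint_additive tilde.adjunction
  haveI : PreservesFiniteColimits (tilde.functor R) :=
    haveI := (tilde.adjunction (R := R)).leftAdjoint_preservesColimits
    inferInstance
  let h := DCat.enoughKInj_of_isGrothendieckAbelian (A := (Spec (CommRingCat.of R)).Modules)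
  haveI := DCat.hasRightDerivedFunctor_of_enoughKInj h
    ((moduleSpecΓFunctor (R := R)).mapHomotopyCategory (ComplexShape.up ℤ) ⋙ Qh)
  obtain ⟨RG, ⟨adj⟩⟩ : ∃ RG, Nonempty ((tilde.functor R).mapDerivedCategory ⊣ RG) :=
    ⟨_, (DCat.derived_localization h (tilde.adjunction (R := R))).1⟩
  let T := DCoh.tildeD R
  have hb : ∀ (n : ℤ) (Y : DerivedCategory (ModuleCat.{u} R)),
      Function.Bijective (fun f : (gen R)⟦n⟧ ⟶ Y => T.map f) :=
    bijective_map_shift T (gen R) (bijective_map_gen R)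
  have hsep : IsSeparator (ModuleCat.of R R : ModuleCat.{u} R) := (isSeparator_def _).2 fun M N f g h => by
    ext x
    simpa using ConcreteCategory.congr_hom (h (ModuleCat.ofHom (LinearMap.toSpanSingleton R M x))) (1 : R)
  haveI hunit : ∀ Y, IsIso (adj.unit.app Y) := fun Y => by
    refine isIso_of_bijective_gen hsep _ fun n => ?_
    have e : (fun f : (gen R)⟦n⟧ ⟶ Y => f ≫ adj.unit.app Y) =
        (adj.homEquiv _ _) ∘ fun f => T.map f := by
      funext f
      simp [T, Adjunction.homEquiv_unit]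
    exact e ▸ (adj.homEquiv _ _).bijective.comp (hb n Y)
  haveI : IsIso adj.unit := NatIso.isIso_of_isIso_app _
  refine ⟨adj.fullyFaithfulLOfIsIsoUnit.full, adj.fullyFaithfulLOfIsIsoUnit.faithful, fun K => ⟨fun hK => ?_, ?_⟩⟩
  · refine ⟨RG.obj K, ⟨@asIso _ _ _ _ (adj.counit.app K) ?_⟩⟩
    rw [DerivedCategory.isIso_iff]
    intro i
    refine (NatIso.isIso_map_iff ((homologyFunctor (Spec R).Modules 0).shiftIso i 0 i (by omega)) _).1 ?_
    show IsIso ((homologyFunctor (Spec R).Modules 0).map ((adj.counit.app K)⟦i⟧'))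
    have hsh : ∀ Z : DCoh.D (Spec R), DCoh.IsQCohD Z → DCoh.IsQCohD (Z⟦i⟧) := fun Z hZ q =>
      isQCoh_of_iso (((homologyFunctor (Spec R).Modules 0).shiftIso i q (i + q) rfl).app Z).symm (h := hZ _)
    refine isIso_of_bijective_top (hsh _ (isQCohD_tildeD R _) 0) (hsh _ hK 0) _ ?_
    have b₁ := bijective_homology_map_gen R (hsh _ (isQCohD_tildeD R (RG.obj K)))
    have b₂ := bijective_homology_map_gen R (hsh _ hK)
    have b₃ : Function.Bijective (fun f : T.obj (gen R) ⟶ (T.obj (RG.obj K))⟦i⟧ => f ≫ (adj.counit.app K)⟦i⟧') := by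
      let eg : ((gen R)⟦-i⟧)⟦i⟧ ≅ gen R := (shiftFunctorCompIsoId _ (-i) i (by omega)).app _
      let c : (T.obj ((gen R)⟦-i⟧))⟦i⟧ ≅ T.obj (gen R) := ((T.commShiftIso i).app _).symm ≪≫ T.mapIso eg
      have b₀ : Function.Bijective (fun f : T.obj ((gen R)⟦-i⟧) ⟶ T.obj (RG.obj K) => f ≫ adj.counit.app K) := by
        have e : (fun f : T.obj ((gen R)⟦-i⟧) ⟶ T.obj (RG.obj K) => f ≫ adj.counit.app K) ∘ (fun g => T.map g) =
            (adj.homEquiv ((gen R)⟦-i⟧) K).symm := by
          funext g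
          simp [T, Adjunction.homEquiv_counit]
        exact (Function.Bijective.of_comp_iff _ (hb (-i) _)).1 (e ▸ (adj.homEquiv _ _).symm.bijective)
      let e₁ : ∀ Z : DCoh.D (Spec R), (T.obj ((gen R)⟦-i⟧) ⟶ Z) ≃ (T.obj (gen R) ⟶ Z⟦i⟧) := fun Z =>
        ((Functor.FullyFaithful.ofFullyFaithful (shiftFunctor (DCoh.D (Spec R)) i)).homEquiv).trans
          (Iso.homCongr c (Iso.refl _))
      have e : (fun f : T.obj (gen R) ⟶ (T.obj (RG.obj K))⟦i⟧ => f ≫ (adj.counit.app K)⟦i⟧') ∘ e₁ _ =
          e₁ _ ∘ fun f => f ≫ adj.counit.app K := by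
        funext f
        simp [e₁] <;> rfl
      exact (Function.Bijective.of_comp_iff _ (e₁ _).bijective).1 (e ▸ (e₁ _).bijective.comp b₀)
    have e : (fun g => g ≫ (homologyFunctor (Spec R).Modules 0).map ((adj.counit.app K)⟦i⟧')) ∘
        (fun f : T.obj (gen R) ⟶ (T.obj (RG.obj K))⟦i⟧ => (homologyFunctor (Spec R).Modules 0).map f) =
        (fun f => (homologyFunctor (Spec R).Modules 0).map f) ∘ fun f => f ≫ (adj.counit.app K)⟦i⟧' := by
      funext f
      simp
    have b₄ := (Function.Bijective.of_comp_iff _ b₁).1 (e ▸ b₂.comp b₃)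
    obtain ⟨η⟩ := nonempty_homology_natIso (tilde.functor R) 0
    let j : (tilde.functor R).obj (ModuleCat.of R R) ≅ (homologyFunctor (Spec R).Modules 0).obj (T.obj (gen R)) :=
      (tilde.functor R).mapIso ((singleFunctorCompHomologyFunctorIso _ 0).app _).symm ≪≫ (η.app (gen R)).symm
    have e' : (fun g => g ≫ (homologyFunctor (Spec R).Modules 0).map ((adj.counit.app K)⟦i⟧')) ∘
        (fun g => j.hom ≫ g) = (fun g => j.hom ≫ g) ∘
          fun g => g ≫ (homologyFunctor (Spec R).Modules 0).map ((adj.counit.app K)⟦i⟧') := by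
      funext g
      simp
    exact (Function.Bijective.of_comp_iff _ (j.symm.homFromEquiv).bijective).1
      (e' ▸ (j.symm.homFromEquiv).bijective.comp b₄)
  · rintro ⟨M, ⟨e⟩⟩ q
    exact isQCoh_of_iso ((homologyFunctor (Spec R).Modules q).mapIso e) (h := isQCohD_tildeD R M q)

end Groth.Agent.DQCoh
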