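import Groth.Agent.DQCoh.DQCohEquiv17
import Groth.Agent.DQCoh.ResProp17
import Groth.Agent.DQCoh.Push
import Groth.Agent.Desc19b.ResPropDiag
import Groth.Agent.Dual22Lib.PerfLift
import Groth.Agent.Dual22Lib.PushPerf

/-!
# Perfect objects are strictly perfect on schemes with the resolution property
-/

set_option autoImplicit false
set_option backward.isDefEq.respectTransparency false
set_option backward.defeqAttrib.useBackward true
set_option linter.style.haveILetI false
set_option linter.unusedSectionVars false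
set_option synthInstance.maxHeartbeats 100000
set_option backward.isDefEq.respectTransparency.types false

universe u

open CategoryTheory CategoryTheory.Limits CategoryTheory.Pretriangulated DerivedCategory AlgebraicGeometry TopologicalSpace
open Groth.Agent.DCat Groth.Agent.Coherent
open Groth.Agent.DQCoh.DQCohEquiv17

namespace Groth.Agent.DQCoh.ResPropD17

attribute [local instance] HasDerivedCategory.standard
attribute [-instance] Int.instConditionallyCompleteLinearOrder

variable {X : Scheme.{u}}

instance containsZero_QP : (QP X).ContainsZero := (isWeakSerre_qc X).toContainsZero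
instance kernels_QP : (QP X).IsClosedUnderKernels := (isWeakSerre_qc X).toIsClosedUnderKernels
instance cokernels_QP : (QP X).IsClosedUnderCokernels := (isWeakSerre_qc X).toIsClosedUnderCokernels
instance iso_QP : (QP X).IsClosedUnderIsomorphisms := ⟨fun e h => isQCoh_of_iso e (h := h)⟩

instance binaryProducts_QP : (QP X).IsClosedUnderBinaryProducts where
  limitsOfShape_le := by
    rintro M ⟨p⟩
    haveI : Coh.IsQCoh (p.diag.obj ⟨WalkingPair.left⟩) := p.prop_diag_obj _
    haveI : Coh.IsQCoh (p.diag.obj ⟨WalkingPair.right⟩) := p.prop_diag_obj _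
    exact isQCoh_of_iso (biprod.isoProd _ _ ≪≫ (prodIsProd _ _).conePointUniqueUpToIso
      ((IsLimit.equivOfNatIsoOfIso (diagramIsoPair p.diag) _ _ (Iso.refl _)).1 p.isLimit))
      (h := isQCoh_biprod _ _)

instance finiteProducts_QP : (QP X).IsClosedUnderFiniteProducts :=
  ObjectProperty.IsClosedUnderFiniteProducts.mk'

instance preservesFiniteLimits_QP : PreservesFiniteLimits (QP X).ι := by
  haveI : ∀ {M N : (QP X).FullSubcategory} (f : M ⟶ N), PreservesLimit (parallelPair f 0) (QP X).ι :=
    fun f => (QP X).preservesKernels_ι f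
  exact Functor.preservesFiniteLimits_of_preservesKernels _

instance preservesFiniteColimits_QP : PreservesFiniteColimits (QP X).ι := by
  haveI : ∀ {M N : (QP X).FullSubcategory} (f : M ⟶ N), PreservesColimit (parallelPair f 0) (QP X).ι :=
    fun f => (QP X).preservesCokernels_ι f
  exact Functor.preservesFiniteColimits_of_preservesCokernels _

/-- A perfect object is a bounded below complex of quasi-coherent modules. -/
theorem exists_qcoh_model [CompactSpace X] [QuasiSeparatedSpace X] (hX : PerfAux.HasResolutionProperty X)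
    {K : DCoh.D X} (hK : DCoh.IsPerfect K) :
    ∃ (F : CochainComplex X.Modules ℤ) (a : ℤ), (∀ n : ℤ, n < a → IsZero (F.X n)) ∧
      (∀ n : ℤ, Coh.IsQCoh (F.X n)) ∧ Nonempty (DerivedCategory.Q.obj F ≅ K) := by
  have hdiag : ∀ U V : X.Opens, IsAffineOpen U → IsAffineOpen V → IsAffineOpen (U ⊓ V) := fun U V hU hV =>
    Desc19b.isAffineOpen_inf_of_resolution hX hU hV
  obtain ⟨M, ⟨e⟩⟩ := (isQCohD_iff hdiag K).1 (Dual22Lib.PerfLift.isQCohD_perfect hK)
  obtain ⟨a, ha⟩ := Dual22Lib.PushPerf.exists_isGE_perfect hK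
  haveI : M.IsGE a := (DerivedCategory.isGE_iff _ _).2 fun i hi => by
    have h0 : IsZero ((QP X).ι.obj ((DerivedCategory.homologyFunctor _ i).obj M)) :=
      (((DerivedCategory.isGE_iff _ _).1 ha i hi).of_iso ((DerivedCategory.homologyFunctor _ i).mapIso e)).of_iso
        (SuppOpen.hdMapIso (QP X).ι M i).symm
    exact (IsZero.iff_id_eq_zero _).2 ((QP X).ι.map_injective (h0.eq_of_src _ _))
  obtain ⟨N, hN, ⟨eN⟩⟩ := DerivedCategory.exists_iso_Q_obj_of_isGE M a
  refine ⟨((QP X).ι.mapHomologicalComplex (ComplexShape.up ℤ)).obj N, a,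
    fun n hn => (QP X).ι.map_isZero (N.isZero_of_isStrictlyGE a n hn), fun n => (N.X n).property,
    ⟨((QP X).ι.mapDerivedCategoryFactors.app N).symm ≪≫ (QP X).ι.mapDerivedCategory.mapIso eN.symm ≪≫ e⟩⟩

/-- **Perfect objects are strictly perfect.** -/
theorem exists_strictlyPerfect [CompactSpace X] [QuasiSeparatedSpace X] (hX : PerfAux.HasResolutionProperty X)
    {K : DCoh.D X} (hK : DCoh.IsPerfect K) :
    ∃ E : CochainComplex X.Modules ℤ, DCoh.IsStrictlyPerfect E ∧ Nonempty (DCoh.toD X E ≅ K) := by
  obtain ⟨F, a, ha, hq, ⟨e⟩⟩ := exists_qcoh_model hX hK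
  obtain ⟨E, φ, hE, hφ⟩ := ResProp17.exists_resolution hX F ⟨a, ha⟩ hq
    ((PerfLocal.isPerfect_iff _).2 fun x => by
      obtain ⟨W, k, hk, hx, hP⟩ := (PerfLocal.isPerfect_iff _).1 hK x
      exact ⟨W, k, hk, hx, hP.of_iso e.symm⟩)
  exact ⟨E, hE, ⟨asIso (DerivedCategory.Q.map φ) ≪≫ e⟩⟩

end Groth.Agent.DQCoh.ResPropD17
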