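import Groth.Agent.DQCoh.Tilde
import Groth.Agent.DQCoh.RpushSum

/-!
# `Rf_*` for affine morphisms reflects isomorphisms on `D_QCoh`
-/

set_option autoImplicit false
set_option backward.isDefEq.respectTransparency false
set_option backward.defeqAttrib.useBackward true
set_option linter.style.haveILetI false
set_option synthInstance.maxHeartbeats 100000

universe u

open CategoryTheory CategoryTheory.Limits CategoryTheory.Pretriangulated DerivedCategory Opposite TopologicalSpace AlgebraicGeometry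
open Groth.Agent.SiteDer16 Groth.Agent.DCat Groth.Agent.Coherent

namespace Groth.Agent.DQCoh

attribute [local instance] HasDerivedCategory.standard

variable {X S : Scheme.{u}}

/-- A quasi-coherent module without sections on an affine open is zero there. -/
theorem isZero_restrict_of_sections (M : X.Modules) [Coh.IsQCoh M] {U : X.Opens} (hU : IsAffineOpen U)
    (h : ∀ x : (sec X).P.obj U ⟶ M, x = 0) : IsZero ((Scheme.Modules.restrictFunctor U.ι).obj M) := by
  let j : Spec (CommRingCat.of Γ(X, U)) ⟶ X := hU.fromSpec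
  haveI : IsOpenImmersion j := inferInstanceAs (IsOpenImmersion hU.fromSpec)
  let M' := (Scheme.Modules.restrictFunctor j).obj M
  have hM' : Coh.IsQCoh M' := (inferInstance : Coh.IsQCoh (M.restrict j))
  have htop : j ''ᵁ (⊤ : (Spec (CommRingCat.of Γ(X, U))).Opens) = U := by
    rw [Scheme.Hom.image_top_eq_opensRange]
    exact hU.opensRange_fromSpec
  have hs : Subsingleton Γ(M, U) := subsingleton_of_forall_eq 0 fun s => by
    rw [← (freeModOnEquiv U M).apply_symm_apply s, h ((freeModOnEquiv U M).symm s)]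
    exact map_zero (secMod U M)
  have hs' : Subsingleton Γ(M', ⊤) := by
    show Subsingleton Γ(M, j ''ᵁ ⊤)
    rw [htop]
    exact hs
  have hz : IsZero M' := by
    have hx : ∀ x : (tilde.functor Γ(X, U)).obj (ModuleCat.of Γ(X, U) Γ(X, U)) ⟶ M', x = 0 := fun x => by
      rw [← cancel_epi (topIso Γ(X, U)).hom, comp_zero]
      exact (freeModOnEquiv ⊤ M').injective (@Subsingleton.elim _ hs' _ _)
    haveI : IsIso (0 : M' ⟶ M') := isIso_of_bijective_top hM' hM' 0
      ⟨fun a b _ => (hx a).trans (hx b).symm, fun y => ⟨0, by simp [hx y]⟩⟩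
    exact (IsZero.iff_id_eq_zero M').2 (by rw [← cancel_epi (0 : M' ⟶ M')]; simp)
  refine isZero_restrict M U fun V hV x => (freeModOnEquiv V M).injective ?_
  have hVj : j ''ᵁ (j ⁻¹ᵁ V) = V := by
    rw [Scheme.Hom.image_preimage_eq_opensRange_inf, show j.opensRange = U from hU.opensRange_fromSpec]
    exact inf_eq_right.2 hV
  have hsub : Subsingleton Γ(M, V) := by
    rw [← hVj]
    have h0 := ModuleCat.subsingleton_of_isZero ((SheafOfModules.evaluation _ (op (j ⁻¹ᵁ V))).map_isZero hz)
    exact h0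
  exact @Subsingleton.elim _ hsub _ _

/-- An object of `D_QCoh` with no hypercohomology on the preimages of affine opens is zero. -/
theorem isZero_of_preimage (f : X ⟶ S) [IsAffineHom f] (C : DCoh.D X) (hC : DCoh.IsQCohD C)
    (h : ∀ (W : S.Opens), IsAffineOpen W → ∀ (k : ℤ) (y : ((sec X).pt.obj (f ⁻¹ᵁ W))⟦k⟧ ⟶ C), y = 0) : IsZero C := by
  refine isZero_of_isZero_hd C fun j => ?_
  refine isZero_of_restrict_cover (ι := S.affineOpens) _ (fun W => f ⁻¹ᵁ W.1) (fun x => ?_) fun W => ?_
  · obtain ⟨W, hW, hx, -⟩ := exists_isAffineOpen_mem_and_subset (x := f.base x) (U := (⊤ : S.Opens)) trivial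
    exact ⟨⟨W, hW⟩, hx⟩
  haveI : Coh.IsQCoh (DCoh.HD C j) := hC j
  have hU : IsAffineOpen (f ⁻¹ᵁ W.1) := W.2.preimage f
  refine isZero_restrict_of_sections _ hU fun x => ?_
  let σ := (homologyFunctor X.Modules 0).shiftIso j 0 j (by omega)
  obtain ⟨y, hy⟩ := (bijective_θ (C⟦j⟧) (fun i => isQCoh_of_iso
    (((homologyFunctor X.Modules 0).shiftIso j i (j + i) rfl).app C).symm (h := hC _)) hU).2 (x ≫ σ.inv.app C)
  rw [← cancel_mono (σ.inv.app C), zero_comp, ← hy]
  let e := (shiftFunctorCompIsoId (DCoh.D X) (-j) j (by omega)).app ((sec X).pt.obj (f ⁻¹ᵁ W.1))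
  have hy0 : y = 0 := by
    obtain ⟨z, hz⟩ := (shiftFunctor (DCoh.D X) j).map_surjective (e.hom ≫ y)
    rw [← cancel_epi e.hom, comp_zero, ← hz, h W.1 W.2 _ z, Functor.map_zero]
  simp [hy0, SiteDer16.Sections.θ]

/-- `Rf_*` for affine `f` reflects isomorphisms between objects of `D_QCoh`. -/
theorem isIso_of_isIso_Rpush (f : X ⟶ S) [IsAffineHom f] [DCoh.HasRpush f] {E F : DCoh.D X}
    (hE : DCoh.IsQCohD E) (hF : DCoh.IsQCohD F) (α : E ⟶ F) (hα : IsIso ((DCoh.Rpush f).map α)) : IsIso α := by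
  obtain ⟨_, _⟩ := exists_commShift_Rpush f
  obtain ⟨C, v, w, hT⟩ := distinguished_cocone_triangle α
  refine (Triangle.isZero₃_iff_isIso₁ _ hT).1 (isZero_of_preimage f C ?_ fun W hW k y => ?_)
  · exact SiteDer16.cohIn_obj₂ (qc X) (rot_of_distTriang _ hT) hF fun i =>
      isQCoh_of_iso (((homologyFunctor X.Modules 0).shiftIso 1 i (1 + i) rfl).app E).symm (h := hE _)
  · have hz : IsZero ((DCoh.Rpush f).obj C) :=
      (Triangle.isZero₃_iff_isIso₁ _ ((DCoh.Rpush f).map_distinguished _ hT)).2 hα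
    obtain ⟨b, hb⟩ := exists_homEquiv f W k
    exact (b C).symm.injective (hz.eq_of_tgt _ _)

end Groth.Agent.DQCoh
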