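import Groth.Agent.Coherent.InternalHom
import Groth.Agent.Coherent.CohBC.HomSheaf
import Groth.Agent.Coherent.CohBC.PushStructure
import Groth.Agent.Coherent.TensorSections
import Groth.Agent.Coherent.PullUnit
import Groth.Agent.Coherent.SupportPullback
import Groth.Agent.H8Lim.ModEq
import Groth.Agent.MorProj.FinFree
import Groth.Agent.DCat.PerfTensor
import Groth.Prelude.Def_PerfAux
import Groth.Prelude.Def_Mor2

/-!
# The resolution property descends along finite locally free morphisms
-/

set_option autoImplicit false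
set_option backward.isDefEq.respectTransparency false
set_option backward.isDefEq.respectTransparency.types false
set_option linter.style.haveILetI false
set_option linter.unusedVariables false

universe u

open CategoryTheory CategoryTheory.Limits AlgebraicGeometry Opposite TopologicalSpace
open Groth.Agent.Coherent Groth.Agent.PicLib Groth.Agent.AmpleLib
open scoped TensorProduct

namespace Groth.Agent.DQCoh

variable {X Y : Scheme.{u}} (f : X ⟶ Y) (M : Y.Modules)

/-- `f_* O_X`. -/
noncomputable abbrev pushStr : Y.Modules := (Scheme.Modules.pushforward f).obj (Coh.structureModule X)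

/-- `(a, m) ↦ a • f^* m`. -/
noncomputable def unitBilin :
    Bilin (pushStr f) M ((Scheme.Modules.pushforward f).obj ((Scheme.Modules.pullback f).obj M)) where
  app U a m := (show Γ((Scheme.Modules.pullback f).obj M, f ⁻¹ᵁ U) from
    (show Γ(X, f ⁻¹ᵁ U) from a) • pullSec f m)
  add_left U a a' m := add_smul (show Γ(X, f ⁻¹ᵁ U) from a) (show Γ(X, f ⁻¹ᵁ U) from a') (pullSec f m)
  add_right U a m m' := by
    show (show Γ(X, f ⁻¹ᵁ U) from a) • pullSec f (m + m') = _
    rw [show pullSec f (m + m') = pullSec f m + pullSec f m' from map_add _ _ _, smul_add]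
  smul_left U r a m := by
    show (f.app U r * (show Γ(X, f ⁻¹ᵁ U) from a)) • pullSec f m =
      f.app U r • ((show Γ(X, f ⁻¹ᵁ U) from a) • pullSec f m)
    exact mul_smul (f.app U r) (show Γ(X, f ⁻¹ᵁ U) from a) (pullSec f m)
  smul_right U r a m := by
    show (show Γ(X, f ⁻¹ᵁ U) from a) • pullSec f (r • m) =
      f.app U r • ((show Γ(X, f ⁻¹ᵁ U) from a) • pullSec f m)
    rw [pullSec_smul, smul_comm]
  res U V h a m := by
    show resM _ ((Opens.map f.base).map (homOfLE h)).le ((show Γ(X, f ⁻¹ᵁ U) from a) • pullSec f m) = _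
    rw [resM_smul, resM_pullSec f h]
    rfl

theorem isIso_unitBilin [IsAffineHom f] [Coh.IsQCoh M] : IsIso (unitBilin f M).desc := by
  haveI : Coh.IsQCoh (Coh.structureModule X) := isQCoh_structureModule (X := X)
  haveI : Coh.IsQCoh (pushStr f) := isQCoh_push f _
  refine TwistLib.G.isIso_of_bijective_on_basis _ (fun B => IsAffineOpen B) (fun V y hy => ?_) fun B hB => ?_
  · obtain ⟨U, hU, hyU, hle⟩ := exists_isAffineOpen_mem_and_subset (x := y) (U := V) hy
    exact ⟨U, hU, hyU, hle⟩
  let W : X.Opens := f ⁻¹ᵁ B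
  have hW : IsAffineOpen W := hB.preimage f
  letI := (f.appLE B W le_rfl).hom.toAlgebra
  letI := Module.compHom Γ((Scheme.Modules.pullback f).obj M, W) (f.appLE B W le_rfl).hom
  haveI : IsScalarTower Γ(Y, B) Γ(X, W) Γ((Scheme.Modules.pullback f).obj M, W) :=
    IsScalarTower.of_algebraMap_smul fun _ _ => rfl
  obtain ⟨μ, hμ, hμm⟩ := EGA43.InjFibre.pullMap_isBaseChange f hB hW le_rfl M
  let eA : Γ(pushStr f, B) ≃ₗ[Γ(Y, B)] Γ(X, W) :=
    { toFun := fun a => a
      invFun := fun a => a
      left_inv := fun _ => rfl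
      right_inv := fun _ => rfl
      map_add' := fun _ _ => rfl
      map_smul' := fun r a => by
        show f.app B r * (show Γ(X, W) from a) = f.appLE B W le_rfl r * (show Γ(X, W) from a)
        rw [Scheme.Hom.app_eq_appLE] }
  let Φ : Γ(pushStr f, B) ⊗[Γ(Y, B)] Γ(M, B) → Γ((Scheme.Modules.pullback f).obj M, W) :=
    fun z => (unitBilin f M).desc.app B (tmulMap (pushStr f) M B z)
  have hΦ : Φ = hμ.equiv ∘ TensorProduct.congr eA (LinearEquiv.refl _ _) := funext fun z => by
    show (unitBilin f M).desc.app B (tmulMap (pushStr f) M B z) = hμ.equiv (TensorProduct.congr eA (LinearEquiv.refl _ _) z)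
    induction z using TensorProduct.induction_on with
    | zero => simp only [map_zero]
    | add a b ha hb =>
      simp only [map_add] at ha hb ⊢
      rw [ha, hb]
    | tmul a m =>
      rw [tmulMap_tmul, Bilin.desc_tmul, TensorProduct.congr_tmul, IsBaseChange.equiv_tmul, hμm,
        pullMap_eq_resM_pullSec]
      show (show Γ(X, W) from a) • pullSec f m = (show Γ(X, W) from a) • resM _ _ (pullSec f m)
      rw [resM_self]
  have hb : Function.Bijective Φ := by
    rw [hΦ]
    exact hμ.equiv.bijective.comp (TensorProduct.congr eA (LinearEquiv.refl _ _)).bijective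
  exact (Function.Bijective.of_comp_iff _ (bijective_tmulMap hB (pushStr f) M)).1 hb

/-- The direct image of a finite locally free module along a finite locally free morphism. -/
theorem isFinLocFree_push (hf : Mor2.IsFinLocFree f) {E : X.Modules} (hE : FlatMod.IsFinLocFree E) :
    FlatMod.IsFinLocFree ((Scheme.Modules.pushforward f).obj E) := by
  obtain ⟨hfin, hflat, hlfp⟩ := hf
  haveI := hfin
  haveI : Coh.IsQCoh E := DCat.PullPerf.isQCoh_of_finLocFree hE
  haveI : Coh.IsQCoh ((Scheme.Modules.pushforward f).obj E) := isQCoh_push f _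
  let F := (Scheme.Modules.pushforward f).obj E
  have key : ∀ W : Y.Opens, IsAffineOpen W →
      Module.FinitePresentation Γ(Y, W) Γ(F, W) ∧ Module.Flat Γ(Y, W) Γ(F, W) := fun W hW => by
    letI := (f.app W).hom.toAlgebra
    have hU : IsAffineOpen (f ⁻¹ᵁ W) := hW.preimage f
    haveI : Module.Finite Γ(Y, W) Γ(X, f ⁻¹ᵁ W) := IsFinite.finite_app (f := f) W hW
    have h1 := f.flat_appLE hW (hW.preimage f) le_rfl
    rw [← f.app_eq_appLE] at h1
    haveI : Module.Flat Γ(Y, W) Γ(X, f ⁻¹ᵁ W) := h1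
    have h2 := (HasRingHomProperty.iff_appLE (P := @LocallyOfFinitePresentation) (f := f)).1 hlfp ⟨W, hW⟩
      ⟨_, hW.preimage f⟩ le_rfl
    rw [← f.app_eq_appLE] at h2
    haveI : Algebra.FinitePresentation Γ(Y, W) Γ(X, f ⁻¹ᵁ W) := h2
    haveI := Module.FinitePresentation.of_finite_of_finitePresentation Γ(Y, W) Γ(X, f ⁻¹ᵁ W)
    letI : Module Γ(Y, W) Γ(E, f ⁻¹ᵁ W) := Module.compHom _ (f.app W).hom
    haveI : IsScalarTower Γ(Y, W) Γ(X, f ⁻¹ᵁ W) Γ(E, f ⁻¹ᵁ W) := IsScalarTower.of_algebraMap_smul fun _ _ => rfl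
    haveI := EGA43.QcohFP.finitePresentation_sections E (Props12.isFP_of_isFinLocFree _ hE) hU
    haveI := Props12.flat_sections_of_isFlat E (Props12.isFlat_of_isFinLocFree _ hE) hU
    let l : Γ(E, f ⁻¹ᵁ W) ≃ₗ[Γ(Y, W)] Γ(F, W) :=
      { toFun := fun x => x
        invFun := fun x => x
        left_inv := fun _ => rfl
        right_inv := fun _ => rfl
        map_add' := fun _ _ => rfl
        map_smul' := fun _ _ => rfl }
    haveI := Module.FinitePresentation.trans (R := Γ(Y, W)) (M := Γ(E, f ⁻¹ᵁ W)) Γ(X, f ⁻¹ᵁ W)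
    haveI := Module.Flat.trans Γ(Y, W) Γ(X, f ⁻¹ᵁ W) Γ(E, f ⁻¹ᵁ W)
    exact ⟨Module.FinitePresentation.of_equiv l, Module.Flat.of_linearEquiv l.symm⟩
  have hFP : CohB1.IsFP F := EGA43.FPKernel.isFP_of_forall_exists_affine _ fun x => by
    obtain ⟨W, hW, hxW, -⟩ := exists_isAffineOpen_mem_and_subset (x := x) (U := (⊤ : Y.Opens)) trivial
    exact ⟨W, hW, hxW, (key W hW).1⟩
  refine Props12.isFinLocFree_of_isFP_of_free_stalks _ hFP fun x => ?_
  obtain ⟨W, hW, hxW, -⟩ := exists_isAffineOpen_mem_and_subset (x := x) (U := (⊤ : Y.Opens)) trivial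
  haveI := (key W hW).2
  haveI := Props12.flat_stalk_of_flat_sections F hW hxW
  haveI := hFP
  have hFT : CohB1.IsFT F := inferInstance
  haveI := Props12.finite_stalk_of_isFT F hFT x
  exact Module.free_of_flat_of_isLocalRing

/-- The resolution property descends. -/
theorem resolution_descends (hf : Mor2.IsFinLocFree f) [Surjective f] (hX : PerfAux.HasResolutionProperty X) :
    PerfAux.HasResolutionProperty Y := by
  classical
  intro M hM hMT
  haveI := hM
  haveI : IsFinite f := hf.1
  obtain ⟨-, hA⟩ := MorProj.finLocFree_pushforward_of_isFinLocFree f hf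
  let A := pushStr f
  let P := (Scheme.Modules.pullback f).obj M
  haveI : Coh.IsQCoh P := EGA43.InjFibre.isQCoh_pullback f M
  obtain ⟨V, π, hV, hπ⟩ := hX P inferInstance (isFT_pullback_qcoh (f := f) hM hMT)
  haveI := hπ
  haveI : Coh.IsQCoh V := DCat.PullPerf.isQCoh_of_finLocFree hV
  have hV' := isFinLocFree_push f hf hV
  haveI := isIso_unitBilin f M
  let θ := (unitBilin f M).desc
  let D := internalHom A (Coh.structureModule Y)
  let fV := (Scheme.Modules.pushforward f).obj V
  let u : fV ⟶ internalHom D M := (Scheme.Modules.pushforward f).map π ≫ inv θ ≫ (contractBilin A M).desc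
  let σ : CohB1.tensorMod D fV ⟶ M := (uncurry u).desc
  have hD : FlatMod.IsFinLocFree D := CohBC.isFinLocFree_internalHom hA (CohBC.isFinLocFree_structureModule Y)
  haveI := isIso_contract hD fV
  refine ⟨CohB1.tensorMod D fV, σ, DCat.PerfTensor.isFinLocFree_of_iso (asIso (contractBilin D fV).desc).symm
    (CohBC.isFinLocFree_internalHom (CohBC.isFinLocFree_internalHom hD (CohBC.isFinLocFree_structureModule Y)) hV'), ?_⟩
  refine epi_of_locally_surjective σ fun W a y hy => ?_
  obtain ⟨U, n, e, hyU, hUW, he⟩ := exists_basis_nhd hA y W hy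
  obtain ⟨B, hB, hyB, hBU⟩ := exists_isAffineOpen_mem_and_subset (x := y) (U := U) hyU
  refine ⟨B, hBU.trans hUW, hyB, ?_⟩
  let x : Γ(M, B) := resM M (hBU.trans hUW) a
  obtain ⟨z, hz⟩ := f.surjective y
  haveI : Nontrivial Γ(X, f ⁻¹ᵁ B) :=
    haveI : Nonempty (f ⁻¹ᵁ B : X.Opens).toScheme := ⟨⟨z, show f z ∈ B by rw [hz]; exact hyB⟩⟩
    Scheme.component_nontrivial X (f ⁻¹ᵁ B)
  obtain ⟨k⟩ : Nonempty (ULift.{u} (Fin n)) := by
    by_contra hI
    rw [not_nonempty_iff] at hI
    have h0 : ∀ w : Γ(A, B), w = 0 := fun w => by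
      rw [← he.coef_spec hBU w, Finset.univ_eq_empty, Finset.sum_empty]
    exact one_ne_zero (α := Γ(X, f ⁻¹ᵁ B)) (h0 (show Γ(A, B) from (1 : Γ(X, f ⁻¹ᵁ B))))
  let ek : Γ(A, B) := resM A hBU (e k)
  let t : Γ(CohB1.tensorMod A M, B) := tmul ek x
  obtain ⟨v, hv⟩ := H8Lim.app_surjective_of_epi π (hB.preimage f) (θ.app B t)
  have hu : u.app B v = (contractBilin A M).desc.app B t := by
    show (contractBilin A M).desc.app B ((inv θ).app B (π.app (f ⁻¹ᵁ B) v)) = _
    rw [hv]
    exact congrArg _ (congr($(IsIso.hom_inv_id θ).app B t))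
  let φ : Γ(D, B) := resM D hBU (coordHom he k)
  refine ⟨tmul φ v, ?_⟩
  refine ((uncurry u).desc_tmul B φ v).trans ?_
  show ev (secHom (u.app B v)) B le_rfl φ = x
  rw [hu, show (contractBilin A M).desc.app B t = (contractBilin A M).app B ek x from Bilin.desc_tmul _ B ek x]
  show (show Γ(Y, B) from ev (secHom φ) B le_rfl (resM A le_rfl ek)) • resM M le_rfl x = x
  rw [resM_self, resM_self]
  have hc : (show Γ(Y, B) from ev (secHom φ) B le_rfl ek) = 1 := by
    show (show Γ(Y, B) from ev (secHom (coordHom he k)) B (le_rfl.trans hBU) ek) = 1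
    rw [coordHom_ev, he.coef_self]
    simp
  rw [hc, one_smul]

end Groth.Agent.DQCoh
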