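import Groth.Agent.DQCoh.FittSupport17
import Groth.Agent.CohExch.ChartApps
import Groth.Agent.CohExch.Chart0
import Groth.Agent.DCat.ProjPerfFree
import Groth.Agent.SerreDual.PushEquiv
import Groth.Agent.DRingLib.PCCoherent17
import Groth.Agent.EulerLib.Additive

/-!
# Cohomology of flat finitely presented modules with proper support, any base
-/

set_option autoImplicit false
set_option backward.isDefEq.respectTransparency false
set_option linter.style.haveILetI false

universe u

open CategoryTheory CategoryTheory.Limits AlgebraicGeometry Opposite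
open Groth.Agent.Coherent Groth.Agent.Coherent.CohBC Groth.Agent.CohExch TopologicalSpace

namespace Groth.Agent.DQCoh.ProperSuppFlat17

variable {X S : Scheme.{u}}

theorem isFinLocFree_of_iso {M N : S.Modules} (e : M ≅ N) (h : FlatMod.IsFinLocFree M) : FlatMod.IsFinLocFree N :=
  fun x => by
  obtain ⟨U, n, hx, ⟨e'⟩⟩ := h x
  exact ⟨U, n, hx, ⟨(Scheme.Modules.restrictFunctor U.ι).mapIso e.symm ≪≫ e'⟩⟩

/-- Vanishing of all higher direct images makes the cokernel in degree zero flat. -/
theorem exists_flat_zero (f : X ⟶ S) (F : X.Modules) [IsProper f] [LocallyOfFinitePresentation f] [Coh.IsQCoh F]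
    [HasInjectiveResolutions X.Modules] (hfp : CohB1.IsFP F) (hfl : FlatMod.IsFlatOver f F)
    (h0 : ∀ p : ℕ, 0 < p → IsZero ((Coh.Rpush f p).obj F)) (s : S) :
    ∃ C : Chart f F, s ∈ C.U ∧ C.Flat ((0 : ℕ) : ℤ) := by
  obtain ⟨C, hsC, -⟩ := exists_chart hfp hfl (V := (⊤ : S.Opens)) (s := s) trivial
  obtain ⟨N, hN⟩ := C.exists_flat_large
  have key : ∀ k q : ℕ, N ≤ q + k → ∃ C' : Chart f F, s ∈ C'.U ∧ C'.Flat (q : ℤ) := by
    intro k
    induction k with
    | zero => exact fun q hq => ⟨C, hsC, hN q hq⟩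
    | succ k ih =>
      intro q hq
      obtain ⟨C', hs', h'⟩ := ih (q + 1) (by omega)
      have hV : FlatMod.IsFinLocFree (((Coh.Rpush f (q + 1)).obj F).restrict (⊤ : S.Opens).ι) := fun x =>
        ⟨⊤, 0, trivial, ⟨((Scheme.Modules.restrictFunctor (⊤ : (⊤ : S.Opens).toScheme.Opens).ι).map_isZero
          ((Scheme.Modules.restrictFunctor (⊤ : S.Opens).ι).map_isZero (h0 _ q.succ_pos))).iso
            DCat.ProjPerf.isZero_freeMod_zero⟩⟩
      obtain ⟨C'', hs'', -, hflat, -⟩ := C'.exists_flat_pred hfl (q + 1) hV (trivial : s ∈ (⊤ : S.Opens)) hs' h'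
      exact ⟨C'', hs'', by simpa using hflat⟩
  exact key N 0 (by omega)

/-- No higher direct images: the direct image is finite locally free. -/
theorem isFinLocFree_push (f : X ⟶ S) [LocallyOfFinitePresentation f] [HasInjectiveResolutions X.Modules]
    (F : X.Modules) (hF : CohB1.IsFP F) (hflat : FlatMod.IsFlatOver f F)
    (hsupp : ClSub.IsProperOver f (CohB1.support F))
    (hvan : ∀ i : ℕ, 0 < i → IsZero ((Coh.Rpush f i).obj F)) :
    FlatMod.IsFinLocFree ((Coh.push f).obj F) := by
  obtain ⟨Z, i, _, _, _, G, _, hG, hfl, ⟨e⟩⟩ := FittSupport17.exists_model f F hF hflat hsupp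
  haveI := hasInjectiveResolutions_modules Z
  have h0 : ∀ p : ℕ, 0 < p → IsZero ((Coh.Rpush (i ≫ f) p).obj G) := fun p hp => by
    obtain ⟨e'⟩ := nonempty_rpush_comp_closedImmersion i f G p
    exact (hvan p hp).of_iso (e' ≪≫ (Coh.Rpush f p).mapIso e.symm)
  refine isFinLocFree_of_iso (((Scheme.Modules.pushforwardComp i f).app G).symm ≪≫ (Coh.push f).mapIso e.symm) ?_
  intro y
  obtain ⟨C, hC, hflat0⟩ := exists_flat_zero (i ≫ f) G hG hfl h0 y
  obtain ⟨W, n, hW, e'⟩ := C.exists_trivial_nhd0 hflat0 hC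
  exact ⟨W, n, hW, e'⟩

/-- Homology of finite free modules over a coherent ring. -/
theorem fp_homology_sc {R : Type u} [CommRing R] (hR : ∀ I : Ideal R, I.FG → Module.FinitePresentation R I)
    (K : ShortComplex (ModuleCat.{u} R)) [Module.Finite R K.X₁] [Module.Finite R K.X₂] [Module.Free R K.X₂]
    [Module.Finite R K.X₃] [Module.Free R K.X₃] : Module.FinitePresentation R K.homology := by
  haveI := Module.finitePresentation_of_projective R K.X₂
  haveI := Module.finitePresentation_of_projective R K.X₃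
  haveI : Module.FinitePresentation R (LinearMap.range K.g.hom) :=
    DRingLib.PCCoherent17.fp_submodule hR _ (LinearMap.range_eq_map K.g.hom ▸ Module.Finite.fg_top.map _)
  have hZ : (LinearMap.ker K.g.hom).FG := by
    have := Module.FinitePresentation.fg_ker K.g.hom.rangeRestrict K.g.hom.surjective_rangeRestrict
    rwa [LinearMap.ker_rangeRestrict] at this
  haveI : Module.FinitePresentation R (LinearMap.ker K.g.hom) :=
    DRingLib.PCCoherent17.fp_submodule hR _ hZ
  let B := LinearMap.range K.moduleCatToCycles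
  haveI : Module.FinitePresentation R (LinearMap.ker K.g.hom ⧸ B) :=
    Module.finitePresentation_of_surjective B.mkQ B.mkQ_surjective
      (by
        rw [Submodule.ker_mkQ]
        show (LinearMap.range K.moduleCatToCycles).FG
        rw [LinearMap.range_eq_map]
        exact Module.Finite.fg_top.map _)
  exact Module.FinitePresentation.of_equiv (M := LinearMap.ker K.g.hom ⧸ B) K.moduleCatHomologyIso.toLinearEquiv.symm

/-- Coherence of cohomology over a coherent ring. -/
theorem finitePresentation_HH (R : Type u) [CommRing R]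
    (hR : ∀ I : Ideal R, I.FG → Module.FinitePresentation R I) (Y : Scheme.{u})
    [Y.Over (Spec (CommRingCat.of R))] [LocallyOfFinitePresentation (Y ↘ Spec (CommRingCat.of R))]
    (F : Y.Modules) (hF : CohB1.IsFP F) (hflat : FlatMod.IsFlatOver (Y ↘ Spec (CommRingCat.of R)) F)
    (hsupp : ClSub.IsProperOver (Y ↘ Spec (CommRingCat.of R)) (CohB1.support F)) (q : ℕ) :
    Module.FinitePresentation R (Coh.HH Y F q) := by
  obtain ⟨Z, i, _, _, _, G, _, hG, hfl, ⟨e⟩⟩ :=
    FittSupport17.exists_model (Y ↘ Spec (CommRingCat.of R)) F hF hflat hsupp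
  letI : Z.Over (Spec (CommRingCat.of R)) := ⟨i ≫ (Y ↘ Spec (CommRingCat.of R))⟩
  haveI : IsProper (Z ↘ Spec (CommRingCat.of R)) := ‹IsProper (i ≫ (Y ↘ Spec (CommRingCat.of R)))›
  haveI : LocallyOfFinitePresentation (Z ↘ Spec (CommRingCat.of R)) :=
    (inferInstance : LocallyOfFinitePresentation (i ≫ (Y ↘ Spec (CommRingCat.of R))))
  obtain ⟨D⟩ := nonempty_perfData_of_isFP (A := R) G hG hfl
  let K := D.P.sc' (-(q : ℤ) + 1) (-(q : ℤ)) (-(q : ℤ) - 1)
  haveI : Module.Finite R K.X₁ := (D.finite_free_P _).1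
  haveI : Module.Finite R K.X₂ := (D.finite_free_P _).1
  haveI : Module.Free R K.X₂ := (D.finite_free_P _).2
  haveI : Module.Finite R K.X₃ := (D.finite_free_P _).1
  haveI : Module.Free R K.X₃ := (D.finite_free_P _).2
  haveI := fp_homology_sc hR K
  haveI : Module.FinitePresentation R (D.P.homology (-(q : ℤ))) :=
    Module.FinitePresentation.of_equiv (M := K.homology) (ShortComplex.homologyMapIso
      (D.P.isoSc' (-(q : ℤ) + 1) (-(q : ℤ)) (-(q : ℤ) - 1) (by simp) (by simp))).toLinearEquiv.symm
  exact Module.FinitePresentation.of_equiv ((D.hhHomology q).symm.trans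
    ((SerreDual.hpushA i R rfl G q).trans ((EulerLib.HHBaseEquiv R _ q).trans
      ((isoA _ e.symm ⊤ q).trans (EulerLib.HHBaseEquiv R F q).symm))))

end Groth.Agent.DQCoh.ProperSuppFlat17
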