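import Groth.Agent.DQCoh.Local
import Groth.Agent.DCat.ShriekTensor
import Groth.Agent.DCat.TotKFlat
import Groth.Agent.DCat.PerfLocal
import Groth.Agent.Coherent.CohBC.LocalModules

/-!
# Devissage of perfect objects from the sheaves `j_! O`
-/

set_option autoImplicit false
set_option backward.isDefEq.respectTransparency false
set_option backward.defeqAttrib.useBackward true
set_option linter.style.haveILetI false
set_option synthInstance.maxHeartbeats 100000

universe v' u u'

open CategoryTheory CategoryTheory.Limits CategoryTheory.Pretriangulated DerivedCategory Opposite TopologicalSpace AlgebraicGeometry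
open Groth.Agent.SiteDer16 Groth.Agent.DCat Groth.Agent.Coherent Groth.Agent.DCat.PerfLocal
open HomologicalComplex

namespace Groth.Agent.DQCoh

attribute [local instance] HasDerivedCategory.standard
attribute [-instance] Int.instConditionallyCompleteLinearOrder

/-- Classes stable under the operations of a triangulated subcategory. -/
structure IsDev {D : Type u'} [Category.{v'} D] [Preadditive D] [HasZeroObject D] [HasShift D ℤ]
    [∀ n : ℤ, (shiftFunctor D n).Additive] [Pretriangulated D] (P : ObjectProperty D) : Prop where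
  iso : ∀ {K L : D}, (K ≅ L) → P K → P L
  zero : ∀ K : D, IsZero K → P K
  shift : ∀ (K : D) (n : ℤ), P K → P (K⟦n⟧)
  ext : ∀ T ∈ distTriang D, P T.obj₁ → P T.obj₃ → P T.obj₂

variable {X : Scheme.{u}}

theorem IsDev.cone {P : ObjectProperty (DCoh.D X)} (hP : IsDev P) {T : Triangle (DCoh.D X)}
    (hT : T ∈ distTriang _) (h₁ : P T.obj₁) (h₂ : P T.obj₂) : P T.obj₃ :=
  hP.ext _ (rot_of_distTriang _ hT) h₂ (hP.shift _ 1 h₁)

theorem IsDev.biprod {P : ObjectProperty (DCoh.D X)} (hP : IsDev P) (M N : X.Modules)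
    (hM : P ((singleFunctor X.Modules 0).obj M)) (hN : P ((singleFunctor X.Modules 0).obj N)) :
    P ((singleFunctor X.Modules 0).obj (M ⊞ N)) :=
  hP.ext _ (ShortComplex.Splitting.ofHasBinaryBiproduct M N).shortExact.singleTriangle_distinguished hM hN

/-- Finite sums stay in the class. -/
theorem IsDev.sigma {P : ObjectProperty (DCoh.D X)} (hP : IsDev P) : ∀ {n : ℕ} (f : Fin n → X.Modules),
    (∀ i, P ((singleFunctor X.Modules 0).obj (f i))) → P ((singleFunctor X.Modules 0).obj (∐ f)) := by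
  intro n
  induction n with
  | zero => exact fun f _ => hP.zero _ ((singleFunctor X.Modules 0).map_isZero
      ((IsZero.iff_id_eq_zero _).2 (Sigma.hom_ext _ _ fun i => i.elim0)))
  | succ n ih =>
    intro f h
    let g : Fin n → X.Modules := fun i => f i.succ
    let p : ∐ f ⟶ ∐ g := Sigma.desc (Fin.cases (0 : f 0 ⟶ ∐ g) fun i => Sigma.ι g i)
    let r : ∐ f ⟶ f 0 := Sigma.desc (Fin.cases (𝟙 (f 0)) fun i => (0 : f i.succ ⟶ f 0))
    let sp : (ShortComplex.mk (Sigma.ι f 0) p (Sigma.ι_desc _ _)).Splitting :=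
      { r := r
        s := Sigma.desc fun i => Sigma.ι f i.succ
        f_r := Sigma.ι_desc _ _
        s_g := Sigma.hom_ext _ _ fun i => by simp [p, g]
        id := Sigma.hom_ext _ _ fun i => by
          induction i using Fin.cases <;> simp [p, r, g] }
    exact hP.ext _ sp.shortExact.singleTriangle_distinguished (h 0) (ih g fun i => h i.succ)

/-- Bounded complexes with terms in the class. -/
theorem IsDev.bounded {P : ObjectProperty (DCoh.D X)} (hP : IsDev P) (K : CochainComplex X.Modules ℤ) {a b : ℤ}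
    (hK : DCoh.VanishesOutside K a b) (h : ∀ n, P ((singleFunctor X.Modules 0).obj (K.X n))) :
    P (DerivedCategory.Q.obj K) := by
  refine DCat.bounded_induction (fun K => P (DerivedCategory.Q.obj K))
    (fun M => P ((singleFunctor X.Modules 0).obj M))
    (fun K hK => hP.zero _ (DerivedCategory.Q.map_isZero hK))
    (fun M hM => hP.zero _ ((singleFunctor X.Modules 0).map_isZero hM))
    (fun M N e => hP.iso ((singleFunctor X.Modules 0).mapIso e))
    (fun n M hM => ?_) (fun S hS h₁ h₃ => ?_) a (b + 1 - a).toNat K (fun n hn => hK n (Or.inl hn))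
    (fun n hn => hK n (Or.inr (by omega))) h
  · let eg : DerivedCategory.Q.obj ((HomologicalComplex.single X.Modules (ComplexShape.up ℤ) n).obj M) ≅
        ((singleFunctor X.Modules 0).obj M)⟦-n⟧ :=
      DerivedCategory.Q.mapIso (((CochainComplex.singleFunctors X.Modules).shiftIso (-n) n 0 (by omega)).app M).symm ≪≫
        (DerivedCategory.Q.commShiftIso (-n)).app _ ≪≫
      (shiftFunctor _ (-n)).mapIso (((SingleFunctors.evaluation _ _ 0).mapIso
        (DerivedCategory.singleFunctorsPostcompQIso X.Modules)).app M).symm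
    exact hP.iso eg.symm (hP.shift _ _ hM)
  · exact hP.ext _ (DerivedCategory.triangleOfSES_distinguished
      (HomologicalComplex.shortExact_of_degreewise_shortExact S fun n => (hS n).some.shortExact)) h₁ h₃

/-- `j_!` of the structure sheaf of an open. -/
noncomputable def shriekFreeIso {U : Scheme.{u}} (j : U ⟶ X) [IsOpenImmersion j] (Z : U.Opens) :
    (JShriek.shriek j).obj ((freeModOn U).obj Z) ≅ (freeModOn X).obj (j ''ᵁ Z) := by
  let E₁ : ∀ M : X.Modules, ((freeModOn X).obj (j ''ᵁ Z) ⟶ M) ≃ Γ(M, j ''ᵁ Z) := freeModOnEquiv _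
  let E₂ : ∀ M : X.Modules, ((JShriek.shriek j).obj ((freeModOn U).obj Z) ⟶ M) ≃ Γ(M, j ''ᵁ Z) := fun M =>
    ((JShriek.shriekAdj j).homEquiv _ M).trans (freeModOnEquiv Z ((Scheme.Modules.restrictFunctor j).obj M))
  have h₁ : ∀ {M N : X.Modules} (g : (freeModOn X).obj (j ''ᵁ Z) ⟶ M) (φ : M ⟶ N),
      E₁ N (g ≫ φ) = φ.app _ (E₁ M g) := fun g φ => freeModOnEquiv_comp _ g φ
  have h₂ : ∀ {M N : X.Modules} (g : (JShriek.shriek j).obj ((freeModOn U).obj Z) ⟶ M) (φ : M ⟶ N),
      E₂ N (g ≫ φ) = φ.app _ (E₂ M g) := fun g φ => by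
    simp only [E₂, Equiv.trans_apply, Adjunction.homEquiv_naturality_right]
    exact freeModOnEquiv_comp Z _ _
  exact
    { hom := (E₂ _).symm (E₁ _ (𝟙 _))
      inv := (E₁ _).symm (E₂ _ (𝟙 _))
      hom_inv_id := (E₂ _).injective (by
        rw [h₂, Equiv.apply_symm_apply, ← h₁, Category.id_comp, Equiv.apply_symm_apply])
      inv_hom_id := (E₁ _).injective (by
        rw [h₁, Equiv.apply_symm_apply, ← h₂, Category.id_comp, Equiv.apply_symm_apply]) }

theorem nonempty_shriek_pt {U : Scheme.{u}} (j : U ⟶ X) [IsOpenImmersion j] (Z : U.Opens) :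
    Nonempty ((JShriek.shriek j).mapDerivedCategory.obj ((sec U).pt.obj Z) ≅ (sec X).pt.obj (j ''ᵁ Z)) :=
  ⟨(JShriek.shriek j).mapDerivedCategoryFactors.app _ ≪≫ DerivedCategory.Q.mapIso
    ((HomologicalComplex.singleMapHomologicalComplex (JShriek.shriek j) (ComplexShape.up ℤ) 0).app _ ≪≫
      (HomologicalComplex.single X.Modules (ComplexShape.up ℤ) 0).mapIso (shriekFreeIso j Z))⟩

/-- `j_! O_Z` is K-flat in degree zero. -/
theorem isKFlatFor_single_free (Z : X.Opens) :
    IsKFlatFor (shT X) ((HomologicalComplex.single X.Modules (ComplexShape.up ℤ) 0).obj ((freeModOn X).obj Z)) := by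
  refine isKFlatFor_sheaf_of_flat _ 0 (fun n hn => HomologicalComplex.isZero_single_obj_X _ _ _ _ (by omega)) fun n => ?_
  by_cases hn : n = 0
  · subst hn
    intro x
    haveI h : Module.Flat (X.presheaf.stalk x) ((DerSch.stalkFunctor X x).obj ((freeModOn X).obj Z)) :=
      isFlat_freeModOn Z x
    exact Module.Flat.of_linearEquiv ((DerSch.stalkFunctor X x).mapIso
      (HomologicalComplex.singleObjXSelf (ComplexShape.up ℤ) 0 _)).toLinearEquiv
  · intro x
    show Module.Flat (X.presheaf.stalk x) ((DerSch.stalkFunctor X x).obj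
        (((HomologicalComplex.single X.Modules (ComplexShape.up ℤ) 0).obj ((freeModOn X).obj Z)).X n))
    haveI : Subsingleton ((DerSch.stalkFunctor X x).obj
        (((HomologicalComplex.single X.Modules (ComplexShape.up ℤ) 0).obj ((freeModOn X).obj Z)).X n)) :=
      ModuleCat.subsingleton_of_isZero ((DerSch.stalkFunctor X x).map_isZero
        (HomologicalComplex.isZero_single_obj_X _ _ _ _ hn))
    infer_instance

/-- `O_Z ⊗^L E` for a bounded complex of free modules. -/
theorem IsDev.tensor_free {P : ObjectProperty (DCoh.D X)} (hP : IsDev P) (Z : X.Opens)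
    (hZ : P ((sec X).pt.obj Z)) (E : CochainComplex X.Modules ℤ) {a b : ℤ} (hE : DCoh.VanishesOutside E a b)
    (hfree : ∀ i, ∃ n, Nonempty (E.X i ≅ FlatMod.freeMod X n)) [DCoh.HasLTensorCx E] :
    P ((DCoh.LTensorCx E).obj ((sec X).pt.obj Z)) := by
  let F := (shT X).obj ((freeModOn X).obj Z)
  obtain ⟨e₁⟩ := exists_single_tot_iso (shT X) ((freeModOn X).obj Z) E
  refine hP.iso (LTensorSheaf.ltensorCxIso E (isKFlatFor_single_free Z) ≪≫ DerivedCategory.Q.mapIso e₁.symm).symm ?_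
  refine hP.bounded _ (fun i hi => F.map_isZero (hE i hi)) fun i => ?_
  obtain ⟨n, ⟨e⟩⟩ := hfree i
  haveI : PreservesFiniteBiproducts F := Functor.preservesFiniteBiproductsOfAdditive F
  haveI : PreservesColimitsOfShape (Discrete (Fin n)) F := preservesCoproductsOfShape_of_preservesBiproductsOfShape F
  refine hP.iso ((singleFunctor X.Modules 0).mapIso
    (F.mapIso e ≪≫ PreservesCoproduct.iso F fun _ : Fin n => Coh.structureModule X).symm) (hP.sigma _ fun _ => ?_)
  exact hP.iso ((singleFunctor X.Modules 0).mapIso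
    (AmpleLib.tensorComm _ _ ≪≫ AmpleLib.unitTensorIso ((freeModOn X).obj Z)).symm) hZ

/-- Quasi-compact opens are reached by Mayer–Vietoris from a cover. -/
theorem opens_induction [QuasiSeparatedSpace X] (Φ : X.Opens → Prop) (hbot : Φ ⊥)
    (hsup : ∀ U V : X.Opens, Φ U → Φ V → Φ (U ⊓ V) → Φ (U ⊔ V))
    (hloc : ∀ x : X, ∃ U : X.Opens, x ∈ U ∧ ∀ Z : X.Opens, IsCompact (Z : Set X) → Z ≤ U → Φ Z)
    (Z : X.Opens) (hZ : IsCompact (Z : Set X)) : Φ Z := by
  classical
  choose U hxU hU using hloc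
  suffices h : ∀ (t : Finset X) (Z : X.Opens), IsCompact (Z : Set X) → Z ≤ t.sup U → Φ Z by
    obtain ⟨t, ht⟩ := hZ.elim_finite_subcover (fun x => (U x : Set X)) (fun x => (U x).2)
      fun x _ => Set.mem_iUnion.2 ⟨x, hxU x⟩
    refine h t Z hZ fun x hx => ?_
    obtain ⟨y, hy, hxy⟩ := Set.mem_iUnion₂.1 (ht hx)
    exact (Finset.le_sup (f := U) hy : _) hxy
  intro t
  induction t using Finset.induction_on with
  | empty =>
    intro Z _ hle
    rw [Finset.sup_empty, le_bot_iff] at hle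
    rwa [hle]
  | insert a t _ ih =>
    intro Z hZ hle
    rw [Finset.sup_insert] at hle
    have hex : ∀ x : {x : X // x ∈ Z}, ∃ A : X.Opens, IsAffineOpen A ∧ x.1 ∈ A ∧
        (A ≤ Z ⊓ U a ∨ A ≤ Z ⊓ t.sup U) := by
      rintro ⟨x, hx⟩
      rcases Opens.mem_sup.1 (hle hx) with h | h
      · obtain ⟨A, hA, hxA, hAl⟩ := exists_isAffineOpen_mem_and_subset (x := x) (U := Z ⊓ U a) ⟨hx, h⟩
        exact ⟨A, hA, hxA, Or.inl hAl⟩
      · obtain ⟨A, hA, hxA, hAl⟩ := exists_isAffineOpen_mem_and_subset (x := x) (U := Z ⊓ t.sup U) ⟨hx, h⟩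
        exact ⟨A, hA, hxA, Or.inr hAl⟩
    choose A hA hxA hAl using hex
    obtain ⟨T, hT⟩ := hZ.elim_finite_subcover (fun x => (A x : Set X)) (fun x => (A x).2)
      fun x hx => Set.mem_iUnion.2 ⟨⟨x, hx⟩, hxA _⟩
    have hc : ∀ S : Finset {x : X // x ∈ Z}, IsCompact ((S.sup A : X.Opens) : Set X) := fun S => by
      induction S using Finset.induction_on with
      | empty => rw [Finset.sup_empty, Opens.coe_bot]; exact isCompact_empty
      | insert a S _ h => rw [Finset.sup_insert, Opens.coe_sup]; exact (hA a).isCompact.union h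
    let Z₁ := (T.filter fun x => A x ≤ Z ⊓ U a).sup A
    let Z₂ := (T.filter fun x => A x ≤ Z ⊓ t.sup U).sup A
    have h₁ : Z₁ ≤ Z ⊓ U a := Finset.sup_le fun x hx => (Finset.mem_filter.1 hx).2
    have h₂ : Z₂ ≤ Z ⊓ t.sup U := Finset.sup_le fun x hx => (Finset.mem_filter.1 hx).2
    have hZe : Z = Z₁ ⊔ Z₂ := by
      refine le_antisymm (fun x hx => ?_) (sup_le (h₁.trans inf_le_left) (h₂.trans inf_le_left))
      obtain ⟨y, hy, hxy⟩ := Set.mem_iUnion₂.1 (hT hx)
      rcases hAl y with h | h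
      · exact Opens.mem_sup.2 (Or.inl ((Finset.le_sup (f := A) (Finset.mem_filter.2 ⟨hy, h⟩) : A y ≤ Z₁) hxy))
      · exact Opens.mem_sup.2 (Or.inr ((Finset.le_sup (f := A) (Finset.mem_filter.2 ⟨hy, h⟩) : A y ≤ Z₂) hxy))
    rw [hZe]
    refine hsup _ _ (hU a _ (hc _) (h₁.trans inf_le_right)) (ih _ (hc _) (h₂.trans inf_le_right))
      (hU a _ ?_ (inf_le_left.trans (h₁.trans inf_le_right)))
    exact QuasiSeparatedSpace.inter_isCompact _ _ Z₁.2 (hc _) Z₂.2 (hc _)

/-- Terms free near a point. -/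
theorem exists_free_nhd {V : Scheme.{u}} (E : CochainComplex V.Modules ℤ) (hf : ∀ i, FlatMod.IsFinLocFree (E.X i))
    (x : V) (s : Finset ℤ) : ∃ U : V.Opens, x ∈ U ∧ ∀ i ∈ s, ∃ n, Nonempty ((E.X i).restrict U.ι ≅ FlatMod.freeMod U n) := by
  induction s using Finset.induction_on with
  | empty => exact ⟨⊤, trivial, by simp⟩
  | insert a s _ ih =>
    obtain ⟨U, hxU, hU⟩ := ih
    obtain ⟨U', n, hxU', ⟨e⟩⟩ := hf a x
    have shrink : ∀ {W W' : V.Opens} (h : W ≤ W') {M : V.Modules} {m : ℕ},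
        (M.restrict W'.ι ≅ FlatMod.freeMod W' m) → Nonempty (M.restrict W.ι ≅ FlatMod.freeMod W m) :=
      fun {W W'} h {M m} e => ⟨(Scheme.Modules.restrictFunctorCongr (V.homOfLE_ι h).symm).app M ≪≫
        (Scheme.Modules.restrictFunctorComp (V.homOfLE h) W'.ι).app M ≪≫
        (Scheme.Modules.restrictFunctor (V.homOfLE h)).mapIso e ≪≫ CohBC.freeModRestrictIso _ m⟩
    refine ⟨U ⊓ U', ⟨hxU, hxU'⟩, fun i hi => ?_⟩
    rcases Finset.mem_insert.1 hi with rfl | hi
    · exact ⟨n, shrink inf_le_right e⟩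
    · obtain ⟨m, ⟨e'⟩⟩ := hU i hi
      exact ⟨m, shrink inf_le_left e'⟩

/-- Projection formula for `j_!`, objectwise, with the restricted complex up to equality. -/
theorem nonempty_shriek_app {W : Scheme.{u}} (j : W ⟶ X) [IsOpenImmersion j] {N : CochainComplex X.Modules ℤ}
    (hN : IsKFlatFor (shT X) N) [DCoh.HasLTensorCx N] (N' : CochainComplex W.Modules ℤ)
    (hN' : N' = ((Scheme.Modules.restrictFunctor j).mapHomologicalComplex (ComplexShape.up ℤ)).obj N)
    [DCoh.HasLTensorCx N'] (J : DCoh.D W ⥤ DCoh.D X) (hJ : J = (JShriek.shriek j).mapDerivedCategory) :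
    Nonempty (DCoh.LTensorCx N' ⋙ J ≅ J ⋙ DCoh.LTensorCx N) := by
  subst hN' hJ
  exact ShriekTensor.nonempty_shriek_LTensor j hN (ShriekTensor.isKFlatFor_restr j hN)

/-- Local step: `O_Z ⊗^L N` for `N` isomorphic on a neighbourhood to a bounded complex of free modules. -/
theorem mem_local {P : ObjectProperty (DCoh.D X)} (hP : IsDev P)
    (hgen : ∀ Z : X.Opens, IsCompact (Z : Set X) → P ((sec X).pt.obj Z))
    {W : Scheme.{u}} (j : W ⟶ X) [IsOpenImmersion j] {N : CochainComplex X.Modules ℤ} (hN : IsKFlatFor (shT X) N)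
    [DCoh.HasLTensorCx N] (E : CochainComplex W.Modules ℤ) {a b : ℤ} (hE : DCoh.VanishesOutside E a b)
    (hfree : ∀ i, ∃ n, Nonempty (E.X i ≅ FlatMod.freeMod W n))
    (e : (rd j).obj (DerivedCategory.Q.obj N) ≅ DerivedCategory.Q.obj E)
    (Z : X.Opens) (hZ : IsCompact (Z : Set X)) (hle : Z ≤ j.opensRange) :
    P ((DCoh.LTensorCx N).obj ((sec X).pt.obj Z)) := by
  let N' := ((Scheme.Modules.restrictFunctor j).mapHomologicalComplex (ComplexShape.up ℤ)).obj N
  haveI := LTensorSheaf.hasLTensorCx (((Scheme.Modules.restrictFunctor j).mapHomologicalComplex (ComplexShape.up ℤ)).obj N)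
  haveI := LTensorSheaf.hasLTensorCx E
  obtain ⟨c⟩ := TensorCongr.nonempty_congr
    (E := ((Scheme.Modules.restrictFunctor j).mapHomologicalComplex (ComplexShape.up ℤ)).obj N) (E' := E)
    (((Scheme.Modules.restrictFunctor j).mapDerivedCategoryFactors.app N).symm ≪≫ e)
  obtain ⟨p⟩ := nonempty_shriek_app j hN
    (((Scheme.Modules.restrictFunctor j).mapHomologicalComplex (ComplexShape.up ℤ)).obj N) rfl
    (JShriek.shriek j).mapDerivedCategory rfl
  obtain ⟨q⟩ := nonempty_shriek_pt j (j ⁻¹ᵁ Z)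
  have hj : j ''ᵁ (j ⁻¹ᵁ Z) = Z := by
    rw [Scheme.Hom.image_preimage_eq_opensRange_inf]
    exact inf_eq_right.2 hle
  let J := (JShriek.shriek j).mapDerivedCategory
  have hPU : IsDev (fun A => P (J.obj A)) :=
    { iso := fun f h => hP.iso (J.mapIso f) h
      zero := fun K hK => hP.zero _ (J.map_isZero hK)
      shift := fun K n h => hP.iso ((J.commShiftIso n).app K).symm (hP.shift _ n h)
      ext := fun T hT h₁ h₃ => hP.ext _ (J.map_distinguished _ hT) h₁ h₃ }
  have hin : P (J.obj ((DCoh.LTensorCx E).obj ((sec W).pt.obj (j ⁻¹ᵁ Z)))) :=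
    hPU.tensor_free _ (hP.iso q.symm (by rw [hj]; exact hgen Z hZ)) E hE hfree
  refine hP.iso ?_ hin
  exact J.mapIso (c.app _).symm ≪≫ p.app _ ≪≫ (DCoh.LTensorCx N).mapIso (q ≪≫ eqToIso (by rw [hj]))

theorem mv_generic {P : ObjectProperty (DCoh.D X)} (hP : IsDev P) (G : DCoh.D X ⥤ DCoh.D X)
    (hG : ∀ {T : Triangle (DCoh.D X)}, T ∈ distTriang _ →
      ∃ δ, Triangle.mk (G.map T.mor₁) (G.map T.mor₂) δ ∈ distTriang _)
    {S S' : ShortComplex X.Modules} (hS : S.ShortExact) (hS' : S'.ShortExact)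
    (h₁' : P (G.obj ((singleFunctor X.Modules 0).obj S'.X₁))) (h₃' : P (G.obj ((singleFunctor X.Modules 0).obj S'.X₃)))
    (e : S'.X₂ = S.X₂) (h₁ : P (G.obj ((singleFunctor X.Modules 0).obj S.X₁))) :
    P (G.obj ((singleFunctor X.Modules 0).obj S.X₃)) := by
  obtain ⟨δ, hδ⟩ := hG hS.singleTriangle_distinguished
  obtain ⟨δ', hδ'⟩ := hG hS'.singleTriangle_distinguished
  have h₂ : P (G.obj ((singleFunctor X.Modules 0).obj S.X₂)) := by
    rw [← e]; exact hP.ext _ hδ' h₁' h₃'
  exact hP.cone hδ h₁ h₂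

/-- Mayer–Vietoris through a functor which keeps triangles. -/
theorem IsDev.mv {P : ObjectProperty (DCoh.D X)} (hP : IsDev P) (G : DCoh.D X ⥤ DCoh.D X)
    (hG : ∀ {T : Triangle (DCoh.D X)}, T ∈ distTriang _ →
      ∃ δ, Triangle.mk (G.map T.mor₁) (G.map T.mor₂) δ ∈ distTriang _)
    (U V : X.Opens) (hU : P (G.obj ((sec X).pt.obj U))) (hV : P (G.obj ((sec X).pt.obj V)))
    (hUV : P (G.obj ((sec X).pt.obj (U ⊓ V)))) : P (G.obj ((sec X).pt.obj (U ⊔ V))) := by
  rw [pt_obj] at hU hV hUV ⊢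
  refine mv_generic hP G hG (mvFree_shortExact U V)
    (ShortComplex.Splitting.ofHasBinaryBiproduct ((freeModOn X).obj U) ((freeModOn X).obj V)).shortExact
    hU hV rfl hUV

/-- Perfect objects lie in every class containing the `j_! O` of quasi-compact opens. -/
theorem perfect_induction [CompactSpace X] [QuasiSeparatedSpace X] {P : ObjectProperty (DCoh.D X)} (hP : IsDev P)
    (hgen : ∀ Z : X.Opens, IsCompact (Z : Set X) → P ((sec X).pt.obj Z))
    (K : DCoh.D X) (hK : DCoh.IsPerfect K) : P K := by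
  obtain ⟨N, hN, ⟨eN⟩⟩ := PullPerf.exists_kflat_rep K
  haveI := LTensorSheaf.hasLTensorCx N
  obtain ⟨u⟩ := nonempty_unit_LTensor N
  refine hP.iso (u ≪≫ eN) ?_
  let G := DCoh.LTensorCx N
  haveI := RHomExist.hasRSheafHom N
  refine opens_induction (fun Z => P (G.obj ((sec X).pt.obj Z))) ?_ (fun U V hU hV hUV => ?_) (fun x => ?_) ⊤ isCompact_univ
  · refine hP.zero _ (G.map_isZero (DerivedCategory.Q.map_isZero ((HomologicalComplex.single _ _ 0).map_isZero ?_)))
    refine (IsZero.iff_id_eq_zero _).2 ((freeModOnEquiv ⊥ _).injective ?_)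
    exact ZClosLib.eq_of_local _ _ _ fun x hx => hx.elim
  · exact hP.mv G (fun hT => exists_triangle_LTensorCx N hN hT) U V hU hV hUV
  · obtain ⟨V, hxV, hV⟩ := hK x
    obtain ⟨E, ⟨⟨a, b, hab⟩, hf⟩, ⟨e⟩⟩ := hV N ⟨eN⟩
    obtain ⟨U, hxU, hU⟩ := exists_free_nhd E hf ⟨x, hxV⟩ (Finset.Icc a b)
    refine ⟨V.ι ''ᵁ U, ⟨⟨x, hxV⟩, hxU, rfl⟩, fun Z hZ hle => ?_⟩
    obtain ⟨c⟩ := rd_comp U.ι V.ι (DerivedCategory.Q.obj N)
    refine mem_local hP hgen (U.ι ≫ V.ι) hN
      (((Scheme.Modules.restrictFunctor U.ι).mapHomologicalComplex (ComplexShape.up ℤ)).obj E)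
      (fun i hi => (Scheme.Modules.restrictFunctor U.ι).map_isZero (hab i hi)) (fun i => ?_) ?_ Z hZ
      (hle.trans (le_of_eq ?_))
    · by_cases hi : i ∈ Finset.Icc a b
      · exact hU i hi
      · refine ⟨0, ⟨IsZero.iso ((Scheme.Modules.restrictFunctor U.ι).map_isZero (hab i ?_))
          ((IsZero.iff_id_eq_zero _).2 (Sigma.hom_ext _ _ fun i => i.elim0))⟩⟩
        simp only [Finset.mem_Icc] at hi
        omega
    · exact c ≪≫ (rd U.ι).mapIso ((Scheme.Modules.restrictFunctor V.ι).mapDerivedCategoryFactors.app N ≪≫ e) ≪≫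
        (Scheme.Modules.restrictFunctor U.ι).mapDerivedCategoryFactors.app E
    · rw [Scheme.Hom.opensRange_comp, Scheme.Opens.opensRange_ι]

end Groth.Agent.DQCoh
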