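import Groth.Agent.DCat.RHomLeft
import Groth.Agent.DCat.ShriekTensor
import Groth.Agent.DCat.PerfLocal
import Groth.Agent.DQCoh.PerfectClass
import Mathlib.CategoryTheory.Triangulated.TStructure.TruncLTGE
import Groth.Agent.Coherent.QcohLocal

/-!
# `RHom` out of perfect and pseudo-coherent objects into `D_QCoh`
-/

set_option autoImplicit false
set_option backward.isDefEq.respectTransparency false
set_option backward.defeqAttrib.useBackward true
set_option linter.style.haveILetI false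
set_option linter.unusedVariables false
set_option synthInstance.maxHeartbeats 100000

universe u

open CategoryTheory CategoryTheory.Limits CategoryTheory.Pretriangulated DerivedCategory Opposite AlgebraicGeometry
open HomologicalComplex Groth.Agent.Coherent Groth.Agent.DCat Groth.Agent.DCat.PerfLocal Groth.Agent.DCat.PullPerf

attribute [local instance] HasDerivedCategory.standard
attribute [-instance] Int.instConditionallyCompleteLinearOrder

namespace Groth.Agent.DQCoh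

variable {X : Scheme.{u}}

local notation "t₀" => (DerivedCategory.TStructure.t : CategoryTheory.Triangulated.TStructure (DCoh.D X))

/-- The total complex of complexes bounded above. -/
theorem isStrictlyLE_tot (A N : CochainComplex X.Modules ℤ) (a b : ℤ) (hA : ∀ n, a < n → IsZero (A.X n))
    (hN : ∀ n, b < n → IsZero (N.X n)) : ∀ n, a + b < n → IsZero ((tot (shT X) A N).X n) := fun n hn => by
  refine (IsZero.iff_id_eq_zero _).2 (mapBifunctor.hom_ext fun p q h => IsZero.eq_of_src ?_ _ _)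
  by_cases hp : a < p
  · exact (((shT X).flip.obj (N.X q)).map_isZero (hA p hp) : IsZero (((shT X).obj (A.X p)).obj (N.X q)))
  · exact ((shT X).obj (A.X p)).map_isZero (hN q (by simp at h; omega))

/-- `Y ⊗^L C ≤ a + b`. -/
theorem isLE_LTensor (N : CochainComplex X.Modules ℤ) (hNk : IsKFlatFor (shT X) N) (b : ℤ)
    (hN : ∀ n, b < n → IsZero (N.X n)) [DCoh.HasLTensorCx N] (Y : DCoh.D X) (a : ℤ) [Y.IsLE a] :
    ((DCoh.LTensorCx N).obj Y).IsLE (a + b) := by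
  obtain ⟨A, hA, ⟨eA⟩⟩ := DerivedCategory.exists_iso_Q_obj_of_isLE Y a
  haveI : (tot (shT X) A N).IsStrictlyLE (a + b) := (CochainComplex.isStrictlyLE_iff _ _).2
    (isStrictlyLE_tot A N a b (fun n hn => CochainComplex.isZero_of_isStrictlyLE A a n hn) hN)
  haveI hQ : (DerivedCategory.Q.obj (tot (shT X) A N)).IsLE (a + b) := inferInstance
  exact ⟨((t₀).le (a + b)).prop_of_iso ((DCoh.LTensorCx N).mapIso eA ≪≫ LTensorSheaf.ltensorCxIso' hNk A).symm hQ.le⟩

/-- `RHom(C, L)` vanishes in degrees `< r - b` for `C ≤ b` and `L ≥ r`. -/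
theorem isGE_RHom (C : CochainComplex X.Modules ℤ) (b : ℤ) [hC : (DerivedCategory.Q.obj C).IsLE b]
    [DCoh.HasLTensorCx C] [DCoh.HasRSheafHom C] (L : DCoh.D X) (r : ℤ) [L.IsGE r] :
    ((DCoh.RSheafHom C).obj L).IsGE (r - b) := by
  obtain ⟨C', hC', ⟨eC⟩⟩ := DerivedCategory.exists_iso_Q_obj_of_isLE (DerivedCategory.Q.obj C) b
  obtain ⟨N, q, hNk, -, hq, hN⟩ := exists_kflat_sheaf_le C' b fun n hn => CochainComplex.isZero_of_isStrictlyLE C' b n hn
  haveI := hq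
  haveI := LTensorSheaf.hasLTensorCx N
  obtain ⟨a⟩ := TensorCongr.nonempty_congr (E := C) (E' := N) (eC ≪≫ (asIso (DerivedCategory.Q.map q)).symm)
  refine ((t₀).isGE_iff_orthogonal (r - b - 1) (r - b) (by omega) _).2 fun Y f hY => ?_
  haveI := hY
  haveI := isLE_LTensor N hNk b hN Y (r - b - 1)
  refine ((DCoh.RSheafHomAdj C).homEquiv Y L).symm.injective ?_
  rw [← cancel_epi ((a.app Y).inv)]
  exact ((t₀).zero _ (r - b - 1 + b) r (by omega)).trans ((t₀).zero _ (r - b - 1 + b) r (by omega)).symm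

/-- A distinguished triangle as a degreewise split sequence of K-flat complexes. -/
theorem exists_kflat_split {T : Triangle (DCoh.D X)} (hT : T ∈ distTriang _) :
    ∃ (S : ShortComplex (CochainComplex X.Modules ℤ))
      (_ : ∀ n, Nonempty ((S.map (HomologicalComplex.eval X.Modules (ComplexShape.up ℤ) n)).Splitting)),
      (IsKFlatFor (shT X) S.X₁ ∧ IsKFlatFor (shT X) S.X₂ ∧ IsKFlatFor (shT X) S.X₃) ∧
      Nonempty (DerivedCategory.Q.obj S.X₁ ≅ T.obj₁) ∧ Nonempty (DerivedCategory.Q.obj S.X₂ ≅ T.obj₂) ∧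
      Nonempty (DerivedCategory.Q.obj S.X₃ ≅ T.obj₃) := by
  have hT' := inv_rot_of_distTriang _ hT
  obtain ⟨B, hB, ⟨oL⟩⟩ := PullPerf.exists_kflat_rep T.invRotate.obj₂
  obtain ⟨A, hA, ⟨oK⟩⟩ := PullPerf.exists_kflat_rep T.invRotate.obj₁
  obtain ⟨R, s, hs, φ, hφ⟩ := DerivedCategory.right_fac (oK.hom ≫ T.invRotate.mor₁ ≫ oL.inv)
  haveI := hs
  obtain ⟨R', c, hR', -, hc, -⟩ := exists_kflat_sheaf R
  haveI := hc
  have comm : DerivedCategory.Q.map (c ≫ φ) ≫ oL.hom =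
      (asIso (DerivedCategory.Q.map c) ≪≫ asIso (DerivedCategory.Q.map s) ≪≫ oK).hom ≫ T.invRotate.mor₁ := by
    rw [Functor.map_comp, Category.assoc,
      show DerivedCategory.Q.map φ = DerivedCategory.Q.map s ≫ oK.hom ≫ T.invRotate.mor₁ ≫ oL.inv from by
        rw [hφ, IsIso.hom_inv_id_assoc]]
    simp
  let e := isoTriangleOfIso₁₂ _ _ (DerivedCategory.mappingCone_triangle_distinguished (c ≫ φ)) hT'
    (asIso (DerivedCategory.Q.map c) ≪≫ asIso (DerivedCategory.Q.map s) ≪≫ oK) oL comm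
  let S := CochainComplex.mappingCone.triangleRotateShortComplex (c ≫ φ)
  have hS : ∀ n, Nonempty ((S.map (HomologicalComplex.eval X.Modules (ComplexShape.up ℤ) n)).Splitting) :=
    fun n => ⟨CochainComplex.mappingCone.triangleRotateShortComplexSplitting (c ≫ φ) n⟩
  have h₃ : IsKFlatFor (shT X) S.X₃ := hR'.shift (1 : ℤ)
  refine ⟨S, hS, ⟨hB, IsKFlatFor.ext₂ (fun a q => ((hS q).some.map ((shT X).obj a)).shortExact) hB h₃, h₃⟩,
    ⟨Triangle.π₂.mapIso e⟩, ⟨Triangle.π₃.mapIso e⟩, ⟨(DerivedCategory.Q.commShiftIso (1 : ℤ)).app R' ≪≫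
      (shiftFunctor (DCoh.D X) (1 : ℤ)).mapIso (Triangle.π₁.mapIso e) ≪≫
        (shiftEquiv (DCoh.D X) (1 : ℤ)).counitIso.app T.obj₃⟩⟩

/-- The middle of a distinguished triangle in the first variable of `RHom`. -/
theorem prop_RHom_middle (P : ObjectProperty X.Modules) [P.IsClosedUnderIsomorphisms]
    (hk : ∀ {M N : X.Modules} (φ : M ⟶ N), P M → P N → P (kernel φ))
    (hc : ∀ {M N : X.Modules} (φ : M ⟶ N), P M → P N → P (cokernel φ))
    (he : ∀ {T : ShortComplex X.Modules}, T.ShortExact → P T.X₁ → P T.X₃ → P T.X₂)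
    (K : CochainComplex X.Modules ℤ) [DCoh.HasLTensorCx K] [DCoh.HasRSheafHom K]
    {T : Triangle (DCoh.D X)} (hT : T ∈ distTriang _) (e : DerivedCategory.Q.obj K ≅ T.obj₂) (L : DCoh.D X) (i : ℤ)
    (h₁ : ∀ (A : CochainComplex X.Modules ℤ) [DCoh.HasLTensorCx A] [DCoh.HasRSheafHom A],
      (DerivedCategory.Q.obj A ≅ T.obj₁) → ∀ k : ℤ, k = -1 ∨ k = 0 → P (DCoh.HD ((DCoh.RSheafHom A).obj (L⟦k⟧)) i))
    (h₃ : ∀ (A : CochainComplex X.Modules ℤ) [DCoh.HasLTensorCx A] [DCoh.HasRSheafHom A],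
      (DerivedCategory.Q.obj A ≅ T.obj₃) → ∀ k : ℤ, k = 0 ∨ k = 1 → P (DCoh.HD ((DCoh.RSheafHom A).obj (L⟦k⟧)) i)) :
    P (DCoh.HD ((DCoh.RSheafHom K).obj L) i) := by
  obtain ⟨S, hS, ⟨k₁, k₂, k₃⟩, ⟨e₁⟩, ⟨e₂⟩, ⟨e₃⟩⟩ := exists_kflat_split hT
  haveI := LTensorSheaf.hasLTensorCx S.X₁
  haveI := RHomExist.hasRSheafHom S.X₁
  haveI := LTensorSheaf.hasLTensorCx S.X₂
  haveI := RHomExist.hasRSheafHom S.X₂
  haveI := LTensorSheaf.hasLTensorCx S.X₃
  haveI := RHomExist.hasRSheafHom S.X₃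
  obtain ⟨a⟩ := TensorCongr.nonempty_congr_rhom (E := S.X₂) (E' := K) (e₂ ≪≫ e.symm)
  let M := L⟦(-1 : ℤ)⟧
  let eL : M⟦(1 : ℤ)⟧ ≅ L := (shiftFunctorCompIsoId (DCoh.D X) (-1) 1 (by omega)).app L
  let e0 : M⟦(1 : ℤ)⟧ ≅ L⟦(0 : ℤ)⟧ := eL ≪≫ ((shiftFunctorZero (DCoh.D X) ℤ).app L).symm
  let F := fun (R : DCoh.D X ⥤ DCoh.D X) {A B : DCoh.D X} (g : A ≅ B) => (homologyFunctor X.Modules i).mapIso (R.mapIso g)
  exact P.prop_of_iso ((F (DCoh.RSheafHom S.X₂) eL) ≪≫ (homologyFunctor X.Modules i).mapIso (a.app L))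
    (RHomSeq.middle_rhom S hS k₁ k₂ k₃ P hk hc he M i (h₁ _ e₁ (-1) (Or.inl rfl))
      (P.prop_of_iso (F _ e0).symm (h₁ _ e₁ 0 (Or.inr rfl)))
      (P.prop_of_iso (F _ e0).symm (h₃ _ e₃ 0 (Or.inl rfl)))
      (P.prop_of_iso (F _ ((shiftFunctor (DCoh.D X) (1 : ℤ)).mapIso eL).symm) (h₃ _ e₃ 1 (Or.inr rfl))))

/-- `RHom(K, L)` for `K` with a bounded free model and `L` with cohomology in a class. -/
theorem prop_RHom_free (P : ObjectProperty X.Modules) [P.IsClosedUnderIsomorphisms] (h0 : ∀ M, IsZero M → P M)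
    (hk : ∀ {M N : X.Modules} (φ : M ⟶ N), P M → P N → P (kernel φ))
    (hc : ∀ {M N : X.Modules} (φ : M ⟶ N), P M → P N → P (cokernel φ))
    (he : ∀ {T : ShortComplex X.Modules}, T.ShortExact → P T.X₁ → P T.X₃ → P T.X₂)
    (K : CochainComplex X.Modules ℤ) [DCoh.HasLTensorCx K] [DCoh.HasRSheafHom K]
    (E : CochainComplex X.Modules ℤ) {a b : ℤ} (hE : DCoh.VanishesOutside E a b)
    (hfree : ∀ i, ∃ n, Nonempty (E.X i ≅ FlatMod.freeMod X n)) (e : DerivedCategory.Q.obj K ≅ DerivedCategory.Q.obj E)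
    (L : DCoh.D X) (hL : ∀ i, P (DCoh.HD L i)) (i : ℤ) : P (DCoh.HD ((DCoh.RSheafHom K).obj L) i) := by
  haveI := LTensorSheaf.hasLTensorCx E
  haveI := RHomExist.hasRSheafHom E
  obtain ⟨f⟩ := TensorCongr.nonempty_congr_rhom (E := E) (E' := K) e.symm
  exact P.prop_of_iso ((homologyFunctor X.Modules i).mapIso (f.app L))
    ((RHomLeft.keeps_bounded h0 hk hc he E hE hfree).2 _ _ L hL i)

/-- `RHom(K, L)` in low degrees for `K` with an `n`-approximation by bounded free complexes. -/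
theorem prop_RHom_psc (P : ObjectProperty X.Modules) [P.IsClosedUnderIsomorphisms] (h0 : ∀ M, IsZero M → P M)
    (hk : ∀ {M N : X.Modules} (φ : M ⟶ N), P M → P N → P (kernel φ))
    (hc : ∀ {M N : X.Modules} (φ : M ⟶ N), P M → P N → P (cokernel φ))
    (he : ∀ {T : ShortComplex X.Modules}, T.ShortExact → P T.X₁ → P T.X₃ → P T.X₂)
    (K : CochainComplex X.Modules ℤ) [DCoh.HasLTensorCx K] [DCoh.HasRSheafHom K]
    (E : CochainComplex X.Modules ℤ) {a b : ℤ} (hE : DCoh.VanishesOutside E a b)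
    (hfree : ∀ i, ∃ n, Nonempty (E.X i ≅ FlatMod.freeMod X n)) (n : ℤ)
    (α : DerivedCategory.Q.obj E ⟶ DerivedCategory.Q.obj K) (hα : Apx n α)
    (L : DCoh.D X) (hL : ∀ i, P (DCoh.HD L i)) (r : ℤ) [L.IsGE r] (i : ℤ) (hi : i < r - n) :
    P (DCoh.HD ((DCoh.RSheafHom K).obj L) i) := by
  obtain ⟨C, g, δ, hT⟩ := distinguished_cocone_triangle α
  have hC : C.IsLE (n - 1) := (apx_iff_isLE n _ hT).1 hα
  refine prop_RHom_middle P hk hc he K hT (Iso.refl _) L i (fun A _ _ eA k _ => ?_) fun A _ _ eA k hk' => ?_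
  · exact prop_RHom_free P h0 hk hc he A E hE hfree eA _
      (fun j => P.prop_of_iso (((homologyFunctor X.Modules 0).shiftIso k j (k + j) rfl).app L).symm (hL _)) i
  · haveI : (DerivedCategory.Q.obj A).IsLE (n - 1) := ⟨((t₀).le (n - 1)).prop_of_iso eA.symm hC.le⟩
    haveI : (L⟦k⟧).IsGE (r - k) := (t₀).isGE_shift L r k (r - k) (by omega)
    haveI := isGE_RHom A (n - 1) (L⟦k⟧) (r - k)
    exact h0 _ (isZero_of_isGE ((DCoh.RSheafHom A).obj (L⟦k⟧)) (r - k - (n - 1)) i (by omega))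

/-- A neighbourhood with a free `n`-approximation. -/
theorem exists_free_approx {K : DCoh.D X} {n : ℤ} (hK : DCoh.IsPseudoCoherentD n K) (x : X) :
    ∃ (W : Scheme.{u}) (k : W ⟶ X) (_ : IsOpenImmersion k) (E : CochainComplex W.Modules ℤ) (a b : ℤ)
      (α : DerivedCategory.Q.obj E ⟶ (rd k).obj K), x ∈ k.opensRange ∧ DCoh.VanishesOutside E a b ∧
      (∀ i, ∃ m, Nonempty (E.X i ≅ FlatMod.freeMod W m)) ∧ Apx n α := by
  obtain ⟨V, k, hk, hx, E, α, hE, ha⟩ := (isPseudoCoherentD_iff n K).1 hK x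
  obtain ⟨⟨a, b, hab⟩, hf⟩ := hE
  obtain ⟨y, rfl⟩ := hx
  obtain ⟨U, hyU, hU⟩ := exists_free_nhd E hf y (Finset.Icc a b)
  obtain ⟨c⟩ := rd_comp U.ι k K
  refine ⟨U, U.ι ≫ k, inferInstance, ((Scheme.Modules.restrictFunctor U.ι).mapHomologicalComplex (ComplexShape.up ℤ)).obj E,
    a, b, ((Scheme.Modules.restrictFunctor U.ι).mapDerivedCategoryFactors.app E).inv ≫ (rd U.ι).map α ≫ c.inv,
    ?_, fun i hi => (Scheme.Modules.restrictFunctor U.ι).map_isZero (hab i hi), fun i => ?_,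
    (apx_of_isIso n _).comp ((apx_rd U.ι ha).comp (apx_of_isIso n _))⟩
  · exact ⟨⟨y, hyU⟩, rfl⟩
  · by_cases hi : i ∈ Finset.Icc a b
    · exact hU i hi
    · refine ⟨0, ⟨IsZero.iso ((Scheme.Modules.restrictFunctor U.ι).map_isZero (hab i ?_))
        ((IsZero.iff_id_eq_zero _).2 (Sigma.hom_ext _ _ fun i => i.elim0))⟩⟩
      simp only [Finset.mem_Icc] at hi
      omega

/-- A neighbourhood with a free model. -/
theorem exists_free_model {K : DCoh.D X} (hK : DCoh.IsPerfect K) (x : X) :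
    ∃ (W : Scheme.{u}) (k : W ⟶ X) (_ : IsOpenImmersion k) (E : CochainComplex W.Modules ℤ) (a b : ℤ),
      x ∈ k.opensRange ∧ DCoh.VanishesOutside E a b ∧ (∀ i, ∃ m, Nonempty (E.X i ≅ FlatMod.freeMod W m)) ∧
      Nonempty (DerivedCategory.Q.obj E ≅ (rd k).obj K) := by
  obtain ⟨V, k, hk, hx, E, hE, ⟨e⟩⟩ := (PerfLocal.isPerfect_iff K).1 hK x
  obtain ⟨⟨a, b, hab⟩, hf⟩ := hE
  obtain ⟨y, rfl⟩ := hx
  obtain ⟨U, hyU, hU⟩ := exists_free_nhd E hf y (Finset.Icc a b)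
  obtain ⟨c⟩ := rd_comp U.ι k K
  refine ⟨U, U.ι ≫ k, inferInstance, ((Scheme.Modules.restrictFunctor U.ι).mapHomologicalComplex (ComplexShape.up ℤ)).obj E,
    a, b, ⟨⟨y, hyU⟩, rfl⟩, fun i hi => (Scheme.Modules.restrictFunctor U.ι).map_isZero (hab i hi), fun i => ?_,
    ⟨((Scheme.Modules.restrictFunctor U.ι).mapDerivedCategoryFactors.app E).symm ≪≫ (rd U.ι).mapIso e.symm ≪≫ c.symm⟩⟩
  by_cases hi : i ∈ Finset.Icc a b
  · exact hU i hi
  · refine ⟨0, ⟨IsZero.iso ((Scheme.Modules.restrictFunctor U.ι).map_isZero (hab i ?_))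
      ((IsZero.iff_id_eq_zero _).2 (Sigma.hom_ext _ _ fun i => i.elim0))⟩⟩
    simp only [Finset.mem_Icc] at hi
    omega

theorem qc_ops (W : Scheme.{u}) :
    (∀ M, IsZero M → qc W M) ∧ (∀ {M N : W.Modules} (φ : M ⟶ N), qc W M → qc W N → qc W (kernel φ)) ∧
    (∀ {M N : W.Modules} (φ : M ⟶ N), qc W M → qc W N → qc W (cokernel φ)) ∧
    (∀ {T : ShortComplex W.Modules}, T.ShortExact → qc W T.X₁ → qc W T.X₃ → qc W T.X₂) :=
  ⟨fun M hM => isQCoh_of_isZero hM,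
    fun φ h₁ h₂ => by haveI : Coh.IsQCoh _ := h₁; haveI : Coh.IsQCoh _ := h₂; exact isQCoh_kernel φ,
    fun φ h₁ h₂ => by haveI : Coh.IsQCoh _ := h₁; haveI : Coh.IsQCoh _ := h₂; exact isQCoh_cokernel φ,
    fun hT h₁ h₃ => by haveI : Coh.IsQCoh _ := h₁; haveI : Coh.IsQCoh _ := h₃; exact isQCoh_X₂ hT⟩

instance (W : Scheme.{u}) : (qc W).IsClosedUnderIsomorphisms :=
  ⟨fun e h => isQCoh_of_iso e (h := h)⟩

theorem isQCohD_rd {W : Scheme.{u}} (k : W ⟶ X) [IsOpenImmersion k] {L : DCoh.D X} (h : DCoh.IsQCohD L) :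
    DCoh.IsQCohD ((rd k).obj L) := fun i => by
  haveI : Coh.IsQCoh (DCoh.HD L i) := h i
  exact isQCoh_of_iso (SuppOpen.hdMapIso (Scheme.Modules.restrictFunctor k) L i).symm
    (h := (inferInstance : Coh.IsQCoh ((DCoh.HD L i).restrict k)))

theorem isGE_rd {W : Scheme.{u}} (k : W ⟶ X) [IsOpenImmersion k] (L : DCoh.D X) (r : ℤ) [hL : L.IsGE r] :
    ((rd k).obj L).IsGE r := by
  rw [DerivedCategory.isGE_iff]
  intro i hi
  exact IsZero.of_iso ((Scheme.Modules.restrictFunctor k).map_isZero (isZero_of_isGE L r i hi))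
    (SuppOpen.hdMapIso _ L i)

/-- `Q (G K) = (RG) (Q K)` for exact `G`. -/
theorem nonempty_Q_map {A B : Type*} [Category A] [Abelian A] [HasDerivedCategory A] [Category B] [Abelian B]
    [HasDerivedCategory B] (G : A ⥤ B) [G.Additive] [PreservesFiniteLimits G] [PreservesFiniteColimits G]
    (K : CochainComplex A ℤ) :
    Nonempty (DerivedCategory.Q.obj ((G.mapHomologicalComplex (ComplexShape.up ℤ)).obj K) ≅
      G.mapDerivedCategory.obj (DerivedCategory.Q.obj K)) :=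
  ⟨(G.mapDerivedCategoryFactors.app K).symm⟩

/-- Reading off a cohomology sheaf of a restriction. -/
theorem isQCoh_restrict_HD {W : Scheme.{u}} (k : W ⟶ X) [IsOpenImmersion k] (R : DCoh.D X ⥤ DCoh.D X)
    (S : DCoh.D W ⥤ DCoh.D W) (F : DCoh.D X ⥤ DCoh.D W) (hF : F = rd k) (e : R ⋙ F ≅ F ⋙ S) (L : DCoh.D X) (i : ℤ)
    (h : qc W (DCoh.HD (S.obj (F.obj L)) i)) : Coh.IsQCoh ((DCoh.HD (R.obj L) i).restrict k) := by
  subst hF
  exact isQCoh_of_iso ((homologyFunctor _ i).mapIso (e.app L).symm ≪≫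
    SuppOpen.hdMapIso (Scheme.Modules.restrictFunctor k) (R.obj L) i) (h := h)

/-- `RHom(K, L) ∈ D_QCoh` for perfect `K`. -/
theorem isQCohD_RHom_perfect (K : CochainComplex X.Modules ℤ) (hK : DCoh.IsPerfect (DerivedCategory.Q.obj K))
    [DCoh.HasLTensorCx K] [DCoh.HasRSheafHom K] (L : DCoh.D X) (hL : DCoh.IsQCohD L) :
    DCoh.IsQCohD ((DCoh.RSheafHom K).obj L) := fun i => by
  choose W k hk E a b hx hE hfree he using exists_free_model hK
  refine isQCoh_of_openImmersion_cover _ k (fun x => ⟨x, hx x⟩) fun x => ?_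
  let K' := ((Scheme.Modules.restrictFunctor (k x)).mapHomologicalComplex (ComplexShape.up ℤ)).obj K
  haveI := LTensorSheaf.hasLTensorCx (((Scheme.Modules.restrictFunctor (k x)).mapHomologicalComplex (ComplexShape.up ℤ)).obj K)
  haveI := RHomExist.hasRSheafHom (((Scheme.Modules.restrictFunctor (k x)).mapHomologicalComplex (ComplexShape.up ℤ)).obj K)
  obtain ⟨r⟩ := ShriekTensor.nonempty_restrict_RHom_of_eq (k x) K
    (((Scheme.Modules.restrictFunctor (k x)).mapHomologicalComplex (ComplexShape.up ℤ)).obj K) rfl (rd (k x)) rfl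
  obtain ⟨e⟩ := he x
  obtain ⟨q⟩ := nonempty_Q_map (Scheme.Modules.restrictFunctor (k x)) K
  obtain ⟨h0, h1, h2, h3⟩ := qc_ops (W x)
  refine isQCoh_restrict_HD (k x) (DCoh.RSheafHom K) _ (rd (k x)) rfl r L i
    (prop_RHom_free (qc (W x)) h0 h1 h2 h3 _ (E x) (hE x) (hfree x)
      (q ≪≫ e.symm) _
      (isQCohD_rd (k x) hL) i)

/-- `H^j RHom(K, L)` is quasi-coherent for `j < r - n`, `K` being `n`-pseudo-coherent and `L ≥ r`. -/
theorem isQCoh_HD_RHom_psc (K : CochainComplex X.Modules ℤ) (n : ℤ)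
    (hK : DCoh.IsPseudoCoherentD n (DerivedCategory.Q.obj K)) [DCoh.HasLTensorCx K] [DCoh.HasRSheafHom K]
    (L : DCoh.D X) (hL : DCoh.IsQCohD L) (r : ℤ) [L.IsGE r] (j : ℤ) (hj : j < r - n) :
    Coh.IsQCoh (DCoh.HD ((DCoh.RSheafHom K).obj L) j) := by
  choose W k hk E a b α hx hE hfree hα using exists_free_approx hK
  refine isQCoh_of_openImmersion_cover _ k (fun x => ⟨x, hx x⟩) fun x => ?_
  haveI := LTensorSheaf.hasLTensorCx (((Scheme.Modules.restrictFunctor (k x)).mapHomologicalComplex (ComplexShape.up ℤ)).obj K)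
  haveI := RHomExist.hasRSheafHom (((Scheme.Modules.restrictFunctor (k x)).mapHomologicalComplex (ComplexShape.up ℤ)).obj K)
  haveI := isGE_rd (k x) L r
  obtain ⟨e⟩ := ShriekTensor.nonempty_restrict_RHom_of_eq (k x) K
    (((Scheme.Modules.restrictFunctor (k x)).mapHomologicalComplex (ComplexShape.up ℤ)).obj K) rfl (rd (k x)) rfl
  obtain ⟨h0, h1, h2, h3⟩ := qc_ops (W x)
  obtain ⟨q⟩ := nonempty_Q_map (Scheme.Modules.restrictFunctor (k x)) K
  refine isQCoh_restrict_HD (k x) (DCoh.RSheafHom K) _ (rd (k x)) rfl e L j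
    (prop_RHom_psc (qc (W x)) h0 h1 h2 h3 _ (E x) (hE x) (hfree x) n
      (α x ≫ q.inv)
      ((hα x).comp (apx_of_isIso n _)) _ (isQCohD_rd (k x) hL) r j hj)

end Groth.Agent.DQCoh
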