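import Groth.Agent.DQCoh.CohSubCx
import Groth.Agent.Dual22Lib.GlueOpens
import Groth.Agent.AffSchLib.CohRestrict
import Groth.Agent.DQCoh.PscNoeth
import Groth.Agent.DQCoh.Bound
import Groth.Agent.DCat.RFBasic
import Groth.Agent.DCat.ModulesGrothendieck
import Groth.Agent.DCat.DerivedLimits

/-! Extending bounded coherent objects from an open of an affine Noetherian scheme. -/

set_option autoImplicit false
set_option backward.isDefEq.respectTransparency false
set_option backward.defeqAttrib.useBackward true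
set_option backward.isDefEq.respectTransparency.types false
set_option linter.style.haveILetI false
set_option linter.unusedSectionVars false
set_option synthInstance.maxHeartbeats 100000

universe u

open CategoryTheory CategoryTheory.Limits CategoryTheory.Pretriangulated DerivedCategory AlgebraicGeometry Opposite
open Groth.Agent.DCat Groth.Agent.Coherent

attribute [local instance] HasDerivedCategory.standard

namespace Groth.Agent.DQCoh.CohExt

variable {X : Scheme.{u}}

/-- Bounded with coherent cohomology. -/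
def Good (K : DCoh.D X) : Prop := DCoh.IsCohD K ∧ ∃ a b : ℤ, K.IsGE a ∧ K.IsLE b

theorem isQCohD_of_isCohD {K : DCoh.D X} (h : DCoh.IsCohD K) : DCoh.IsQCohD K := fun i => (h i).1

theorem isCoh_of_iso {M N : X.Modules} (e : M ≅ N) (h : Coh.IsCoh M) : Coh.IsCoh N :=
  ⟨Coherent.isQCoh_of_iso e (h := h.1), Coherent.isFT_of_epi e.hom h.2⟩

theorem Good.of_iso {K L : DCoh.D X} (h : Good K) (e : K ≅ L) : Good L := by
  obtain ⟨hc, a, b, ha, hb⟩ := h
  exact ⟨fun i => isCoh_of_iso ((homologyFunctor X.Modules i).mapIso e) (hc i), a, b,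
    DerivedCategory.TStructure.t.isGE_of_iso e a, DerivedCategory.TStructure.t.isLE_of_iso e b⟩

theorem isCohD_restrictD {U : Scheme.{u}} (j : U ⟶ X) [IsOpenImmersion j] {K : DCoh.D X} (h : DCoh.IsCohD K) :
    DCoh.IsCohD ((DCoh.restrictD j).obj K) := fun i => by
  haveI : Coh.IsQCoh (DCoh.HD K i) := (h i).1
  exact ⟨Coherent.isQCoh_of_iso (SuppOpen.hdMapIso (Scheme.Modules.restrictFunctor j) K i).symm
    (h := (inferInstance : Coh.IsQCoh ((DCoh.HD K i).restrict j))),
    Coherent.isFT_of_epi (SuppOpen.hdMapIso (Scheme.Modules.restrictFunctor j) K i).inv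
      (AffSchLib.isFT_restrict j _ (h i).2)⟩

theorem Good.restrict {U : Scheme.{u}} (j : U ⟶ X) [IsOpenImmersion j] {K : DCoh.D X} (h : Good K) :
    Good ((DCoh.restrictD j).obj K) := by
  obtain ⟨hc, a, b, ha, hb⟩ := h
  refine ⟨isCohD_restrictD j hc, a, b, ?_, PerfLocal.isLE_rd j K b hb⟩
  rw [DerivedCategory.isGE_iff] at ha ⊢
  intro i hi
  exact IsZero.of_iso ((Scheme.Modules.restrictFunctor j).map_isZero (ha i hi)) (SuppOpen.hdMapIso _ K i)

theorem Good.of_cover {ι : Type u} [Finite ι] (U : ι → X.Opens) (hU : ∀ x : X, ∃ i, x ∈ U i) {K : DCoh.D X}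
    (h : ∀ i, Good ((DCoh.restrictD (U i).ι).obj K)) : Good K := by
  classical
  haveI := Fintype.ofFinite ι
  choose a b ha hb using fun i => (h i).2
  refine ⟨fun q => ?_, -((Finset.univ.sup fun i => (a i).natAbs : ℕ) : ℤ),
    ((Finset.univ.sup fun i => (b i).natAbs : ℕ) : ℤ), ?_, ?_⟩
  · have hq : ∀ i, Coh.IsCoh ((Scheme.Modules.restrictFunctor (U i).ι).obj (DCoh.HD K q)) := fun i =>
      isCoh_of_iso (SuppOpen.hdMapIso _ K q) ((h i).1 q)
    refine ⟨?_, ?_⟩
    · haveI : ∀ i, DCoh.HasLpull (U i).ι := fun i => DCat.hasLpull _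
      refine isQCohD_of_cover (fun i => (U i).ι) (fun x => ?_) K (fun i => ?_) q
      · obtain ⟨i, hi⟩ := hU x
        exact ⟨i, ⟨x, hi⟩, rfl⟩
      · obtain ⟨e⟩ := nonempty_Lpull_restrict (U i).ι K
        exact isQCohD_of_iso e.symm (isQCohD_of_isCohD (h i).1)
    · exact Coherent.isFT_of_locallyFinGen (Coherent.LocallyFinGen_of_restrict_cover _ U
        (eq_top_iff.2 fun x _ => TopologicalSpace.Opens.mem_iSup.2 (hU x))
        fun i => Coherent.locallyFinGen_of_isFT _ (hq i).2)
  · rw [DerivedCategory.isGE_iff]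
    intro q hq
    refine isZero_of_restrict_cover _ U hU fun i => ?_
    haveI := ha i
    have hle : ((a i).natAbs) ≤ Finset.univ.sup fun i => (a i).natAbs := Finset.le_sup (f := fun i => (a i).natAbs) (Finset.mem_univ i)
    exact (isZero_of_isGE _ (a i) q (by omega)).of_iso (SuppOpen.hdMapIso _ K q).symm
  · rw [DerivedCategory.isLE_iff]
    intro q hq
    refine isZero_of_restrict_cover _ U hU fun i => ?_
    haveI := hb i
    have hle : ((b i).natAbs) ≤ Finset.univ.sup fun i => (b i).natAbs := Finset.le_sup (f := fun i => (b i).natAbs) (Finset.mem_univ i)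
    exact (isZero_of_isLE _ (b i) q (by omega)).of_iso (SuppOpen.hdMapIso _ K q).symm

/-- A quasi-coherent module on an affine scheme, coherent on an open `W`, has finitely many global sections
detecting vanishing on `W`. -/
theorem exists_finset_gen {R : CommRingCat.{u}} (M : (Spec R).Modules) [Coh.IsQCoh M] (W : (Spec R).Opens)
    (hW : IsCompact (W : Set (Spec R))) (hM : CohB1.IsFT (M.restrict W.ι)) :
    ∃ T : Set Γ(M, ⊤), T.Finite ∧ ∀ {P : (Spec R).Modules} (φ : M ⟶ P), (∀ t ∈ T, φ.app ⊤ t = 0) →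
      (Scheme.Modules.restrictFunctor W.ι).map φ = 0 := by
  classical
  have hlf := Coherent.locallyFinGen_of_isFT _ hM
  have hT := isAffineOpen_top (Spec R)
  have loc : ∀ x : W, ∃ (f : Γ(Spec R, ⊤)) (I : Type u) (_ : Fintype I) (t : I → Γ(M, ⊤)),
      x.1 ∈ (Spec R).basicOpen f ∧
      GenOn M ((Spec R).basicOpen f) (fun i => resM M ((Spec R).basicOpen_le f) (t i)) := by
    intro x
    obtain ⟨V, I, _, s, hxV, hs⟩ := hlf (⟨x.1, x.2⟩ : W.toScheme)
    have hs' := genOn_of_restrict W.ι M hs
    obtain ⟨f, hfV, hxf⟩ := hT.exists_basicOpen_le (V := W.ι ''ᵁ V) ⟨x.1, ⟨_, hxV, rfl⟩⟩ trivial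
    choose n t ht using fun i => qcoh_exists_pow_smul hT M f (resM M hfV ((M.restrictAppIso W.ι V).hom (s i)))
    choose u hu using fun i => (isUnit_res_pow f ((Spec R).basicOpen_le f) le_rfl (n i)).exists_left_inv
    refine ⟨f, I, inferInstance, t, hxf, ?_⟩
    intro W₀ hW₀ a y hy
    obtain ⟨W', hW', hyW', c, hc⟩ := hs'.res hfV W₀ hW₀ a y hy
    refine ⟨W', hW', hyW', fun i => c i * (Spec R).presheaf.map (homOfLE (hW'.trans hW₀)).op (u i),
      hc.trans (Finset.sum_congr rfl fun i _ => ?_)⟩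
    have e : resM M hfV ((M.restrictAppIso W.ι V).hom (s i)) = u i • resM M ((Spec R).basicOpen_le f) (t i) := by
      rw [ht, smul_smul, hu, one_smul]
    beta_reduce
    rw [e, resM_smul, mul_smul]
  choose f I hI t hxf ht using loc
  obtain ⟨T₀, hT₀⟩ := hW.elim_finite_subcover (fun x : W => ((Spec R).basicOpen (f x) : Set (Spec R)))
    (fun x => ((Spec R).basicOpen (f x)).2) (fun x hx => Set.mem_iUnion.2 ⟨⟨x, hx⟩, hxf ⟨x, hx⟩⟩)
  refine ⟨⋃ x ∈ T₀, Set.range (t x), T₀.finite_toSet.biUnion fun x _ => Set.finite_range _, fun {P} φ hφ => ?_⟩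
  refine Scheme.Modules.hom_ext _ _ fun O => ?_
  ext a
  show (φ.app (W.ι ''ᵁ O)) a = 0
  let O' : (Spec R).Opens := W.ι ''ᵁ O
  have hO' : O' ≤ W := W.ι_image_le O
  have hloc : ∀ y : O', ∃ (W' : (Spec R).Opens) (h : W' ≤ O'), y.1 ∈ W' ∧ resM P h (φ.app O' a) = 0 := by
    intro y
    obtain ⟨x, hx, hyx⟩ : ∃ x ∈ T₀, y.1 ∈ (Spec R).basicOpen (f x) := by simpa using hT₀ (hO' y.2)
    obtain ⟨W', hW', hyW', c, hc⟩ := ht x (O' ⊓ (Spec R).basicOpen (f x)) inf_le_right
      (resM M inf_le_left a) y.1 ⟨y.2, hyx⟩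
    refine ⟨W', hW'.trans inf_le_left, hyW', ?_⟩
    rw [← app_resM, ← resM_resM M inf_le_left hW' a, hc, map_sum]
    refine Finset.sum_eq_zero fun i _ => ?_
    rw [resM_resM, Scheme.Modules.Hom.app_smul, app_resM, hφ _ (Set.mem_iUnion₂.2 ⟨x, hx, i, rfl⟩), map_zero,
      smul_zero]
  choose W' hW' hyW' hz using hloc
  exact TopCat.Sheaf.eq_of_locally_eq' (X := (Spec R).toTopCat) (Coh.toAb P) W' O' (fun y => homOfLE (hW' y))
    (fun y hy => TopologicalSpace.Opens.mem_iSup.2 ⟨⟨y, hy⟩, hyW' ⟨y, hy⟩⟩) _ 0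
    (fun y => (hz y).trans (map_zero _).symm)

/-- Extension from an open of an affine Noetherian scheme. -/
theorem exists_ext_affine {R : CommRingCat.{u}} [IsNoetherianRing R] (W : (Spec R).Opens)
    (F : DCoh.D (W : Scheme.{u})) (hF : Good F) :
    ∃ G : DCoh.D (Spec R), Good G ∧ Nonempty ((DCoh.restrictD W.ι).obj G ≅ F) := by
  classical
  obtain ⟨hc, a₀, b₀, ha₀, hb₀⟩ := hF
  haveI := ha₀
  haveI : IsNoetherian (Spec R) := inferInstance
  haveI : QuasiCompact W.ι := inferInstance
  haveI : QuasiSeparated W.ι := inferInstance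
  haveI := DCat.hasRpush W.ι
  haveI := AffSchLib.preservesFiniteLimits_tilde R
  haveI := preservesFiniteColimits_tilde R
  obtain ⟨adj, hadj⟩ := Dual22Lib.AdjGeom.exists_adj W.ι
  haveI := hadj
  let K := (DCoh.Rpush W.ι).obj F
  have hK : DCoh.IsQCohD K := isQCohD_Rpush W.ι F (isQCohD_of_isCohD hc)
  have hKge : K.IsGE a₀ := by
    have h : EnoughKInj W.toScheme.Modules := enoughKInj_of_isGrothendieckAbelian
    haveI := DCat.isGE_rf h (Scheme.Modules.pushforward W.ι) F a₀
    exact (DerivedCategory.TStructure.t.isGE_of_iso ((DCat.rfIso h (DCoh.pushKh W.ι)).app F).symm a₀ :)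
  obtain ⟨b₁, hKle⟩ : ∃ b₁ : ℤ, K.IsLE b₁ := by
    obtain ⟨N, hN⟩ := exists_uniform_bound W.ι
    obtain ⟨_, _⟩ := exists_commShift_Rpush W.ι
    refine ⟨N + b₀, ?_⟩
    rw [DerivedCategory.isLE_iff]
    intro q hq
    haveI : (F⟦b₀⟧).IsLE 0 := haveI := hb₀; DerivedCategory.TStructure.t.isLE_shift F b₀ b₀ 0 (by omega)
    refine (hN (F⟦b₀⟧) (isQCohD_shift (isQCohD_of_isCohD hc) b₀) inferInstance (q - b₀) (by omega)).of_iso ?_
    exact (((homologyFunctor (Spec R).Modules 0).shiftIso b₀ (q - b₀) q (by omega)).app _).symm ≪≫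
      (homologyFunctor (Spec R).Modules (q - b₀)).mapIso (((DCoh.Rpush W.ι).commShiftIso b₀).app F).symm
  obtain ⟨M₀, ⟨e⟩⟩ := ((tildeD_main R).2.2 K).1 hK
  have hM₀le : M₀.IsLE b₁ := by
    haveI := hKle
    exact isLE_of_isLE_tildeD (DerivedCategory.TStructure.t.isLE_of_iso e.symm b₁)
  have hM₀ge : M₀.IsGE a₀ := by
    haveI : ((DCoh.tildeD R).obj M₀).IsGE a₀ :=
      haveI := hKge; DerivedCategory.TStructure.t.isGE_of_iso e.symm a₀
    rw [DerivedCategory.isGE_iff]
    intro i hi
    obtain ⟨η⟩ := nonempty_homology_natIso (tilde.functor R) i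
    exact isZero_of_isZero_tilde ((DerivedCategory.isZero_of_isGE _ a₀ i hi).of_iso (η.app M₀).symm)
  obtain ⟨M, hMge, hMle, ⟨eM⟩⟩ : ∃ (M : CochainComplex (ModuleCat.{u} R) ℤ) (_ : M.IsStrictlyGE a₀)
      (_ : M.IsStrictlyLE b₁), Nonempty (M₀ ≅ DerivedCategory.Q.obj M) := by
    haveI := hM₀le
    haveI := hM₀ge
    obtain ⟨M, h₁, h₂, h⟩ := DerivedCategory.exists_iso_Q_obj_of_isGE_of_isLE M₀ a₀ b₁
    exact ⟨M, h₁, h₂, h⟩
  have hM : ∀ n, n < a₀ ∨ b₁ < n → IsZero (M.X n) := fun n hn =>
    hn.elim (fun h => M.isZero_of_isStrictlyGE a₀ n h) (fun h => M.isZero_of_isStrictlyLE b₁ n h)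
  let Φ := Scheme.Modules.restrictFunctor W.ι
  let eW : (DCoh.restrictD W.ι).obj ((DCoh.tildeD R).obj (DerivedCategory.Q.obj M)) ≅ F :=
    (DCoh.restrictD W.ι).mapIso ((DCoh.tildeD R).mapIso eM.symm ≪≫ e) ≪≫ asIso (adj.counit.app F)
  let η := fun n : ℤ => nonempty_homology_natIso (tilde.functor R) n
  let ρ := fun n : ℤ => nonempty_homology_natIso Φ n
  have hft : ∀ n : ℤ, CohB1.IsFT ((tilde (M.homology n)).restrict W.ι) := fun n => by
    let eh : (homologyFunctor W.toScheme.Modules n).obj
        ((DCoh.restrictD W.ι).obj ((DCoh.tildeD R).obj (DerivedCategory.Q.obj M))) ≅ (tilde (M.homology n)).restrict W.ι :=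
      (ρ n).some.app _ ≪≫ Φ.mapIso ((η n).some.app _ ≪≫ (tilde.functor R).mapIso ((homologyFunctorFactors _ n).app M))
    exact Coherent.isFT_of_epi (((homologyFunctor W.toScheme.Modules n).mapIso eW).inv ≫ eh.hom) (hc n).2
  have hgen : ∀ n : ℤ, ∃ N : Submodule R (M.X n), N.FG ∧ N ≤ SubCx.Z M n ∧
      ∀ {H' : ModuleCat.{u} R} (π : M.homology n ⟶ H'),
        (∀ (z : M.cycles n), (M.iCycles n).hom z ∈ N → π.hom ((M.homologyπ n).hom z) = 0) →
        Φ.map ((tilde.functor R).map π) = 0 := by
    intro n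
    haveI : Coh.IsQCoh (tilde (M.homology n)) := Props12.isQCoh_tilde _
    obtain ⟨T, hT, hTφ⟩ := exists_finset_gen (tilde (M.homology n)) W
      (TopologicalSpace.NoetherianSpace.isCompact _) (hft n)
    have hbij : ∀ t : Γ(tilde (M.homology n), ⊤), ∃ h, (tilde.toOpen (M.homology n) ⊤).hom h = t := fun t =>
      ⟨(tilde.isoTop (M.homology n)).inv.hom t, ConcreteCategory.congr_hom (tilde.isoTop (M.homology n)).inv_hom_id t⟩
    choose hh hhh using hbij
    choose zz hzz using (ModuleCat.epi_iff_surjective (M.homologyπ n)).1 inferInstance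
    refine ⟨Submodule.span R ((fun t => (M.iCycles n).hom (zz (hh t))) '' T), ?_, ?_, ?_⟩
    · exact Submodule.fg_span (hT.image _)
    · rw [Submodule.span_le]
      rintro _ ⟨t, -, rfl⟩
      exact ConcreteCategory.congr_hom (M.iCycles_d n (n + 1)) _
    · intro H' π hπ
      refine hTφ _ fun t ht => ?_
      have h1 := hπ (zz (hh t)) (Submodule.subset_span ⟨t, ht, rfl⟩)
      rw [hzz] at h1
      rw [← hhh t]
      have h2 := ConcreteCategory.congr_hom ((tilde.adjunction (R := R)).unit.naturality π) (hh t)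
      exact h2.symm.trans ((congrArg ((tilde.adjunction (R := R)).unit.app H').hom h1).trans (map_zero _))
  choose N hN hNZ hNgen using hgen
  obtain ⟨C, i, hCfin, hC, himf, himono, hirange⟩ := SubCx.exists_subcomplex M N hN hNZ a₀ b₁ hM
  refine ⟨(DCoh.tildeD R).obj (DerivedCategory.Q.obj C), ⟨fun q => ?_, a₀, b₁, ?_, ?_⟩, ⟨?_⟩⟩
  · refine isCoh_of_iso ((η q).some.app _ ≪≫ (tilde.functor R).mapIso ((homologyFunctorFactors _ q).app C)).symm ?_
    haveI : Module.Finite R (C.homology q) := by
      haveI := hCfin q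
      haveI : IsNoetherian R (C.X q) := isNoetherian_of_isNoetherianRing_of_finite R _
      haveI : Module.Finite R (C.cycles q) := Module.Finite.of_injective (C.iCycles q).hom
        ((ModuleCat.mono_iff_injective _).1 inferInstance)
      exact Module.Finite.of_surjective (C.homologyπ q).hom ((ModuleCat.epi_iff_surjective _).1 inferInstance)
    exact ⟨Props12.isQCoh_tilde _, (Props12.isFT_tilde_iff (C.homology q)).2 inferInstance⟩
  · rw [DerivedCategory.isGE_iff]
    intro q hq
    exact ((tilde.functor R).map_isZero ((ShortComplex.isZero_homology_of_isZero_X₂ (C.sc q) (hC q (Or.inl hq))).of_iso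
        ((homologyFunctorFactors _ q).app C))).of_iso ((η q).some.app _)
  · rw [DerivedCategory.isLE_iff]
    intro q hq
    exact ((tilde.functor R).map_isZero ((ShortComplex.isZero_homology_of_isZero_X₂ (C.sc q) (hC q (Or.inr hq))).of_iso
        ((homologyFunctorFactors _ q).app C))).of_iso ((η q).some.app _)
  · haveI : IsIso ((DCoh.restrictD W.ι).map ((DCoh.tildeD R).map (DerivedCategory.Q.map i))) := by
      rw [DerivedCategory.isIso_iff]
      intro n
      refine (NatIso.isIso_map_iff (ρ n).some _).2 ?_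
      haveI : IsIso (Φ.map ((tilde.functor R).map (HomologicalComplex.homologyMap i n))) := by
        haveI := himono n
        haveI : Mono (Φ.map ((tilde.functor R).map (HomologicalComplex.homologyMap i n))) := inferInstance
        let π := cokernel.π (HomologicalComplex.homologyMap i n)
        have hπ : Φ.map ((tilde.functor R).map π) = 0 := hNgen n π fun z hz => by
          obtain ⟨c, hc'⟩ := hirange n hz
          have hcz : (C.d n (n + 1)).hom c = 0 := by
            refine (ModuleCat.mono_iff_injective (i.f (n + 1))).1 (himf (n + 1)) ?_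
            rw [map_zero]
            have e := ConcreteCategory.congr_hom (i.comm n (n + 1)) c
            exact e.symm.trans ((congrArg (M.d n (n + 1)).hom hc').trans
              (ConcreteCategory.congr_hom (M.iCycles_d n (n + 1)) z))
          have hker : (ShortComplex.mk (C.iCycles n) (C.d n (n + 1)) (C.iCycles_d n (n + 1))).Exact :=
            ShortComplex.exact_of_f_is_kernel _ (C.cyclesIsKernel n (n + 1) (by simp))
          rw [ShortComplex.moduleCat_exact_iff] at hker
          obtain ⟨y, hy⟩ := hker c hcz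
          have hyz : (HomologicalComplex.cyclesMap i n).hom y = z := by
            refine (ModuleCat.mono_iff_injective (M.iCycles n)).1 inferInstance ?_
            exact (ConcreteCategory.congr_hom (HomologicalComplex.cyclesMap_i i n) y).trans
              ((congrArg (i.f n).hom hy).trans hc')
          have e := ConcreteCategory.congr_hom (HomologicalComplex.homologyπ_naturality i n) y
          rw [← hyz]
          exact (congrArg π.hom e).symm.trans
            (ConcreteCategory.congr_hom (cokernel.condition (HomologicalComplex.homologyMap i n)) _)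
        have hex : (ShortComplex.mk (HomologicalComplex.homologyMap i n) π (cokernel.condition _)).Exact :=
          ShortComplex.exact_of_g_is_cokernel _ (cokernelIsCokernel _)
        have hex' := (hex.map (tilde.functor R)).map Φ
        haveI : Epi (Φ.map ((tilde.functor R).map (HomologicalComplex.homologyMap i n))) := by
          exact (ShortComplex.exact_iff_epi _ hπ).1 hex'
        exact isIso_of_mono_of_epi _
      show IsIso (Φ.map (((DCoh.tildeD R) ⋙ homologyFunctor (Spec R).Modules n).map (DerivedCategory.Q.map i)))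
      refine (NatIso.isIso_map_iff (Functor.isoWhiskerRight (η n).some Φ) (DerivedCategory.Q.map i)).2 ?_
      exact (NatIso.isIso_map_iff (Functor.isoWhiskerRight (homologyFunctorFactors (ModuleCat.{u} R) n)
        (tilde.functor R ⋙ Φ)) i).2 this
    exact asIso ((DCoh.restrictD W.ι).map ((DCoh.tildeD R).map (DerivedCategory.Q.map i))) ≪≫ eW

end Groth.Agent.DQCoh.CohExt
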