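import Groth.Agent.SiteDer16.RlimSites
import Groth.Agent.Coherent.ModExt
import Groth.Agent.Coherent.QcohOps
import Groth.Agent.Coherent.RpushComp
import Groth.Agent.Coherent.AffineVanishing
import Groth.Agent.DCat.Trunc
import Groth.Agent.DCat.DerivedLimits
import Groth.Prelude.Def_DCoh2

/-!
# Sections over affine opens of objects of `D(O_X)` with quasi-coherent cohomology
-/

set_option autoImplicit false
set_option backward.isDefEq.respectTransparency false
set_option backward.defeqAttrib.useBackward true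
set_option linter.style.haveILetI false

universe w v u

open CategoryTheory CategoryTheory.Limits CategoryTheory.Pretriangulated DerivedCategory Opposite TopologicalSpace
open Groth.Agent.SiteDer16 Groth.Agent.DCat

namespace Groth.Agent.DQCoh

section Generic

variable {C : Type v} [SmallCategory C] {J : GrothendieckTopology C}
  {A : Type u} [Category.{v} A] [Abelian A] [HasDerivedCategory.{w} A] (S : Sections J A)

theorem pt_obj (V : C) : S.pt.obj V = (singleFunctor A 0).obj (S.P.obj V) := rfl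

theorem bijective_θ_single (V : C) (M : A) :
    Function.Bijective (fun y : S.pt.obj V ⟶ (singleFunctor A 0).obj M => S.θ y) := by
  let G := singleFunctor A 0 ⋙ homologyFunctor A 0
  let hG : G.FullyFaithful := (Functor.FullyFaithful.id A).ofIso (singleFunctorCompHomologyFunctorIso A 0).symm
  let τ : S.P.obj V ⟶ (homologyFunctor A 0).obj (S.pt.obj V) := S.θ (𝟙 _)
  haveI : IsIso τ := by
    dsimp only [τ, Sections.θ]
    haveI : IsIso ((homologyFunctor A 0).map (𝟙 (S.pt.obj V))) := Functor.map_isIso _ _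
    exact IsIso.comp_isIso' inferInstance (IsIso.comp_isIso' inferInstance this)
  have e : ∀ y : S.pt.obj V ⟶ (singleFunctor A 0).obj M, S.θ y = τ ≫ (homologyFunctor A 0).map y := fun y => by
    rw [← S.θ_comp, Category.id_comp]
  constructor
  · intro y y' h
    simp only [e, cancel_epi] at h
    obtain ⟨g, rfl⟩ := (singleFunctor A 0).map_surjective y
    obtain ⟨g', rfl⟩ := (singleFunctor A 0).map_surjective y'
    exact congrArg _ (hG.map_injective h)
  · intro x
    obtain ⟨g, hg⟩ := hG.map_surjective (inv τ ≫ x)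
    refine ⟨(singleFunctor A 0).map g, ?_⟩
    show S.θ _ = x
    refine (e _).trans ?_
    exact (congrArg (τ ≫ ·) hg).trans (IsIso.hom_inv_id_assoc τ x)

theorem bijective_θ_of_isGE (V : C) (X : DerivedCategory A) [X.IsGE 0] :
    Function.Bijective (fun y : S.pt.obj V ⟶ X => S.θ y) := by
  let t : Triangulated.TStructure (DerivedCategory A) := DerivedCategory.TStructure.t
  have hT := t.triangleLTGE_distinguished 1 X
  haveI : (t.truncLT 1 |>.obj X).IsLE 0 := t.isLE_truncLT_obj _ _ _ (by omega)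
  haveI : (t.truncLT 1 |>.obj X).IsGE 0 := inferInstance
  obtain ⟨M, ⟨eM⟩⟩ := exists_iso_singleFunctor_obj_of_isGE_of_isLE (t.truncLT 1 |>.obj X) 0
  haveI hp : (S.pt.obj V).IsLE 0 := (inferInstance : ((singleFunctor A 0).obj (S.P.obj V)).IsLE 0)
  have hzero : ∀ y : S.pt.obj V ⟶ (t.truncGE 1).obj X, y = 0 := fun y => t.zero y 0 1 (by omega)
  have hzero' : ∀ y : (S.pt.obj V)⟦(1 : ℤ)⟧ ⟶ (t.truncGE 1).obj X, y = 0 := fun y => by
    haveI : ((S.pt.obj V)⟦(1 : ℤ)⟧).IsLE 0 := by
      haveI : ((S.pt.obj V)⟦(1 : ℤ)⟧).IsLE (-1) := t.isLE_shift _ 0 1 (-1) (by omega)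
      exact t.isLE_of_le _ (-1) 0 (by omega)
    exact t.zero y 0 1 (by omega)
  have hι : IsIso ((homologyFunctor A 0).map ((t.truncLTι 1).app X)) := by
    haveI := mono_homology_truncLTι X 1 0
    haveI : Epi ((homologyFunctor A 0).map ((t.truncLTι 1).app X)) :=
      (HomologySequence.epi_homologyMap_mor₁_iff _ hT 0).2
        ((isZero_of_isGE (t.truncGE 1 |>.obj X) 1 0 (by omega)).eq_of_tgt _ _)
    exact isIso_of_mono_of_epi _
  have b := bijective_θ_single S V M
  have hb : Function.Bijective (fun y : S.pt.obj V ⟶ (t.truncLT 1).obj X => S.θ y) := by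
    constructor
    · intro y y' h
      dsimp only at h
      rw [← cancel_mono eM.hom]
      apply b.1
      simp only [S.θ_comp]
      rw [h]
    · intro x
      obtain ⟨y, hy⟩ := b.2 (x ≫ (homologyFunctor A 0).map eM.hom)
      refine ⟨y ≫ eM.inv, ?_⟩
      dsimp only at hy ⊢
      rw [S.θ_comp, hy, Category.assoc, ← Functor.map_comp, eM.hom_inv_id, CategoryTheory.Functor.map_id,
        Category.comp_id]
  constructor
  · intro y y' h
    obtain ⟨z, rfl⟩ := (surjective_comp_of_triangle hT _ hzero) y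
    obtain ⟨z', rfl⟩ := (surjective_comp_of_triangle hT _ hzero) y'
    simp only [S.θ_comp] at h
    exact congrArg (fun z => z ≫ _) (hb.1 ((cancel_mono ((homologyFunctor A 0).map ((t.truncLTι 1).app X))).1 h))
  · intro x
    obtain ⟨z, hz⟩ := hb.2 (x ≫ inv ((homologyFunctor A 0).map ((t.truncLTι 1).app X)))
    refine ⟨z ≫ (t.truncLTι 1).app X, ?_⟩
    dsimp only at hz ⊢
    rw [S.θ_comp, hz, Category.assoc, IsIso.inv_hom_id, Category.comp_id]

end Generic

end Groth.Agent.DQCoh

namespace Groth.Agent.DQCoh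

open AlgebraicGeometry Groth.Agent.Coherent

attribute [local instance] HasDerivedCategory.standard

variable {X : Scheme.{u}}

/-- Sections of modules on a scheme as morphisms out of `j_! O_U`. -/
noncomputable def sec (X : Scheme.{u}) : Sections (Opens.grothendieckTopology X) X.Modules :=
  Sections.ofSheafValued (toAbFunctor X) (freeModOn X) (fun V M => secMod V M)
    (fun g _ x => secMod_res (leOfHom g) _ x) (fun x f => secMod_comp _ x f)

/-- Affine opens refine every cover. -/
theorem exists_affine_cover (U : X.Opens) :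
    ∃ (ι : Type u) (Y : ι → X.Opens) (f : ∀ i, Y i ⟶ U),
      Sieve.ofArrows Y f ∈ Opens.grothendieckTopology X U ∧ ∀ i, Y i ∈ {V : X.Opens | IsAffineOpen V} := by
  refine ⟨{x : X // x ∈ U}, fun x => (Opens.isBasis_iff_nbhd.1 X.isBasis_affineOpens x.2).choose,
    fun x => homOfLE (Opens.isBasis_iff_nbhd.1 X.isBasis_affineOpens x.2).choose_spec.2.2, fun y hy => ?_,
    fun x => (Opens.isBasis_iff_nbhd.1 X.isBasis_affineOpens x.2).choose_spec.1⟩
  exact ⟨_, homOfLE (Opens.isBasis_iff_nbhd.1 X.isBasis_affineOpens hy).choose_spec.2.2,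
    Sieve.ofArrows_mk _ _ (⟨y, hy⟩ : {x : X // x ∈ U}),
    (Opens.isBasis_iff_nbhd.1 X.isBasis_affineOpens hy).choose_spec.2.1⟩

/-- `Ext^k(j_! O_U, M) = 0` for affine `U`, quasi-coherent `M` and `k > 0`. -/
theorem subsingleton_ext [HasExt.{w} X.Modules] {U : X.Opens} (hU : IsAffineOpen U) (M : X.Modules)
    (hM : Coh.IsQCoh M) (k : ℕ) (hk : 0 < k) :
    Subsingleton (Abelian.Ext.{w} ((sec X).P.obj U) M k) := by
  obtain ⟨k, rfl⟩ := Nat.exists_eq_succ_of_ne_zero hk.ne'
  haveI := hM
  haveI : HasExt.{u} X.Modules := inferInstance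
  haveI : Subsingleton (Abelian.Ext.{u} (freeSh (X := X.toTopCat) U) (Coh.toAb M) (k + 1)) :=
    subsingleton_H'_qcoh M hU k
  haveI : Subsingleton (Abelian.Ext.{u} ((freeModOn X).obj U) M (k + 1)) :=
    (bijective_extToH U (k + 1) M).1.subsingleton
  exact @Equiv.subsingleton _ _
    (show Abelian.Ext.{w} ((sec X).P.obj U) M (k + 1) ≃ Abelian.Ext.{u} ((freeModOn X).obj U) M (k + 1) from
      Abelian.Ext.chgUniv) ‹_›

/-- An object with quasi-coherent cohomology is the derived limit of its truncations. -/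
theorem isRlim (K : DCoh.D X) (hK : DCoh.IsQCohD K) [HasProduct (CohCx.truncTower K)] :
    CohCx.IsRlimVia (CohCx.truncTower K) (CohCx.truncTowerMap K) K (CohCx.toTruncTower K) := by
  haveI : HasExt.{u + 1} X.Modules := hasExt_of_hasDerivedCategory _
  refine isRlimVia_truncTower (sec X) K DCat.enoughKInj_of_isGrothendieckAbelian {V | IsAffineOpen V}
    (fun hz => (sec X).isZero_of_cover _ exists_affine_cover hz) fun V _ => ?_
  refine ⟨PUnit, fun _ _ => 0, fun T hT => ?_⟩
  obtain ⟨ι, Y, f, h1, h2, h3⟩ := exists_refinement _ exists_affine_cover (T ⟨⟩) (hT _)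
  exact ⟨ι, Y, f, h2, fun i => ⟨⟨⟩, h1 i, fun m k hk => subsingleton_ext (h3 i) _ (hK _) k (by simp only at hk; omega)⟩⟩

/-- Maps out of `j_! O_U`, `U` affine, see only the cohomology sheaf. -/
theorem bijective_θ (K : DCoh.D X) (hK : DCoh.IsQCohD K) {U : X.Opens} (hU : IsAffineOpen U) :
    Function.Bijective (fun y : (sec X).pt.obj U ⟶ K => (sec X).θ y) := by
  haveI : HasExt.{u + 1} X.Modules := hasExt_of_hasDerivedCategory _
  haveI := DCat.hasProductsOfShape_derived (A := X.Modules) DCat.enoughKInj_of_isGrothendieckAbelian ℕ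
  have hv : ∀ (k : ℤ) (n : ℕ) {Z : DCoh.D X}, k ≤ 0 → -1 ≤ k → Z.IsGE (-(n : ℤ) - 2) →
      (∀ q, q ≠ -(n : ℤ) - 2 → IsZero ((homologyFunctor X.Modules q).obj Z)) →
      Nonempty ((homologyFunctor X.Modules (-(n : ℤ) - 2)).obj Z ≅ (homologyFunctor X.Modules (-(n : ℤ) - 1)).obj K) →
      ∀ g : ((sec X).pt.obj U)⟦-k⟧ ⟶ Z, g = 0 := fun k n Z hk hk' hge hz ⟨e⟩ => by
    refine (sec X).eq_zero_of_boundedBelow U k Z (-(n : ℤ) - 2) fun q d hd => ?_
    by_cases hq : q = -(n : ℤ) - 2
    · subst hq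
      haveI := subsingleton_ext hU _ (hK (-(n : ℤ) - 1)) d (by omega)
      exact subsingleton_ext_of_iso' _ e d
    · exact subsingleton_ext_of_isZero _ (hz q hq) d
  let e0 : ((sec X).pt.obj U)⟦-(0 : ℤ)⟧ ≅ (sec X).pt.obj U :=
    (shiftFunctorZero' (DCoh.D X) (-(0 : ℤ)) (by omega)).app _
  let e1 : ((sec X).pt.obj U)⟦-(-1 : ℤ)⟧ ≅ ((sec X).pt.obj U)⟦(1 : ℤ)⟧ := eqToIso (by norm_num)
  have hπ : Function.Bijective (fun y : (sec X).pt.obj U ⟶ K => y ≫ CohCx.toTruncTower K 0) := by
    refine bijective_comp_of_isRlimVia _ (CohCx.truncTowerMap K) _ 0 (isRlim K hK) (fun n _ => ?_) (fun n _ => ?_) <;>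
      obtain ⟨Z, g, d, hT, hge, hz, he⟩ := exists_cone_truncTowerMap K n
    · refine ⟨injective_comp_of_triangle hT _ fun u => ?_, surjective_comp_of_triangle hT _ fun u => ?_⟩
      · rw [← cancel_epi e1.hom, comp_zero]
        exact hv (-1) n (by omega) le_rfl hge hz he _
      · rw [← cancel_epi e0.hom, comp_zero]
        exact hv 0 n le_rfl (by omega) hge hz he _
    · refine surjective_comp_of_triangle hT _ fun u => ?_
      rw [← cancel_epi e1.hom, comp_zero]
      exact hv (-1) n (by omega) le_rfl hge hz he _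
  haveI hiso := isIso_homology_truncGEπ K (-((0 : ℕ) : ℤ)) 0 (by omega)
  haveI : (CohCx.truncTower K 0).IsGE 0 := (inferInstance :
    ((DerivedCategory.TStructure.t (C := X.Modules)).truncGE (-((0 : ℕ) : ℤ)) |>.obj K).IsGE (-((0 : ℕ) : ℤ)))
  have h := (bijective_θ_of_isGE (sec X) U (CohCx.truncTower K 0)).comp hπ
  have e : (fun y : (sec X).pt.obj U ⟶ K => (sec X).θ (y ≫ CohCx.toTruncTower K 0)) =
      (fun x => x ≫ (homologyFunctor X.Modules 0).map (CohCx.toTruncTower K 0)) ∘ fun y => (sec X).θ y :=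
    funext fun y => (sec X).θ_comp y _
  have hc : Function.Bijective (fun x : (sec X).P.obj U ⟶ (homologyFunctor X.Modules 0).obj K =>
      x ≫ (homologyFunctor X.Modules 0).map (CohCx.toTruncTower K 0)) :=
    (asIso ((homologyFunctor X.Modules 0).map (CohCx.toTruncTower K 0))).homToEquiv.bijective
  exact (Function.Bijective.of_comp_iff' hc _).1 (e ▸ h)

end Groth.Agent.DQCoh
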