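import Groth.Agent.DQCoh.AffineKProj17
import Groth.Agent.DQCoh.AcyclicPush
import Groth.Agent.DQCoh.TildePush
import Groth.Agent.Dual22Lib.AdjGeom
import Groth.Agent.Et18.DerivedExactAdj
import Groth.Agent.H8Lim.ModEq
import Groth.Agent.DCat.PerfLocal
import Groth.Agent.FlatCx12.EmbPush
import Groth.Agent.Coherent.QcohSections
import Groth.Agent.Coherent.QcohOps
import Mathlib.CategoryTheory.Adjunction.Restrict
import Mathlib.CategoryTheory.Abelian.Subcategory

/-!
# `D(QCoh X) ≅ D_QCoh(X)` for affine diagonal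
-/

set_option autoImplicit false
set_option backward.isDefEq.respectTransparency false
set_option backward.defeqAttrib.useBackward true
set_option linter.style.haveILetI false
set_option linter.unusedSectionVars false
set_option synthInstance.maxHeartbeats 100000
set_option maxHeartbeats 800000
set_option backward.isDefEq.respectTransparency.types false

universe u

open CategoryTheory CategoryTheory.Limits CategoryTheory.Pretriangulated DerivedCategory AlgebraicGeometry Opposite TopologicalSpace
open Groth.Agent.DCat Groth.Agent.Coherent Groth.Agent.DCat.PerfLocal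

attribute [local instance] HasDerivedCategory.standard
attribute [-instance] Int.instConditionallyCompleteLinearOrder

namespace Groth.Agent.DQCoh.DQCohEquiv17

/-- Quasi-coherence as an object property. -/
abbrev QP (X : Scheme.{u}) : ObjectProperty X.Modules := fun M => Coh.IsQCoh M

section Chart

variable {X : Scheme.{u}} {R : CommRingCat.{u}} (j : Spec R ⟶ X) [QuasiCompact j] [QuasiSeparated j]

/-- Direct image of a quasi-coherent module. -/
theorem isQCoh_pushTilde (N : ModuleCat.{u} R) :
    Coh.IsQCoh ((tilde.functor R ⋙ Scheme.Modules.pushforward j).obj N) := by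
  haveI : Coh.IsQCoh ((tilde.functor R).obj N) := isQCoh_tilde N
  exact Coherent.isQCoh_push j _

/-- Modules over the chart ring to quasi-coherent modules. -/
noncomputable def Rf : ModuleCat.{u} R ⥤ (QP X).FullSubcategory :=
  ObjectProperty.lift (QP X) (tilde.functor R ⋙ Scheme.Modules.pushforward j) (isQCoh_pushTilde j)

variable [IsOpenImmersion j]

/-- Sections over the chart. -/
noncomputable def Lf : (QP X).FullSubcategory ⥤ ModuleCat.{u} R :=
  (QP X).ι ⋙ Scheme.Modules.restrictFunctor j ⋙ moduleSpecΓFunctor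

theorem isQCoh_restrict_obj (M : (QP X).FullSubcategory) :
    Coh.IsQCoh ((Scheme.Modules.restrictFunctor j).obj M.obj) := by
  haveI : Coh.IsQCoh M.obj := M.property
  exact (inferInstance : Coh.IsQCoh (M.obj.restrict j))

theorem isIso_theta (M : (QP X).FullSubcategory) :
    IsIso ((Scheme.Modules.restrictFunctor j).obj M.obj).fromTildeΓ :=
  (isQuasicoherent_iff_isIso_fromTildeΓ _).1 (isQCoh_restrict_obj j M)

/-- Restriction to the chart is given by sections. -/
noncomputable def comm1 : (QP X).ι ⋙ Scheme.Modules.restrictFunctor j ≅ Lf j ⋙ tilde.functor R :=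
  (NatIso.ofComponents (fun M => haveI := isIso_theta j M
    asIso ((Scheme.Modules.restrictFunctor j).obj M.obj).fromTildeΓ)
    (fun _ => Scheme.Modules.fromTildeΓNatTrans.naturality _)).symm

/-- The adjunction between sections and direct image. -/
noncomputable def adjf : Lf j ⊣ Rf j :=
  (Scheme.Modules.restrictAdjunction j).restrictFullyFaithful (QP X).fullyFaithfulι
    (tilde.fullyFaithfulFunctor (R := R)) (comm1 j) (Iso.refl _)

theorem isIso_counit : IsIso (adjf j).counit := by
  haveI : ∀ N, IsIso ((adjf j).counit.app N) := fun N => by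
    haveI : IsIso ((tilde.functor R).map ((adjf j).counit.app N)) := by
      rw [adjf, Adjunction.map_restrictFullyFaithful_counit_app]
      infer_instance
    exact isIso_of_reflects_iso _ (tilde.functor R)
  exact NatIso.isIso_of_isIso_app _

end Chart

variable {X : Scheme.{u}}
  [ObjectProperty.ContainsZero (QP X)] [ObjectProperty.IsClosedUnderKernels (QP X)]
  [ObjectProperty.IsClosedUnderCokernels (QP X)] [ObjectProperty.IsClosedUnderFiniteProducts (QP X)]
  [PreservesFiniteLimits (QP X).ι] [PreservesFiniteColimits (QP X).ι]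

section Chart2

variable {R : CommRingCat.{u}} (j : Spec R ⟶ X) [IsOpenImmersion j] [QuasiCompact j] [QuasiSeparated j]

instance additive_Rf : (Rf j).Additive :=
  haveI := (adjf j).isRightAdjoint
  haveI := (adjf j).rightAdjoint_preservesLimits (G := Rf j)
  haveI := preservesBinaryBiproducts_of_preservesBinaryProducts (Rf j)
  Functor.additive_of_preservesBinaryBiproducts _

instance additive_Lf : (Lf j).Additive :=
  haveI : (moduleSpecΓFunctor (R := R)).Additive := Adjunction.right_adjoint_additive tilde.adjunction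
  inferInstanceAs ((QP X).ι ⋙ Scheme.Modules.restrictFunctor j ⋙ moduleSpecΓFunctor).Additive

instance preservesFiniteColimits_Lf : PreservesFiniteColimits (Lf j) :=
  haveI := (adjf j).leftAdjoint_preservesColimits (F := Lf j)
  inferInstance

instance preservesFiniteLimits_Lf : PreservesFiniteLimits (Lf j) := by
  haveI := PullPerf.preservesFiniteLimits_restrict j
  haveI : PreservesFiniteLimits (Lf j ⋙ tilde.functor R) := preservesFiniteLimits_of_natIso (comm1 j)
  exact preservesFiniteLimits_of_reflects_of_preserves (Lf j) (tilde.functor R)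

instance preservesFiniteLimits_Rf : PreservesFiniteLimits (Rf j) :=
  haveI := (adjf j).rightAdjoint_preservesLimits (G := Rf j)
  inferInstance

end Chart2

section Chart3

variable {R : CommRingCat.{u}} (j : Spec R ⟶ X) [IsOpenImmersion j] [IsAffineHom j]

instance preservesFiniteColimits_Rf : PreservesFiniteColimits (Rf j) := by
  haveI : (Rf j).PreservesEpimorphisms := ⟨fun {M N} g _ => by
    refine (QP X).ι.epi_of_epi_map (Coherent.epi_of_locally_surjective _ fun W a y hy => ?_)
    obtain ⟨W', hW', hy', hle⟩ := exists_isAffineOpen_mem_and_subset (x := y) (U := W) hy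
    haveI : PreservesFiniteColimits (tilde.functor R) :=
      haveI := (tilde.adjunction (R := R)).leftAdjoint_preservesColimits
      inferInstance
    haveI : Coh.IsQCoh ((tilde.functor R).obj M) := isQCoh_tilde M
    haveI : Coh.IsQCoh ((tilde.functor R).obj N) := isQCoh_tilde N
    obtain ⟨b, hb⟩ := H8Lim.app_surjective_of_epi ((tilde.functor R).map g) (hW'.preimage j)
      (resM ((Rf j).obj N).obj hle a)
    exact ⟨W', hle, hy', b, hb⟩⟩
  haveI := Functor.preservesHomology_of_preservesEpis_and_kernels (Rf j)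
  exact Functor.preservesFiniteColimits_of_preservesHomology _

/-- Modules over the chart ring in `D(X)`. -/
theorem nonempty_phi_Rf (M : DerivedCategory (ModuleCat.{u} R)) [DCoh.HasRpush j]
    [PreservesFiniteLimits (tilde.functor R)] :
    Nonempty ((QP X).ι.mapDerivedCategory.obj ((Rf j).mapDerivedCategory.obj M) ≅
      (DCoh.Rpush j).obj ((DCoh.tildeD R).obj M)) := by
  haveI := Coherent.hasInjectiveResolutions_modules (Spec R)
  haveI : PreservesFiniteColimits (tilde.functor R) :=
    haveI := (tilde.adjunction (R := R)).leftAdjoint_preservesColimits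
    inferInstance
  let K := DerivedCategory.Q.objPreimage M
  let e : DerivedCategory.Q.obj K ≅ M := DerivedCategory.Q.objObjPreimageIso M
  let T := ((tilde.functor R).mapHomologicalComplex (ComplexShape.up ℤ)).obj K
  let η := (DCoh.pushKh j).totalRightDerivedUnit DerivedCategory.Qh
    (HomotopyCategory.quasiIso (Spec R).Modules (ComplexShape.up ℤ))
  haveI : IsIso (η.app ((HomotopyCategory.quotient _ _).obj T)) :=
    isIso_unit_qcoh j T (fun n => isQCoh_tilde (K.X n)) fun n i hi => by
      haveI : Coh.IsQCoh (T.X n) := isQCoh_tilde (K.X n)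
      exact isZero_rpush_affine j _ i hi
  exact ⟨(QP X).ι.mapDerivedCategory.mapIso ((Rf j).mapDerivedCategory.mapIso e.symm ≪≫
      (Rf j).mapDerivedCategoryFactors.app K) ≪≫
    (QP X).ι.mapDerivedCategoryFactors.app _ ≪≫
    ((DerivedCategory.quotientCompQhIso X.Modules).app _).symm ≪≫
    asIso (η.app ((HomotopyCategory.quotient _ _).obj T)) ≪≫
    (DCoh.Rpush j).mapIso ((DerivedCategory.quotientCompQhIso _).app T ≪≫
      ((tilde.functor R).mapDerivedCategoryFactors.app K).symm ≪≫ (DCoh.tildeD R).mapIso e)⟩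

/-- Restriction to the chart is bijective on maps into direct images. -/
theorem bijective_rd (K : DCoh.D X) (M : DerivedCategory (ModuleCat.{u} R)) :
    Function.Bijective (fun h : K ⟶ (QP X).ι.mapDerivedCategory.obj ((Rf j).mapDerivedCategory.obj M) =>
      (rd j).map h) := by
  haveI := DCat.hasRpush j
  haveI := PullPerf.preservesFiniteLimits_restrict j
  haveI := AffSchLib.preservesFiniteLimits_tilde R
  obtain ⟨a, ha⟩ := Dual22Lib.AdjGeom.exists_adj j
  haveI := ha
  obtain ⟨e⟩ := nonempty_phi_Rf j M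
  let T := (DCoh.tildeD R).obj M
  have key : Function.Bijective (fun h : K ⟶ (DCoh.Rpush j).obj T => (DCoh.restrictD j).map h) := by
    have : (fun h : K ⟶ (DCoh.Rpush j).obj T => (DCoh.restrictD j).map h) =
        (Iso.homCongr (Iso.refl _) (asIso (a.counit.app T)).symm) ∘ (a.homEquiv K T).symm := by
      funext h
      simp [Iso.homCongr, Adjunction.homEquiv_counit]
    rw [this]
    exact (Equiv.bijective _).comp (Equiv.bijective _)
  have e' : (fun h : K ⟶ (QP X).ι.mapDerivedCategory.obj ((Rf j).mapDerivedCategory.obj M) => (rd j).map h) =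
      (Iso.homCongr (Iso.refl _) ((DCoh.restrictD j).mapIso e)).symm ∘
        (fun h : K ⟶ (DCoh.Rpush j).obj T => (DCoh.restrictD j).map h) ∘ (Iso.homCongr (Iso.refl K) e) := by
    funext h
    simp [Iso.homCongr]
  rw [e']
  exact (Equiv.bijective _).comp (key.comp (Equiv.bijective _))

/-- The bijectivity on maps into direct images from the chart. -/
theorem bijective_phi (A : DerivedCategory (QP X).FullSubcategory) (M : DerivedCategory (ModuleCat.{u} R)) :
    Function.Bijective (fun f : A ⟶ (Rf j).mapDerivedCategory.obj M => (QP X).ι.mapDerivedCategory.map f) := by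
  haveI := PullPerf.preservesFiniteLimits_restrict j
  haveI := AffSchLib.preservesFiniteLimits_tilde R
  haveI : PreservesFiniteColimits (tilde.functor R) :=
    haveI := (tilde.adjunction (R := R)).leftAdjoint_preservesColimits
    inferInstance
  let B := (Rf j).mapDerivedCategory.obj M
  -- sections are bijective
  let adjD : (Lf j).mapDerivedCategory ⊣ (Rf j).mapDerivedCategory :=
    letI : CatCommSq ((Lf j).mapHomologicalComplex (ComplexShape.up ℤ)) DerivedCategory.Q DerivedCategory.Q
        (Lf j).mapDerivedCategory := ⟨(Lf j).mapDerivedCategoryFactors.symm⟩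
    letI : CatCommSq ((Rf j).mapHomologicalComplex (ComplexShape.up ℤ)) DerivedCategory.Q DerivedCategory.Q
        (Rf j).mapDerivedCategory := ⟨(Rf j).mapDerivedCategoryFactors.symm⟩
    (Et18.DerivedExactAdj.adjCx (adjf j)).localization DerivedCategory.Q (HomologicalComplex.quasiIso _ _)
      DerivedCategory.Q (HomologicalComplex.quasiIso _ _) (Lf j).mapDerivedCategory (Rf j).mapDerivedCategory
  haveI := isIso_counit j
  obtain ⟨hfull, hfaith⟩ := Et18.DerivedExactAdj.full_faithful (adjf j) inferInstance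
  haveI := hfull
  haveI := hfaith
  haveI : IsIso adjD.counit := Adjunction.counit_isIso_of_R_fully_faithful adjD
  have hL : Function.Bijective (fun f : A ⟶ B => (Lf j).mapDerivedCategory.map f) := by
    have : (fun f : A ⟶ B => (Lf j).mapDerivedCategory.map f) =
        (Iso.homCongr (Iso.refl _) (asIso (adjD.counit.app M))).symm ∘ (adjD.homEquiv A M).symm := by
      funext f
      simp [Iso.homCongr, Adjunction.homEquiv_counit, B]
    rw [this]
    exact (Equiv.bijective _).comp (Equiv.bijective _)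
  obtain ⟨hTf, hTff, -⟩ := tildeD_main R
  haveI := hTf
  haveI := hTff
  obtain ⟨c₁⟩ := AffineKProj17.nonempty_mdcCompIso (Lf j) (tilde.functor R) _ (comm1 j).symm
  obtain ⟨c₂⟩ := AffineKProj17.nonempty_mdcCompIso (QP X).ι (Scheme.Modules.restrictFunctor j) _ (Iso.refl _)
  let c : (QP X).ι.mapDerivedCategory ⋙ rd j ≅ (Lf j).mapDerivedCategory ⋙ DCoh.tildeD R := c₂ ≪≫ c₁.symm
  have hT : Function.Bijective (fun g : (Lf j).mapDerivedCategory.obj A ⟶ (Lf j).mapDerivedCategory.obj B =>
      (DCoh.tildeD R).map g) := ⟨fun a b h => (DCoh.tildeD R).map_injective h, (DCoh.tildeD R).map_surjective⟩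
  have hcomp : Function.Bijective ((fun h : (QP X).ι.mapDerivedCategory.obj A ⟶ (QP X).ι.mapDerivedCategory.obj B =>
      (rd j).map h) ∘ fun f : A ⟶ B => (QP X).ι.mapDerivedCategory.map f) := by
    have : ((fun h : (QP X).ι.mapDerivedCategory.obj A ⟶ (QP X).ι.mapDerivedCategory.obj B => (rd j).map h) ∘
        fun f : A ⟶ B => (QP X).ι.mapDerivedCategory.map f) =
        (Iso.homCongr (c.app A).symm (c.app B).symm) ∘ (fun g => (DCoh.tildeD R).map g) ∘
          fun f : A ⟶ B => (Lf j).mapDerivedCategory.map f := by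
      funext f
      simp only [Function.comp_apply, Iso.homCongr_apply, Iso.symm_inv, Iso.symm_hom, Iso.app_hom, Iso.app_inv]
      have hn := c.hom.naturality f
      simp only [Functor.comp_map] at hn
      rw [← reassoc_of% hn, Iso.hom_inv_id_app]
      simp
    rw [this]
    exact (Equiv.bijective _).comp (hT.comp hL)
  exact (bijective_rd j _ M).of_comp_iff' _ |>.1 hcomp

theorem isQCohD_phi (M : DerivedCategory (QP X).FullSubcategory) :
    DCoh.IsQCohD ((QP X).ι.mapDerivedCategory.obj M) := fun i =>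
  isQCoh_of_iso (SuppOpen.hdMapIso (QP X).ι M i).symm
    (h := ((DerivedCategory.homologyFunctor _ i).obj M).property)

/-- Direct images keep vanishing over opens. -/
theorem killed_push {W : Scheme.{u}} (w : W ⟶ X) [IsOpenImmersion w] (K : DCoh.D X)
    (M : DerivedCategory (ModuleCat.{u} R)) [PreservesFiniteLimits (tilde.functor R)]
    (e : (DCoh.tildeD R).obj M ≅ (rd j).obj K) (hK : IsZero ((rd w).obj K)) :
    IsZero ((rd w).obj ((QP X).ι.mapDerivedCategory.obj ((Rf j).mapDerivedCategory.obj M))) := by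
  haveI := PullPerf.preservesFiniteLimits_restrict j
  haveI := PullPerf.preservesFiniteLimits_restrict w
  haveI : PreservesFiniteColimits (tilde.functor R) :=
    haveI := (tilde.adjunction (R := R)).leftAdjoint_preservesColimits
    inferInstance
  refine SuppOpen.isZero_of_hd _ fun i => ?_
  let r := Scheme.Modules.restrictFunctor w
  let P := Scheme.Modules.pushforward j
  let H := DCoh.HD K i
  refine IsZero.of_iso (?_ : IsZero (r.obj (P.obj ((Scheme.Modules.restrictFunctor j).obj H))))
    (SuppOpen.hdMapIso r _ i ≪≫ r.mapIso (SuppOpen.hdMapIso (QP X).ι _ i ≪≫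
      (QP X).ι.mapIso (SuppOpen.hdMapIso (Rf j) M i) ≪≫
      P.mapIso ((SuppOpen.hdMapIso (tilde.functor R) M i).symm ≪≫ (DerivedCategory.homologyFunctor _ i).mapIso e ≪≫
        SuppOpen.hdMapIso (Scheme.Modules.restrictFunctor j) K i)))
  have hH : IsZero (r.obj H) :=
    ((DerivedCategory.homologyFunctor W.Modules i).map_isZero hK).of_iso (SuppOpen.hdMapIso r K i).symm
  refine FlatCx12.EmbPush.isZero_of_subsingleton _ fun O => ?_
  show Subsingleton Γ(H, j ''ᵁ (j ⁻¹ᵁ (w ''ᵁ O)))
  have hle : j ''ᵁ (j ⁻¹ᵁ (w ''ᵁ O)) ≤ w ''ᵁ O := j.image_preimage_le _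
  have hwle : j ''ᵁ (j ⁻¹ᵁ (w ''ᵁ O)) ≤ w.opensRange := hle.trans (w.image_le_opensRange _)
  obtain ⟨O', hO'⟩ : ∃ O' : W.Opens, w ''ᵁ O' = j ''ᵁ (j ⁻¹ᵁ (w ''ᵁ O)) :=
    ⟨w ⁻¹ᵁ (j ''ᵁ (j ⁻¹ᵁ (w ''ᵁ O))), (w.image_preimage_eq_opensRange_inf _).trans (inf_eq_right.2 hwle)⟩
  rw [← hO']
  refine ⟨fun a b => ?_⟩
  have h0 := hH.eq_of_src (𝟙 _) 0
  have key : ∀ a : Γ(r.obj H, O'), a = 0 := fun a => congr((Scheme.Modules.Hom.app $h0 O') a)
  exact (key a).trans (key b).symm

end Chart3

/-- Maps into an object are the same upstairs and downstairs. -/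
def Good (B : DerivedCategory (QP X).FullSubcategory) : Prop :=
  ∀ A, Function.Bijective (fun f : A ⟶ B => (QP X).ι.mapDerivedCategory.map f)

theorem Good.of_iso {B B' : DerivedCategory (QP X).FullSubcategory} (e : B ≅ B') (h : Good B) : Good B' := fun A => by
  let Φ := (QP X).ι.mapDerivedCategory
  have : (fun f : A ⟶ B' => Φ.map f) =
      (Iso.homCongr (Iso.refl _) (Φ.mapIso e)) ∘ (fun f : A ⟶ B => Φ.map f) ∘
        (Iso.homCongr (Iso.refl A) e).symm := by
    funext f
    simp [Iso.homCongr, ← Functor.map_comp]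
  rw [this]
  exact (Equiv.bijective _).comp ((h A).comp (Equiv.bijective _))

theorem Good.shift {B : DerivedCategory (QP X).FullSubcategory} (h : Good B) (n : ℤ) : Good (B⟦n⟧) := fun A => by
  let Φ := (QP X).ι.mapDerivedCategory
  refine ⟨fun f g hfg => ?_, fun d => ?_⟩
  · have e := shiftFunctorCompIsoId (DerivedCategory (QP X).FullSubcategory) n (-n) (by omega)
    have h1 : f⟦-n⟧' ≫ e.hom.app B = g⟦-n⟧' ≫ e.hom.app B := (h _).1 (by
      show Φ.map _ = Φ.map _
      rw [Φ.map_comp, Φ.map_comp]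
      congr 1
      rw [← cancel_mono ((Φ.commShiftIso (-n)).hom.app _)]
      have n1 := (Φ.commShiftIso (-n)).hom.naturality f
      have n2 := (Φ.commShiftIso (-n)).hom.naturality g
      simp only [Functor.comp_map] at n1 n2
      rw [n1, n2]
      exact congrArg (fun x => _ ≫ x⟦-n⟧') hfg)
    exact (shiftFunctor _ (-n)).map_injective ((cancel_mono _).1 h1)
  · let A' := A⟦-n⟧
    let eA : A'⟦n⟧ ≅ A := (shiftFunctorCompIsoId _ (-n) n (by omega)).app A
    let d' : (Φ.obj A')⟦n⟧ ⟶ (Φ.obj B)⟦n⟧ :=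
      (Φ.commShiftIso n).inv.app A' ≫ Φ.map eA.hom ≫ d ≫ (Φ.commShiftIso n).hom.app B
    obtain ⟨g₀, hg₀⟩ := (shiftFunctor (DCoh.D X) n).map_surjective d'
    obtain ⟨g, hg⟩ := (h A').2 g₀
    refine ⟨eA.inv ≫ g⟦n⟧', ?_⟩
    show Φ.map _ = d
    have nat := (Φ.commShiftIso n).hom.naturality g
    simp only [Functor.comp_map] at nat
    rw [← cancel_mono ((Φ.commShiftIso n).hom.app B), Φ.map_comp, Category.assoc, nat,
      show Φ.map g = g₀ from hg, hg₀]
    simp [d', ← Functor.map_comp_assoc]

theorem Good.fibre {T : Triangle (DerivedCategory (QP X).FullSubcategory)} (hT : T ∈ distTriang _)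
    (h₂ : Good T.obj₂) (h₃ : Good T.obj₃) : Good T.obj₁ := fun A => by
  let Φ := (QP X).ι.mapDerivedCategory
  have hT' := inv_rot_of_distTriang _ hT
  have hΦ := Φ.map_distinguished _ hT
  have hΦ' := Φ.map_distinguished _ hT'
  refine ⟨fun f g hfg => ?_, fun d => ?_⟩
  · rw [← sub_eq_zero]
    have h0 : Φ.map (f - g) = 0 := by rw [Functor.map_sub, sub_eq_zero]; exact hfg
    have h1 : (f - g) ≫ T.mor₁ = 0 := (h₂ A).1 (by
      show Φ.map _ = Φ.map _
      rw [Φ.map_comp, h0, zero_comp, Φ.map_zero])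
    obtain ⟨x, hx⟩ := Triangle.coyoneda_exact₂ _ hT' (f - g) h1
    obtain ⟨y, hy⟩ := Triangle.coyoneda_exact₂ _ (Φ.map_distinguished _ (inv_rot_of_distTriang _ hT')) (Φ.map x) (by
      show Φ.map x ≫ Φ.map T.invRotate.mor₁ = 0
      rw [← Φ.map_comp]
      exact (congrArg Φ.map hx.symm).trans h0)
    obtain ⟨y', hy'⟩ := ((h₂.shift (-1)) A).2 (y : Φ.obj A ⟶ _)
    rw [hx, ← show y' ≫ (T.invRotate.invRotate).mor₁ = x from (h₃.shift (-1) A).1 ?_]
    · exact (Category.assoc _ _ _).trans ((congrArg (y' ≫ ·)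
        (comp_distTriang_mor_zero₁₂ _ (inv_rot_of_distTriang _ hT'))).trans comp_zero)
    show Φ.map _ = Φ.map x
    rw [Φ.map_comp]
    refine Eq.trans ?_ hy.symm
    rw [← show Φ.map y' = y from hy']
    rfl
  · obtain ⟨g, hg⟩ := (h₂ A).2 (d ≫ Φ.map T.mor₁)
    obtain ⟨f, hf⟩ := Triangle.coyoneda_exact₂ _ hT g ((h₃ A).1 (by
      show Φ.map _ = Φ.map _
      rw [Φ.map_comp, show Φ.map g = _ from hg, Category.assoc, ← Φ.map_comp, comp_distTriang_mor_zero₁₂ _ hT,
        Φ.map_zero, Φ.map_zero, comp_zero]))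
    obtain ⟨x, hx⟩ := Triangle.coyoneda_exact₂ _ hΦ' (d - Φ.map f) (by
      show (d - Φ.map f) ≫ Φ.map T.mor₁ = 0
      rw [Preadditive.sub_comp, ← Φ.map_comp, ← hf, show Φ.map g = _ from hg, sub_self])
    obtain ⟨x', hx'⟩ := (h₃.shift (-1) A).2 x
    refine ⟨f + (x' ≫ T.invRotate.mor₁ : A ⟶ T.obj₁), ?_⟩
    show Φ.map _ = d
    rw [Φ.map_add, Φ.map_comp, show Φ.map x' = x from hx']
    exact (congrArg (Φ.map f + ·) hx.symm).trans (by abel)

/-- Affine diagonal makes charts affine morphisms. -/
theorem isAffineHom_fromSpec (hdiag : ∀ U V : X.Opens, IsAffineOpen U → IsAffineOpen V → IsAffineOpen (U ⊓ V))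
    {V : X.Opens} (hV : IsAffineOpen V) : IsAffineHom hV.fromSpec := by
  refine ⟨fun W hW => ?_⟩
  have := (hdiag W V hW hV).preimage_of_isOpenImmersion hV.fromSpec (by
    rw [hV.opensRange_fromSpec]; exact inf_le_right)
  have e : hV.fromSpec ⁻¹ᵁ (W ⊓ V) = hV.fromSpec ⁻¹ᵁ W := by
    ext z
    exact ⟨fun h => h.1, fun h => ⟨h, hV.range_fromSpec.le ⟨z, rfl⟩⟩⟩
  rwa [e] at this

variable (hdiag : ∀ U V : X.Opens, IsAffineOpen U → IsAffineOpen V → IsAffineOpen (U ⊓ V))

include hdiag in
theorem good_of_list (l : List X.affineOpens) : ∀ B : DerivedCategory (QP X).FullSubcategory,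
    (∀ x : X, (∀ V ∈ l, x ∉ V.1) → ∃ (W : Scheme.{u}) (w : W ⟶ X) (_ : IsOpenImmersion w),
      x ∈ w.opensRange ∧ IsZero ((rd w).obj ((QP X).ι.mapDerivedCategory.obj B))) → Good B := by
  let Φ := (QP X).ι.mapDerivedCategory
  induction l with
  | nil =>
    intro B hB A
    have hz : IsZero (Φ.obj B) := SuppOpen.isZero_of_hd _ fun i => ModStalk.isZero_of_stalks fun x => by
      obtain ⟨W, w, _, ⟨z, rfl⟩, hW⟩ := hB x (fun V hV => (List.not_mem_nil hV).elim)
      have h0 := ((DerivedCategory.homologyFunctor W.Modules i).map_isZero hW).of_iso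
        (SuppOpen.hdMapIso (Scheme.Modules.restrictFunctor w) (Φ.obj B) i).symm
      haveI := SuppOpen.subsingleton_stalk_of_restrict w (DCoh.HD (Φ.obj B) i) z
        (SuppOpen.subsingleton_of_isZero_stalkFunctor _ _ ((DerSch.stalkFunctor W z).map_isZero h0))
      exact SuppOpen.isZero_stalkFunctor _ _
    have hzB : IsZero B := SuppOpen.isZero_of_hd _ fun i => by
      have h1 : IsZero ((QP X).ι.obj ((DerivedCategory.homologyFunctor _ i).obj B)) :=
        ((DerivedCategory.homologyFunctor X.Modules i).map_isZero hz).of_iso (SuppOpen.hdMapIso (QP X).ι B i).symm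
      exact (IsZero.iff_id_eq_zero _).2 ((QP X).ι.map_injective (h1.eq_of_src _ _))
    exact ⟨fun f g _ => hzB.eq_of_tgt f g, fun d => ⟨0, hz.eq_of_tgt _ _⟩⟩
  | cons V l ih =>
    intro B hB
    let j := V.2.fromSpec
    haveI := isAffineHom_fromSpec hdiag V.2
    haveI := PullPerf.preservesFiniteLimits_restrict j
    haveI := AffSchLib.preservesFiniteLimits_tilde Γ(X, V.1)
    obtain ⟨M, ⟨e⟩⟩ := ((tildeD_main Γ(X, V.1)).2.2 _).1 (isQCohD_rd j (isQCohD_phi B))
    obtain ⟨h, hh⟩ := (bijective_rd j (Φ.obj B) M).2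
      (e.inv ≫ (Classical.choice (nonempty_rd_phi_Rf j M)).inv)
    obtain ⟨f, hf⟩ := (bijective_phi j B M).2 h
    obtain ⟨C, g, k, hT⟩ := distinguished_cocone_triangle f
    refine Good.fibre hT (fun A => bijective_phi j A M) (ih C fun x hx => ?_)
    have hΦ := Φ.map_distinguished _ hT
    by_cases hxV : x ∈ V.1
    · refine ⟨_, j, inferInstance, by rwa [V.2.opensRange_fromSpec], ?_⟩
      haveI : IsIso ((rd j).map (Φ.map f)) := by
        rw [show Φ.map f = h from hf, show (rd j).map h = _ from hh]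
        infer_instance
      exact (Triangle.isZero₃_iff_isIso₁ _ ((rd j).map_distinguished _ hΦ)).2 ‹_›
    · obtain ⟨W, w, _, hxw, hW⟩ := hB x (fun V' hV' => by
        rcases List.mem_cons.1 hV' with rfl | hV'
        · exact hxV
        · exact hx V' hV')
      haveI := PullPerf.preservesFiniteLimits_restrict w
      exact ⟨W, w, inferInstance, hxw, Triangle.isZero₃_of_isZero₁₂ _ ((rd w).map_distinguished _ hΦ) hW
        (killed_push j w (Φ.obj B) M e hW)⟩
where
  nonempty_rd_phi_Rf {R : CommRingCat.{u}} (j : Spec R ⟶ X) [IsOpenImmersion j] [IsAffineHom j]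
      [PreservesFiniteLimits (tilde.functor R)] (M : DerivedCategory (ModuleCat.{u} R)) :
      Nonempty ((rd j).obj ((QP X).ι.mapDerivedCategory.obj ((Rf j).mapDerivedCategory.obj M)) ≅
        (DCoh.tildeD R).obj M) := by
    haveI := DCat.hasRpush j
    haveI := PullPerf.preservesFiniteLimits_restrict j
    obtain ⟨a, ha⟩ := Dual22Lib.AdjGeom.exists_adj j
    haveI := ha
    obtain ⟨e⟩ := nonempty_phi_Rf j M
    exact ⟨(DCoh.restrictD j).mapIso e ≪≫ asIso (a.counit.app _)⟩

variable [CompactSpace X]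

include hdiag in
theorem good (B : DerivedCategory (QP X).FullSubcategory) : Good B := by
  classical
  obtain ⟨t, ht, hcov⟩ := isCompact_iff_finite_and_eq_biUnion_affineOpens.1
    (show IsCompact ((⊤ : X.Opens) : Set X) from isCompact_univ)
  refine good_of_list hdiag ht.toFinset.toList B fun x hx => ?_
  have hxt : x ∈ ((⊤ : X.Opens) : Set X) := trivial
  rw [hcov] at hxt
  simp only [Opens.mem_iSup, SetLike.mem_coe] at hxt
  obtain ⟨V, hV, hxV⟩ := hxt
  exact (hx V (by simpa using hV) hxV).elim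

include hdiag in
/-- Full and faithful. -/
theorem full_faithful : (QP X).ι.mapDerivedCategory.Full ∧ (QP X).ι.mapDerivedCategory.Faithful :=
  ⟨⟨fun {A B} => (good hdiag B A).2⟩, ⟨fun {A B} => @fun _ _ h => (good hdiag B A).1 h⟩⟩

include hdiag in
theorem mem_image_of_list (l : List X.affineOpens) : ∀ K : DCoh.D X, DCoh.IsQCohD K →
    (∀ x : X, (∀ V ∈ l, x ∉ V.1) → ∃ (W : Scheme.{u}) (w : W ⟶ X) (_ : IsOpenImmersion w),
      x ∈ w.opensRange ∧ IsZero ((rd w).obj K)) →
    ∃ M, Nonempty ((QP X).ι.mapDerivedCategory.obj M ≅ K) := by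
  let Φ := (QP X).ι.mapDerivedCategory
  obtain ⟨hfull, -⟩ := full_faithful hdiag
  induction l with
  | nil =>
    intro K _ hK
    have hz : IsZero K := SuppOpen.isZero_of_hd _ fun i => ModStalk.isZero_of_stalks fun x => by
      obtain ⟨W, w, _, ⟨z, rfl⟩, hW⟩ := hK x (fun V hV => (List.not_mem_nil hV).elim)
      have h0 := ((DerivedCategory.homologyFunctor W.Modules i).map_isZero hW).of_iso
        (SuppOpen.hdMapIso (Scheme.Modules.restrictFunctor w) K i).symm
      haveI := SuppOpen.subsingleton_stalk_of_restrict w (DCoh.HD K i) z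
        (SuppOpen.subsingleton_of_isZero_stalkFunctor _ _ ((DerSch.stalkFunctor W z).map_isZero h0))
      exact SuppOpen.isZero_stalkFunctor _ _
    obtain ⟨Z, hZ⟩ := HasZeroObject.zero (C := DerivedCategory (QP X).FullSubcategory)
    exact ⟨Z, ⟨(Φ.map_isZero ⟨hZ.1, hZ.2⟩).iso hz⟩⟩
  | cons V l ih =>
    intro K hKq hK
    let j := V.2.fromSpec
    haveI := isAffineHom_fromSpec hdiag V.2
    haveI := PullPerf.preservesFiniteLimits_restrict j
    haveI := AffSchLib.preservesFiniteLimits_tilde Γ(X, V.1)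
    obtain ⟨M, ⟨e⟩⟩ := ((tildeD_main Γ(X, V.1)).2.2 _).1 (isQCohD_rd j hKq)
    obtain ⟨h, hh⟩ := (bijective_rd j K M).2 (e.inv ≫ (Classical.choice (good_of_list.nonempty_rd_phi_Rf j M)).inv)
    obtain ⟨C, g, k, hT⟩ := distinguished_cocone_triangle h
    obtain ⟨C', ⟨eC⟩⟩ := ih C (isQCohD_obj₃ hT hKq (isQCohD_phi _)) fun x hx => by
      by_cases hxV : x ∈ V.1
      · refine ⟨_, j, inferInstance, by rwa [V.2.opensRange_fromSpec], ?_⟩
        haveI : IsIso ((rd j).map h) := by
          rw [show (rd j).map h = _ from hh]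
          infer_instance
        exact (Triangle.isZero₃_iff_isIso₁ _ ((rd j).map_distinguished _ hT)).2 ‹_›
      · obtain ⟨W, w, _, hxw, hW⟩ := hK x (fun V' hV' => by
          rcases List.mem_cons.1 hV' with rfl | hV'
          · exact hxV
          · exact hx V' hV')
        haveI := PullPerf.preservesFiniteLimits_restrict w
        exact ⟨W, w, inferInstance, hxw, Triangle.isZero₃_of_isZero₁₂ _ ((rd w).map_distinguished _ hT) hW
          (killed_push j w K M e hW)⟩
    let N := (Rf j).mapDerivedCategory.obj M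
    obtain ⟨g', hg'⟩ := Φ.map_surjective (g ≫ eC.inv)
    obtain ⟨Z, a, b, hZ⟩ := distinguished_cocone_triangle₁ g'
    exact ⟨Z, ⟨(shiftFunctor (DCoh.D X) (1 : ℤ)).preimageIso (Triangle.π₃.mapIso (isoTriangleOfIso₁₂ _ _
      (rot_of_distTriang _ (Φ.map_distinguished _ hZ)) (rot_of_distTriang _ hT) (Iso.refl _) eC (by
      show Φ.map g' ≫ eC.hom = 𝟙 _ ≫ g
      rw [hg', Category.assoc, Iso.inv_hom_id, Category.comp_id, Category.id_comp])))⟩⟩

include hdiag in
/-- The essential image. -/
theorem isQCohD_iff (K : DCoh.D X) :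
    DCoh.IsQCohD K ↔ ∃ M, Nonempty ((QP X).ι.mapDerivedCategory.obj M ≅ K) := by
  refine ⟨fun hK => ?_, fun ⟨M, ⟨e⟩⟩ => isQCohD_of_iso e (isQCohD_phi M)⟩
  classical
  obtain ⟨t, ht, hcov⟩ := isCompact_iff_finite_and_eq_biUnion_affineOpens.1
    (show IsCompact ((⊤ : X.Opens) : Set X) from isCompact_univ)
  refine mem_image_of_list hdiag ht.toFinset.toList K hK fun x hx => ?_
  have hxt : x ∈ ((⊤ : X.Opens) : Set X) := trivial
  rw [hcov] at hxt
  simp only [Opens.mem_iSup, SetLike.mem_coe] at hxt
  obtain ⟨V, hV, hxV⟩ := hxt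
  exact (hx V (by simpa using hV) hxV).elim

end Groth.Agent.DQCoh.DQCohEquiv17
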