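import Groth.Agent.DQCoh.DQCohEquiv17
import Groth.Agent.Dual22Lib.TenLocal
import Groth.Agent.Dual22Lib.RdComp
import Groth.Agent.DCat.KInjRes
import Groth.Agent.DCat.FlatPull
import Groth.Agent.InjMod14.Tilde

/-!
# `D(QCoh X) ≅ D_QCoh(X)` for noetherian schemes

A chart of a noetherian scheme need not be affine over it, so direct images of K-injective complexes
of injective modules are used as test objects.
-/

set_option autoImplicit false
set_option backward.isDefEq.respectTransparency false
set_option backward.defeqAttrib.useBackward true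
set_option linter.style.haveILetI false
set_option linter.unusedSectionVars false
set_option synthInstance.maxHeartbeats 100000
set_option maxHeartbeats 800000
set_option backward.isDefEq.respectTransparency.types false

universe u

open CategoryTheory CategoryTheory.Limits CategoryTheory.Pretriangulated DerivedCategory AlgebraicGeometry Opposite TopologicalSpace
open Groth.Agent.DCat Groth.Agent.Coherent Groth.Agent.DCat.PerfLocal

attribute [local instance] HasDerivedCategory.standard
attribute [-instance] Int.instConditionallyCompleteLinearOrder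

namespace Groth.Agent.DQCoh.DQCohNoeth17

open DQCohEquiv17

section Generic

universe w' v' u'

variable {C : Type u'} [Category.{v'} C] [Abelian C] [HasDerivedCategory.{w'} C]

/-- Every map into a K-injective complex in the derived category comes from a map of complexes. -/
theorem surj_Q_map (K P : CochainComplex C ℤ) [P.IsKInjective]
    (g : DerivedCategory.Q.obj K ⟶ DerivedCategory.Q.obj P) : ∃ φ, DerivedCategory.Q.map φ = g := by
  obtain ⟨x, hx⟩ := (CochainComplex.IsKInjective.Qh_map_bijective _ P).surjective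
    ((DerivedCategory.quotientCompQhIso C).hom.app K ≫ g ≫ (DerivedCategory.quotientCompQhIso C).inv.app P)
  obtain ⟨φ, rfl⟩ := (HomotopyCategory.quotient C (ComplexShape.up ℤ)).map_surjective x
  refine ⟨φ, ?_⟩
  rw [← NatIso.naturality_1 (DerivedCategory.quotientCompQhIso C) φ, Functor.comp_map, hx]
  simp

theorem homotopy_of_Q_map_eq {K P : CochainComplex C ℤ} [P.IsKInjective] {φ ψ : K ⟶ P}
    (h : DerivedCategory.Q.map φ = DerivedCategory.Q.map ψ) : Nonempty (Homotopy φ ψ) := by
  refine ⟨HomotopyCategory.homotopyOfEq _ _ ((CochainComplex.IsKInjective.Qh_map_bijective _ P).injective ?_)⟩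
  rw [← cancel_mono ((DerivedCategory.quotientCompQhIso C).hom.app P)]
  have h1 := (DerivedCategory.quotientCompQhIso C).hom.naturality φ
  have h2 := (DerivedCategory.quotientCompQhIso C).hom.naturality ψ
  simp only [Functor.comp_map] at h1 h2
  exact h1.trans ((congrArg (fun t => (DerivedCategory.quotientCompQhIso C).hom.app K ≫ t) h).trans h2.symm)

theorem Q_map_eq_of_homotopy {K P : CochainComplex C ℤ} {φ ψ : K ⟶ P} (h : Homotopy φ ψ) :
    DerivedCategory.Q.map φ = DerivedCategory.Q.map ψ := by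
  rw [← NatIso.naturality_1 (DerivedCategory.quotientCompQhIso C) φ,
    ← NatIso.naturality_1 (DerivedCategory.quotientCompQhIso C) ψ, Functor.comp_map, Functor.comp_map,
    HomotopyCategory.eq_of_homotopy _ _ h]

end Generic

variable {X : Scheme.{u}}
  [ObjectProperty.ContainsZero (QP X)] [ObjectProperty.IsClosedUnderKernels (QP X)]
  [ObjectProperty.IsClosedUnderCokernels (QP X)] [ObjectProperty.IsClosedUnderFiniteProducts (QP X)]
  [PreservesFiniteLimits (QP X).ι] [PreservesFiniteColimits (QP X).ι]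

section Chart

variable {R : CommRingCat.{u}} (j : Spec R ⟶ X) [IsOpenImmersion j] [QuasiCompact j] [QuasiSeparated j]

/-- The direct image of a complex of modules over the chart, as a quasi-coherent complex. -/
noncomputable abbrev pushCx (I : CochainComplex (ModuleCat.{u} R) ℤ) :
    CochainComplex (QP X).FullSubcategory ℤ :=
  ((Rf j).mapHomologicalComplex (ComplexShape.up ℤ)).obj I

instance isKInjective_pushCx (I : CochainComplex (ModuleCat.{u} R) ℤ) [I.IsKInjective] :
    CochainComplex.IsKInjective (pushCx j I) :=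
  FlatPull.isKInjective_map_of_adj (adjf j) I

/-- Sections are bijective on maps into direct images of K-injective complexes. -/
theorem bijective_Lf (A : DerivedCategory (QP X).FullSubcategory) (I : CochainComplex (ModuleCat.{u} R) ℤ)
    [I.IsKInjective] :
    Function.Bijective (fun f : A ⟶ DerivedCategory.Q.obj (pushCx j I) => (Lf j).mapDerivedCategory.map f) := by
  let L := (Lf j).mapHomologicalComplex (ComplexShape.up ℤ)
  let Rc := (Rf j).mapHomologicalComplex (ComplexShape.up ℤ)
  let a := Et18.DerivedExactAdj.adjCx (adjf j)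
  haveI := isIso_counit j
  let cI : L.obj (pushCx j I) ⟶ I := a.counit.app I
  haveI hcI : IsIso cI := by
    haveI : ∀ n, IsIso (cI.f n) := fun n =>
      (inferInstance : IsIso ((adjf j).counit.app (I.X n)))
    exact HomologicalComplex.Hom.isIso_of_components _
  haveI : CochainComplex.IsKInjective (L.obj (pushCx j I)) :=
    CochainComplex.isKInjective_of_iso (L₁ := I) (L₂ := L.obj (pushCx j I)) (asIso cI).symm
  let A' := DerivedCategory.Q.objPreimage A
  let eA : DerivedCategory.Q.obj A' ≅ A := DerivedCategory.Q.objObjPreimageIso A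
  let P := pushCx j I
  let fac := (Lf j).mapDerivedCategoryFactors
  have hnat : ∀ φ : A' ⟶ P, DerivedCategory.Q.map (L.map φ) =
      fac.inv.app A' ≫ (Lf j).mapDerivedCategory.map (DerivedCategory.Q.map φ) ≫ fac.hom.app P := fun φ => by
    have h := fac.hom.naturality φ
    simp only [Functor.comp_map] at h
    rw [h, Iso.inv_hom_id_app_assoc]
  have surjQ : ∀ {K : CochainComplex (QP X).FullSubcategory ℤ}
      (g : DerivedCategory.Q.obj K ⟶ DerivedCategory.Q.obj P), ∃ φ, DerivedCategory.Q.map φ = g := fun {K} g =>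
    surj_Q_map K P g
  have surjQ' : ∀ (g : DerivedCategory.Q.obj (L.obj A') ⟶ DerivedCategory.Q.obj (L.obj P)),
      ∃ φ, DerivedCategory.Q.map φ = g := fun g => surj_Q_map _ _ g
  refine ⟨fun f g hfg => ?_, fun d => ?_⟩
  · obtain ⟨φ, hφ⟩ := surjQ (eA.hom ≫ f)
    obtain ⟨ψ, hψ⟩ := surjQ (eA.hom ≫ g)
    rw [← cancel_epi eA.hom, ← hφ, ← hψ]
    have hL : DerivedCategory.Q.map (L.map φ) = DerivedCategory.Q.map (L.map ψ) := by
      rw [hnat, hnat, hφ, hψ, Functor.map_comp, Functor.map_comp,
        show (Lf j).mapDerivedCategory.map f = (Lf j).mapDerivedCategory.map g from hfg]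
    obtain ⟨h⟩ := homotopy_of_Q_map_eq hL
    refine Q_map_eq_of_homotopy ((Homotopy.ofEq (?_ : φ = a.unit.app A' ≫ Rc.map (L.map φ ≫ a.counit.app I))).trans
      ((((Rf j).mapHomotopy (h.compRight (a.counit.app I))).compLeft _).trans (Homotopy.ofEq ?_)))
    · exact ((a.homEquiv A' I).apply_symm_apply φ).symm.trans (a.homEquiv_unit _ _ _) |>.trans (by
        rw [Adjunction.homEquiv_counit])
    · exact (((a.homEquiv A' I).apply_symm_apply ψ).symm.trans (a.homEquiv_unit _ _ _) |>.trans (by
        rw [Adjunction.homEquiv_counit])).symm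
  · obtain ⟨ψ, hψ⟩ := surjQ' (fac.inv.app A' ≫ (Lf j).mapDerivedCategory.map eA.hom ≫ d ≫ fac.hom.app P)
    let φ : A' ⟶ P := a.homEquiv A' I (ψ ≫ a.counit.app I)
    have hφ : L.map φ = ψ := by
      haveI : Mono cI := IsIso.mono_of_iso cI
      refine Mono.right_cancellation (f := cI) _ _ ?_
      exact (a.homEquiv_counit _ _ φ).symm.trans ((a.homEquiv A' I).symm_apply_apply _)
    refine ⟨eA.inv ≫ DerivedCategory.Q.map φ, ?_⟩
    have h := hnat φ
    rw [hφ, hψ, cancel_epi, ← Category.assoc, cancel_mono] at h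
    show (Lf j).mapDerivedCategory.map _ = d
    rw [Functor.map_comp, ← h, ← Functor.map_comp_assoc, eA.inv_hom_id, CategoryTheory.Functor.map_id, Category.id_comp]

/-- A direct image from the chart, in `D(X)`. -/
theorem nonempty_phi_pushCx [IsNoetherianRing R] [DCoh.HasRpush j] [PreservesFiniteLimits (tilde.functor R)]
    (I : CochainComplex (ModuleCat.{u} R) ℤ) [∀ n, Injective (I.X n)] :
    Nonempty ((QP X).ι.mapDerivedCategory.obj (DerivedCategory.Q.obj (pushCx j I)) ≅
      (DCoh.Rpush j).obj ((DCoh.tildeD R).obj (DerivedCategory.Q.obj I))) := by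
  haveI := Coherent.hasInjectiveResolutions_modules (Spec R)
  haveI : PreservesFiniteColimits (tilde.functor R) :=
    haveI := (tilde.adjunction (R := R)).leftAdjoint_preservesColimits
    inferInstance
  let T := ((tilde.functor R).mapHomologicalComplex (ComplexShape.up ℤ)).obj I
  let η := (DCoh.pushKh j).totalRightDerivedUnit DerivedCategory.Qh
    (HomotopyCategory.quasiIso (Spec R).Modules (ComplexShape.up ℤ))
  haveI : IsIso (η.app ((HomotopyCategory.quotient _ _).obj T)) :=
    isIso_unit_qcoh j T (fun n => isQCoh_tilde (I.X n)) fun n i hi => by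
      obtain ⟨i, rfl⟩ := Nat.exists_eq_succ_of_ne_zero (by omega : i ≠ 0)
      haveI : Module.Injective R (I.X n) := (Module.injective_iff_injective_object R (I.X n)).2 inferInstance
      haveI : Injective (T.X n) := InjMod14.injective_tilde (I.X n)
      exact Functor.isZero_rightDerived_obj_injective_succ _ i _
  exact ⟨(QP X).ι.mapDerivedCategoryFactors.app _ ≪≫
    ((DerivedCategory.quotientCompQhIso X.Modules).app _).symm ≪≫
    asIso (η.app ((HomotopyCategory.quotient _ _).obj T)) ≪≫
    (DCoh.Rpush j).mapIso ((DerivedCategory.quotientCompQhIso _).app T ≪≫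
      ((tilde.functor R).mapDerivedCategoryFactors.app I).symm)⟩

/-- Restriction is bijective on maps into a direct image from the chart. -/
theorem bijective_rd_of_iso [DCoh.HasRpush j] (K : DCoh.D X) {Y : DCoh.D X} (T : DCoh.D (Spec R))
    (e : Y ≅ (DCoh.Rpush j).obj T) :
    Function.Bijective (fun h : K ⟶ Y => (rd j).map h) ∧ Nonempty ((rd j).obj Y ≅ T) := by
  haveI := PullPerf.preservesFiniteLimits_restrict j
  obtain ⟨a, ha⟩ := Dual22Lib.AdjGeom.exists_adj j
  haveI := ha
  refine ⟨?_, ⟨(DCoh.restrictD j).mapIso e ≪≫ asIso (a.counit.app _)⟩⟩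
  have key : Function.Bijective (fun h : K ⟶ (DCoh.Rpush j).obj T => (DCoh.restrictD j).map h) := by
    have : (fun h : K ⟶ (DCoh.Rpush j).obj T => (DCoh.restrictD j).map h) =
        (Iso.homCongr (Iso.refl _) (asIso (a.counit.app T)).symm) ∘ (a.homEquiv K T).symm := by
      funext h
      simp [Iso.homCongr, Adjunction.homEquiv_counit]
    rw [this]
    exact (Equiv.bijective _).comp (Equiv.bijective _)
  have e' : (fun h : K ⟶ Y => (rd j).map h) =
      (Iso.homCongr (Iso.refl _) ((DCoh.restrictD j).mapIso e)).symm ∘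
        (fun h : K ⟶ (DCoh.Rpush j).obj T => (DCoh.restrictD j).map h) ∘ (Iso.homCongr (Iso.refl K) e) := by
    funext h
    simp [Iso.homCongr]
  rw [e']
  exact (Equiv.bijective _).comp (key.comp (Equiv.bijective _))

/-- Direct images of K-injective complexes of injective modules are good. -/
theorem good_pushCx [IsNoetherianRing R] (I : CochainComplex (ModuleCat.{u} R) ℤ) [I.IsKInjective]
    [∀ n, Injective (I.X n)] : Good (DerivedCategory.Q.obj (pushCx j I)) := by
  intro A
  haveI := DCat.hasRpush j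
  haveI := PullPerf.preservesFiniteLimits_restrict j
  haveI := AffSchLib.preservesFiniteLimits_tilde R
  haveI : PreservesFiniteColimits (tilde.functor R) :=
    haveI := (tilde.adjunction (R := R)).leftAdjoint_preservesColimits
    inferInstance
  let B := DerivedCategory.Q.obj (pushCx j I)
  have hL := bijective_Lf j A I
  obtain ⟨hTf, hTff, -⟩ := tildeD_main R
  haveI := hTf
  haveI := hTff
  obtain ⟨c₁⟩ := AffineKProj17.nonempty_mdcCompIso (Lf j) (tilde.functor R) _ (comm1 j).symm
  obtain ⟨c₂⟩ := AffineKProj17.nonempty_mdcCompIso (QP X).ι (Scheme.Modules.restrictFunctor j) _ (Iso.refl _)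
  let c : (QP X).ι.mapDerivedCategory ⋙ rd j ≅ (Lf j).mapDerivedCategory ⋙ DCoh.tildeD R := c₂ ≪≫ c₁.symm
  have hT : Function.Bijective (fun g : (Lf j).mapDerivedCategory.obj A ⟶ (Lf j).mapDerivedCategory.obj B =>
      (DCoh.tildeD R).map g) := ⟨fun a b h => (DCoh.tildeD R).map_injective h, (DCoh.tildeD R).map_surjective⟩
  have hcomp : Function.Bijective ((fun h : (QP X).ι.mapDerivedCategory.obj A ⟶ (QP X).ι.mapDerivedCategory.obj B =>
      (rd j).map h) ∘ fun f : A ⟶ B => (QP X).ι.mapDerivedCategory.map f) := by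
    have : ((fun h : (QP X).ι.mapDerivedCategory.obj A ⟶ (QP X).ι.mapDerivedCategory.obj B => (rd j).map h) ∘
        fun f : A ⟶ B => (QP X).ι.mapDerivedCategory.map f) =
        (Iso.homCongr (c.app A).symm (c.app B).symm) ∘ (fun g => (DCoh.tildeD R).map g) ∘
          fun f : A ⟶ B => (Lf j).mapDerivedCategory.map f := by
      funext f
      simp only [Function.comp_apply, Iso.homCongr_apply, Iso.symm_inv, Iso.symm_hom, Iso.app_hom, Iso.app_inv]
      have hn := c.hom.naturality f
      simp only [Functor.comp_map] at hn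
      rw [← reassoc_of% hn, Iso.hom_inv_id_app]
      simp
    rw [this]
    exact (Equiv.bijective _).comp (hT.comp hL)
  obtain ⟨e⟩ := nonempty_phi_pushCx j I
  exact (bijective_rd_of_iso j ((QP X).ι.mapDerivedCategory.obj A) _ e).1.of_comp_iff' _ |>.1 hcomp

/-- Direct images from the chart keep vanishing over opens. -/
theorem killed_push (W : X.Opens) (K : DCoh.D X) [DCoh.HasRpush j] (T : DCoh.D (Spec R))
    (e : T ≅ (rd j).obj K) (hK : IsZero ((rd W.ι).obj K)) : IsZero ((rd W.ι).obj ((DCoh.Rpush j).obj T)) := by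
  refine Dual22Lib.TenLocal.isZero_rd_Rpush j W ?_
  refine IsZero.of_iso ?_ ((rd (j ⁻¹ᵁ W).ι).mapIso e)
  rw [Dual22Lib.RdComp.isZero_rd_comp_iff]
  obtain ⟨e'⟩ := Dual22Lib.RdComp.rd_congr (W := ((j ⁻¹ᵁ W : (Spec R).Opens) : Scheme.{u}))
    ((j ⁻¹ᵁ W).ι ≫ j) (k' := (j ∣_ W) ≫ W.ι) (morphismRestrict_ι j W).symm K
  refine IsZero.of_iso ?_ e'
  rw [← Dual22Lib.RdComp.isZero_rd_comp_iff]
  exact (rd (j ∣_ W)).map_isZero hK

end Chart

/-- The chart of an affine open and the open itself see the same vanishing. -/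
theorem isZero_rd_ι_of_fromSpec {V : X.Opens} (hV : IsAffineOpen V) {K : DCoh.D X}
    (h : IsZero ((rd hV.fromSpec).obj K)) : IsZero ((rd V.ι).obj K) := by
  obtain ⟨e⟩ := Dual22Lib.RdComp.rd_congr V.ι (k' := hV.isoSpec.hom ≫ hV.fromSpec)
    hV.isoSpec_hom_fromSpec.symm K
  refine IsZero.of_iso ?_ e
  rw [← Dual22Lib.RdComp.isZero_rd_comp_iff]
  haveI := PullPerf.preservesFiniteLimits_restrict hV.isoSpec.hom
  exact (rd hV.isoSpec.hom).map_isZero h

/-- An object vanishing near every point vanishes. -/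
theorem isZero_of_cover (K : DCoh.D X) (h : ∀ x : X, ∃ W : X.Opens, x ∈ W ∧ IsZero ((rd W.ι).obj K)) :
    IsZero K :=
  SuppOpen.isZero_of_hd _ fun i => ModStalk.isZero_of_stalks fun x => by
    obtain ⟨W, hx, hW⟩ := h x
    obtain ⟨z, rfl⟩ : ∃ z, W.ι z = x := ⟨⟨x, hx⟩, rfl⟩
    have h0 := ((DerivedCategory.homologyFunctor (W : Scheme.{u}).Modules i).map_isZero hW).of_iso
      (SuppOpen.hdMapIso (Scheme.Modules.restrictFunctor W.ι) K i).symm
    haveI := SuppOpen.subsingleton_stalk_of_restrict W.ι (DCoh.HD K i) z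
      (SuppOpen.subsingleton_of_isZero_stalkFunctor _ _ ((DerSch.stalkFunctor _ z).map_isZero h0))
    exact SuppOpen.isZero_stalkFunctor _ _

variable [IsNoetherian X]

/-- A K-injective model with injective terms for every object over a chart. -/
theorem exists_model (V : X.affineOpens) (M : DerivedCategory (ModuleCat.{u} Γ(X, V.1))) :
    ∃ B : DerivedCategory (QP X).FullSubcategory, Good B ∧
      (∀ K : DCoh.D X, Function.Bijective (fun h : K ⟶ (QP X).ι.mapDerivedCategory.obj B =>
        (rd V.2.fromSpec).map h)) ∧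
      (haveI := AffSchLib.preservesFiniteLimits_tilde Γ(X, V.1)
       Nonempty ((rd V.2.fromSpec).obj ((QP X).ι.mapDerivedCategory.obj B) ≅ (DCoh.tildeD _).obj M) ∧
        ∀ (W : X.Opens) (K : DCoh.D X), Nonempty ((DCoh.tildeD _).obj M ≅ (rd V.2.fromSpec).obj K) →
          IsZero ((rd W.ι).obj K) → IsZero ((rd W.ι).obj ((QP X).ι.mapDerivedCategory.obj B))) := by
  haveI := AffSchLib.preservesFiniteLimits_tilde Γ(X, V.1)
  haveI : IsNoetherianRing Γ(X, V.1) := IsLocallyNoetherian.component_noetherian V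
  let j := V.2.fromSpec
  haveI := DCat.hasRpush j
  obtain ⟨I, f, hI, hf, -, hinj⟩ := DCat.exists_kInj_res (DerivedCategory.Q.objPreimage M)
  haveI := hI
  haveI := hinj
  haveI : IsIso (DerivedCategory.Q.map f) := (DerivedCategory.isIso_Q_map_iff_quasiIso _ f).2 hf
  let eM : DerivedCategory.Q.obj I ≅ M :=
    (asIso (DerivedCategory.Q.map f)).symm ≪≫ DerivedCategory.Q.objObjPreimageIso M
  obtain ⟨e₀⟩ := nonempty_phi_pushCx j I
  let e := e₀ ≪≫ (DCoh.Rpush j).mapIso ((DCoh.tildeD _).mapIso eM)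
  refine ⟨DerivedCategory.Q.obj (pushCx j I), good_pushCx j I,
    fun K => (bijective_rd_of_iso j K _ e).1, (bijective_rd_of_iso j ((QP X).ι.mapDerivedCategory.obj (DerivedCategory.Q.obj (pushCx j I))) _ e).2, fun W K ⟨eK⟩ hK => ?_⟩
  haveI := PullPerf.preservesFiniteLimits_restrict W.ι
  exact (killed_push j W K _ eK hK).of_iso ((rd W.ι).mapIso e)

theorem good_of_list (l : List X.affineOpens) : ∀ B : DerivedCategory (QP X).FullSubcategory,
    (∀ x : X, (∀ V ∈ l, x ∉ V.1) → ∃ W : X.Opens, x ∈ W ∧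
      IsZero ((rd W.ι).obj ((QP X).ι.mapDerivedCategory.obj B))) → Good B := by
  let Φ := (QP X).ι.mapDerivedCategory
  induction l with
  | nil =>
    intro B hB A
    have hz : IsZero (Φ.obj B) := isZero_of_cover _ fun x => hB x fun V hV => (List.not_mem_nil hV).elim
    have hzB : IsZero B := SuppOpen.isZero_of_hd _ fun i => by
      have h1 : IsZero ((QP X).ι.obj ((DerivedCategory.homologyFunctor _ i).obj B)) :=
        ((DerivedCategory.homologyFunctor X.Modules i).map_isZero hz).of_iso (SuppOpen.hdMapIso (QP X).ι B i).symm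
      exact (IsZero.iff_id_eq_zero _).2 ((QP X).ι.map_injective (h1.eq_of_src _ _))
    exact ⟨fun f g _ => hzB.eq_of_tgt f g, fun d => ⟨0, hz.eq_of_tgt _ _⟩⟩
  | cons V l ih =>
    intro B hB
    let j := V.2.fromSpec
    haveI := PullPerf.preservesFiniteLimits_restrict j
    haveI := AffSchLib.preservesFiniteLimits_tilde Γ(X, V.1)
    obtain ⟨M, ⟨e⟩⟩ := ((tildeD_main Γ(X, V.1)).2.2 _).1 (isQCohD_rd j (isQCohD_phi B))
    obtain ⟨N, hN, hbij, ⟨eN⟩, hkill⟩ := exists_model V M
    obtain ⟨h, hh⟩ := (hbij (Φ.obj B)).2 (e.inv ≫ eN.inv)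
    obtain ⟨f, hf⟩ := (hN B).2 h
    obtain ⟨C, g, k, hT⟩ := distinguished_cocone_triangle f
    refine Good.fibre hT hN (ih C fun x hx => ?_)
    have hΦ := Φ.map_distinguished _ hT
    by_cases hxV : x ∈ V.1
    · refine ⟨V.1, hxV, isZero_rd_ι_of_fromSpec V.2 ?_⟩
      haveI : IsIso ((rd j).map (Φ.map f)) := by
        rw [show Φ.map f = h from hf, show (rd j).map h = _ from hh]
        infer_instance
      exact (Triangle.isZero₃_iff_isIso₁ _ ((rd j).map_distinguished _ hΦ)).2 ‹_›
    · obtain ⟨W, hxw, hW⟩ := hB x (fun V' hV' => by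
        rcases List.mem_cons.1 hV' with rfl | hV'
        · exact hxV
        · exact hx V' hV')
      haveI := PullPerf.preservesFiniteLimits_restrict W.ι
      exact ⟨W, hxw, Triangle.isZero₃_of_isZero₁₂ _ ((rd W.ι).map_distinguished _ hΦ) hW
        (hkill W (Φ.obj B) ⟨e⟩ hW)⟩

theorem exists_cover (X : Scheme.{u}) [CompactSpace X] :
    ∃ l : List X.affineOpens, ∀ x : X, ∃ V ∈ l, x ∈ V.1 := by
  classical
  obtain ⟨t, ht, hcov⟩ := isCompact_iff_finite_and_eq_biUnion_affineOpens.1
    (show IsCompact ((⊤ : X.Opens) : Set X) from isCompact_univ)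
  refine ⟨ht.toFinset.toList, fun x => ?_⟩
  have hxt : x ∈ ((⊤ : X.Opens) : Set X) := trivial
  rw [hcov] at hxt
  simp only [Opens.mem_iSup, SetLike.mem_coe] at hxt
  obtain ⟨V, hV, hxV⟩ := hxt
  exact ⟨V, by simpa using hV, hxV⟩

theorem good (B : DerivedCategory (QP X).FullSubcategory) : Good B := by
  obtain ⟨l, hl⟩ := exists_cover X
  refine good_of_list l B fun x hx => ?_
  obtain ⟨V, hV, hxV⟩ := hl x
  exact (hx V hV hxV).elim

/-- Full and faithful. -/
theorem full_faithful : (QP X).ι.mapDerivedCategory.Full ∧ (QP X).ι.mapDerivedCategory.Faithful :=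
  ⟨⟨fun {A B} => (good B A).2⟩, ⟨fun {A B} => @fun _ _ h => (good B A).1 h⟩⟩

theorem mem_image_of_list (l : List X.affineOpens) : ∀ K : DCoh.D X, DCoh.IsQCohD K →
    (∀ x : X, (∀ V ∈ l, x ∉ V.1) → ∃ W : X.Opens, x ∈ W ∧ IsZero ((rd W.ι).obj K)) →
    ∃ M, Nonempty ((QP X).ι.mapDerivedCategory.obj M ≅ K) := by
  let Φ := (QP X).ι.mapDerivedCategory
  obtain ⟨hfull, -⟩ := full_faithful (X := X)
  induction l with
  | nil =>
    intro K _ hK
    have hz : IsZero K := isZero_of_cover _ fun x => hK x fun V hV => (List.not_mem_nil hV).elim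
    obtain ⟨Z, hZ⟩ := HasZeroObject.zero (C := DerivedCategory (QP X).FullSubcategory)
    exact ⟨Z, ⟨(Φ.map_isZero ⟨hZ.1, hZ.2⟩).iso hz⟩⟩
  | cons V l ih =>
    intro K hKq hK
    let j := V.2.fromSpec
    haveI := PullPerf.preservesFiniteLimits_restrict j
    haveI := AffSchLib.preservesFiniteLimits_tilde Γ(X, V.1)
    obtain ⟨M, ⟨e⟩⟩ := ((tildeD_main Γ(X, V.1)).2.2 _).1 (isQCohD_rd j hKq)
    obtain ⟨N, hN, hbij, ⟨eN⟩, hkill⟩ := exists_model V M
    obtain ⟨h, hh⟩ := (hbij K).2 (e.inv ≫ eN.inv)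
    obtain ⟨C, g, k, hT⟩ := distinguished_cocone_triangle h
    obtain ⟨C', ⟨eC⟩⟩ := ih C (isQCohD_obj₃ hT hKq (isQCohD_phi _)) fun x hx => by
      by_cases hxV : x ∈ V.1
      · refine ⟨V.1, hxV, isZero_rd_ι_of_fromSpec V.2 ?_⟩
        haveI : IsIso ((rd j).map h) := by
          rw [show (rd j).map h = _ from hh]
          infer_instance
        exact (Triangle.isZero₃_iff_isIso₁ _ ((rd j).map_distinguished _ hT)).2 ‹_›
      · obtain ⟨W, hxw, hW⟩ := hK x (fun V' hV' => by
          rcases List.mem_cons.1 hV' with rfl | hV'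
          · exact hxV
          · exact hx V' hV')
        haveI := PullPerf.preservesFiniteLimits_restrict W.ι
        exact ⟨W, hxw, Triangle.isZero₃_of_isZero₁₂ _ ((rd W.ι).map_distinguished _ hT) hW
          (hkill W K ⟨e⟩ hW)⟩
    obtain ⟨g', hg'⟩ := Φ.map_surjective (g ≫ eC.inv)
    obtain ⟨Z, a, b, hZ⟩ := distinguished_cocone_triangle₁ g'
    exact ⟨Z, ⟨(shiftFunctor (DCoh.D X) (1 : ℤ)).preimageIso (Triangle.π₃.mapIso (isoTriangleOfIso₁₂ _ _
      (rot_of_distTriang _ (Φ.map_distinguished _ hZ)) (rot_of_distTriang _ hT) (Iso.refl _) eC (by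
      show Φ.map g' ≫ eC.hom = 𝟙 _ ≫ g
      rw [hg', Category.assoc, Iso.inv_hom_id, Category.comp_id, Category.id_comp])))⟩⟩

/-- The essential image. -/
theorem isQCohD_iff (K : DCoh.D X) :
    DCoh.IsQCohD K ↔ ∃ M, Nonempty ((QP X).ι.mapDerivedCategory.obj M ≅ K) := by
  refine ⟨fun hK => ?_, fun ⟨M, ⟨e⟩⟩ => isQCohD_of_iso e (isQCohD_phi M)⟩
  obtain ⟨l, hl⟩ := exists_cover X
  refine mem_image_of_list l K hK fun x hx => ?_
  obtain ⟨V, hV, hxV⟩ := hl x
  exact (hx V hV hxV).elim

end Groth.Agent.DQCoh.DQCohNoeth17
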