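import Groth.Agent.DQCoh.FlatQCohCover17
import Groth.Agent.Coherent.CohBC.SectionsCalculus
import Groth.Agent.Coherent.CohBC.Geom
import Groth.Agent.EulerLib.CohSub

/-!
# Complexes of quasi-coherent modules flat over the base
-/

set_option autoImplicit false
set_option backward.isDefEq.respectTransparency false
set_option linter.style.haveILetI false

universe u

open CategoryTheory CategoryTheory.Limits AlgebraicGeometry Opposite TopologicalSpace TensorProduct Function
open Groth.Agent.Coherent Groth.Agent.PicLib Groth.Agent.AmpleLib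
open Groth.Agent.Coherent.CohBC

namespace Groth.Agent.DQCoh.FlatAdm17

variable {X S : Scheme.{u}}

/-- An extension of modules flat over the base is flat over the base. -/
theorem flatOver_mid (f : X ⟶ S) {C : ShortComplex X.Modules} (hC : C.ShortExact)
    (h₁ : FlatMod.IsFlatOver f C.X₁) (h₃ : FlatMod.IsFlatOver f C.X₃) : FlatMod.IsFlatOver f C.X₂ := by
  intro x
  let R := S.presheaf.stalk (f.base x)
  let O := X.presheaf.stalk x
  let _ : Algebra R O := (f.stalkMap x).hom.toAlgebra
  let St := DerSch.stalkFunctor X x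
  let _ : Module R (St.obj C.X₁) := FlatMod.moduleStalkOver f C.X₁ x
  let _ : Module R (St.obj C.X₂) := FlatMod.moduleStalkOver f C.X₂ x
  let _ : Module R (St.obj C.X₃) := FlatMod.moduleStalkOver f C.X₃ x
  have : IsScalarTower R O (St.obj C.X₁) := IsScalarTower.of_compHom _ _ _
  have : IsScalarTower R O (St.obj C.X₂) := IsScalarTower.of_compHom _ _ _
  have : IsScalarTower R O (St.obj C.X₃) := IsScalarTower.of_compHom _ _ _
  have hx := hC.map_of_exact St
  have : Module.Flat R (St.obj C.X₁) := h₁ x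
  have : Module.Flat R (St.obj C.X₃) := h₃ x
  have h1 : Injective (St.map C.f).hom := (ModuleCat.mono_iff_injective _).1 hx.mono_f
  have h2 : Surjective (St.map C.g).hom := (ModuleCat.epi_iff_surjective _).1 hx.epi_g
  have h3 : Function.Exact (St.map C.f).hom (St.map C.g).hom :=
    (ShortComplex.ShortExact.moduleCat_exact_iff_function_exact _).1 hx.exact
  let a : St.obj C.X₁ →ₗ[R] St.obj C.X₂ := (St.map C.f).hom.restrictScalars R
  let b : St.obj C.X₂ →ₗ[R] St.obj C.X₃ := (St.map C.g).hom.restrictScalars R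
  exact (FlatCxLib.flat_of_exact_mid a b h3 h2 h1 : Module.Flat R (St.obj C.X₂))

/-- A submodule with quotient flat over the base of a module flat over the base is flat over the base. -/
theorem flatOver_left (f : X ⟶ S) {C : ShortComplex X.Modules} (hC : C.ShortExact)
    (h₂ : FlatMod.IsFlatOver f C.X₂) (h₃ : FlatMod.IsFlatOver f C.X₃) : FlatMod.IsFlatOver f C.X₁ := by
  intro x
  let R := S.presheaf.stalk (f.base x)
  let O := X.presheaf.stalk x
  let _ : Algebra R O := (f.stalkMap x).hom.toAlgebra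
  let St := DerSch.stalkFunctor X x
  let _ : Module R (St.obj C.X₁) := FlatMod.moduleStalkOver f C.X₁ x
  let _ : Module R (St.obj C.X₂) := FlatMod.moduleStalkOver f C.X₂ x
  let _ : Module R (St.obj C.X₃) := FlatMod.moduleStalkOver f C.X₃ x
  have : IsScalarTower R O (St.obj C.X₁) := IsScalarTower.of_compHom _ _ _
  have : IsScalarTower R O (St.obj C.X₂) := IsScalarTower.of_compHom _ _ _
  have : IsScalarTower R O (St.obj C.X₃) := IsScalarTower.of_compHom _ _ _
  have hx := hC.map_of_exact St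
  have : Module.Flat R (St.obj C.X₂) := h₂ x
  have : Module.Flat R (St.obj C.X₃) := h₃ x
  have h1 : Injective (St.map C.f).hom := (ModuleCat.mono_iff_injective _).1 hx.mono_f
  have h2 : Surjective (St.map C.g).hom := (ModuleCat.epi_iff_surjective _).1 hx.epi_g
  have h3 : Function.Exact (St.map C.f).hom (St.map C.g).hom :=
    (ShortComplex.ShortExact.moduleCat_exact_iff_function_exact _).1 hx.exact
  let a : St.obj C.X₁ →ₗ[R] St.obj C.X₂ := (St.map C.f).hom.restrictScalars R
  let b : St.obj C.X₂ →ₗ[R] St.obj C.X₃ := (St.map C.g).hom.restrictScalars R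
  exact (FlatCxLib.flat_of_exact_left a b h3 h2 h1 : Module.Flat R (St.obj C.X₁))

theorem flatOver_of_iso (f : X ⟶ S) {M N : X.Modules} (e : M ≅ N) (h : FlatMod.IsFlatOver f M) :
    FlatMod.IsFlatOver f N := fun x => EGA43.DvrCrit.isFlatOverAt_of_iso f e x (h x)

theorem flatOver_of_isZero (f : X ⟶ S) {M : X.Modules} (h : IsZero M) : FlatMod.IsFlatOver f M := fun x => by
  haveI : Subsingleton ((DerSch.stalkFunctor X x).obj M) :=
    ModuleCat.subsingleton_of_isZero ((DerSch.stalkFunctor X x).map_isZero h)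
  let _ := FlatMod.moduleStalkOver f M x
  haveI : Subsingleton (M.presheaf.stalk x) := ‹Subsingleton ((DerSch.stalkFunctor X x).obj M)›
  exact (inferInstance : Module.Flat (S.presheaf.stalk (f.base x)) (M.presheaf.stalk x))

theorem flatOver_biprod (f : X ⟶ S) {M N : X.Modules} (hM : FlatMod.IsFlatOver f M)
    (hN : FlatMod.IsFlatOver f N) : FlatMod.IsFlatOver f (M ⊞ N) :=
  flatOver_mid f (C := ShortComplex.mk (biprod.inl : M ⟶ M ⊞ N) biprod.snd biprod.inl_snd)
    (ShortComplex.Splitting.ofHasBinaryBiproduct M N).shortExact hM hN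

theorem toCycles_iCycles_zero (K : CochainComplex X.Modules ℤ) (n m : ℤ) :
    K.iCycles n ≫ K.toCycles n m = 0 := by
  rw [← cancel_mono (K.iCycles m), Category.assoc, K.toCycles_i, K.iCycles_d, zero_comp]

/-- The short exact sequences of an exact complex. -/
theorem cycles_ses (K : CochainComplex X.Modules ℤ) (hK : ∀ n, K.ExactAt n) (n m : ℤ) (h : n + 1 = m) :
    (ShortComplex.mk (K.iCycles n) (K.toCycles n m) (toCycles_iCycles_zero K n m)).ShortExact := by
  haveI : Epi (K.toCycles n m) := Preadditive.epi_of_cancel_zero _ fun {W} g hg => by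
    have hc := K.homologyIsCokernel n m (by simp; omega)
    obtain ⟨l, hl⟩ := CokernelCofork.IsColimit.desc' hc g hg
    have h0 : K.homologyπ m = 0 :=
      ((HomologicalComplex.exactAt_iff_isZero_homology K m).1 (hK m)).eq_of_tgt _ _
    rw [← hl]
    show K.homologyπ m ≫ l = 0
    rw [h0, zero_comp]
  refine { exact := ShortComplex.exact_of_f_is_kernel _ ?_ }
  exact KernelFork.IsLimit.ofι' _ _ fun {W} k hk => ⟨K.liftCycles k m (by simp; omega) (by
    rw [← K.toCycles_i n m, reassoc_of% hk, zero_comp]), by simp⟩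

/-- A bounded above exact complex has cycles flat over the base and quasi-coherent. -/
theorem cycles_good (f : X ⟶ S) (K : CochainComplex X.Modules ℤ) (b : ℤ) (hb : ∀ n, b < n → IsZero (K.X n))
    (hq : ∀ n, Coh.IsQCoh (K.X n)) (hfl : ∀ n, FlatMod.IsFlatOver f (K.X n)) (hK : ∀ n, K.ExactAt n)
    (n : ℤ) : Coh.IsQCoh (K.cycles n) ∧ FlatMod.IsFlatOver f (K.cycles n) := by
  refine ⟨?_, ?_⟩
  · haveI := hq n
    haveI := hq (n + 1)
    exact isQCoh_of_iso ((kernelIsKernel (K.d n (n + 1))).conePointUniqueUpToIso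
      (K.cyclesIsKernel n (n + 1) (by simp))) (h := isQCoh_kernel _)
  · suffices H : ∀ (k : ℕ) (n : ℤ), b < n + k → FlatMod.IsFlatOver f (K.cycles n) from
      H (b - n + 1).toNat n (by omega)
    intro k
    induction k with
    | zero =>
      intro n hn
      exact flatOver_of_isZero f (IsZero.of_mono (K.iCycles n) (hb n (by simpa using hn)))
    | succ k ih =>
      intro n hn
      exact flatOver_left f (cycles_ses K hK n (n + 1) rfl) (hfl n) (ih (n + 1) (by push_cast at hn; omega))

variable {A B : Type u} [CommRing A] [CommRing B] (φ : A →+* B) {Z Z' : Scheme.{u}}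
  [Z.Over (Spec (CommRingCat.of A))] [Z'.Over (Spec (CommRingCat.of B))] (g : Z' ⟶ Z)
  (h : IsPullback g (Z' ↘ Spec (CommRingCat.of B)) (Z ↘ Spec (CommRingCat.of A))
    (Spec.map (CommRingCat.ofHom φ)))

include h in
/-- Base change is exact on short exact sequences with quotient flat over the base. -/
theorem shortExact_pullback (C : ShortComplex Z.Modules) (hC : C.ShortExact) [Coh.IsQCoh C.X₁]
    [Coh.IsQCoh C.X₂] [Coh.IsQCoh C.X₃] (h₃ : FlatMod.IsFlatOver (Z ↘ Spec (CommRingCat.of A)) C.X₃) :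
    (C.map (Scheme.Modules.pullback g)).ShortExact := by
  letI := φ.toAlgebra
  obtain ⟨hex, hepi⟩ := CohBC.pullback_exact_of_shortExact g C hC
  haveI := hepi
  haveI : IsAffineHom g := MorphismProperty.IsStableUnderBaseChange.of_isPullback
    (P := @IsAffineHom) h.flip inferInstance
  let P := Scheme.Modules.pullback g
  haveI : Coh.IsQCoh (P.obj C.X₁) := EGA43.InjFibre.isQCoh_pullback g _
  haveI : Coh.IsQCoh (P.obj C.X₂) := EGA43.InjFibre.isQCoh_pullback g _
  have hinj : ∀ U : Z.Opens, IsAffineOpen U → Injective ((P.map C.f).app (g ⁻¹ᵁ U)) := fun U hU => by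
    haveI : Module.Flat A Γ(C.X₃, U) := CohBC.flat_sectionsA C.X₃ h₃ hU
    let i : Γ(C.X₁, U) →ₗ[A] Γ(C.X₂, U) :=
      ⟨⟨fun m => C.f.app U m, map_add _⟩, fun a m => app_smulA C.f U a m⟩
    let p : Γ(C.X₂, U) →ₗ[A] Γ(C.X₃, U) :=
      ⟨⟨fun m => C.g.app U m, map_add _⟩, fun a m => app_smulA C.g U a m⟩
    have hex : Function.Exact i p := fun s =>
      ⟨fun hs => sections_exact hC s hs, fun ⟨t, ht⟩ => ht ▸ sections_zero U t⟩
    have hi := LinearMap.lTensor_injective_of_exact_of_flat p (sections_surjective hC hU) i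
      (sections_injective hC U) hex B
    have e : ∀ z, (P.map C.f).app (g ⁻¹ᵁ U) (CohBC.secBC φ g h C.X₁ U z) =
        CohBC.secBC φ g h C.X₂ U (i.lTensor B z) := fun z => by
      induction z using TensorProduct.induction_on with
      | zero => simp only [map_zero]
      | add u v hu hv => simp only [map_add, hu, hv]
      | tmul b m =>
        refine (congrArg ((P.map C.f).app (g ⁻¹ᵁ U)) (CohBC.secBC_tmul φ g h C.X₁ U b m)).trans ?_
        refine (app_smulA (P.map C.f) _ b (pullSec g m)).trans ?_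
        exact congrArg (b • ·) (H8Lim.map_app_pullSec g C.f m)
    intro a a' haa'
    obtain ⟨z, rfl⟩ := (CohBC.bijective_secBC φ g h C.X₁ hU).2 a
    obtain ⟨z', rfl⟩ := (CohBC.bijective_secBC φ g h C.X₁ hU).2 a'
    rw [e, e] at haa'
    rw [hi ((CohBC.bijective_secBC φ g h C.X₂ hU).1 haa')]
  haveI : Coh.IsQCoh (kernel (P.map C.f)) := isQCoh_kernel _
  haveI hm : Mono (P.map C.f) := by
    refine Preadditive.mono_of_isZero_kernel _ (EulerLib.isZero_of_sections_cover inferInstance
      (fun U : Z.affineOpens => g ⁻¹ᵁ U.1) (fun U => U.2.preimage g) (fun x => ?_) fun U => ?_)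
    · obtain ⟨W, hW, hxW, -⟩ := exists_isAffineOpen_mem_and_subset (x := g x) (U := (⊤ : Z.Opens)) trivial
      exact ⟨⟨W, hW⟩, hxW⟩
    · haveI hm₀ : Mono ((Scheme.Modules.toPresheaf Z').map (kernel.ι (P.map C.f))) := inferInstance
      have hm₁ : Mono (((Scheme.Modules.toPresheaf Z').map (kernel.ι (P.map C.f))).app (op (g ⁻¹ᵁ U.1))) :=
        inferInstance
      have hz : ∀ a, (P.map C.f).app (g ⁻¹ᵁ U.1) ((kernel.ι (P.map C.f)).app (g ⁻¹ᵁ U.1) a) = 0 := fun a =>
        ConcreteCategory.congr_hom (congrArg (fun ψ => Scheme.Modules.Hom.app ψ (g ⁻¹ᵁ U.1))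
          (kernel.condition (P.map C.f))) a
      exact ⟨fun a a' => (AddCommGrpCat.mono_iff_injective _).1 hm₁ (hinj U.1 U.2 ((hz a).trans (hz a').symm))⟩
  exact { exact := hex, mono_f := hm }

include h in
/-- Base change preserves acyclicity of bounded above complexes of modules flat over the base. -/
theorem exactAt_pullback (K : CochainComplex Z.Modules ℤ) (b : ℤ) (hb : ∀ n, b < n → IsZero (K.X n))
    (hq : ∀ n, Coh.IsQCoh (K.X n)) (hfl : ∀ n, FlatMod.IsFlatOver (Z ↘ Spec (CommRingCat.of A)) (K.X n))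
    (hK : ∀ n, K.ExactAt n) (n : ℤ) :
    (((Scheme.Modules.pullback g).mapHomologicalComplex (ComplexShape.up ℤ)).obj K).ExactAt n := by
  let P := Scheme.Modules.pullback g
  have hs : ∀ n m : ℤ, n + 1 = m → ∃ hw,
      (ShortComplex.mk (P.map (K.iCycles n)) (P.map (K.toCycles n m)) hw).ShortExact := fun n m hnm => by
    haveI := (cycles_good (Z ↘ Spec (CommRingCat.of A)) K b hb hq hfl hK n).1
    obtain ⟨hqm, hflm⟩ := cycles_good (Z ↘ Spec (CommRingCat.of A)) K b hb hq hfl hK m
    haveI := hqm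
    haveI := hq n
    exact ⟨_, shortExact_pullback φ g h _ (cycles_ses K hK n m hnm) hflm⟩
  obtain ⟨_, h₀⟩ := hs (n - 1) n (by omega)
  obtain ⟨w₁, h₁⟩ := hs n (n + 1) rfl
  obtain ⟨_, h₂⟩ := hs (n + 1) (n + 2) (by omega)
  rw [HomologicalComplex.exactAt_iff' _ (n - 1) n (n + 1) (by simp) (by simp)]
  let S₁ := ShortComplex.mk (P.map (K.d (n - 1) n)) (P.map (K.toCycles n (n + 1))) (by
    rw [← P.map_comp, ← K.toCycles_i (n - 1) n, Category.assoc, toCycles_iCycles_zero, comp_zero, P.map_zero])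
  let α : S₁ ⟶ ShortComplex.mk (P.map (K.iCycles n)) (P.map (K.toCycles n (n + 1))) w₁ :=
    { τ₁ := P.map (K.toCycles (n - 1) n)
      τ₂ := 𝟙 _
      τ₃ := 𝟙 _
      comm₁₂ := by rw [Category.comp_id, ← P.map_comp, K.toCycles_i] }
  haveI : Epi α.τ₁ := h₀.epi_g
  have h1 : S₁.Exact := (ShortComplex.exact_iff_of_epi_of_isIso_of_mono α).2 h₁.exact
  let β : S₁ ⟶ ((P.mapHomologicalComplex (ComplexShape.up ℤ)).obj K).sc' (n - 1) n (n + 1) :=
    { τ₁ := 𝟙 _
      τ₂ := 𝟙 _
      τ₃ := P.map (K.iCycles (n + 1))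
      comm₁₂ := (Category.id_comp _).trans (Category.comp_id _).symm
      comm₂₃ := by
        show 𝟙 _ ≫ P.map (K.d n (n + 1)) = P.map (K.toCycles n (n + 1)) ≫ P.map (K.iCycles (n + 1))
        rw [Category.id_comp, ← P.map_comp, K.toCycles_i] }
  haveI : Mono β.τ₃ := h₂.mono_f
  exact (ShortComplex.exact_iff_of_epi_of_isIso_of_mono β).1 h1

end Groth.Agent.DQCoh.FlatAdm17
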