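import Groth.Agent.DQCoh.BCPush17
import Groth.Agent.DCat.CohDimShift

/-!
# Čech resolutions of bounded above complexes flat over an affine base
-/

set_option autoImplicit false
set_option backward.isDefEq.respectTransparency false
set_option linter.style.haveILetI false
set_option linter.unusedSectionVars false

universe u

open CategoryTheory CategoryTheory.Limits AlgebraicGeometry Opposite TopologicalSpace CochainComplex
open CategoryTheory.Pretriangulated DerivedCategory CochainComplex.HomComplex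
open Groth.Agent.Coherent
open scoped ZeroObject

attribute [local instance] HasDerivedCategory.standard
attribute [-instance] Int.instConditionallyCompleteLinearOrder

namespace Groth.Agent.DQCoh.CechFlat17

variable {Z : Scheme.{u}}

/-- Sections of the complex are exact on the affine opens inside `V`. -/
def ExOn (K : CochainComplex Z.Modules ℤ) (V : Z.Opens) : Prop :=
  ∀ W : Z.Opens, IsAffineOpen W → W ≤ V → ∀ (i n k : ℤ), i + 1 = n → n + 1 = k →
    ∀ a : Γ(K.X n, W), (K.d n k).app W a = 0 → ∃ b : Γ(K.X i, W), (K.d i n).app W b = a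

theorem app_injective_of_mono {M N : Z.Modules} (φ : M ⟶ N) [Mono φ] (W : Z.Opens) :
    Function.Injective (φ.app W) := by
  haveI hm₀ : Mono ((Scheme.Modules.toPresheaf Z).map φ) := inferInstance
  have hm₁ : Mono (((Scheme.Modules.toPresheaf Z).map φ).app (op W)) := inferInstance
  exact (AddCommGrpCat.mono_iff_injective _).1 hm₁

/-- A complex exact on sections over a cover is exact. -/
theorem exactAt_of_exOn (K : CochainComplex Z.Modules ℤ) (h : ∀ x : Z, ∃ V : Z.Opens, x ∈ V ∧ ExOn K V) (n : ℤ) :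
    K.ExactAt n := by
  haveI : Epi (K.toCycles (n - 1) n) := Coherent.epi_of_locally_surjective _ fun U a y hy => by
    obtain ⟨V, hyV, hV⟩ := h y
    obtain ⟨W, hW, hyW, hle⟩ := exists_isAffineOpen_mem_and_subset (x := y) (U := U ⊓ V) ⟨hy, hyV⟩
    let a' := resM (K.cycles n) (hle.trans inf_le_left) a
    obtain ⟨b, hb⟩ := hV W hW (hle.trans inf_le_right) (n - 1) n (n + 1) (by omega) rfl ((K.iCycles n).app W a')
      (by
        have := ConcreteCategory.congr_hom (congrArg (fun ψ => Scheme.Modules.Hom.app ψ W) (K.iCycles_d n (n + 1))) a'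
        exact this)
    refine ⟨W, hle.trans inf_le_left, hyW, b, app_injective_of_mono (K.iCycles n) W ?_⟩
    exact (ConcreteCategory.congr_hom (congrArg (fun ψ => Scheme.Modules.Hom.app ψ W) (K.toCycles_i (n - 1) n)) b).trans hb
  rw [HomologicalComplex.exactAt_iff_isZero_homology]
  refine IsZero.of_epi_eq_zero (K.homologyπ n) ?_
  rw [← cancel_epi (K.toCycles (n - 1) n), HomologicalComplex.toCycles_comp_homologyπ, comp_zero]

section Cone

open HomComplex

variable {K L : CochainComplex Z.Modules ℤ} (η : K ⟶ L)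

theorem cone_parts (W : Z.Opens) (n k : ℤ) (hk : n + 1 = k) (a : Γ((mappingCone η).X n, W))
    (ha : ((mappingCone η).d n k).app W a = 0) :
    (K.d k (k + 1)).app W (((mappingCone.fst η).1.v n k hk).app W a) = 0 ∧
      (η.f k).app W (((mappingCone.fst η).1.v n k hk).app W a) +
        (L.d n k).app W (((mappingCone.snd η).v n n (add_zero n)).app W a) = 0 := by
  have h1 := ConcreteCategory.congr_hom (congrArg (fun ψ => Scheme.Modules.Hom.app ψ W)
    (mappingCone.d_fst_v η n k (k + 1) hk rfl)) a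
  have h2 := ConcreteCategory.congr_hom (congrArg (fun ψ => Scheme.Modules.Hom.app ψ W)
    (mappingCone.d_snd_v η n k hk)) a
  simp only [Scheme.Modules.Hom.comp_app, Scheme.Modules.Hom.add_app, AddCommGrpCat.hom_add, ConcreteCategory.comp_apply,
    ha, map_zero] at h1 h2
  exact ⟨neg_eq_zero.1 h1.symm, h2.symm⟩

theorem cone_ext (W : Z.Opens) (n k : ℤ) (hk : n + 1 = k) (a b : Γ((mappingCone η).X n, W))
    (h₁ : ((mappingCone.fst η).1.v n k hk).app W a = ((mappingCone.fst η).1.v n k hk).app W b)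
    (h₂ : ((mappingCone.snd η).v n n (add_zero n)).app W a = ((mappingCone.snd η).v n n (add_zero n)).app W b) :
    a = b := by
  have h := congrArg (fun ψ => Scheme.Modules.Hom.app ψ W) (mappingCone.id_X η n k hk)
  have ha := ConcreteCategory.congr_hom h a
  have hb := ConcreteCategory.congr_hom h b
  simp only [Scheme.Modules.Hom.comp_app, Scheme.Modules.Hom.add_app, AddCommGrpCat.hom_add, ConcreteCategory.comp_apply,
    Scheme.Modules.Hom.id_app, ConcreteCategory.id_apply] at ha hb
  rw [← ha, ← hb]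
  simp [h₁, h₂]

/-- Building a preimage in the cone. -/
theorem cone_lift (W : Z.Opens) (i n k : ℤ) (hi : i + 1 = n) (hk : n + 1 = k) (a : Γ((mappingCone η).X n, W))
    (y : Γ(K.X n, W)) (x : Γ(L.X i, W))
    (h₁ : -(K.d n k).app W y = ((mappingCone.fst η).1.v n k hk).app W a)
    (h₂ : (η.f n).app W y + (L.d i n).app W x = ((mappingCone.snd η).v n n (add_zero n)).app W a) :
    ∃ b : Γ((mappingCone η).X i, W), ((mappingCone η).d i n).app W b = a := by
  refine ⟨((mappingCone.inl η).v n i (by omega)).app W y + ((mappingCone.inr η).f i).app W x, cone_ext η W n k hk _ _ ?_ ?_⟩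
  · have e₁ : (mappingCone.inl η).v n i (by omega) ≫ (mappingCone η).d i n ≫ (mappingCone.fst η).1.v n k hk = -K.d n k := by
      rw [mappingCone.d_fst_v η i n k hi hk]; simp
    have e₂ : (mappingCone.inr η).f i ≫ (mappingCone η).d i n ≫ (mappingCone.fst η).1.v n k hk = 0 := by
      rw [mappingCone.d_fst_v η i n k hi hk]; simp
    have f₁ := ConcreteCategory.congr_hom (congrArg (fun ψ => Scheme.Modules.Hom.app ψ W) e₁) y
    have f₂ := ConcreteCategory.congr_hom (congrArg (fun ψ => Scheme.Modules.Hom.app ψ W) e₂) x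
    simp only [Scheme.Modules.Hom.comp_app, ConcreteCategory.comp_apply] at f₁ f₂
    rw [map_add, map_add, f₁, f₂, ← h₁]
    simp
    rfl
  · have e₁ : (mappingCone.inl η).v n i (by omega) ≫ (mappingCone η).d i n ≫ (mappingCone.snd η).v n n (add_zero n) = η.f n := by
      rw [mappingCone.d_snd_v η i n hi]; simp
    have e₂ : (mappingCone.inr η).f i ≫ (mappingCone η).d i n ≫ (mappingCone.snd η).v n n (add_zero n) = L.d i n := by
      rw [mappingCone.d_snd_v η i n hi]; simp
    have f₁ := ConcreteCategory.congr_hom (congrArg (fun ψ => Scheme.Modules.Hom.app ψ W) e₁) y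
    have f₂ := ConcreteCategory.congr_hom (congrArg (fun ψ => Scheme.Modules.Hom.app ψ W) e₂) x
    simp only [Scheme.Modules.Hom.comp_app, ConcreteCategory.comp_apply] at f₁ f₂
    rw [map_add, map_add, f₁, f₂, h₂]

/-- The cone is exact where both terms are. -/
theorem exOn_cone (V : Z.Opens) (hK : ExOn K V) (hL : ExOn L V) : ExOn (mappingCone η) V := by
  intro W hW hWV i n k hi hk a ha
  obtain ⟨h1, h2⟩ := cone_parts η W n k hk a ha
  obtain ⟨c, hc⟩ := hK W hW hWV n k (k + 1) hk rfl _ h1
  have hcomm : ∀ (p q : ℤ) (y : Γ(K.X p, W)), (L.d p q).app W ((η.f p).app W y) = (η.f q).app W ((K.d p q).app W y) :=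
    fun p q y => ConcreteCategory.congr_hom (congrArg (fun ψ => Scheme.Modules.Hom.app ψ W) (η.comm p q)) y
  obtain ⟨x, hx⟩ := hL W hW hWV i n k hi hk
    ((η.f n).app W c + ((mappingCone.snd η).v n n (add_zero n)).app W a) (by rw [map_add, hcomm, hc, h2])
  refine cone_lift η W i n k hi hk a (-c) x ?_ ?_
  · rw [map_neg, neg_neg, hc]
  · rw [map_neg, hx]; abel

/-- The cone is exact where the map is bijective. -/
theorem exOn_cone_of_bijective (V : Z.Opens)
    (h : ∀ W : Z.Opens, IsAffineOpen W → W ≤ V → ∀ n, Function.Bijective ((η.f n).app W)) :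
    ExOn (mappingCone η) V := by
  intro W hW hWV i n k hi hk a ha
  obtain ⟨h1, h2⟩ := cone_parts η W n k hk a ha
  obtain ⟨y, hy⟩ := (h W hW hWV n).2 (((mappingCone.snd η).v n n (add_zero n)).app W a)
  have hcomm : (L.d n k).app W ((η.f n).app W y) = (η.f k).app W ((K.d n k).app W y) :=
    ConcreteCategory.congr_hom (congrArg (fun ψ => Scheme.Modules.Hom.app ψ W) (η.comm n k)) y
  refine cone_lift η W i n k hi hk a y 0 ?_ ?_
  · apply (h W hW hWV k).1
    rw [map_neg, ← hcomm, hy, eq_neg_of_add_eq_zero_left h2]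
  · rw [map_zero, add_zero, hy]

end Cone

variable {A B : Type u} [CommRing A] [CommRing B] (φ : A →+* B) {Z' : Scheme.{u}}
  [Z.Over (Spec (CommRingCat.of A))] [Z'.Over (Spec (CommRingCat.of B))] (g : Z' ⟶ Z)
  (h : IsPullback g (Z' ↘ Spec (CommRingCat.of B)) (Z ↘ Spec (CommRingCat.of A))
    (Spec.map (CommRingCat.ofHom φ)))
  [IsSeparated (Z ↘ Spec (CommRingCat.of A))] [HasInjectiveResolutions Z.Modules] [HasInjectiveResolutions Z'.Modules]

/-- The unit of restriction to an open, on complexes. -/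
noncomputable def etaC (U : Z.Opens) (K : CochainComplex Z.Modules ℤ) :
    K ⟶ ((Scheme.Modules.restrictFunctor U.ι ⋙ Scheme.Modules.pushforward U.ι).mapHomologicalComplex
      (ComplexShape.up ℤ)).obj K where
  f n := (Scheme.Modules.restrictAdjunction U.ι).unit.app (K.X n)
  comm' i j _ := ((Scheme.Modules.restrictAdjunction U.ι).unit.naturality (K.d i j)).symm

theorem bijective_etaC (U : Z.Opens) (K : CochainComplex Z.Modules ℤ) (W : Z.Opens) (hW : W ≤ U) (n : ℤ) :
    Function.Bijective (((etaC U K).f n).app W) := by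
  show Function.Bijective (((Scheme.Modules.restrictAdjunction U.ι).unit.app (K.X n)).app W)
  rw [Scheme.Modules.restrictAdjunction_unit_app_app]
  refine resM_bijective_of_eq (K.X n) _ ?_
  rw [Scheme.Hom.image_preimage_eq_opensRange_inf, Scheme.Opens.opensRange_ι, inf_eq_right.2 hW]

/-- The step of the recursion. -/
structure Res (F : CochainComplex Z.Modules ℤ) (l : List Z.affineOpens) where
  K : CochainComplex Z.Modules ℤ
  T : CochainComplex Z.Modules ℤ
  m : ℤ
  eT : T ≅ F⟦m⟧
  bd : ℤ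
  p : K ⟶ T
  isZero : ∀ n, bd < n → IsZero (K.X n)
  qcoh : ∀ n, Coh.IsQCoh (K.X n)
  flat : ∀ n, FlatMod.IsFlatOver (Z ↘ Spec (CommRingCat.of A)) (K.X n)
  C : ℤ → Z.Modules
  e : ∀ n, K.X n ≅ C n ⊞ T.X n
  he : ∀ n, (e n).hom ≫ biprod.snd = p.f n
  good : ∀ n, BCPush17.Good (Z ↘ Spec (CommRingCat.of A)) (Spec.map (CommRingCat.ofHom φ))
    (Z' ↘ Spec (CommRingCat.of B)) g h (C n)
  ex : ∀ V ∈ l, ExOn K V.1

theorem isAffineHom_ι (U : Z.affineOpens) :
    IsAffineHom U.1.ι ∧ IsAffineHom (U.1.ι ≫ (Z ↘ Spec (CommRingCat.of A))) := by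
  haveI : IsAffine (U.1 : Scheme.{u}) := U.2
  haveI h₂ : IsAffineHom (U.1.ι ≫ (Z ↘ Spec (CommRingCat.of A))) := isAffineHom_of_isAffine _
  haveI : MorphismProperty.HasOfPostcompProperty @IsAffineHom (MorphismProperty.diagonal @IsAffineHom) :=
    MorphismProperty.hasOfPostcompProperty_iff_le_diagonal.2 le_rfl
  have hd : MorphismProperty.diagonal @IsAffineHom (Z ↘ Spec (CommRingCat.of A)) :=
    (inferInstance : IsAffineHom (pullback.diagonal (Z ↘ Spec (CommRingCat.of A))))
  exact ⟨MorphismProperty.of_postcomp (W := @IsAffineHom) (W' := MorphismProperty.diagonal @IsAffineHom)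
    U.1.ι (Z ↘ Spec (CommRingCat.of A)) hd h₂, h₂⟩

variable {φ g h}

theorem exists_res (F : CochainComplex Z.Modules ℤ) (b : ℤ) (hb : ∀ n, b < n → IsZero (F.X n))
    (hq : ∀ n, Coh.IsQCoh (F.X n)) (hfl : ∀ n, FlatMod.IsFlatOver (Z ↘ Spec (CommRingCat.of A)) (F.X n))
    (l : List Z.affineOpens) : Nonempty (Res φ g h F l) := by
  induction l with
  | nil =>
    exact ⟨{ K := F, T := F, m := 0, eT := ((shiftFunctorZero _ ℤ).app F).symm, bd := b, p := 𝟙 F, isZero := hb,
             qcoh := hq, flat := hfl, C := fun _ => (0 : Z.Modules),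
             e := fun n => { hom := biprod.inr, inv := biprod.snd,
                             hom_inv_id := biprod.inr_snd,
                             inv_hom_id := by
                               refine biprod.hom_ext' _ _ ((isZero_zero Z.Modules).eq_of_src _ _) ?_
                               simp }
             he := fun n => by simp
             good := fun n => BCPush17.Good.zero h (isZero_zero _)
             ex := fun V hV => (List.not_mem_nil hV).elim }⟩
  | cons U l ih =>
    obtain ⟨R⟩ := ih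
    obtain ⟨_, _⟩ := isAffineHom_ι (A := A) U
    let η := etaC U.1 R.K
    let L := ((Scheme.Modules.restrictFunctor U.1.ι ⋙ Scheme.Modules.pushforward U.1.ι).mapHomologicalComplex
      (ComplexShape.up ℤ)).obj R.K
    haveI : ∀ n, Coh.IsQCoh ((Scheme.Modules.restrictFunctor U.1.ι).obj (R.K.X n)) := fun n =>
      haveI := R.qcoh n
      Scheme.Modules.isQuasicoherent_restrictFunctor U.1.ι (R.K.X n)
    have hLgood : ∀ n, BCPush17.Good (Z ↘ Spec (CommRingCat.of A)) (Spec.map (CommRingCat.ofHom φ))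
        (Z' ↘ Spec (CommRingCat.of B)) g h (L.X n) := fun n => by
      refine BCPush17.Good.push h U.1.ι ((Scheme.Modules.restrictFunctor U.1.ι).obj (R.K.X n)) fun x => ?_
      refine EGA43.DvrCrit.isFlatOverAt_of_iso _ ((Scheme.Modules.restrictFunctorIsoPullback U.1.ι).app (R.K.X n)).symm x ?_
      exact (Props12.isFlatOverAt_pullback_iff U.1.ι (Z ↘ Spec (CommRingCat.of A)) (R.K.X n) x
        (RingHom.Flat.of_bijective (ConcreteCategory.bijective_of_isIso (U.1.ι.stalkMap x)))).1 (R.flat n (U.1.ι x))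
    let a := fun n : ℤ => (mappingCone.fst η).1.v n (n + 1) rfl
    let b' := fun n : ℤ => (mappingCone.snd η).v n n (add_zero n)
    let i₁ := fun n : ℤ => (mappingCone.inl η).v (n + 1) n (by omega)
    let e : ∀ n : ℤ, (mappingCone η).X n ≅ (R.C (n + 1) ⊞ L.X n) ⊞ R.T.X (n + 1) := fun n =>
      { hom := biprod.lift (biprod.lift (-(a n ≫ (R.e (n + 1)).hom ≫ biprod.fst)) (b' n))
          (-(a n ≫ (R.e (n + 1)).hom ≫ biprod.snd))
        inv := biprod.desc (biprod.desc (-(biprod.inl ≫ (R.e (n + 1)).inv ≫ i₁ n)) ((mappingCone.inr η).f n))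
          (-(biprod.inr ≫ (R.e (n + 1)).inv ≫ i₁ n))
        hom_inv_id := by
          simp only [biprod.lift_desc, Preadditive.neg_comp, Preadditive.comp_neg, neg_neg, Category.assoc]
          rw [← mappingCone.id_X η n (n + 1) rfl]
          show a n ≫ (R.e (n + 1)).hom ≫ biprod.fst ≫ biprod.inl ≫ (R.e (n + 1)).inv ≫ i₁ n +
              b' n ≫ (mappingCone.inr η).f n +
              a n ≫ (R.e (n + 1)).hom ≫ biprod.snd ≫ biprod.inr ≫ (R.e (n + 1)).inv ≫ i₁ n =
            a n ≫ i₁ n + b' n ≫ (mappingCone.inr η).f n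
          rw [add_right_comm, ← Preadditive.comp_add, ← Preadditive.comp_add, ← Category.assoc biprod.fst,
            ← Category.assoc biprod.snd, ← Preadditive.add_comp, biprod.total, Category.id_comp, Iso.hom_inv_id_assoc]
        inv_hom_id := by
          refine biprod.hom_ext' _ _ (biprod.hom_ext' _ _ ?_ ?_) ?_ <;>
            refine biprod.hom_ext _ _ (biprod.hom_ext _ _ ?_ ?_) ?_ <;> simp [a, b', i₁] <;> rfl }
    have hTX : ∀ n : ℤ, (R.T⟦(1 : ℤ)⟧).X n = R.T.X (n + 1) := fun n => rfl
    let p' : mappingCone η ⟶ R.T⟦(1 : ℤ)⟧ := (mappingCone.triangle η).mor₃ ≫ R.p⟦(1 : ℤ)⟧'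
    refine ⟨{ K := mappingCone η, T := R.T⟦(1 : ℤ)⟧, m := R.m + 1,
              eT := (CategoryTheory.shiftFunctor _ (1 : ℤ)).mapIso R.eT ≪≫ ((shiftFunctorAdd _ R.m 1).app F).symm,
              bd := R.bd, p := p', isZero := fun n hn => ?_, qcoh := fun n => ?_, flat := fun n => ?_,
              C := fun n => R.C (n + 1) ⊞ L.X n, e := e, he := fun n => ?_,
              good := fun n => BCPush17.Good.biprod h (R.good (n + 1)) (hLgood n), ex := ?_ }⟩
    · have hL : IsZero (L.X n) := (Scheme.Modules.pushforward U.1.ι).map_isZero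
        ((Scheme.Modules.restrictFunctor U.1.ι).map_isZero (R.isZero n hn))
      rw [IsZero.iff_id_eq_zero, ← mappingCone.id_X η n (n + 1) rfl,
        (R.isZero (n + 1) (by omega)).eq_of_tgt ((mappingCone.fst η).1.v n (n + 1) rfl) 0,
        hL.eq_of_tgt ((mappingCone.snd η).v n n (add_zero n)) 0, zero_comp, zero_comp, add_zero]
    · haveI := R.qcoh (n + 1)
      haveI : Coh.IsQCoh (R.T.X (n + 1)) := by
        haveI := hq (n + 1 + R.m)
        exact isQCoh_of_iso ((HomologicalComplex.eval _ _ (n + 1)).mapIso R.eT).symm (h := this)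
      haveI := (R.good (n + 1)).qcoh
      haveI := (hLgood n).qcoh
      haveI := isQCoh_biprod (R.C (n + 1)) (L.X n)
      exact isQCoh_of_iso (e n).symm (h := isQCoh_biprod _ _)
    · refine FlatAdm17.flatOver_of_iso _ (e n).symm (FlatAdm17.flatOver_biprod _
        (FlatAdm17.flatOver_biprod _ (R.good (n + 1)).flat (hLgood n).flat) ?_)
      exact FlatAdm17.flatOver_of_iso _ ((HomologicalComplex.eval _ _ (n + 1)).mapIso R.eT).symm (hfl (n + 1 + R.m))
    · show biprod.lift _ (-(a n ≫ (R.e (n + 1)).hom ≫ biprod.snd)) ≫ biprod.snd = p'.f n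
      rw [biprod.lift_snd, R.he]
      simp [p', a, mappingCone.triangle, Preadditive.neg_comp]
      rw [Cochain.rightShift_v _ 1 0 _ n n _ (n + 1) rfl]
      simp [HomologicalComplex.XIsoOfEq]
    · intro V hV
      rcases List.mem_cons.1 hV with rfl | hV'
      · exact exOn_cone_of_bijective η _ fun W _ hW n => bijective_etaC _ _ W hW n
      · refine exOn_cone η _ (R.ex V hV') fun W hW hWV i n k hi hk x hx => ?_
        have hW' : IsAffineOpen (U.1.ι ''ᵁ U.1.ι ⁻¹ᵁ W) := (hW.preimage U.1.ι).image_of_isOpenImmersion U.1.ι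
        exact R.ex V hV' _ hW' ((U.1.ι.image_preimage_eq_opensRange_inf W).le.trans (inf_le_right.trans hWV))
          i n k hi hk x hx

/-- Every bounded above complex of modules flat over the base has a good resolution, compatible with base change. -/
theorem exists_good_resolution [CompactSpace Z] (F : CochainComplex Z.Modules ℤ) (b : ℤ)
    (hb : ∀ n, b < n → IsZero (F.X n)) (hq : ∀ n, Coh.IsQCoh (F.X n))
    (hfl : ∀ n, FlatMod.IsFlatOver (Z ↘ Spec (CommRingCat.of A)) (F.X n)) :
    ∃ (C : CochainComplex Z.Modules ℤ) (c : ℤ),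
      (∀ n, BCPush17.Good (Z ↘ Spec (CommRingCat.of A)) (Spec.map (CommRingCat.ofHom φ))
        (Z' ↘ Spec (CommRingCat.of B)) g h (C.X n)) ∧
      (∀ n, c < n → IsZero (C.X n)) ∧
      Nonempty (DCoh.toD Z F ≅ DCoh.toD Z C) ∧
      Nonempty (DCoh.toD Z' (((Scheme.Modules.pullback g).mapHomologicalComplex (ComplexShape.up ℤ)).obj F) ≅
        DCoh.toD Z' (((Scheme.Modules.pullback g).mapHomologicalComplex (ComplexShape.up ℤ)).obj C)) := by
  obtain ⟨t, ht⟩ := isCompact_univ.elim_finite_subcover (fun V : Z.affineOpens => (V.1 : Set Z)) (fun V => V.1.2)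
    (fun x _ => by
      obtain ⟨W, hW, hxW, -⟩ := exists_isAffineOpen_mem_and_subset (x := x) (U := (⊤ : Z.Opens)) trivial
      exact Set.mem_iUnion.2 ⟨⟨W, hW⟩, hxW⟩)
  obtain ⟨R⟩ := exists_res (φ := φ) (g := g) (h := h) F b hb hq hfl t.toList
  have hK : ∀ n, R.K.ExactAt n := exactAt_of_exOn R.K fun x => by
    obtain ⟨V, hV, hxV⟩ := Set.mem_iUnion₂.1 (ht (Set.mem_univ x))
    exact ⟨V.1, hxV, R.ex V (Finset.mem_toList.2 hV)⟩
  let P := Scheme.Modules.pullback g
  let PC := P.mapHomologicalComplex (ComplexShape.up ℤ)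
  let Cx := kernel R.p
  have hker : ∀ n, IsLimit (KernelFork.ofι ((kernel.ι R.p).f n) (by
      rw [← HomologicalComplex.comp_f, kernel.condition]; rfl) : KernelFork (R.p.f n)) := fun n =>
    KernelFork.mapIsLimit _ (kernelIsKernel R.p) (HomologicalComplex.eval _ _ n)
  have eC : ∀ n, Cx.X n ≅ R.C n := fun n =>
    (hker n).conePointUniqueUpToIso (kernelIsKernel (R.p.f n)) ≪≫
      kernelIsoOfEq (R.he n).symm ≪≫ kernelIsIsoComp (R.e n).hom biprod.snd ≪≫
      (kernelIsKernel (biprod.snd : R.C n ⊞ R.T.X n ⟶ R.T.X n)).conePointUniqueUpToIso (biprod.isKernelSndKernelFork _ _)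
  let S := ShortComplex.mk (kernel.ι R.p) R.p (kernel.condition R.p)
  have hsplit : ∀ n, (S.map (HomologicalComplex.eval _ _ n)).Splitting := fun n => by
    haveI : Mono (S.map (HomologicalComplex.eval Z.Modules (ComplexShape.up ℤ) n)).f :=
      mono_of_isLimit_fork (hker n)
    exact ShortComplex.Splitting.ofExactOfSection _ (ShortComplex.exact_of_f_is_kernel _ (hker n))
      (biprod.inr ≫ (R.e n).inv) (by
        show (biprod.inr ≫ (R.e n).inv) ≫ R.p.f n = 𝟙 _
        rw [← R.he n, Category.assoc, Iso.inv_hom_id_assoc, biprod.inr_snd]) inferInstance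
  have hS : S.ShortExact := HomologicalComplex.shortExact_of_degreewise_shortExact S fun n => (hsplit n).shortExact
  have hS' : (S.map PC).ShortExact := HomologicalComplex.shortExact_of_degreewise_shortExact _ fun n =>
    ((hsplit n).map P).shortExact
  have hz : IsZero (DerivedCategory.Q.obj R.K) := DCat.CohDimShift.isZero_Q_of_acyclic R.K hK
  have hz' : IsZero (DerivedCategory.Q.obj (PC.obj R.K)) :=
    DCat.CohDimShift.isZero_Q_of_acyclic _ fun n => FlatAdm17.exactAt_pullback φ g h R.K R.bd R.isZero R.qcoh R.flat hK n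
  haveI : IsIso (triangleOfSES hS).mor₃ :=
    (Triangle.isZero₂_iff_isIso₃ _ (triangleOfSES_distinguished hS)).1 hz
  haveI : IsIso (triangleOfSES hS').mor₃ :=
    (Triangle.isZero₂_iff_isIso₃ _ (triangleOfSES_distinguished hS')).1 hz'
  let C₁ : CochainComplex Z.Modules ℤ := Cx⟦(1 : ℤ)⟧
  let C₂ : CochainComplex Z.Modules ℤ := C₁⟦-R.m⟧
  refine ⟨C₂, R.bd + R.m - 1, fun n => BCPush17.Good.of_iso h (eC _).symm (R.good (n + -R.m + 1)), fun n hn => ?_, ?_, ?_⟩
  · refine IsZero.of_mono ((kernel.ι R.p).f (n + -R.m + 1)) (R.isZero _ (by omega))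
  · let u₁ : DerivedCategory.Q.obj R.T ≅ DerivedCategory.Q.obj C₁ :=
      asIso (triangleOfSES hS).mor₃ ≪≫ ((DerivedCategory.Q.commShiftIso (1 : ℤ)).app Cx).symm
    exact ⟨(shiftFunctorCompIsoId _ R.m (-R.m) (by omega)).symm.app _ ≪≫
      (CategoryTheory.shiftFunctor _ (-R.m)).mapIso (((DerivedCategory.Q.commShiftIso R.m).app F).symm ≪≫
        DerivedCategory.Q.mapIso R.eT.symm ≪≫ u₁) ≪≫ ((DerivedCategory.Q.commShiftIso (-R.m)).app C₁).symm⟩
  · let u₁ : DerivedCategory.Q.obj (PC.obj R.T) ≅ DerivedCategory.Q.obj (PC.obj C₁) :=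
      asIso (triangleOfSES hS').mor₃ ≪≫ ((DerivedCategory.Q.commShiftIso (1 : ℤ)).app (PC.obj Cx)).symm ≪≫
        DerivedCategory.Q.mapIso ((PC.commShiftIso (1 : ℤ)).app Cx).symm
    exact ⟨(shiftFunctorCompIsoId _ R.m (-R.m) (by omega)).symm.app _ ≪≫
      (CategoryTheory.shiftFunctor _ (-R.m)).mapIso (((DerivedCategory.Q.commShiftIso R.m).app (PC.obj F)).symm ≪≫
        DerivedCategory.Q.mapIso ((PC.commShiftIso R.m).app F).symm ≪≫
        DerivedCategory.Q.mapIso (PC.mapIso R.eT.symm) ≪≫ u₁) ≪≫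
        ((DerivedCategory.Q.commShiftIso (-R.m)).app (PC.obj C₁)).symm ≪≫
        DerivedCategory.Q.mapIso ((PC.commShiftIso (-R.m)).app C₁).symm⟩

end Groth.Agent.DQCoh.CechFlat17
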