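import Groth.Agent.FlatMor12.FittSheaf
import Groth.Agent.Coherent.AnnSheaf
import Groth.Agent.Coherent.ProperOverApps
import Groth.Agent.Coherent.RpushComp
import Groth.Agent.H8Lim.IdealDescent
import Groth.Agent.Props12.FlatOver
import Groth.Agent.Coherent.HigherQcoh
import Groth.Agent.Desc19b.ModStFibGrpd
import Groth.Agent.EGA43.DvrCrit.Main
import Groth.Agent.ConsPropLib.LocusMod

/-!
# A finitely presented support scheme for a finitely presented module with proper support
-/

set_option autoImplicit false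
set_option backward.isDefEq.respectTransparency false
set_option linter.style.haveILetI false

universe u

open CategoryTheory CategoryTheory.Limits AlgebraicGeometry Opposite
open Groth.Agent.Coherent TopologicalSpace

namespace Groth.Agent.DQCoh.FittSupport17

variable {X S : Scheme.{u}}

/-- Flatness of a pushforward along a closed immersion. -/
theorem isFlatOver_push_iff {P T : Scheme.{u}} (i : X ⟶ P) [IsClosedImmersion i] (π : P ⟶ T) (M : X.Modules)
    [Coh.IsQCoh M] :
    FlatMod.IsFlatOver π ((Scheme.Modules.pushforward i).obj M) ↔ FlatMod.IsFlatOver (i ≫ π) M := by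
  haveI : Coh.IsQCoh ((Scheme.Modules.pushforward i).obj M) := Groth.Agent.Coherent.isQCoh_push i M
  have hsec : ∀ (V : T.Opens) (U : P.Opens) (e : U ≤ π ⁻¹ᵁ V),
      @Module.Flat Γ(T, V) Γ((Scheme.Modules.pushforward i).obj M, U) _ _
          (EGA43.QcohFlat.overModule π _ V U e) ↔
        @Module.Flat Γ(T, V) Γ(M, i ⁻¹ᵁ U) _ _
          (EGA43.QcohFlat.overModule (i ≫ π) M V (i ⁻¹ᵁ U) (fun z hz => e hz)) := by
    intro V U e
    letI m₁ := EGA43.QcohFlat.overModule π ((Scheme.Modules.pushforward i).obj M) V U e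
    letI m₂ := EGA43.QcohFlat.overModule (i ≫ π) M V (i ⁻¹ᵁ U) (fun z hz => e hz)
    refine Module.Flat.equiv_iff (LinearEquiv.mk
      { toFun := fun m => (show Γ(M, i ⁻¹ᵁ U) from m), map_add' := fun _ _ => rfl, map_smul' := ?_ }
      (fun m => (show Γ((Scheme.Modules.pushforward i).obj M, U) from m)) (fun _ => rfl) (fun _ => rfl))
    intro r m
    show (i.app U) (π.appLE V U e r) • (show Γ(M, i ⁻¹ᵁ U) from m) =
      ((i ≫ π).appLE V (i ⁻¹ᵁ U) _ r) • (show Γ(M, i ⁻¹ᵁ U) from m)
    rw [← Scheme.Hom.appLE_comp_appLE i π V U (i ⁻¹ᵁ U) e le_rfl, Scheme.Hom.app_eq_appLE]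
    rfl
  have key : ∀ (V : T.Opens) (U : P.Opens), IsAffineOpen V → IsAffineOpen U → U ≤ π ⁻¹ᵁ V →
      ((∀ y ∈ U, FlatMod.IsFlatOverAt π ((Scheme.Modules.pushforward i).obj M) y) ↔
        ∀ x ∈ i ⁻¹ᵁ U, FlatMod.IsFlatOverAt (i ≫ π) M x) := fun V U hV hU e => by
    rw [← Props12.flat_sections_iff π _ hV hU e, hsec V U e,
      Props12.flat_sections_iff (i ≫ π) M hV (hU.preimage i) (fun z hz => e hz)]
  have hcov : ∀ y : P, ∃ (V : T.Opens) (U : P.Opens), IsAffineOpen V ∧ IsAffineOpen U ∧ y ∈ U ∧ U ≤ π ⁻¹ᵁ V :=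
    fun y => by
      obtain ⟨V, hV, hyV, -⟩ := exists_isAffineOpen_mem_and_subset (x := π y) (U := ⊤) trivial
      obtain ⟨U, hU, hyU, e⟩ := exists_isAffineOpen_mem_and_subset (x := y) (U := π ⁻¹ᵁ V) hyV
      exact ⟨V, U, hV, hU, hyU, e⟩
  constructor
  · intro h x
    obtain ⟨V, U, hV, hU, hyU, e⟩ := hcov (i x)
    exact (key V U hV hU e).1 (fun y _ => h y) x hyU
  · intro h y
    obtain ⟨V, U, hV, hU, hyU, e⟩ := hcov y
    exact (key V U hV hU e).2 (fun x _ => h x) y hyU

/-- The zeroth Fitting ideal kills the module and cuts out its support. -/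
theorem killed_and_support (F : X.Modules) [Coh.IsQCoh F] (hF : CohB1.IsFT F) :
    ClSub.KilledByIdeal (Fitt.sheafIdeal F 0) F ∧
      ((Fitt.sheafIdeal F 0).support : Set X) = CohB1.support F := by
  refine ⟨fun U a ha m => ?_, ?_⟩
  · rw [FlatMor12.FittSheaf.ideal_eq F hF 0 U] at ha
    exact Module.mem_annihilator.1 (FittLib.ideal_zero_le_annihilator ha) m
  · rw [← support_annSheaf (inferInstance : Coh.IsQCoh F) hF]
    ext x
    obtain ⟨V, hV, hxV, -⟩ := Opens.isBasis_iff_nbhd.mp X.isBasis_affineOpens (TopologicalSpace.Opens.mem_top x)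
    have := FlatMor12.FittSheaf.finite_affine F hF ⟨V, hV⟩
    change x ∈ (Fitt.sheafIdeal F 0).support ↔ x ∈ (annSheaf _ hF).support
    rw [Scheme.IdealSheafData.mem_support_iff_of_mem (U := ⟨V, hV⟩) hxV,
      Scheme.IdealSheafData.mem_support_iff_of_mem (U := ⟨V, hV⟩) hxV,
      FlatMor12.FittSheaf.ideal_eq F hF 0 ⟨V, hV⟩, Scheme.mem_zeroLocus_iff, Scheme.mem_zeroLocus_iff]
    constructor
    · intro h f hf hxf
      obtain ⟨n, g, hg⟩ := FittLib.exists_generators Γ(X, V) Γ(F, V)
      have hp := FittLib.pow_mem_ideal_zero g hg (Module.mem_annihilator.1 hf)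
      refine h (f ^ n) hp ?_
      rw [Scheme.mem_basicOpen _ _ _ hxV] at hxf ⊢
      rw [map_pow]
      exact hxf.pow n
    · exact fun h f hf => h f (FittLib.ideal_zero_le_annihilator hf)

/-- A flat finitely presented module with proper support comes from a finitely presented proper closed subscheme. -/
theorem exists_model (f : X ⟶ S) [LocallyOfFinitePresentation f] (F : X.Modules) (hF : CohB1.IsFP F)
    (hflat : FlatMod.IsFlatOver f F) (hsupp : ClSub.IsProperOver f (CohB1.support F)) :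
    ∃ (Z : Scheme.{u}) (i : Z ⟶ X) (_ : IsClosedImmersion i) (_ : LocallyOfFinitePresentation i)
      (_ : IsProper (i ≫ f)) (G : Z.Modules) (_ : Coh.IsQCoh G),
      CohB1.IsFP G ∧ FlatMod.IsFlatOver (i ≫ f) G ∧ Nonempty (F ≅ (Coh.push i).obj G) := by
  haveI : Coh.IsQCoh F := ConsPropLib.isQCoh_of_isFP hF
  have hT : CohB1.IsFT F := by
    haveI : SheafOfModules.IsFinitePresentation (R := X.ringCatSheaf) F := hF
    exact inferInstanceAs (SheafOfModules.IsFiniteType (R := X.ringCatSheaf) F)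
  obtain ⟨hk, hs⟩ := killed_and_support F hT
  let J := Fitt.sheafIdeal F 0
  have hk' : ClSub.KilledByIdeal J.subschemeι.ker F := by rwa [Scheme.IdealSheafData.ker_subschemeι]
  haveI : LocallyOfFinitePresentation J.subschemeι :=
    H8Lim.locallyOfFinitePresentation_of_ker_fg _ fun U => by
      rw [Scheme.IdealSheafData.ker_subschemeι]
      exact FlatMor12.FittSheaf.isFiniteTypeIdeal F hF 0 U
  haveI : IsProper (J.subschemeι ≫ f) :=
    isProper_of_isProperOver f hsupp J.subschemeι (by rw [J.range_subschemeι]; exact hs)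
  have hG : CohB1.IsFP ((Scheme.Modules.pullback J.subschemeι).obj F) := Desc19b.ModStFib.isFP_pullback _ F hF
  haveI := ConsPropLib.isQCoh_of_isFP hG
  refine ⟨J.subscheme, J.subschemeι, inferInstance, inferInstance, inferInstance, _, inferInstance, hG, ?_,
    ⟨clIso J.subschemeι hk'⟩⟩
  exact (isFlatOver_push_iff J.subschemeι f _).1
    fun x => EGA43.DvrCrit.isFlatOverAt_of_iso f (clIso J.subschemeι hk') x (hflat x)

end Groth.Agent.DQCoh.FittSupport17
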