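import Groth.Agent.DQCoh.PerfFlatBC17
import Groth.Agent.DQCoh.FittSupport17
import Groth.Agent.CohExch.Model
import Groth.Agent.DCat.ClosedPushD
import Groth.Agent.Dual22Lib.RelTorDim
import Groth.Agent.Dual22Lib.ShSymm
import Groth.Agent.Dual22Lib.BCSquare
import Groth.Agent.Dual22Lib.TenLocal
import Groth.Agent.DCat.RHomDual
import Groth.Agent.Desc19b.ModStFibGrpd
import Groth.Agent.Coherent.SupportPullback

/-!
# `Rf_*(E ⊗^L G)` is perfect for flat finitely presented `G` with proper support, over any base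
-/

set_option autoImplicit false
set_option backward.isDefEq.respectTransparency false
set_option backward.defeqAttrib.useBackward true
set_option linter.style.haveILetI false
set_option linter.unusedSectionVars false
set_option synthInstance.maxHeartbeats 100000
set_option maxHeartbeats 800000

universe u

open CategoryTheory CategoryTheory.Limits CategoryTheory.Pretriangulated AlgebraicGeometry Opposite TopologicalSpace
open Groth.Agent.DCat Groth.Agent.DCat.PerfLocal Groth.Agent.Coherent Groth.Agent.Dual22Lib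
open scoped ZeroObject

attribute [local instance] HasDerivedCategory.standard
attribute [-instance] Int.instConditionallyCompleteLinearOrder

namespace Groth.Agent.DQCoh.PerfProperPush17

variable {X Y S : Scheme.{u}}

/-- The two derived tensor products with a module agree. -/
theorem nonempty_mod_cx (G : X.Modules) [DCoh.HasLTensorMod G] (D : CochainComplex X.Modules ℤ)
    (hD : IsKFlatFor (shT X) D) [DCoh.HasLTensorCx D] :
    Nonempty ((DCoh.LTensorMod G).obj (DerivedCategory.Q.obj D) ≅ (DCoh.LTensorCx D).obj (DCoh.inD X G)) := by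
  obtain ⟨P, p, hP, hp⟩ := RelTorDim.exists_resolution G
  haveI := hp
  haveI := LTensorSheaf.hasLTensorCx P
  obtain ⟨u⟩ := RelTorDim.nonempty_LTensorMod_iso G hP p (DerivedCategory.Q.obj D)
  exact ⟨u ≪≫ LTensorSheaf.ltensorCxIso P hD ≪≫ DerivedCategory.Q.mapIso (ShSymm.symm D P) ≪≫
      (LTensorSheaf.ltensorCxIso D hP).symm ≪≫ (DCoh.LTensorCx D).mapIso (asIso (DerivedCategory.Q.map p) ≪≫
        ((DerivedCategory.singleFunctorIsoCompQ X.Modules 0).app G).symm)⟩

/-- Isomorphic modules give isomorphic tensor functors. -/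
noncomputable def tensorRightModIso {G G' : X.Modules} (e : G ≅ G') :
    DCoh.tensorRightMod G ≅ DCoh.tensorRightMod G' :=
  Functor.isoWhiskerLeft DCoh.toP (Functor.isoWhiskerRight
    ((MonoidalCategory.tensoringRight (CohB1.PMod X)).mapIso (DCoh.toP.mapIso e)) DCoh.shP)

/-- Objects sent to perfect objects by a weakly exact functor. -/
theorem isDev_inverseImage_perfect {F : DCoh.D X ⥤ DCoh.D Y} (hF : WeakExact.TriExact F) :
    DQCoh.IsDev (fun K => DCoh.IsPerfect (F.obj K) : ObjectProperty (DCoh.D X)) := by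
  have h1 : ∀ K : DCoh.D X, Nonempty (F.obj (K⟦(1 : ℤ)⟧) ≅ (F.obj K)⟦(1 : ℤ)⟧) := fun K => by
    obtain ⟨δ, hδ⟩ := hF _ (rot_of_distTriang _ (contractible_distinguished K))
    haveI : IsIso δ := (Triangle.isZero₂_iff_isIso₃ _ hδ).1 (hF.map_isZero (isZero_zero _))
    exact ⟨asIso δ⟩
  refine ⟨fun e h => PCTriangle.perfect_iso (F.mapIso e) h, fun K hK => PerfLift.isPerfect_isZero (hF.map_isZero hK),
    fun K n h => ?_, fun T hT h₁ h₃ => ?_⟩
  · induction n using Int.induction_on with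
    | zero => exact PCTriangle.perfect_iso (F.mapIso ((shiftFunctorZero (DCoh.D X) ℤ).app K).symm) h
    | succ i ih =>
      obtain ⟨e⟩ := h1 (K⟦(i : ℤ)⟧)
      exact PCTriangle.perfect_iso (e.symm ≪≫ F.mapIso ((shiftFunctorAdd (DCoh.D X) (i : ℤ) 1).app K).symm)
        (PCTriangle.perfect_shift ih 1)
    | pred i ih =>
      obtain ⟨e⟩ := h1 (K⟦(-(i : ℤ) - 1)⟧)
      let e' : F.obj (K⟦(-(i : ℤ))⟧) ≅ (F.obj (K⟦(-(i : ℤ) - 1)⟧))⟦(1 : ℤ)⟧ :=
        F.mapIso ((shiftFunctorAdd' (DCoh.D X) (-(i : ℤ) - 1) 1 (-(i : ℤ)) (by omega)).app K) ≪≫ e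
      exact PCTriangle.perfect_iso ((shiftFunctor _ (-1 : ℤ)).mapIso e' ≪≫
        (shiftFunctorCompIsoId (DCoh.D Y) (1 : ℤ) (-1) (by omega)).app _) (PCTriangle.perfect_shift ih (-1))
  · obtain ⟨δ, hδ⟩ := hF _ hT
    exact (PCTriangle.perfect_two_out_of_three hδ).2.1 h₁ h₃

theorem isQCohD_inD (G : X.Modules) [Coh.IsQCoh G] : DCoh.IsQCohD (DCoh.inD X G) := fun k => by
  by_cases hk : k = 0
  · subst hk
    exact Coherent.isQCoh_of_iso ((DerivedCategory.singleFunctorCompHomologyFunctorIso X.Modules 0).app G).symm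
      (h := ‹Coh.IsQCoh G›)
  · refine Coherent.isQCoh_of_isZero ?_
    rcases lt_or_gt_of_ne hk with hk | hk
    · exact DerivedCategory.isZero_of_isGE _ 0 k hk
    · exact DerivedCategory.isZero_of_isLE _ 0 k hk

/-- The direct image of a module along a closed immersion stays in degree zero. -/
theorem nonempty_rpush_inD {Z : Scheme.{u}} (i : Z ⟶ X) [IsClosedImmersion i] [DCoh.HasRpush i]
    (G : Z.Modules) [Coh.IsQCoh G] :
    Nonempty ((DCoh.Rpush i).obj (DCoh.inD Z G) ≅ DCoh.inD X ((Coh.push i).obj G)) := by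
  haveI := Coherent.hasInjectiveResolutions_modules Z
  let K := (HomologicalComplex.single Z.Modules (ComplexShape.up ℤ) 0).obj G
  have hq : ∀ n, Coh.IsQCoh (K.X n) := fun n => by
    by_cases hn : n = 0
    · subst hn
      exact isQCoh_of_iso (HomologicalComplex.singleObjXSelf (ComplexShape.up ℤ) 0 G).symm (h := ‹Coh.IsQCoh G›)
    · exact isQCoh_of_isZero (HomologicalComplex.isZero_single_obj_X _ _ _ _ hn)
  obtain ⟨e⟩ := PerfFlatBC17.nonempty_rpush_acyclic i K hq fun n p hp => by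
    haveI := hq n
    haveI : IsAffineHom (𝟙 Z ≫ i) := by rw [Category.id_comp]; infer_instance
    refine (BCPush17.isZero_rpush_push i (𝟙 Z) (K.X n) p hp).of_iso ((Coh.Rpush i p).mapIso ?_)
    exact ((Scheme.Modules.pushforwardId Z).app (K.X n)).symm
  exact ⟨(DCoh.Rpush i).mapIso ((DerivedCategory.singleFunctorIsoCompQ Z.Modules 0).app G) ≪≫ e ≪≫
    DerivedCategory.Q.mapIso ((HomologicalComplex.singleMapHomologicalComplex (Scheme.Modules.pushforward i)
      (ComplexShape.up ℤ) 0).app G) ≪≫ ((DerivedCategory.singleFunctorIsoCompQ X.Modules 0).app _).symm⟩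

/-- Proper over an affine base: every perfect object. -/
theorem isPerfect_rpush_proper {A : Type u} [CommRing A] {Z : Scheme.{u}} (u : Z ⟶ Spec (CommRingCat.of A))
    [IsProper u] [LocallyOfFinitePresentation u] (G : Z.Modules) (hG : CohB1.IsFP G)
    (hfl : FlatMod.IsFlatOver u G) [DCoh.HasLTensorMod G] [DCoh.HasRpush u]
    (E : DCoh.D Z) (hE : DCoh.IsPerfect E) :
    DCoh.IsPerfect ((DCoh.Rpush u).obj ((DCoh.LTensorMod G).obj E)) := by
  obtain ⟨s, Z₀, u₀, g, G₀, hu₀, hsq, hG₀, hfl₀, ⟨eG⟩⟩ := CohExch.exists_model_flat u G hG hfl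
  let A₀ := H8Lim.fgSub A s
  haveI : IsNoetherianRing A₀ := inferInstance
  letI : Z₀.Over (Spec (CommRingCat.of A₀)) := ⟨u₀⟩
  letI : Z.Over (Spec (CommRingCat.of A)) := ⟨u⟩
  haveI : IsProper (Z₀ ↘ Spec (CommRingCat.of A₀)) := hu₀
  haveI : IsLocallyNoetherian Z₀ := LocallyOfFiniteType.isLocallyNoetherian u₀
  haveI : CompactSpace Z₀ := QuasiCompact.compactSpace_of_compactSpace u₀
  haveI : CompactSpace Z := QuasiCompact.compactSpace_of_compactSpace u
  haveI : QuasiSeparatedSpace Z₀ := quasiSeparatedSpace_of_quasiSeparated u₀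
  haveI : QuasiSeparatedSpace Z := quasiSeparatedSpace_of_quasiSeparated u
  haveI : IsAffineHom g := MorphismProperty.IsStableUnderBaseChange.of_isPullback (P := @IsAffineHom) hsq.flip inferInstance
  haveI := DCat.hasLpull g
  haveI := DCat.hasRpush g
  haveI := DCat.hasLTensorMod ((Scheme.Modules.pullback g).obj G₀)
  obtain ⟨P₀, hP₀, -, hdet⟩ := PerfGen.gen (X := Z₀) ⊥ (by simp)
  obtain ⟨adj⟩ := DCat.nonempty_pullPushAdj g
  have hcohG : Coh.IsCoh G₀ := (Coherent.isCoh_iff_isFP G₀).2 hG₀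
  have key : ∀ K : DCoh.D Z, Nonempty ((DCoh.LTensorMod ((Scheme.Modules.pullback g).obj G₀)).obj K ≅
      (DCoh.LTensorMod G).obj K) := fun K => by
    obtain ⟨N, hN, ⟨e⟩⟩ := PullPerf.exists_kflat_rep K
    exact ⟨((DCoh.LTensorMod _).mapIso e).symm ≪≫ ltensorModIso _ hN ≪≫
      DerivedCategory.Q.mapIso ((NatIso.mapHomologicalComplex
        (tensorRightModIso eG.symm) (ComplexShape.up ℤ)).app N) ≪≫
      (ltensorModIso G hN).symm ≪≫ (DCoh.LTensorMod G).mapIso e⟩
  obtain ⟨R, c, hR, hc⟩ := RelTorDim.exists_resolution G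
  haveI := hc
  haveI := LTensorSheaf.hasLTensorCx R
  have hmod : ∀ K, Nonempty ((DCoh.LTensorMod G).obj K ≅ (DCoh.LTensorCx R).obj K) := fun K =>
    RelTorDim.nonempty_LTensorMod_iso G hR c K
  let F := DCoh.LTensorCx R ⋙ DCoh.Rpush u
  have hF : WeakExact.TriExact F := (TenLocal.triExact_LTensor R).comp (TenLocal.triExact_Rpush u)
  let Φ : ObjectProperty (DCoh.D Z) := fun K => DCoh.IsPerfect (F.obj K)
  haveI : Φ.IsStableUnderRetracts := ⟨fun r h => RHomDual.perfect_of_retract (r.map F) h⟩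
  suffices hΦ : Φ E by
    obtain ⟨t⟩ := hmod E
    exact PCTriangle.perfect_iso ((DCoh.Rpush u).mapIso t).symm hΦ
  refine GenEnv.prop_of_perfect ((DCoh.Lpull g).obj P₀) (PullPerf.isPerfect_Lpull g P₀ hP₀) (fun K hK h0 => ?_)
    (isDev_inverseImage_perfect hF) ?_ E hE
  · have hz : IsZero ((DCoh.Rpush g).obj K) := by
      refine hdet _ (DQCoh.isQCohD_Rpush g K hK) ((AdjGeom.killed_iff _ _).2 fun i x hx => by simp at hx) fun n φ => ?_
      obtain ⟨_, _⟩ := PullPerf.exists_commShift_Lpull g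
      apply (adj.homEquiv _ _).symm.injective
      have h1 := h0 n (((DCoh.Lpull g).commShiftIso n).inv.app P₀ ≫ (adj.homEquiv _ _).symm φ)
      rw [Preadditive.IsIso.comp_left_eq_zero] at h1
      rw [h1, Adjunction.homEquiv_counit, Functor.map_zero, zero_comp]
    have : IsIso (0 : K ⟶ (0 : DCoh.D Z)) := DQCoh.isIso_of_isIso_Rpush g hK
      (AdjGeom.isQCohD_isZero (isZero_zero _)) 0 ⟨0, hz.eq_of_src _ _, ((DCoh.Rpush g).map_isZero (isZero_zero _)).eq_of_src _ _⟩
    exact (isZero_zero _).of_iso (asIso (0 : K ⟶ (0 : DCoh.D Z)))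
  · obtain ⟨k⟩ := key ((DCoh.Lpull g).obj P₀)
    obtain ⟨t⟩ := hmod ((DCoh.Lpull g).obj P₀)
    exact PCTriangle.perfect_iso ((DCoh.Rpush u).mapIso (k ≪≫ t))
      (by
        haveI : DCoh.HasRpush (Z ↘ Spec (CommRingCat.of A)) := ‹DCoh.HasRpush u›
        exact PerfFlatBC17.isPerfect_rpush_pull (A₀.val.toRingHom) g hsq P₀ hP₀ G₀ hcohG hfl₀)

/-- Affine base. -/
theorem isPerfect_affine {A : Type u} [CommRing A] (f : X ⟶ Spec (CommRingCat.of A))
    [LocallyOfFinitePresentation f] (E : DCoh.D X) (hE : DCoh.IsPerfect E) (G : X.Modules) (hG : CohB1.IsFP G)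
    (hflat : FlatMod.IsFlatOver f G) (hsupp : ClSub.IsProperOver f (CohB1.support G))
    [DCoh.HasLTensorMod G] [DCoh.HasRpush f] :
    DCoh.IsPerfect ((DCoh.Rpush f).obj ((DCoh.LTensorMod G).obj E)) := by
  obtain ⟨Z, i, _, _, _, G', hq, hG', hfl', ⟨e⟩⟩ := FittSupport17.exists_model f G hG hflat hsupp
  haveI := DCat.hasRpush i
  haveI := DCat.hasRpush (i ≫ f)
  haveI := DCat.hasLTensorMod G'
  haveI := DCat.hasLpull i
  haveI : LocallyOfFinitePresentation (i ≫ f) := inferInstance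
  obtain ⟨P, hP, ⟨eP⟩⟩ := PullPerf.exists_kflat_rep E
  haveI := LTensorSheaf.hasLTensorCx P
  let P' := ((Scheme.Modules.pullback i).mapHomologicalComplex (ComplexShape.up ℤ)).obj P
  haveI := LTensorSheaf.hasLTensorCx P'
  obtain ⟨m⟩ := nonempty_mod_cx G P hP
  obtain ⟨m'⟩ := nonempty_mod_cx G' P' (PullTot.isKFlatFor_pullback i hP)
  obtain ⟨r⟩ := nonempty_rpush_inD i G'
  obtain ⟨π⟩ := ClosedPushD.nonempty_projection i P hP (DCoh.inD Z G')
  obtain ⟨c⟩ := DCat.nonempty_RpushComp i f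
  let w : (DCoh.LTensorMod G).obj E ≅ (DCoh.Rpush i).obj ((DCoh.LTensorMod G').obj (DerivedCategory.Q.obj P')) :=
    (DCoh.LTensorMod G).mapIso eP.symm ≪≫ m ≪≫
      (DCoh.LTensorCx P).mapIso ((DerivedCategory.singleFunctor X.Modules 0).mapIso e ≪≫ r.symm) ≪≫ π ≪≫
      (DCoh.Rpush i).mapIso m'.symm
  refine PCTriangle.perfect_iso ((DCoh.Rpush f).mapIso w ≪≫ c.app _).symm ?_
  exact isPerfect_rpush_proper (i ≫ f) G' hG' hfl' _
    (PCTriangle.perfect_iso ((DCoh.Lpull i).mapIso eP.symm ≪≫ PullPerf.lpullIso i hP) (PullPerf.isPerfect_Lpull i E hE))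

/-- The general case. -/
theorem isPerfect (f : X ⟶ S) [LocallyOfFinitePresentation f] [QuasiCompact f] [QuasiSeparated f]
    (E : DCoh.D X) (hE : DCoh.IsPerfect E) (G : X.Modules) (hG : CohB1.IsFP G) (hflat : FlatMod.IsFlatOver f G)
    (hsupp : ClSub.IsProperOver f (CohB1.support G)) [DCoh.HasLTensorMod G] [DCoh.HasRpush f] :
    DCoh.IsPerfect ((DCoh.Rpush f).obj ((DCoh.LTensorMod G).obj E)) := by
  refine DQCoh.isPerfect_of_local _ fun s => ?_
  obtain ⟨V, hV, hsV, -⟩ := exists_isAffineOpen_mem_and_subset (x := s) (U := (⊤ : S.Opens)) trivial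
  let j := hV.fromSpec
  haveI : IsOpenImmersion j := inferInstanceAs (IsOpenImmersion hV.fromSpec)
  let X' := pullback f j
  let j' : X' ⟶ X := pullback.fst f j
  let f' : X' ⟶ Spec Γ(S, V) := pullback.snd f j
  have hsq : IsPullback j' f' f j := IsPullback.of_hasPullback f j
  haveI : LocallyOfFinitePresentation f' := MorphismProperty.pullback_snd (P := @LocallyOfFinitePresentation) _ _ ‹_›
  refine ⟨_, j, inferInstance, hV.opensRange_fromSpec.ge hsV, ?_⟩
  haveI := DCat.hasRpush j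
  haveI := DCat.hasRpush j'
  haveI := DCat.hasRpush f'
  haveI := DCat.hasLpull j
  haveI := DCat.hasLpull j'
  let G' := (Scheme.Modules.pullback j').obj G
  haveI := DCat.hasLTensorMod G'
  obtain ⟨P, hP, ⟨eP⟩⟩ := PullPerf.exists_kflat_rep E
  haveI := LTensorSheaf.hasLTensorCx P
  obtain ⟨m⟩ := nonempty_mod_cx G P hP
  let T := (DCoh.LTensorMod G).obj E
  have hT : DCoh.IsQCohD T := by
    haveI : SheafOfModules.IsFinitePresentation (R := X.ringCatSheaf) G := hG
    haveI : Coh.IsQCoh G := inferInstanceAs (SheafOfModules.IsQuasicoherent.{u} (R := X.ringCatSheaf) G)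
    exact DQCoh.isQCohD_of_iso (m.symm ≪≫ (DCoh.LTensorMod G).mapIso eP) (DQCoh.isQCohD_LTensorCx P
      (DQCoh.isQCohD_of_iso eP.symm (PerfLift.isQCohD_perfect hE)) _ (isQCohD_inD G))
  obtain ⟨adj⟩ := DCat.nonempty_pullPushAdj j
  obtain ⟨adj'⟩ := DCat.nonempty_pullPushAdj j'
  obtain ⟨e⟩ := BCSquare.exists_e (f := f) (g := j) (f' := f') (g' := j') hsq.w
  haveI := BCSquare.good_of_open hsq ‹_› ‹_› ‹_› ‹_› ‹_› ‹_› adj adj' e T hT
  obtain ⟨γ⟩ := BCSquare.nonempty_Lpull_rd j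
  obtain ⟨γ'⟩ := BCSquare.nonempty_Lpull_rd j'
  let b : (rd j).obj ((DCoh.Rpush f).obj T) ≅ (DCoh.Rpush f').obj ((rd j').obj T) :=
    (γ.app _).symm ≪≫ asIso ((BCAlg.bc adj adj' e).app T) ≪≫ (DCoh.Rpush f').mapIso (γ'.app T)
  -- restriction of the tensor product
  obtain ⟨M, hM, ⟨eM⟩, hres⟩ := TenLocal.nonempty_rd_LTensor j' P
  haveI := hM
  obtain ⟨res⟩ := hres (DCoh.inD X G)
  obtain ⟨P₁, hP₁, ⟨eP₁⟩⟩ := PullPerf.exists_kflat_rep ((rd j').obj E)
  haveI := LTensorSheaf.hasLTensorCx P₁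
  obtain ⟨m₁⟩ := nonempty_mod_cx G' P₁ hP₁
  obtain ⟨cg⟩ := TensorCongr.nonempty_congr (E := M) (E' := P₁) (eM ≪≫ (rd j').mapIso eP ≪≫ eP₁.symm)
  let t : (rd j').obj T ≅ (DCoh.LTensorMod G').obj ((rd j').obj E) :=
    (rd j').mapIso ((DCoh.LTensorMod G).mapIso eP.symm ≪≫ m) ≪≫ res ≪≫ cg.app _ ≪≫
      (DCoh.LTensorCx P₁).mapIso (((Scheme.Modules.restrictFunctor j').mapDerivedCategorySingleFunctor 0).app G ≪≫
        (DerivedCategory.singleFunctor _ 0).mapIso ((Scheme.Modules.restrictFunctorIsoPullback j').app G)) ≪≫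
      m₁.symm ≪≫ (DCoh.LTensorMod G').mapIso eP₁
  refine PCTriangle.perfect_iso (b ≪≫ (DCoh.Rpush f').mapIso t).symm ?_
  refine isPerfect_affine (A := Γ(S, V)) f' _ (PerfLift.isPerfect_restrictD j' hE) G' ?_ ?_ ?_
  · exact Desc19b.ModStFib.isFP_pullback j' G hG
  · intro x
    refine (DQCoh.isFlatOverAt_comp_iff f' j _ x).1 ?_
    rw [← hsq.w]
    exact (Props12.isFlatOverAt_pullback_iff j' f G x
      (RingHom.Flat.of_bijective (ConcreteCategory.bijective_of_isIso (j'.stalkMap x)))).1 (hflat _)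
  · haveI : SheafOfModules.IsFinitePresentation (R := X.ringCatSheaf) G := hG
    rw [support_pullback_qcoh (f := j') (inferInstanceAs (SheafOfModules.IsQuasicoherent.{u} (R := X.ringCatSheaf) G))
      (inferInstanceAs (SheafOfModules.IsFiniteType (R := X.ringCatSheaf) G))]
    exact Et18.IsProperOver.preimage hsupp hsq

end Groth.Agent.DQCoh.PerfProperPush17
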