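import Groth.Agent.DQCoh.PerfApprox
import Groth.Agent.DQCoh.Coproduct
import Groth.Agent.DCat.Hocolim
import Groth.Agent.DCat.CompactStd
import Groth.Prelude.Def_DerLim

/-!
# Pseudo-coherent objects are homotopy colimits of perfect objects
-/

set_option autoImplicit false
set_option backward.isDefEq.respectTransparency false
set_option backward.defeqAttrib.useBackward true
set_option linter.style.haveILetI false
set_option linter.unusedSectionVars false
set_option synthInstance.maxHeartbeats 100000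

universe u v

open CategoryTheory CategoryTheory.Limits CategoryTheory.Pretriangulated AlgebraicGeometry Opposite
open Groth.Agent.DCat Groth.Agent.DCat.PerfLocal Groth.Agent.Dual22Lib Groth.Agent.Dual22Lib.AdjGeom
open Groth.Agent.Dual22Lib.PerfSupp
open scoped ZeroObject

attribute [local instance] HasDerivedCategory.standard
attribute [-instance] Int.instConditionallyCompleteLinearOrder

namespace Groth.Agent.DQCoh.PerfApprox

variable {X : Scheme.{u}}

/-- Approximations compose along cones, compatibly with the first one. -/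
theorem exists_fibre_of_comp' {O : X.Opens} {P₁ E C P₂ C' : DCoh.D X} {a : P₁ ⟶ E} {v : E ⟶ C}
    {w : C ⟶ P₁⟦(1 : ℤ)⟧} (h₁ : Triangle.mk a v w ∈ distTriang _) {a' : P₂ ⟶ C} {v' : C ⟶ C'}
    {w' : C' ⟶ P₂⟦(1 : ℤ)⟧} (h₂ : Triangle.mk a' v' w' ∈ distTriang _) (hP₁ : DCoh.IsPerfect P₁)
    (hP₂ : DCoh.IsPerfect P₂) (hk₁ : killed O.ι P₁) (hk₂ : killed O.ι P₂) {m : ℤ} (hC' : C'.IsLE (m - 1)) :
    ∃ (P : DCoh.D X) (α : P ⟶ E) (f : P₁ ⟶ P),
      DCoh.IsPerfect P ∧ killed O.ι P ∧ PullPerf.Apx m α ∧ f ≫ α = a := by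
  obtain ⟨P, α, δ, h₁₃⟩ := distinguished_cocone_triangle₁ (v ≫ v')
  have o := Triangulated.someOctahedron (show v ≫ v' = v ≫ v' from rfl) (rot_of_distTriang _ h₁)
    (rot_of_distTriang _ h₂) (rot_of_distTriang _ h₁₃)
  haveI := PullPerf.preservesFiniteLimits_restrict O.ι
  have hP : DCoh.IsPerfect (P⟦(1 : ℤ)⟧) :=
    (PCTriangle.perfect_two_out_of_three o.mem).2.1 (PCTriangle.perfect_shift hP₁ 1) (PCTriangle.perfect_shift hP₂ 1)
  have hk : killed O.ι (P⟦(1 : ℤ)⟧) := Triangle.isZero₂_of_isZero₁₃ _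
    ((DCoh.restrictD O.ι).map_distinguished _ o.mem) (killed_shift _ hk₁ 1) (killed_shift _ hk₂ 1)
  let e := (shiftFunctorCompIsoId (DCoh.D X) (1 : ℤ) (-1) (by omega)).app P
  refine ⟨P, α, (shiftFunctor (DCoh.D X) (1 : ℤ)).preimage o.m₁, PCTriangle.perfect_iso e
    (PCTriangle.perfect_shift hP (-1)), killed_iso e (killed_shift _ hk (-1)),
    (PullPerf.apx_iff_isLE m _ h₁₃).2 hC', (shiftFunctor (DCoh.D X) (1 : ℤ)).map_injective ?_⟩
  rw [Functor.map_comp, Functor.map_preimage]
  have h : o.m₁ ≫ (-(α⟦(1 : ℤ)⟧')) = -(a⟦(1 : ℤ)⟧') := o.comm₂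
  simpa using h

/-- An approximation by a perfect object killed on `O`. -/
structure Stage (O : X.Opens) (K : DCoh.D X) (m : ℤ) where
  E : DCoh.D X
  α : E ⟶ K
  perfect : DCoh.IsPerfect E
  isKilled : killed O.ι E
  apx : PullPerf.Apx m α

theorem exists_stage_zero [CompactSpace X] [QuasiSeparatedSpace X] {O : X.Opens} (hO : IsCompact (O : Set X))
    {K : DCoh.D X} (hK : ∀ m : ℤ, DCoh.IsPseudoCoherentD m K) (hk : killed O.ι K) (m : ℤ) :
    Nonempty (Stage O K m) := by
  obtain ⟨r, hr⟩ := full_of_top (top (X := X)) O hO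
  obtain ⟨P, α, hP, hkP, hα⟩ := hr m K (DQCoh.isQCohD_of_psc hK) (hK _) (leOn_of_killed _ hk)
  exact ⟨⟨P, α, hP, hkP, hα⟩⟩

theorem exists_stage_succ [CompactSpace X] [QuasiSeparatedSpace X] {O : X.Opens} (hO : IsCompact (O : Set X))
    {K : DCoh.D X} (hK : ∀ m : ℤ, DCoh.IsPseudoCoherentD m K) (hk : killed O.ι K) {m : ℤ} (S : Stage O K m)
    (m' : ℤ) : ∃ (S' : Stage O K m') (f : S.E ⟶ S'.E), f ≫ S'.α = S.α := by
  obtain ⟨C, v, w, hT⟩ := distinguished_cocone_triangle S.α
  haveI := PullPerf.preservesFiniteLimits_restrict O.ι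
  obtain ⟨⟨P₂, α₂, hP₂, hk₂, hα₂⟩⟩ := exists_stage_zero hO
    (K := C) (fun n => PCTriangle.psc_cone hT (DQCoh.psc_of_perfect S.perfect _) (hK n))
    (Triangle.isZero₃_of_isZero₁₂ _ ((DCoh.restrictD O.ι).map_distinguished _ hT) S.isKilled hk) m'
  obtain ⟨C', v', w', hT'⟩ := distinguished_cocone_triangle α₂
  obtain ⟨P, α, f, h₁, h₂, h₃, h₄⟩ :=
    exists_fibre_of_comp' hT hT' S.perfect hP₂ S.isKilled hk₂ ((PullPerf.apx_iff_isLE m' _ hT').1 hα₂)
  exact ⟨⟨P, α, h₁, h₂, h₃⟩, f, h₄⟩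

/-- The homology of a truncation. -/
theorem isIso_homology_truncGEπ (E : DCoh.D X) (c i : ℤ) (hi : c ≤ i) :
    IsIso ((DerivedCategory.homologyFunctor X.Modules i).map
      ((DerivedCategory.TStructure.t.truncGEπ c).app E)) := by
  let t := DerivedCategory.TStructure.t (C := X.Modules)
  have hT := t.triangleLTGE_distinguished c E
  haveI hL : ((t.truncLT c).obj E).IsLE (c - 1) := t.isLE_truncLT_obj _ _ _ (by omega)
  have hlow : ∀ j, c ≤ j → IsZero ((DerivedCategory.homologyFunctor X.Modules j).obj ((t.truncLT c).obj E)) :=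
    fun j hj => (DerivedCategory.isLE_iff _ _).1 hL j (by omega)
  haveI : Mono ((DerivedCategory.homologyFunctor X.Modules i).map ((t.triangleLTGE c).obj E).mor₂) :=
    (DerivedCategory.HomologySequence.mono_homologyMap_mor₂_iff _ hT i).2 ((hlow i hi).eq_of_src _ _)
  haveI : Epi ((DerivedCategory.homologyFunctor X.Modules i).map ((t.triangleLTGE c).obj E).mor₂) :=
    (DerivedCategory.HomologySequence.epi_homologyMap_mor₂_iff _ hT i (i + 1) rfl).2
      ((hlow (i + 1) (by omega)).eq_of_tgt _ _)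
  exact isIso_of_mono_of_epi ((DerivedCategory.homologyFunctor X.Modules i).map ((t.triangleLTGE c).obj E).mor₂)

/-- Maps are invertible after truncation iff they are invertible on high cohomology. -/
theorem isIso_truncGE_map_iff {E K : DCoh.D X} (g : E ⟶ K) (c : ℤ) :
    IsIso ((DerivedCategory.TStructure.t.truncGE c).map g) ↔
      ∀ i, c ≤ i → IsIso ((DerivedCategory.homologyFunctor X.Modules i).map g) := by
  let t := DerivedCategory.TStructure.t (C := X.Modules)
  have hn : ∀ i, (DerivedCategory.homologyFunctor X.Modules i).map g ≫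
      (DerivedCategory.homologyFunctor X.Modules i).map ((t.truncGEπ c).app K) =
      (DerivedCategory.homologyFunctor X.Modules i).map ((t.truncGEπ c).app E) ≫
        (DerivedCategory.homologyFunctor X.Modules i).map ((t.truncGE c).map g) := fun i => by
    rw [← Functor.map_comp, ← Functor.map_comp]
    exact congrArg _ ((t.truncGEπ c).naturality g)
  constructor
  · intro h i hi
    haveI := h
    haveI := isIso_homology_truncGEπ E c i hi
    haveI := isIso_homology_truncGEπ K c i hi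
    exact IsIso.of_isIso_fac_right (hn i)
  · intro h
    rw [DerivedCategory.isIso_iff]
    intro i
    by_cases hi : c ≤ i
    · haveI := h i hi
      haveI := isIso_homology_truncGEπ E c i hi
      haveI := isIso_homology_truncGEπ K c i hi
      exact IsIso.of_isIso_fac_left (hn i).symm
    · haveI h₁ : ((t.truncGE c).obj E).IsGE c := inferInstance
      haveI h₂ : ((t.truncGE c).obj K).IsGE c := inferInstance
      exact ⟨0, ((DerivedCategory.isGE_iff _ _).1 h₁ i (by omega)).eq_of_src _ _,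
        ((DerivedCategory.isGE_iff _ _).1 h₂ i (by omega)).eq_of_src _ _⟩

/-- Eventually invertible cocones are colimits. -/
theorem isIso_desc_of_eventually {A : Type*} [Category A] [HasColimitsOfShape ℕ A] (G : ℕ ⥤ A) (c : Cocone G)
    (n₀ : ℕ) (h : ∀ n, n₀ ≤ n → IsIso (c.ι.app n)) : IsIso (colimit.desc G c) := by
  haveI := h n₀ le_rfl
  refine ⟨⟨inv (c.ι.app n₀) ≫ colimit.ι G n₀, colimit.hom_ext fun m => ?_, by simp⟩⟩
  haveI := h (max m n₀) (le_max_right _ _)
  have e₀ : inv (c.ι.app n₀) ≫ G.map (homOfLE (le_max_right m n₀)) = inv (c.ι.app (max m n₀)) := by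
    rw [IsIso.inv_comp_eq, IsIso.eq_comp_inv]
    exact c.w _
  have em : c.ι.app m = G.map (homOfLE (le_max_left m n₀)) ≫ c.ι.app (max m n₀) := (c.w _).symm
  rw [colimit.ι_desc_assoc, Category.comp_id, ← colimit.w G (homOfLE (le_max_right m n₀)), reassoc_of% e₀, em,
    Category.assoc, IsIso.hom_inv_id_assoc, colimit.w]

/-- Pseudo-coherent objects are homotopy colimits of perfect objects. -/
theorem exists_hocolim_perfect [CompactSpace X] [QuasiSeparatedSpace X]
    [HasColimitsOfShape (Discrete ℕ) (DCoh.D X)] {O : X.Opens} (hO : IsCompact (O : Set X))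
    {K : DCoh.D X} (hK : ∀ m : ℤ, DCoh.IsPseudoCoherentD m K) (hk : killed O.ι K) :
    ∃ (E : ℕ → DCoh.D X) (f : ∀ n, E n ⟶ E (n + 1)) (i : ∀ n, E n ⟶ K),
      (∀ n, DCoh.IsPerfect (E n)) ∧ (∀ n, killed O.ι (E n)) ∧ DerLim.IsHocolim E f K i ∧
      ∀ n : ℕ, IsIso ((DerivedCategory.TStructure.t.truncGE (-(n : ℤ))).map (i n)) := by
  classical
  choose next g hg using fun (n : ℕ) (S : Stage O K (-(n : ℤ) - 1)) =>
    exists_stage_succ hO hK hk S (-((n + 1 : ℕ) : ℤ) - 1)
  obtain ⟨S₀⟩ := exists_stage_zero hO hK hk (-((0 : ℕ) : ℤ) - 1)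
  let S : ∀ n : ℕ, Stage O K (-(n : ℤ) - 1) := fun n => Nat.rec S₀ next n
  let E : ℕ → DCoh.D X := fun n => (S n).E
  let f : ∀ n, E n ⟶ E (n + 1) := fun n => g n (S n)
  let i : ∀ n, E n ⟶ K := fun n => (S n).α
  have hfi : ∀ n, f n ≫ i (n + 1) = i n := fun n => hg n (S n)
  have hiso : ∀ (n : ℕ) (j : ℤ), -(n : ℤ) ≤ j →
      IsIso ((DerivedCategory.homologyFunctor X.Modules j).map (i n)) := fun n j hj => (S n).apx.1 j (by omega)
  refine ⟨E, f, i, fun n => (S n).perfect, fun n => (S n).isKilled, ?_,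
    fun n => (isIso_truncGE_map_iff _ _).2 (hiso n)⟩
  obtain ⟨L, p, c, hT⟩ := distinguished_cocone_triangle (𝟙 (∐ E) - DerLim.shiftMap E f)
  let ι' : ∀ n, E n ⟶ L := fun n => Sigma.ι E n ≫ p
  have hp : Sigma.desc ι' = p := Sigma.hom_ext _ _ fun n => by simp [ι']
  have hL : DerLim.IsHocolim E f L ι' := ⟨c, by rw [hp]; exact hT⟩
  obtain ⟨φ, hφ⟩ := Triangle.yoneda_exact₂ _ hT (Sigma.desc i) (by
    refine Sigma.hom_ext _ _ fun n => ?_
    simp [DerLim.shiftMap, Preadditive.sub_comp, Preadditive.comp_sub, hfi, sub_eq_zero])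
  replace hφ : Sigma.desc i = p ≫ φ := hφ
  haveI : IsIso φ := by
    rw [DerivedCategory.isIso_iff]
    intro j
    let H := DerivedCategory.homologyFunctor X.Modules j
    haveI : PreservesColimitsOfShape (Discrete ℕ) H :=
      haveI := DQCoh.preservesCoproducts_homologyFunctor (A := X.Modules) (ULift.{u} ℕ) j
      preservesColimitsOfShape_of_equiv (Discrete.equivalence Equiv.ulift : Discrete (ULift.{u} ℕ) ≌ Discrete ℕ) _
    obtain ⟨e, he⟩ := homological_hocolim seqMono_of_exact H E f L ι' hL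
    let G := Functor.ofSequence (fun n => H.map (f n))
    let cc : Cocone G :=
      { pt := H.obj K
        ι := NatTrans.ofSequence (fun n => H.map (i n)) fun n => by
          rw [Functor.ofSequence_map_homOfLE_succ]
          simpa using (H.map_comp (f n) (i (n + 1))).symm.trans (congrArg H.map (hfi n)) }
    have hd : e.hom ≫ H.map φ = colimit.desc G cc := colimit.hom_ext fun n => by
      rw [reassoc_of% (he n), colimit.ι_desc, ← H.map_comp]
      refine congrArg H.map ?_
      rw [show ι' n = Sigma.ι E n ≫ p from rfl, Category.assoc, ← hφ, Sigma.ι_desc]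
    haveI := isIso_desc_of_eventually G cc (-j).toNat fun n hn => hiso n j (by omega)
    exact IsIso.of_isIso_fac_left hd
  refine ⟨inv φ ≫ c, isomorphic_distinguished _ hT _ (Triangle.isoMk _ _ (Iso.refl _) (Iso.refl _) (asIso φ).symm
    (by simp) ?_ (by simp))⟩
  simp [hφ]

/-- Homotopy colimit presentations by perfect objects give pseudo-coherence. -/
theorem psc_of_truncGE_isIso {K : DCoh.D X} (E : ℕ → DCoh.D X) (i : ∀ n, E n ⟶ K)
    (hE : ∀ n, DCoh.IsPerfect (E n))
    (h : ∀ n : ℕ, IsIso ((DerivedCategory.TStructure.t.truncGE (-(n : ℤ))).map (i n))) (m : ℤ) :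
    DCoh.IsPseudoCoherentD m K := by
  obtain ⟨n, hn⟩ : ∃ n : ℕ, -(n : ℤ) ≤ m := ⟨(-m).toNat, by omega⟩
  have hiso := (isIso_truncGE_map_iff (i n) _).1 (h n)
  obtain ⟨C, v, w, hT⟩ := distinguished_cocone_triangle (i n)
  haveI := hiso m hn
  have hC : C.IsLE (m - 1) := (PullPerf.apx_iff_isLE m _ hT).1
    ⟨fun j hj => hiso j (by omega), (inferInstance : Epi ((DerivedCategory.homologyFunctor X.Modules m).map (i n)))⟩
  exact PCTriangle.psc_ext hT (DQCoh.psc_of_perfect (hE n) m)
    (PCTriangle.psc_of_gpsc (PCTriangle.psc_of_isLE (n := m - 1) (by omega) hC))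

end Groth.Agent.DQCoh.PerfApprox
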