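import Groth.Agent.DQCoh.RHomQCoh
import Groth.Agent.DQCoh.Bound
import Groth.Agent.DQCoh.Push
import Groth.Agent.DQCoh.PscNoeth
import Groth.Agent.DQCoh.PerfectHom
import Mathlib.Algebra.Homology.DerivedCategory.KInjective

/-!
# Upper bound of `RHom` into a bounded complex of injectives
-/

set_option autoImplicit false
set_option backward.isDefEq.respectTransparency false
set_option backward.defeqAttrib.useBackward true
set_option linter.style.haveILetI false
set_option linter.unusedVariables false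
set_option synthInstance.maxHeartbeats 100000

universe u

open CategoryTheory CategoryTheory.Limits CategoryTheory.Pretriangulated DerivedCategory Opposite AlgebraicGeometry
open HomologicalComplex Groth.Agent.Coherent Groth.Agent.DCat Groth.Agent.DCat.PerfLocal Groth.Agent.DCat.PullPerf

attribute [local instance] HasDerivedCategory.standard
attribute [-instance] Int.instConditionallyCompleteLinearOrder

namespace Groth.Agent.DQCoh

variable {X : Scheme.{u}}

local notation "t₀" => (DerivedCategory.TStructure.t : CategoryTheory.Triangulated.TStructure (DCoh.D X))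

/-- The total complex of complexes bounded below. -/
theorem isZero_tot_of_lt (A N : CochainComplex X.Modules ℤ) (a b : ℤ) (hA : ∀ n, n < a → IsZero (A.X n))
    (hN : ∀ n, n < b → IsZero (N.X n)) : ∀ n, n < a + b → IsZero ((tot (shT X) A N).X n) := fun n hn => by
  refine (IsZero.iff_id_eq_zero _).2 (mapBifunctor.hom_ext fun p q h => IsZero.eq_of_src ?_ _ _)
  by_cases hp : p < a
  · exact (((shT X).flip.obj (N.X q)).map_isZero (hA p hp) : IsZero (((shT X).obj (A.X p)).obj (N.X q)))
  · exact ((shT X).obj (A.X p)).map_isZero (hN q (by simp at h; omega))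

/-- There are no maps in the derived category from a complex above `r` to a K-injective complex below `r`. -/
theorem eq_zero_of_degree {T I : CochainComplex X.Modules ℤ} [I.IsKInjective] (r : ℤ)
    (hT : ∀ n, n ≤ r → IsZero (T.X n)) (hI : ∀ n, r < n → IsZero (I.X n))
    (z : DerivedCategory.Q.obj T ⟶ DerivedCategory.Q.obj I) : z = 0 := by
  let e := DerivedCategory.quotientCompQhIso X.Modules
  obtain ⟨φ, hφ⟩ := (CochainComplex.IsKInjective.Qh_map_bijective
    ((HomotopyCategory.quotient _ _).obj T) I).2 ((e.app T).hom ≫ z ≫ (e.app I).inv)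
  obtain ⟨ψ, rfl⟩ := (HomotopyCategory.quotient _ _).map_surjective φ
  have hψ : ψ = 0 := by
    refine HomologicalComplex.hom_ext _ _ fun n => ?_
    by_cases hn : n ≤ r
    · exact (hT n hn).eq_of_src _ _
    · exact (hI n (by omega)).eq_of_tgt _ _
  rw [hψ, Functor.map_zero, Functor.map_zero] at hφ
  rw [← cancel_epi (e.app T).hom, ← cancel_mono (e.app I).inv, Category.assoc, ← hφ]
  simp

/-- `RHom(C, L)` vanishes in degrees `> r - c` for `C ≥ c` and `L` a bounded complex of injectives `≤ r`. -/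
theorem isLE_RHom (C : CochainComplex X.Modules ℤ) (c : ℤ) [hC : (DerivedCategory.Q.obj C).IsGE c]
    [DCoh.HasLTensorCx C] [DCoh.HasRSheafHom C] (I : CochainComplex X.Modules ℤ) (hinj : ∀ n, Injective (I.X n))
    (a r : ℤ) (ha : ∀ n, n < a → IsZero (I.X n)) (hr : ∀ n, r < n → IsZero (I.X n))
    (L : DCoh.D X) (eL : DerivedCategory.Q.obj I ≅ L) :
    ∀ j, r - c < j → IsZero (DCoh.HD ((DCoh.RSheafHom C).obj L) j) := by
  intro j hj
  haveI : I.IsStrictlyGE a := (CochainComplex.isStrictlyGE_iff _ _).2 ha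
  haveI := hinj
  haveI := CochainComplex.isKInjective_of_injective I a
  obtain ⟨C', hC', ⟨eC⟩⟩ := DerivedCategory.exists_iso_Q_obj_of_isGE (DerivedCategory.Q.obj C) c
  haveI := LTensorSheaf.hasLTensorCx C'
  obtain ⟨α⟩ := TensorCongr.nonempty_congr (E := C) (E' := C') eC
  refine isZero_of_restrict_cover _ (fun _ : PUnit.{u + 1} => (⊤ : X.Opens)) (fun x => ⟨⟨⟩, trivial⟩) fun _ => ?_
  refine isZero_restrict_homology _ j ⊤ Set.univ (fun x U _ hxU => ⟨U, trivial, hxU, le_rfl⟩) fun W _ y => ?_
  let A : CochainComplex X.Modules ℤ :=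
    ((HomologicalComplex.single X.Modules (ComplexShape.up ℤ) 0).obj ((freeModOn X).obj W))⟦-j⟧
  have hA : IsKFlatFor (shT X) A := (isKFlatFor_single_free W).shift (-j)
  have hA0 : ∀ n, n < j → IsZero (A.X n) := fun n hn =>
    HomologicalComplex.isZero_single_obj_X (ComplexShape.up ℤ) 0 ((freeModOn X).obj W) (n + -j) (by omega)
  let eA : DerivedCategory.Q.obj A ≅ ((sec X).pt.obj W)⟦-j⟧ :=
    (DerivedCategory.Q.commShiftIso (-j)).app _
  obtain ⟨z, rfl⟩ := ((DCoh.RSheafHomAdj C).homEquiv (((sec X).pt.obj W)⟦-j⟧) L).surjective y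
  suffices hz : z = 0 by
    rw [hz, Adjunction.homEquiv_unit, Functor.map_zero, comp_zero]
  rw [← cancel_epi ((LTensorSheaf.ltensorCxIso C' hA).inv ≫ (α.app _).inv ≫ (DCoh.LTensorCx C).map eA.hom),
    ← cancel_mono eL.inv]
  refine (eq_zero_of_degree r (fun n hn => isZero_tot_of_lt A C' j c hA0
    (fun m hm => CochainComplex.isZero_of_isStrictlyGE C' c m hm) n (by omega)) hr _).trans ?_
  simp

/-- Truncations of objects with coherent cohomology have coherent cohomology. -/
theorem isCohD_truncLT [IsLocallyNoetherian X] (E : DCoh.D X) (hE : DCoh.IsCohD E) (a : ℤ) :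
    DCoh.IsCohD (((t₀).truncLT a).obj E) := fun i => by
  obtain hi | hi := lt_or_ge i a
  · haveI := mono_homology_truncLTι E a i
    haveI : Epi ((homologyFunctor X.Modules i).map (((t₀).truncLTι a).app E)) :=
      (HomologySequence.epi_homologyMap_mor₁_iff _ ((t₀).triangleLTGE_distinguished a E) i).2
        ((isZero_of_isGE (((t₀).truncGE a).obj E) a i hi).eq_of_tgt _ _)
    haveI := isIso_of_mono_of_epi ((homologyFunctor X.Modules i).map (((t₀).truncLTι a).app E))
    exact Coherent.isCoh_iso (asIso ((homologyFunctor X.Modules i).map (((t₀).truncLTι a).app E))).symm (hE i)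
  · haveI := (t₀).isLE_truncLT_obj E a (a - 1) (by omega)
    exact KZeroLib.isCoh_isZero (isZero_of_isLE (((t₀).truncLT a).obj E) (a - 1) i (by omega))

/-- A shift of a bounded complex of injectives. -/
theorem shift_rep (I : CochainComplex X.Modules ℤ) (hinj : ∀ n, Injective (I.X n)) (a b : ℤ)
    (ha : ∀ n, n < a → IsZero (I.X n)) (hb : ∀ n, b < n → IsZero (I.X n)) (L : DCoh.D X)
    (eL : DerivedCategory.Q.obj I ≅ L) (k : ℤ) :
    (∀ n, Injective ((I⟦k⟧).X n)) ∧ (∀ n, n < a - k → IsZero ((I⟦k⟧).X n)) ∧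
      (∀ n, b - k < n → IsZero ((I⟦k⟧).X n)) ∧ Nonempty (DerivedCategory.Q.obj (I⟦k⟧) ≅ L⟦k⟧) :=
  ⟨fun n => hinj (n + k), fun n hn => ha (n + k) (by omega), fun n hn => hb (n + k) (by omega),
    ⟨(DerivedCategory.Q.commShiftIso k).app I ≪≫ (shiftFunctor (DCoh.D X) k).mapIso eL⟩⟩

/-- `RHom(C, K)` has coherent cohomology for any `C` with coherent cohomology and `K` of finite injective
dimension with coherent cohomology. -/
theorem isCohD_RHom_inj [IsLocallyNoetherian X] (C : CochainComplex X.Modules ℤ)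
    (hC : DCoh.IsCohD (DerivedCategory.Q.obj C)) [DCoh.HasLTensorCx C] [DCoh.HasRSheafHom C]
    (I : CochainComplex X.Modules ℤ) (hinj : ∀ n, Injective (I.X n)) (a b : ℤ)
    (ha : ∀ n, n < a → IsZero (I.X n)) (hb : ∀ n, b < n → IsZero (I.X n))
    (K : DCoh.D X) (eK : DerivedCategory.Q.obj I ≅ K) (hK : DCoh.IsCohD K) :
    DCoh.IsCohD ((DCoh.RSheafHom C).obj K) := fun i => by
  obtain ⟨h0, hk, hc, he⟩ := coh_ops X
  haveI : I.IsStrictlyGE a := (CochainComplex.isStrictlyGE_iff _ _).2 ha
  haveI : K.IsGE a := ⟨((t₀).ge a).prop_of_iso eK (inferInstance : (DerivedCategory.Q.obj I).IsGE a).ge⟩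
  let β := b - i + 1
  refine prop_RHom_middle (coh X) hk hc he C ((t₀).triangleLTGE_distinguished β (DerivedCategory.Q.obj C))
    (Iso.refl _) K i (fun A _ _ eA k _ => ?_) fun A _ _ eA k hk' => ?_
  · haveI := (t₀).isLE_truncLT_obj (DerivedCategory.Q.obj C) β (β - 1) (by omega)
    haveI : (DerivedCategory.Q.obj A).IsLE (β - 1) :=
      ⟨((t₀).le (β - 1)).prop_of_iso eA.symm (inferInstance : (((t₀).truncLT β).obj (DerivedCategory.Q.obj C)).IsLE (β - 1)).le⟩
    haveI : (K⟦k⟧).IsGE (a - k) := (t₀).isGE_shift K a k (a - k) (by omega)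
    exact isCohD_RHom A (β - 1) (fun j => Coherent.isCoh_iso ((homologyFunctor X.Modules j).mapIso eA).symm
      (isCohD_truncLT _ hC β j)) (K⟦k⟧) (a - k)
      (fun j => Coherent.isCoh_iso (((homologyFunctor X.Modules 0).shiftIso k j (k + j) rfl).app K).symm (hK _)) i
  · haveI : (DerivedCategory.Q.obj A).IsGE β :=
      ⟨((t₀).ge β).prop_of_iso eA.symm (inferInstance : (((t₀).truncGE β).obj (DerivedCategory.Q.obj C)).IsGE β).ge⟩
    obtain ⟨hi', ha', hb', ⟨e'⟩⟩ := shift_rep I hinj a b ha hb K eK k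
    exact h0 _ (isLE_RHom A β (I⟦k⟧) hi' (a - k) (b - k) ha' hb' _ e' i (by omega))

end Groth.Agent.DQCoh
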