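import Groth.Agent.DQCoh.FlatAdm17
import Groth.Agent.CohExch.AffineBC0
import Groth.Agent.Coherent.RpushComp
import Groth.Agent.Coherent.RpushVanish
import Groth.Agent.Coherent.ModExt
import Groth.Agent.Coherent.HigherQcoh

/-!
# Base change for direct images from affine opens
-/

set_option autoImplicit false
set_option backward.isDefEq.respectTransparency false
set_option linter.style.haveILetI false

universe u

open CategoryTheory CategoryTheory.Limits AlgebraicGeometry Opposite TopologicalSpace
open Groth.Agent.Coherent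

namespace Groth.Agent.DQCoh.BCPush17

section BC

variable {X S X' S' : Scheme.{u}} (f : X ⟶ S) (g : S' ⟶ S) (f' : X' ⟶ S') (g' : X' ⟶ X) (w : g' ≫ f = f' ≫ g)

theorem bc0Adj_natural {F G : X.Modules} (a : F ⟶ G) :
    (Scheme.Modules.pushforward f).map a ≫ CohBC.bc0Adj f g f' g' w G = CohBC.bc0Adj f g f' g' w F ≫
      (Scheme.Modules.pushforward g).map ((Scheme.Modules.pushforward f').map ((Scheme.Modules.pullback g').map a)) := by
  simp only [CohBC.bc0Adj, Category.assoc]
  rw [← Functor.map_comp_assoc, show a ≫ (Scheme.Modules.pullbackPushforwardAdjunction g').unit.app G =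
    (Scheme.Modules.pullbackPushforwardAdjunction g').unit.app F ≫
      (Scheme.Modules.pushforward g').map ((Scheme.Modules.pullback g').map a) from
      (Scheme.Modules.pullbackPushforwardAdjunction g').unit.naturality a, Functor.map_comp_assoc]
  have h1 := (Scheme.Modules.pushforwardComp g' f).hom.naturality ((Scheme.Modules.pullback g').map a)
  have h2 := (Scheme.Modules.pushforwardCongr w).hom.naturality ((Scheme.Modules.pullback g').map a)
  have h3 := (Scheme.Modules.pushforwardComp f' g).inv.naturality ((Scheme.Modules.pullback g').map a)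
  simp only [Functor.comp_map] at h1 h3
  rw [reassoc_of% h1, reassoc_of% h2, h3]

theorem bc0_natural {F G : X.Modules} (a : F ⟶ G) :
    (Scheme.Modules.pullback g).map ((Scheme.Modules.pushforward f).map a) ≫ CohBC.bc0 f g f' g' w G =
      CohBC.bc0 f g f' g' w F ≫ (Scheme.Modules.pushforward f').map ((Scheme.Modules.pullback g').map a) := by
  apply ((Scheme.Modules.pullbackPushforwardAdjunction g).homEquiv _ _).injective
  rw [Adjunction.homEquiv_naturality_left, Adjunction.homEquiv_naturality_right]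
  simp only [CohBC.bc0, Equiv.apply_symm_apply]
  exact bc0Adj_natural f g f' g' w a

/-- The base change transformation. -/
noncomputable def bcNat : Scheme.Modules.pushforward f ⋙ Scheme.Modules.pullback g ⟶
    Scheme.Modules.pullback g' ⋙ Scheme.Modules.pushforward f' where
  app F := CohBC.bc0 f g f' g' w F
  naturality _ _ a := bc0_natural f g f' g' w a

variable {U U' : Scheme.{u}} (j : U ⟶ X) (j' : U' ⟶ X') (g'' : U' ⟶ U) (w' : g'' ≫ j = j' ≫ g')

include w w' in
theorem w_comp : g'' ≫ (j ≫ f) = (j' ≫ f') ≫ g := by rw [reassoc_of% w', w, Category.assoc]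

set_option backward.isDefEq.respectTransparency.types false in
theorem bc0Adj_comp (N : U.Modules) :
    (Scheme.Modules.pushforwardComp j f).hom.app N ≫
      CohBC.bc0Adj (j ≫ f) g (j' ≫ f') g'' (w_comp f g f' g' w j j' g'' w') N =
    CohBC.bc0Adj f g f' g' w ((Scheme.Modules.pushforward j).obj N) ≫
      (Scheme.Modules.pushforward g).map ((Scheme.Modules.pushforward f').map (CohBC.bc0 j g' j' g'' w' N) ≫
        (Scheme.Modules.pushforwardComp j' f').hom.app ((Scheme.Modules.pullback g'').obj N)) := by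
  let P := (Scheme.Modules.pullback g'').obj N
  have h : CohBC.bc0Adj f g f' g' w ((Scheme.Modules.pushforward j).obj N) ≫
      (Scheme.Modules.pushforward g).map ((Scheme.Modules.pushforward f').map (CohBC.bc0 j g' j' g'' w' N)) =
      (Scheme.Modules.pushforward f).map (CohBC.bc0Adj j g' j' g'' w' N) ≫
        (Scheme.Modules.pushforwardComp g' f).hom.app ((Scheme.Modules.pushforward j').obj P) ≫
        (Scheme.Modules.pushforwardCongr w).hom.app ((Scheme.Modules.pushforward j').obj P) ≫
        (Scheme.Modules.pushforwardComp f' g).inv.app ((Scheme.Modules.pushforward j').obj P) := by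
    simp only [CohBC.bc0Adj, Category.assoc]
    have h1 := (Scheme.Modules.pushforwardComp g' f).hom.naturality (CohBC.bc0 j g' j' g'' w' N)
    have h2 := (Scheme.Modules.pushforwardCongr w).hom.naturality (CohBC.bc0 j g' j' g'' w' N)
    have h3 := (Scheme.Modules.pushforwardComp f' g).inv.naturality (CohBC.bc0 j g' j' g'' w' N)
    simp only [Functor.comp_map] at h1 h3
    rw [← h3, ← reassoc_of% h2, ← reassoc_of% h1, ← Functor.map_comp_assoc]
    congr 2
    exact (((Scheme.Modules.pullbackPushforwardAdjunction g').homEquiv _ _).apply_symm_apply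
      (CohBC.bc0Adj j g' j' g'' w' N))
  rw [Functor.map_comp, reassoc_of% h]
  simp only [CohBC.bc0Adj, Category.assoc]
  apply Scheme.Modules.hom_ext
  intro V
  ext t
  simp only [Scheme.Modules.Hom.comp_app, ConcreteCategory.comp_apply, Scheme.Modules.pushforward_map_app,
    Scheme.Modules.pushforwardComp_hom_app_app, Scheme.Modules.pushforwardComp_inv_app_app,
    Scheme.Modules.pushforwardCongr_hom_app_app]
  let s : Γ((Scheme.Modules.pullback g'').obj N, g'' ⁻¹ᵁ j ⁻¹ᵁ f ⁻¹ᵁ V) :=
    ((Scheme.Modules.pullbackPushforwardAdjunction g'').unit.app N).app (j ⁻¹ᵁ f ⁻¹ᵁ V) t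
  show ((Scheme.Modules.pullback g'').obj N).presheaf.map (eqToHom _).op s =
    ((Scheme.Modules.pullback g'').obj N).presheaf.map _
      (((Scheme.Modules.pullback g'').obj N).presheaf.map (eqToHom _).op s)
  have hA : j' ⁻¹ᵁ (g' ≫ f) ⁻¹ᵁ V ≤ g'' ⁻¹ᵁ j ⁻¹ᵁ f ⁻¹ᵁ V := le_of_eq (by
    show (j' ≫ g' ≫ f) ⁻¹ᵁ V = (g'' ≫ j ≫ f) ⁻¹ᵁ V
    rw [reassoc_of% w'])
  have hB : ((j' ≫ f') ≫ g) ⁻¹ᵁ V ≤ j' ⁻¹ᵁ (g' ≫ f) ⁻¹ᵁ V := le_of_eq (by
    show ((j' ≫ f') ≫ g) ⁻¹ᵁ V = (j' ≫ g' ≫ f) ⁻¹ᵁ V
    rw [w, Category.assoc])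
  exact (resM_resM ((Scheme.Modules.pullback g'').obj N) hA hB s).symm

variable {j j' g''}

/-- Base change for a direct image follows from base change for the composite. -/
theorem isIso_bc0_push (N : U.Modules) (h₁ : IsIso (CohBC.bc0 j g' j' g'' w' N))
    (h₂ : IsIso (CohBC.bc0 (j ≫ f) g (j' ≫ f') g'' (w_comp f g f' g' w j j' g'' w') N)) :
    IsIso (CohBC.bc0 f g f' g' w ((Scheme.Modules.pushforward j).obj N)) := by
  have key : (Scheme.Modules.pullback g).map ((Scheme.Modules.pushforwardComp j f).hom.app N) ≫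
      CohBC.bc0 (j ≫ f) g (j' ≫ f') g'' (w_comp f g f' g' w j j' g'' w') N =
    CohBC.bc0 f g f' g' w ((Scheme.Modules.pushforward j).obj N) ≫
      ((Scheme.Modules.pushforward f').map (CohBC.bc0 j g' j' g'' w' N) ≫
        (Scheme.Modules.pushforwardComp j' f').hom.app ((Scheme.Modules.pullback g'').obj N)) := by
    apply ((Scheme.Modules.pullbackPushforwardAdjunction g).homEquiv _ _).injective
    refine ((Scheme.Modules.pullbackPushforwardAdjunction g).homEquiv_naturality_left _ _).trans
      (Eq.trans ?_ ((Scheme.Modules.pullbackPushforwardAdjunction g).homEquiv_naturality_right _ _).symm)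
    rw [CohBC.bc0, CohBC.bc0, Equiv.apply_symm_apply]
    refine (bc0Adj_comp f g f' g' w j j' g'' w' N).trans ?_
    congr 1
    exact (Equiv.apply_symm_apply _ _).symm
  haveI := h₁
  haveI := h₂
  haveI : IsIso (CohBC.bc0 f g f' g' w ((Scheme.Modules.pushforward j).obj N) ≫
      ((Scheme.Modules.pushforward f').map (CohBC.bc0 j g' j' g'' w' N) ≫
        (Scheme.Modules.pushforwardComp j' f').hom.app ((Scheme.Modules.pullback g'').obj N))) := by
    rw [← key]
    infer_instance
  exact IsIso.of_isIso_comp_right _ ((Scheme.Modules.pushforward f').map (CohBC.bc0 j g' j' g'' w' N) ≫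
    (Scheme.Modules.pushforwardComp j' f').hom.app ((Scheme.Modules.pullback g'').obj N))

end BC

section Acy

variable {X Y U : Scheme.{u}} [HasInjectiveResolutions X.Modules]

/-- Direct images from opens affine over the base are acyclic. -/
theorem isZero_rpush_push (f : X ⟶ Y) (j : U ⟶ X) [IsAffineHom j] [IsAffineHom (j ≫ f)] (T : U.Modules)
    [Coh.IsQCoh T] (i : ℕ) (hi : 0 < i) :
    IsZero ((Coh.Rpush f i).obj ((Scheme.Modules.pushforward j).obj T)) := by
  haveI := Coherent.hasInjectiveResolutions_modules U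
  obtain ⟨e⟩ := nonempty_rpushAb_comp_affine j f T i
  have h' : IsZero ((toAbFunctor Y).obj ((Coh.Rpush f i).obj ((Scheme.Modules.pushforward j).obj T))) :=
    ((isZero_rpushAb_of_isAffineHom (j ≫ f) T i hi).of_iso e).of_iso
      ((toAbRpushNatIso f i).app ((Scheme.Modules.pushforward j).obj T))
  rw [IsZero.iff_id_eq_zero] at h' ⊢
  exact (toAbFunctor Y).map_injective (((toAbFunctor Y).map_id _).trans (h'.trans ((toAbFunctor Y).map_zero _ _).symm))

end Acy

variable {Z S Z' S' : Scheme.{u}} (f : Z ⟶ S) (g : S' ⟶ S) (f' : Z' ⟶ S') (g' : Z' ⟶ Z)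
  [HasInjectiveResolutions Z.Modules] [HasInjectiveResolutions Z'.Modules]

/-- Modules whose direct image computes everything and commutes with base change. -/
structure Good (h : IsPullback g' f' f g) (M : Z.Modules) : Prop where
  qcoh : Coh.IsQCoh M
  flat : FlatMod.IsFlatOver f M
  acy : ∀ i : ℕ, 0 < i → IsZero ((Coh.Rpush f i).obj M)
  acy' : ∀ i : ℕ, 0 < i → IsZero ((Coh.Rpush f' i).obj ((Scheme.Modules.pullback g').obj M))
  bc : IsIso (CohBC.bc0 f g f' g' h.w M)
  flatPush : FlatMod.IsFlat ((Scheme.Modules.pushforward f).obj M)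

variable {f g f' g'} (h : IsPullback g' f' f g)

theorem Good.of_iso {M N : Z.Modules} (e : M ≅ N) (hM : Good f g f' g' h M) : Good f g f' g' h N where
  qcoh := isQCoh_of_iso e (h := hM.qcoh)
  flat := FlatAdm17.flatOver_of_iso f e hM.flat
  acy i hi := (hM.acy i hi).of_iso ((Coh.Rpush f i).mapIso e).symm
  acy' i hi := (hM.acy' i hi).of_iso ((Coh.Rpush f' i).mapIso ((Scheme.Modules.pullback g').mapIso e)).symm
  bc := by
    haveI := hM.bc
    haveI : IsIso ((bcNat f g f' g' h.w).app M) := hM.bc
    have := (bcNat f g f' g' h.w).naturality e.hom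
    show IsIso ((bcNat f g f' g' h.w).app N)
    exact (NatTrans.isIso_app_iff_of_iso (bcNat f g f' g' h.w) e).1 inferInstance
  flatPush x := FlatQCoh17.isFlatAt_of_iso ((Scheme.Modules.pushforward f).mapIso e) x (hM.flatPush x)

theorem Good.zero {M : Z.Modules} (hM : IsZero M) : Good f g f' g' h M where
  qcoh := isQCoh_of_isZero hM
  flat := FlatAdm17.flatOver_of_isZero f hM
  acy i _ := (Coh.Rpush f i).map_isZero hM
  acy' i _ := (Coh.Rpush f' i).map_isZero ((Scheme.Modules.pullback g').map_isZero hM)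
  bc := by
    refine ⟨⟨0, ((Scheme.Modules.pullback g).map_isZero ((Scheme.Modules.pushforward f).map_isZero hM)).eq_of_src _ _,
      ((Scheme.Modules.pushforward f').map_isZero ((Scheme.Modules.pullback g').map_isZero hM)).eq_of_src _ _⟩⟩
  flatPush x := by
    haveI : Subsingleton ((DerSch.stalkFunctor S x).obj ((Scheme.Modules.pushforward f).obj M)) :=
      ModuleCat.subsingleton_of_isZero ((DerSch.stalkFunctor S x).map_isZero ((Scheme.Modules.pushforward f).map_isZero hM))
    exact (inferInstanceAs (Module.Flat (S.presheaf.stalk x) ((DerSch.stalkFunctor S x).obj ((Scheme.Modules.pushforward f).obj M))))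

theorem Good.biprod {M N : Z.Modules} (hM : Good f g f' g' h M) (hN : Good f g f' g' h N) :
    Good f g f' g' h (M ⊞ N) where
  qcoh := haveI := hM.qcoh; haveI := hN.qcoh; isQCoh_biprod M N
  flat := FlatAdm17.flatOver_biprod f hM.flat hN.flat
  acy i hi := by
    rw [IsZero.iff_id_eq_zero, ← (Coh.Rpush f i).map_id, ← biprod.total, Functor.map_add, Functor.map_comp,
      Functor.map_comp, (hM.acy i hi).eq_of_tgt ((Coh.Rpush f i).map (biprod.fst : M ⊞ N ⟶ M)) 0,
      (hN.acy i hi).eq_of_tgt ((Coh.Rpush f i).map (biprod.snd : M ⊞ N ⟶ N)) 0, zero_comp, zero_comp, add_zero]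
  acy' i hi := by
    rw [IsZero.iff_id_eq_zero, ← (Coh.Rpush f' i).map_id, ← (Scheme.Modules.pullback g').map_id, ← biprod.total,
      Functor.map_add, Functor.map_add, Functor.map_comp,
      Functor.map_comp, Functor.map_comp, Functor.map_comp,
      (hM.acy' i hi).eq_of_tgt ((Coh.Rpush f' i).map ((Scheme.Modules.pullback g').map (biprod.fst : M ⊞ N ⟶ M))) 0,
      (hN.acy' i hi).eq_of_tgt ((Coh.Rpush f' i).map ((Scheme.Modules.pullback g').map (biprod.snd : M ⊞ N ⟶ N))) 0,
      zero_comp, zero_comp, add_zero]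
  bc := by
    let τ := bcNat f g f' g' h.w
    show IsIso (τ.app (M ⊞ N))
    haveI : IsIso (τ.app M) := hM.bc
    haveI : IsIso (τ.app N) := hN.bc
    let F₁ := Scheme.Modules.pushforward f ⋙ Scheme.Modules.pullback g
    let F₂ := Scheme.Modules.pullback g' ⋙ Scheme.Modules.pushforward f'
    refine ⟨⟨F₂.map biprod.fst ≫ inv (τ.app M) ≫ F₁.map biprod.inl +
      F₂.map biprod.snd ≫ inv (τ.app N) ≫ F₁.map biprod.inr, ?_, ?_⟩⟩
    · rw [Preadditive.comp_add, ← τ.naturality_assoc, ← τ.naturality_assoc, IsIso.hom_inv_id_assoc,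
        IsIso.hom_inv_id_assoc, ← F₁.map_comp, ← F₁.map_comp, ← F₁.map_add, biprod.total, F₁.map_id]
    · rw [Preadditive.add_comp, Category.assoc, Category.assoc, Category.assoc, Category.assoc, τ.naturality,
        τ.naturality, IsIso.inv_hom_id_assoc, IsIso.inv_hom_id_assoc, ← F₂.map_comp, ← F₂.map_comp, ← F₂.map_add,
        biprod.total, F₂.map_id]
  flatPush x := by
    let F := Scheme.Modules.pushforward f
    let C : ShortComplex S.Modules := (ShortComplex.mk (biprod.inl : M ⟶ M ⊞ N) biprod.snd biprod.inl_snd).map F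
    have hC : C.ShortExact := ((ShortComplex.Splitting.ofHasBinaryBiproduct M N).map F).shortExact
    exact (FlatQCoh17.flat_ses hC x (hN.flatPush x)).1 (hM.flatPush x)

/-- Direct images of relatively flat modules from opens affine over the base are good. -/
theorem Good.push {U : Scheme.{u}} (j : U ⟶ Z) [IsAffineHom j] [IsAffineHom (j ≫ f)]
    (N : U.Modules) [Coh.IsQCoh N] (hN : FlatMod.IsFlatOver (j ≫ f) N) :
    Good f g f' g' h ((Scheme.Modules.pushforward j).obj N) := by
  let U' := pullback j g'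
  let j' : U' ⟶ Z' := pullback.snd j g'
  let g'' : U' ⟶ U := pullback.fst j g'
  have hsq : IsPullback g'' j' j g' := IsPullback.of_hasPullback j g'
  have hsq' : IsPullback g'' (j' ≫ f') (j ≫ f) g := hsq.paste_vert h
  haveI : IsAffineHom j' := MorphismProperty.of_isPullback (P := @IsAffineHom) hsq inferInstance
  haveI : IsAffineHom (j' ≫ f') := MorphismProperty.of_isPullback (P := @IsAffineHom) hsq' inferInstance
  haveI : Coh.IsQCoh ((Scheme.Modules.pullback g'').obj N) := EGA43.InjFibre.isQCoh_pullback g'' N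
  haveI h₁ : IsIso (CohBC.bc0 j g' j' g'' hsq.w N) := CohExch.isIso_bc0_of_affine hsq N
  refine ⟨isQCoh_push j N, fun z => ?_, isZero_rpush_push f j N, fun i hi => ?_,
    isIso_bc0_push f g f' g' h.w hsq.w N h₁ (CohExch.isIso_bc0_of_affine hsq' N), fun s => ?_⟩
  · obtain ⟨V, hV, hzV, -⟩ := exists_isAffineOpen_mem_and_subset (x := f z) (U := (⊤ : S.Opens)) trivial
    obtain ⟨W, hW, hzW, hWV⟩ := exists_isAffineOpen_mem_and_subset (x := z) (U := f ⁻¹ᵁ V) hzV
    exact (FlatQCoh17.flatOver_push_iff j f N V W hV hW hWV).2 (fun x _ => hN x) z hzW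
  · exact (isZero_rpush_push f' j' ((Scheme.Modules.pullback g'').obj N) i hi).of_iso
      ((Coh.Rpush f' i).mapIso (asIso (CohBC.bc0 j g' j' g'' hsq.w N)))
  · refine FlatQCoh17.isFlatAt_of_iso ((Scheme.Modules.pushforwardComp j f).app N).symm s ?_
    obtain ⟨V, hV, hsV, -⟩ := exists_isAffineOpen_mem_and_subset (x := s) (U := (⊤ : S.Opens)) trivial
    rw [← FlatQCoh17.isFlatAt_iff]
    refine (FlatQCoh17.flatOver_push_iff (j ≫ f) (𝟙 S) N V V hV hV le_rfl).2 (fun x _ => ?_) s hsV
    rw [Category.comp_id]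
    exact hN x

end Groth.Agent.DQCoh.BCPush17
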