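import Groth.Agent.DQCoh.RelTorAffine
import Groth.Prelude.Def_DualSh

/-!
# Relative perfectness, affine-locally
-/

set_option autoImplicit false
set_option backward.isDefEq.respectTransparency false
set_option backward.defeqAttrib.useBackward true
set_option linter.style.haveILetI false
set_option synthInstance.maxHeartbeats 100000
set_option linter.unusedVariables false
set_option backward.isDefEq.respectTransparency.types false

universe u

open CategoryTheory CategoryTheory.Limits CategoryTheory.Pretriangulated DerivedCategory Opposite TopologicalSpace AlgebraicGeometry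
open Groth.Agent.SiteDer16 Groth.Agent.DCat Groth.Agent.Coherent

namespace Groth.Agent.DQCoh

attribute [local instance] HasDerivedCategory.standard
attribute [-instance] Int.instConditionallyCompleteLinearOrder

variable {X S T : Scheme.{u}}

theorem locRel_iso {f : X ⟶ S} {K L : DCoh.D X} (e : K ≅ L) (h : DCoh.LocHasFiniteRelTorDim f K) :
    DCoh.LocHasFiniteRelTorDim f L := fun x => by
  obtain ⟨V, a, b, hx, hV⟩ := h x
  exact ⟨V, a, b, hx, fun F' ⟨eF⟩ => hV F' ⟨eF ≪≫ e.symm⟩⟩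

/-- Restriction to an open. -/
theorem locRel_rd {W : Scheme.{u}} (k : W ⟶ X) [IsOpenImmersion k] {f : X ⟶ S} {K : DCoh.D X}
    (h : DCoh.LocHasFiniteRelTorDim f K) : DCoh.LocHasFiniteRelTorDim (k ≫ f) ((PerfLocal.rd k).obj K) := by
  rw [locRel_iff] at h ⊢
  intro y
  obtain ⟨W₁, k₁, _, a, b, hx, hrel⟩ := h (k.base y)
  let O : W.Opens := k ⁻¹ᵁ k₁.opensRange
  have hr : Set.range (O.ι ≫ k) ⊆ Set.range k₁ := by
    rintro _ ⟨z, rfl⟩
    exact z.2
  let l := IsOpenImmersion.lift k₁ (O.ι ≫ k) hr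
  have hl : l ≫ k₁ = O.ι ≫ k := IsOpenImmersion.lift_fac _ _ _
  haveI : IsOpenImmersion l := by
    haveI : IsOpenImmersion (l ≫ k₁) := by rw [hl]; infer_instance
    exact IsOpenImmersion.of_comp l k₁
  obtain ⟨c₁⟩ := PerfLocal.rd_comp l k₁ K
  obtain ⟨d⟩ := nonempty_rd_congr (X := X) hl
  obtain ⟨c₂⟩ := PerfLocal.rd_comp O.ι k K
  refine ⟨_, O.ι, inferInstance, a, b, by simpa [O] using hx, ?_⟩
  exact relAmp_congr (by rw [← Category.assoc, hl, Category.assoc])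
    (relAmp_iso (c₁.symm ≪≫ d.app K ≪≫ c₂) (relAmp_rd l hrel))

/-- Finite relative tor dimension is local. -/
theorem locRel_of_local (f : X ⟶ S) (K : DCoh.D X) (h : ∀ x : X, ∃ (W : Scheme.{u}) (k : W ⟶ X) (_ : IsOpenImmersion k),
    x ∈ k.opensRange ∧ DCoh.LocHasFiniteRelTorDim (k ≫ f) ((PerfLocal.rd k).obj K)) :
    DCoh.LocHasFiniteRelTorDim f K := by
  rw [locRel_iff]
  intro x
  obtain ⟨W, k, _, ⟨y, rfl⟩, hW⟩ := h x
  obtain ⟨W', g, _, a, b, ⟨z, hz⟩, hrel⟩ := (locRel_iff _ _).1 hW y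
  obtain ⟨c⟩ := PerfLocal.rd_comp g k K
  exact ⟨W', g ≫ k, inferInstance, a, b, ⟨z, congrArg k.base hz⟩,
    relAmp_congr (Category.assoc _ _ _).symm (relAmp_iso c.symm hrel)⟩

theorem relAmp_comp_iff {f : X ⟶ T} (j : T ⟶ S) [IsOpenImmersion j] {a b : ℤ} {K : DCoh.D X} :
    DCoh.HasRelFlatAmplitudeIn (f ≫ j) a b K ↔ DCoh.HasRelFlatAmplitudeIn f a b K :=
  ⟨fun ⟨E, h1, h2, h3⟩ => ⟨E, h1, fun i x => (isFlatOverAt_comp_iff f j _ x).1 (h2 i x), h3⟩,
    fun ⟨E, h1, h2, h3⟩ => ⟨E, h1, fun i x => (isFlatOverAt_comp_iff f j _ x).2 (h2 i x), h3⟩⟩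

theorem locRel_comp_iff (f : X ⟶ T) (j : T ⟶ S) [IsOpenImmersion j] (K : DCoh.D X) :
    DCoh.LocHasFiniteRelTorDim (f ≫ j) K ↔ DCoh.LocHasFiniteRelTorDim f K := by
  simp only [locRel_iff, ← Category.assoc, relAmp_comp_iff]

/-- Algebraic and geometric perfectness on a pair of affine opens. -/
theorem relPerfect_chart (f : X ⟶ S) [Flat f] {U : X.Opens} (hU : IsAffineOpen U) {V : S.Opens} (hV : IsAffineOpen V)
    (hUV : U ≤ f ⁻¹ᵁ V) [PreservesFiniteLimits (tilde.functor Γ(X, U))] (E : DCoh.D X)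
    (M : DerivedCategory (ModuleCat.{u} Γ(X, U)))
    (e : (PerfLocal.rd hU.isoSpec.inv).obj ((PerfLocal.rd U.ι).obj E) ≅ (DCoh.tildeD Γ(X, U)).obj M) :
    ((∀ m : ℤ, DCoh.IsPseudoCoherentD m ((PerfLocal.rd hU.fromSpec).obj E)) ∧
        DCoh.LocHasFiniteRelTorDim (hU.fromSpec ≫ f) ((PerfLocal.rd hU.fromSpec).obj E)) ↔
      @Dual2.IsRelPerfect Γ(S, V) Γ(X, U) _ _ (f.appLE V U hUV).hom.toAlgebra M := by
  letI := (f.appLE V U hUV).hom.toAlgebra
  let φ : Γ(S, V) ⟶ Γ(X, U) := f.appLE V U hUV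
  have hφ : Spec.map φ ≫ hV.fromSpec = hU.fromSpec ≫ f := IsAffineOpen.SpecMap_appLE_fromSpec f hV hU _
  haveI : Flat (Spec.map φ) := by
    haveI : Flat (Spec.map φ ≫ hV.fromSpec) := by rw [hφ]; infer_instance
    exact MorphismProperty.of_postcomp (W' := @IsOpenImmersion) @Flat (Spec.map φ) hV.fromSpec inferInstance ‹_›
  have hflat : φ.hom.Flat := (HasRingHomProperty.Spec_iff (P := @Flat)).1 inferInstance
  obtain ⟨c⟩ := PerfLocal.rd_comp hU.isoSpec.inv U.ι E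
  have e' : (PerfLocal.rd hU.fromSpec).obj E ≅ (DCoh.tildeD Γ(X, U)).obj M := c ≪≫ e
  rw [← hφ, locRel_comp_iff]
  refine Iff.trans ?_ (relPerfect_affine_iff φ hflat M)
  exact ⟨fun h => ⟨fun m => PCTriangle.psc_iso e' (h.1 m), locRel_iso e' h.2⟩,
    fun h => ⟨fun m => PCTriangle.psc_iso e'.symm (h.1 m), locRel_iso e'.symm h.2⟩⟩

/-- The affine-local criterion. -/
theorem relPerfect_of_cover (f : X ⟶ S) [Flat f] [∀ R : CommRingCat.{u}, PreservesFiniteLimits (tilde.functor R)]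
    (E : DCoh.D X) (hE : DCoh.IsQCohD E)
    (h : ∀ x : X, ∃ (U : X.Opens) (hU : IsAffineOpen U) (V : S.Opens) (hV : IsAffineOpen V) (hUV : U ≤ f ⁻¹ᵁ V), x ∈ U ∧
      ∀ M : DerivedCategory (ModuleCat.{u} Γ(X, U)),
        Nonempty ((PerfLocal.rd hU.isoSpec.inv).obj ((PerfLocal.rd U.ι).obj E) ≅ (DCoh.tildeD Γ(X, U)).obj M) →
          @Dual2.IsRelPerfect Γ(S, V) Γ(X, U) _ _ (f.appLE V U hUV).hom.toAlgebra M) :
    (∀ m : ℤ, DCoh.IsPseudoCoherentD m E) ∧ DCoh.LocHasFiniteRelTorDim f E := by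
  have key : ∀ x : X, ∃ (W : Scheme.{u}) (k : W ⟶ X) (_ : IsOpenImmersion k), x ∈ k.opensRange ∧
      ((∀ m : ℤ, DCoh.IsPseudoCoherentD m ((PerfLocal.rd k).obj E)) ∧
        DCoh.LocHasFiniteRelTorDim (k ≫ f) ((PerfLocal.rd k).obj E)) := fun x => by
    obtain ⟨U, hU, V, hV, hUV, hx, hM⟩ := h x
    obtain ⟨M, ⟨e⟩⟩ := ((tildeD_main Γ(X, U)).2.2 _).1 (isQCohD_rd hU.isoSpec.inv (isQCohD_rd U.ι hE))
    exact ⟨_, hU.fromSpec, inferInstance, by rw [hU.opensRange_fromSpec]; exact hx,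
      (relPerfect_chart f hU hV hUV E M e.symm).2 (hM M ⟨e.symm⟩)⟩
  refine ⟨fun m => psc_of_local E fun x => ?_, locRel_of_local f E fun x => ?_⟩
  · obtain ⟨W, k, hk, hx, hp, -⟩ := key x
    exact ⟨W, k, hk, hx, hp m⟩
  · obtain ⟨W, k, hk, hx, -, ht⟩ := key x
    exact ⟨W, k, hk, hx, ht⟩

end Groth.Agent.DQCoh
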