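import Groth.Agent.DQCoh.AdicProStep
import Groth.Agent.DCat.DTenCore
import Groth.Agent.DCat.KFlatRes
import Groth.Prelude.Def_ega3
import Mathlib.Data.Int.Interval

/-! `K ⊗^L A/I^n → K/I^n K` is a pro-isomorphism for bounded complexes of finite modules. -/

set_option autoImplicit false
set_option backward.isDefEq.respectTransparency false
set_option backward.defeqAttrib.useBackward true
set_option linter.style.haveILetI false

universe u

open CategoryTheory CategoryTheory.Limits Opposite MonoidalCategory HomologicalComplex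
attribute [local instance] HasDerivedCategory.standard

namespace Groth.Agent.DQCoh.AdicPro

open DCat

variable {A : Type u} [CommRing A]

/-- `N[0]`. -/
noncomputable abbrev single0 (A : Type u) [CommRing A] : ModuleCat.{u} A ⥤ DRing.Cx A :=
  HomologicalComplex.single (ModuleCat.{u} A) (ComplexShape.up ℤ) 0

section TotSingle

universe v₁ v₂ v₃ u₁ u₂ u₃

variable {A₁ : Type u₁} [Category.{v₁} A₁] [Preadditive A₁] {B : Type u₂} [Category.{v₂} B] [Preadditive B]
  [HasZeroObject B] {C : Type u₃} [Category.{v₃} C] [Abelian C] (T : A₁ ⥤ B ⥤ C) [T.Additive]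
  [∀ a, (T.obj a).Additive]
  [∀ (K₁ : CochainComplex A₁ ℤ) (K₂ : CochainComplex B ℤ), CochainComplex.HasMapBifunctor K₁ K₂ T]

/-- The total complex with a single term. -/
noncomputable def totSingleIso (M : CochainComplex A₁ ℤ) (P : B) :
    ((T.flip.obj P).mapHomologicalComplex (ComplexShape.up ℤ)).obj M ≅
      tot T M ((HomologicalComplex.single B (ComplexShape.up ℤ) 0).obj P) :=
  Hom.isoOfComponents (fun n =>
    { hom := (T.obj (M.X n)).map (singleObjXSelf (ComplexShape.up ℤ) 0 P).inv ≫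
        ιMapBifunctor M ((HomologicalComplex.single B (ComplexShape.up ℤ) 0).obj P) T (ComplexShape.up ℤ) n 0 n (by simp)
      inv := mapBifunctorDesc fun p q h => if hq : q = 0 then
        (T.map (M.XIsoOfEq (show p = n by subst hq; simpa using h)).hom).app
            (((HomologicalComplex.single B (ComplexShape.up ℤ) 0).obj P).X q) ≫
          (T.obj (M.X n)).map ((((HomologicalComplex.single B (ComplexShape.up ℤ) 0).obj P).XIsoOfEq hq).hom ≫
            (singleObjXSelf (ComplexShape.up ℤ) 0 P).hom) else 0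
      hom_inv_id := by simp [← Functor.map_comp]
      inv_hom_id := mapBifunctor.hom_ext fun p q h => by
        dsimp
        rw [ι_mapBifunctorDesc_assoc, Category.comp_id]
        by_cases hq : q = 0
        · subst hq
          obtain rfl : p = n := by simpa using h
          simp [← Functor.map_comp_assoc]
        · exact IsZero.eq_of_src
            ((T.obj _).map_isZero (isZero_single_obj_X (ComplexShape.up ℤ) 0 P q hq)) _ _ })
    (fun i j hij => by
      dsimp
      simp only [Category.assoc, mapBifunctor.d_eq, Preadditive.comp_add, mapBifunctor.ι_D₁, mapBifunctor.ι_D₂]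
      rw [mapBifunctor.d₁_eq _ _ _ _ hij _ _ (by simpa using hij), mapBifunctor.d₂_eq _ _ _ _ _
        (show (ComplexShape.up ℤ).Rel 0 1 by simp) _ (by simp at hij ⊢; omega), single_obj_d]
      simp)

end TotSingle

/-- `X ⊗ N[0]` is computed termwise. -/
noncomputable def sIso (X : DRing.Cx A) (N : ModuleCat.{u} A) : (tX X).obj N ≅ X ⊗ (single0 A).obj N :=
  totSingleIso (modT A) X N

lemma sIso_hom_f (X : DRing.Cx A) (N : ModuleCat.{u} A) (n : ℤ) :
    (sIso X N).hom.f n = X.X n ◁ (singleObjXSelf (ComplexShape.up ℤ) 0 N).inv ≫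
      ιMapBifunctor X ((single0 A).obj N) (modT A) (ComplexShape.up ℤ) n 0 n (by simp) := rfl

lemma sIso_natural₁ {X Y : DRing.Cx A} (c : X ⟶ Y) (N : ModuleCat.{u} A) :
    (tC c).app N ≫ (sIso Y N).hom = (sIso X N).hom ≫ (c ▷ (single0 A).obj N) := by
  refine HomologicalComplex.hom_ext _ _ fun n => ?_
  rw [HomologicalComplex.comp_f, HomologicalComplex.comp_f, sIso_hom_f, sIso_hom_f, Category.assoc]
  show c.f n ▷ N ≫ _ ≫ _ = _ ≫ _ ≫ (mapBifunctorMap c (𝟙 ((single0 A).obj N)) (modT A) (ComplexShape.up ℤ)).f n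
  rw [ι_mapBifunctorMap]
  simp [MonoidalCategory.whisker_exchange_assoc]

lemma sIso_natural₂ (X : DRing.Cx A) {N N' : ModuleCat.{u} A} (f : N ⟶ N') :
    (tX X).map f ≫ (sIso X N').hom = (sIso X N).hom ≫ (X ◁ (single0 A).map f) := by
  refine HomologicalComplex.hom_ext _ _ fun n => ?_
  rw [HomologicalComplex.comp_f, HomologicalComplex.comp_f, sIso_hom_f, sIso_hom_f, Category.assoc]
  show X.X n ◁ f ≫ _ ≫ _ = _ ≫ _ ≫ (mapBifunctorMap (𝟙 X) ((single0 A).map f) (modT A) (ComplexShape.up ℤ)).f n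
  rw [ι_mapBifunctorMap]
  simp [single_map_f_self]

/-- `(g_1^k, …, g_r^k)`. -/
def powIdeal : List A → ℕ → Ideal A
  | [], _ => ⊥
  | g :: l, k => Ideal.span {g ^ k} ⊔ powIdeal l k

lemma powIdeal_anti : ∀ (l : List A) {k k' : ℕ}, k' ≤ k → powIdeal l k ≤ powIdeal l k'
  | [], _, _, _ => le_rfl
  | g :: l, _, _, h => sup_le_sup ((Ideal.span_singleton_le_span_singleton).2 (pow_dvd_pow g h)) (powIdeal_anti l h)

/-- `A / (g_1^k, …, g_r^k)`. -/
noncomputable def Bsys (l : List A) : ARSys.PS (ModuleCat.{u} A) where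
  obj k := ModuleCat.of A (A ⧸ powIdeal l k.unop)
  map φ := ModuleCat.ofHom (Submodule.factor (powIdeal_anti l (leOfHom φ.unop)))
  map_id k := ModuleCat.hom_ext (Submodule.linearMap_qext _ rfl)
  map_comp φ ψ := ModuleCat.hom_ext (Submodule.linearMap_qext _ rfl)

/-- The projection to the next stage. -/
noncomputable def Bπ (g : A) (l : List A) : Bsys l ⟶ Bsys (g :: l) where
  app k := ModuleCat.ofHom (Submodule.factor (le_sup_right : powIdeal l k.unop ≤ powIdeal (g :: l) k.unop))
  naturality _ _ _ := ModuleCat.hom_ext (Submodule.linearMap_qext _ rfl)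

lemma Bπ_surjective (g : A) (l : List A) (k : ℕᵒᵖ) : Function.Surjective ((Bπ g l).app k).hom :=
  Submodule.factor_surjective le_sup_right

lemma Bπ_exact (g : A) (l : List A) (k : ℕᵒᵖ) (x : (Bsys l).obj k) :
    ((Bπ g l).app k).hom x = 0 ↔ ∃ y : (Bsys l).obj k, g ^ k.unop • y = x := by
  obtain ⟨a, rfl⟩ := Submodule.mkQ_surjective (powIdeal l k.unop) x
  change Submodule.Quotient.mk (p := powIdeal (g :: l) k.unop) a = 0 ↔ _
  rw [Submodule.Quotient.mk_eq_zero]
  constructor
  · intro h
    obtain ⟨s, hs, t, ht, rfl⟩ := Submodule.mem_sup.1 h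
    obtain ⟨r, rfl⟩ := Ideal.mem_span_singleton'.1 hs
    refine ⟨Submodule.Quotient.mk r, ?_⟩
    change Submodule.Quotient.mk (g ^ k.unop • r) = Submodule.Quotient.mk (p := powIdeal l k.unop) (r * g ^ k.unop + t)
    rw [Submodule.Quotient.eq, smul_eq_mul]
    have : g ^ k.unop * r - (r * g ^ k.unop + t) = -t := by ring
    rw [this]
    exact neg_mem ht
  · rintro ⟨y, hy⟩
    obtain ⟨r, rfl⟩ := Submodule.mkQ_surjective (powIdeal l k.unop) y
    change Submodule.Quotient.mk (g ^ k.unop • r) = Submodule.Quotient.mk (p := powIdeal l k.unop) a at hy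
    rw [Submodule.Quotient.eq, smul_eq_mul] at hy
    refine Submodule.mem_sup.2 ⟨g ^ k.unop * r, Ideal.mem_span_singleton'.2 ⟨r, mul_comm _ _⟩,
      -(g ^ k.unop * r - a), neg_mem hy, by ring⟩

lemma exists_kill_bound [IsNoetherianRing A] (M : Type u) [AddCommGroup M] [Module A M] [Module.Finite A M] (g : A) :
    ∃ c : ℕ, ∀ (m : ℕ) (x : M), g ^ m • x = 0 → g ^ c • x = 0 := by
  let f : ℕ →o Submodule A M :=
    ⟨fun m => LinearMap.ker ((g ^ m) • (LinearMap.id : M →ₗ[A] M)), fun a b h x (hx : g ^ a • x = 0) => by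
      show g ^ b • x = 0
      rw [← Nat.sub_add_cancel h, pow_add, mul_smul, hx, smul_zero]⟩
  obtain ⟨c, hc⟩ := (monotone_stabilizes_iff_noetherian.2 inferInstance) f
  refine ⟨c, fun m x hx => ?_⟩
  have hx' : x ∈ f m := hx
  rcases le_total m c with h | h
  · exact f.monotone h hx'
  · rw [← hc m h] at hx'
    exact hx'

instance finite_Bsys (l : List A) (k : ℕᵒᵖ) : Module.Finite A ((Bsys l).obj k) :=
  inferInstanceAs (Module.Finite A (A ⧸ powIdeal l k.unop))

lemma stab_of_flat [IsNoetherianRing A] (g : A) (l : List A) (P : DRing.Cx A) (hP : DRing.TermwiseFlat P) :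
    Stab g (Bsys l) P := fun n => by
  obtain ⟨c, hc⟩ := exists_kill_bound ((Bsys l).obj (op n)) g
  refine ⟨c, fun i m x hx => ?_⟩
  let N := (Bsys l).obj (op n)
  let μ : ℕ → N →ₗ[A] N := fun j => g ^ j • LinearMap.id
  have key : ∀ (j : ℕ) (y : TensorProduct A (P.X i) N), LinearMap.lTensor (P.X i) (μ j) y = g ^ j • y := fun j y => by
    simp only [μ, LinearMap.lTensor_smul, LinearMap.lTensor_id]
    rfl
  haveI := hP i
  have hex := Module.Flat.lTensor_exact (P.X i) (LinearMap.exact_subtype_ker_map (μ m))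
  have hzero : LinearMap.lTensor (P.X i) (μ c) ∘ₗ LinearMap.lTensor (P.X i) (LinearMap.ker (μ m)).subtype = 0 := by
    rw [← LinearMap.lTensor_comp,
      show μ c ∘ₗ (LinearMap.ker (μ m)).subtype = 0 from LinearMap.ext fun z => hc m z.1 z.2, LinearMap.lTensor_zero]
  obtain ⟨z, hz⟩ := (hex x).1 ((key m x).trans hx)
  rw [← key]
  exact (congrArg _ hz.symm).trans (LinearMap.congr_fun hzero z)

lemma stab_of_bounded [IsNoetherianRing A] (g : A) (l : List A) (K : DRing.Cx A) (a b : ℤ)
    (hK : DRing.VanishesOutside K a b) (hKf : ∀ i : ℤ, Module.Finite A (K.X i)) :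
    Stab g (Bsys l) K := fun n => by
  have h : ∀ i : ℤ, ∃ c : ℕ, ∀ (m : ℕ) (x : ((tX K).obj ((Bsys l).obj (op n))).X i),
      g ^ m • x = 0 → g ^ c • x = 0 := fun i => by
    haveI := hKf i
    exact exists_kill_bound (TensorProduct A (K.X i) ((Bsys l).obj (op n))) g
  choose c hc using h
  refine ⟨(Finset.Icc a b).sup c, fun i m x hx => ?_⟩
  by_cases hi : i ∈ Finset.Icc a b
  · rw [← Nat.sub_add_cancel (Finset.le_sup (f := c) hi), pow_add, mul_smul, hc i m x hx, smul_zero]
  · have hz : IsZero (((tX K).obj ((Bsys l).obj (op n))).X i) :=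
      (tensorRight ((Bsys l).obj (op n))).map_isZero (hK i (by rw [Finset.mem_Icc] at hi; omega))
    haveI := ModuleCat.subsingleton_of_isZero hz
    exact Subsingleton.elim _ _

/-- `A / (g_1^k, …)` computes the derived tensor product up to pro-isomorphism. -/
theorem proIso_Bsys [IsNoetherianRing A] {P K : DRing.Cx A} (c : P ⟶ K) [QuasiIso c]
    (hP : DRing.TermwiseFlat P) (a b : ℤ) (hK : DRing.VanishesOutside K a b)
    (hKf : ∀ i : ℤ, Module.Finite A (K.X i)) :
    ∀ l : List A, DerCA.IsProIso (Functor.whiskerLeft (Bsys l) (Functor.whiskerRight (tC c) DerivedCategory.Q))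
  | g :: l => step g (Bπ g l) (Bπ_surjective g l) (Bπ_exact g l) c (stab_of_flat g l P hP)
      (stab_of_bounded g l K a b hK hKf) (proIso_Bsys c hP a b hK hKf l)
  | [] => by
    haveI : ∀ k : ℕᵒᵖ, IsIso ((Functor.whiskerLeft (Bsys ([] : List A))
        (Functor.whiskerRight (tC c) DerivedCategory.Q)).app k) := fun k => by
      haveI := DCat.hasLTen A
      have hflat : Module.Flat A ((Bsys ([] : List A)).obj k) :=
        Module.Flat.of_linearEquiv (Submodule.quotEquivOfEqBot (⊥ : Ideal A) rfl)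
      have hN : IsKFlatFor (modT A) ((single0 A).obj ((Bsys ([] : List A)).obj k)) := by
        haveI := hflat
        haveI := preservesFiniteLimits_flip_of_flat ((Bsys ([] : List A)).obj k)
        exact isKFlatFor_single 0
      haveI := quasiIso_whiskerRight hN c
      haveI := isIso_Q_map_of_qis (c ▷ (single0 A).obj ((Bsys ([] : List A)).obj k))
      have e := congrArg (DerivedCategory.Q.map) (sIso_natural₁ c ((Bsys ([] : List A)).obj k))
      rw [Functor.map_comp, Functor.map_comp] at e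
      exact IsIso.of_isIso_fac_right e
    haveI := NatIso.isIso_of_isIso_app (Functor.whiskerLeft (Bsys ([] : List A))
      (Functor.whiskerRight (tC c) DerivedCategory.Q))
    exact Pro.of_isIso _

lemma powIdeal_le (l : List A) (I : Ideal A) (hl : ∀ g ∈ l, g ∈ I) (k : ℕ) : powIdeal l k ≤ I ^ k := by
  induction l with
  | nil => exact bot_le
  | cons g l ih =>
    exact sup_le ((Ideal.span_singleton_le_iff_mem _).2 (Ideal.pow_mem_pow (hl g (by simp)) k))
      (ih fun x hx => hl x (by simp [hx]))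

lemma mem_radical_powIdeal (l : List A) (k : ℕ) {g : A} (hg : g ∈ l) : g ∈ (powIdeal l k).radical := by
  induction l with
  | nil => simp at hg
  | cons f l ih =>
    rcases List.mem_cons.1 hg with rfl | h
    · exact ⟨k, Submodule.mem_sup_left (Ideal.mem_span_singleton_self _)⟩
    · exact Ideal.radical_mono le_sup_right (ih h)

lemma adic_tr_mk (I : Ideal A) {n m : ℕ} (h : n ≤ m) :
    ModuleCat.ofHom (Submodule.mkQ (I ^ (m + 1) • (⊤ : Submodule A A))) ≫ ARSys.tr (CohIII.adicSystem I (ModuleCat.of A A)) h =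
      ModuleCat.ofHom (Submodule.mkQ (I ^ (n + 1) • (⊤ : Submodule A A))) := by
  induction m, h using Nat.le_induction with
  | base =>
    rw [Pro.tr_refl]
    exact Category.comp_id _
  | succ m hm ih =>
    rw [← Pro.tr_comp (CohIII.adicSystem I (ModuleCat.of A A)) hm (Nat.le_succ m), ← ih, ← Category.assoc]
    congr 1
    rw [show ARSys.tr (CohIII.adicSystem I (ModuleCat.of A A)) (Nat.le_succ m) = ModuleCat.ofHom (Submodule.factor
      (Submodule.smul_mono_left (Ideal.pow_le_pow_right (Nat.le_succ (m + 1))))) from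
        Functor.ofOpSequence_map_homOfLE_succ _ m]
    exact ModuleCat.hom_ext (LinearMap.ext fun x => rfl)

/-- Shifting the index by one. -/
abbrev succOp : ℕᵒᵖ ⥤ ℕᵒᵖ :=
  (Monotone.functor (f := fun n : ℕ => n + 1) (fun _ _ h => Nat.add_le_add_right h 1)).op

lemma powIdeal_le_smul {l : List A} {I : Ideal A} (hl : ∀ g ∈ l, g ∈ I) (n : ℕ) :
    powIdeal l (n + 1) ≤ I ^ (n + 1) • (⊤ : Submodule A A) :=
  fun _ hx => (smul_eq_mul (I ^ (n + 1)) ⊤).symm ▸ (Ideal.mul_top (I ^ (n + 1))).symm ▸ powIdeal_le l I hl (n + 1) hx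

/-- The comparison with the adic system. -/
noncomputable def toAdic (l : List A) (I : Ideal A) (hl : ∀ g ∈ l, g ∈ I) :
    succOp ⋙ Bsys l ⟶ CohIII.adicSystem I (ModuleCat.of A A) :=
  NatTrans.ofOpSequence
    (fun n => ModuleCat.ofHom (Submodule.factor (powIdeal_le_smul hl n)))
    (fun n => by
      rw [show (CohIII.adicSystem I (ModuleCat.of A A)).map (homOfLE (n.le_add_right 1)).op = ModuleCat.ofHom
        (Submodule.factor (Submodule.smul_mono_left (Ideal.pow_le_pow_right (Nat.le_succ (n + 1))))) from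
          Functor.ofOpSequence_map_homOfLE_succ _ n]
      exact ModuleCat.hom_ext (Submodule.linearMap_qext _ rfl))

lemma isProIso_toAdic (l : List A) (I : Ideal A) (hl : ∀ g ∈ l, g ∈ I) (hI : I.FG)
    (hle : ∀ k, I ≤ (powIdeal l k).radical) : DerCA.IsProIso (toAdic l I hl) := fun n => by
  obtain ⟨m, hm⟩ := Ideal.exists_pow_le_of_le_radical_of_fg (hle (n + 1)) hI
  have hb : I ^ (max n m + 1) • (⊤ : Submodule A A) ≤ powIdeal l (n + 1) := by
    rw [smul_eq_mul, Ideal.mul_top]
    exact (Ideal.pow_le_pow_right (by omega)).trans hm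
  refine ⟨max n m, le_max_left _ _, ModuleCat.ofHom (Submodule.factor hb), ?_, ?_⟩
  · exact ModuleCat.hom_ext (Submodule.linearMap_qext _ rfl)
  · haveI : Epi (ModuleCat.ofHom (Submodule.mkQ (I ^ (max n m + 1) • (⊤ : Submodule A A)))) :=
      (ModuleCat.epi_iff_surjective _).2 (Submodule.mkQ_surjective _)
    rw [← cancel_epi (ModuleCat.ofHom (Submodule.mkQ (I ^ (max n m + 1) • (⊤ : Submodule A A))))]
    erw [adic_tr_mk I (le_max_left n m)]
    exact ModuleCat.hom_ext (LinearMap.ext fun x => rfl)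

/-- `K ⊗^L A/I^{n+1} → K/I^{n+1} K` is a pro-isomorphism. -/
theorem isProIso_main [IsNoetherianRing A] [DTen.HasLTen A] (I : Ideal A) (K : DRing.Cx A) (a b : ℤ)
    (hK : DRing.VanishesOutside K a b) (hKf : ∀ i : ℤ, Module.Finite A (K.X i)) :
    DerCA.IsProIso (Functor.whiskerLeft (CohIII.adicSystem I (ModuleCat.of A A) ⋙ single0 A) (DTen.εLeft A K)) := by
  classical
  obtain ⟨s, hs⟩ : I.FG := IsNoetherian.noetherian I
  have hl : ∀ g ∈ s.toList, g ∈ I := fun g hg => hs ▸ Ideal.subset_span (Finset.mem_toList.1 hg)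
  obtain ⟨P, c, hP, hPf, hc, -⟩ := exists_kflat K
  haveI := hc
  haveI := isIso_Q_map_of_qis c
  let l := s.toList
  let V := succOp ⋙ Bsys l
  let u := toAdic l I hl
  have hu : DerCA.IsProIso u := isProIso_toAdic l I hl ⟨s, hs⟩ fun k => by
    rw [← hs, Ideal.span_le]
    exact fun g hg => mem_radical_powIdeal l k (Finset.mem_toList.2 hg)
  let G₁ := single0 A ⋙ DerivedCategory.Q ⋙ (DTen.LTen A).obj (DerivedCategory.Q.obj K)
  let G₂ := single0 A ⋙ tensorLeft K ⋙ DerivedCategory.Q
  let τ : G₁ ⟶ G₂ := Functor.whiskerLeft (single0 A) (DTen.εLeft A K)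
  have hV : DerCA.IsProIso (Functor.whiskerLeft V τ) := by
    let τ₀ : tX P ⋙ DerivedCategory.Q ⟶ tX K ⋙ DerivedCategory.Q := Functor.whiskerRight (tC c) DerivedCategory.Q
    haveI : ∀ N, IsIso ((DTen.ε A).app (P, (single0 A).obj N)) := fun N => isIso_ε_of_left hP
    let α : ∀ N : ModuleCat.{u} A, (tX P ⋙ DerivedCategory.Q).obj N ≅ G₁.obj N := fun N =>
      DerivedCategory.Q.mapIso (sIso P N) ≪≫ (asIso ((DTen.ε A).app (P, (single0 A).obj N))).symm ≪≫
        (DTen.LTen₂ A).mapIso (Iso.prod (asIso (DerivedCategory.Q.map c)) (Iso.refl _))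
    have hα : ∀ N, (α N).hom ≫ τ.app N = τ₀.app N ≫ DerivedCategory.Q.map (sIso K N).hom := fun N => by
      show (DerivedCategory.Q.map (sIso P N).hom ≫ inv ((DTen.ε A).app (P, (single0 A).obj N)) ≫
        (DTen.LTen₂ A).map (Prod.mkHom (DerivedCategory.Q.map c) (𝟙 _))) ≫ (DTen.ε A).app (K, (single0 A).obj N) = _
      have e := (DTen.ε A).naturality (Prod.mkHom c (𝟙 ((single0 A).obj N)))
      dsimp at e
      simp only [MonoidalCategory.whiskerLeft_id, Category.comp_id, CategoryTheory.Functor.map_id] at e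
      rw [Category.assoc, Category.assoc]
      erw [e]
      rw [IsIso.inv_hom_id_assoc, ← Functor.map_comp, ← sIso_natural₁, Functor.map_comp]
      rfl
    intro n
    obtain ⟨m, hm, β, β1, β2⟩ := proIso_Bsys c hPf a b hK hKf l (n + 1)
    let β' : G₂.obj ((Bsys l).obj (op m)) ⟶ G₁.obj ((Bsys l).obj (op (n + 1))) :=
      DerivedCategory.Q.map (sIso K _).inv ≫ β ≫ (α _).hom
    have hnat₁ : ∀ {N N' : ModuleCat.{u} A} (f : N ⟶ N'),
        (α N).hom ≫ G₁.map f = (tX P ⋙ DerivedCategory.Q).map f ≫ (α N').hom := fun {N N'} f => by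
      have e := (DTen.ε A).naturality (Prod.mkHom (𝟙 P) ((single0 A).map f))
      dsimp at e
      simp only [MonoidalCategory.id_whiskerRight, Category.id_comp, CategoryTheory.Functor.map_id] at e
      show (DerivedCategory.Q.map (sIso P N).hom ≫ inv ((DTen.ε A).app (P, (single0 A).obj N)) ≫
        (DTen.LTen₂ A).map (Prod.mkHom (DerivedCategory.Q.map c) (𝟙 _))) ≫
        (DTen.LTen₂ A).map (Prod.mkHom (𝟙 _) (DerivedCategory.Q.map ((single0 A).map f))) =
        DerivedCategory.Q.map ((tX P).map f) ≫ DerivedCategory.Q.map (sIso P N').hom ≫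
          inv ((DTen.ε A).app (P, (single0 A).obj N')) ≫
          (DTen.LTen₂ A).map (Prod.mkHom (DerivedCategory.Q.map c) (𝟙 _))
      have e' : inv ((DTen.ε A).app (P, (single0 A).obj N)) ≫
          (DTen.LTen₂ A).map (Prod.mkHom (𝟙 _) (DerivedCategory.Q.map ((single0 A).map f))) =
          DerivedCategory.Q.map (P ◁ (single0 A).map f) ≫ inv ((DTen.ε A).app (P, (single0 A).obj N')) := by
        rw [IsIso.inv_comp_eq, ← Category.assoc, IsIso.eq_comp_inv]
        exact e
      rw [Category.assoc, Category.assoc, ← Functor.map_comp, ← Functor.map_comp_assoc, sIso_natural₂,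
        Functor.map_comp_assoc, ← reassoc_of% e', ← Functor.map_comp]
      congr 3
    refine ⟨m, by omega, DerivedCategory.Q.map (K ◁ (single0 A).map ((Bsys l).map
      (homOfLE (show m ≤ m + 1 by omega)).op)) ≫ β', ?_, ?_⟩
    · show τ.app ((Bsys l).obj (op (m + 1))) ≫ G₂.map ((Bsys l).map (homOfLE (show m ≤ m + 1 by omega)).op) ≫ β' =
        G₁.map ((Bsys l).map (homOfLE (show n + 1 ≤ m + 1 by omega)).op)
      rw [← τ.naturality_assoc, ← cancel_epi (α ((Bsys l).obj (op (m + 1)))).hom, reassoc_of% hnat₁,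
        reassoc_of% hα, hnat₁]
      simp only [β']
      rw [← Functor.map_comp_assoc, Iso.hom_inv_id, CategoryTheory.Functor.map_id, Category.id_comp]
      erw [reassoc_of% β1]
      rw [← Functor.map_comp_assoc]
      erw [← (tX P).map_comp, ← (Bsys l).map_comp]
      rfl
    · show (G₂.map ((Bsys l).map (homOfLE (show m ≤ m + 1 by omega)).op) ≫ β') ≫ τ.app ((Bsys l).obj (op (n + 1))) =
        G₂.map ((Bsys l).map (homOfLE (show n + 1 ≤ m + 1 by omega)).op)
      simp only [β', Category.assoc]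
      rw [hα]
      erw [reassoc_of% β2]
      have hk : DerivedCategory.Q.map (sIso K ((Bsys l).obj (op m))).inv ≫
          ((tX K ⋙ DerivedCategory.Q).map ((Bsys l).map (homOfLE hm).op)) ≫
            DerivedCategory.Q.map (sIso K ((Bsys l).obj (op (n + 1)))).hom = G₂.map ((Bsys l).map (homOfLE hm).op) := by
        show _ ≫ DerivedCategory.Q.map _ ≫ _ = DerivedCategory.Q.map _
        rw [← Functor.map_comp, ← Functor.map_comp, sIso_natural₂, Iso.inv_hom_id_assoc]
        rfl
      erw [hk]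
      rw [← Functor.map_comp, ← Functor.map_comp]
      rfl
  have sq : Functor.whiskerRight u G₁ ≫ Functor.whiskerLeft (CohIII.adicSystem I (ModuleCat.of A A)) τ =
      Functor.whiskerLeft V τ ≫ Functor.whiskerRight u G₂ :=
    NatTrans.ext (funext fun k => τ.naturality (u.app k))
  refine Pro.of_comp_left (Pro.whisker G₁ hu) ?_
  show DerCA.IsProIso (Functor.whiskerRight u G₁ ≫ Functor.whiskerLeft (CohIII.adicSystem I (ModuleCat.of A A)) τ)
  rw [sq]
  exact Pro.comp hV (Pro.whisker G₂ hu)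

end Groth.Agent.DQCoh.AdicPro
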