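import Groth.Agent.DQCoh.Pro
import Groth.Prelude.Def_DTen
import Mathlib.Algebra.Homology.HomologicalComplexAbelian
import Mathlib.Algebra.Homology.DerivedCategory.Linear
import Mathlib.Algebra.Homology.DerivedCategory.ShortExact
import Mathlib.Algebra.Homology.Linear
import Mathlib.LinearAlgebra.TensorProduct.RightExactness
import Mathlib.RingTheory.Flat.Basic

/-! Cutting an inverse system of modules by powers of one element. -/

set_option autoImplicit false
set_option backward.isDefEq.respectTransparency false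
set_option backward.defeqAttrib.useBackward true
set_option linter.style.haveILetI false

universe u

open CategoryTheory CategoryTheory.Limits Opposite MonoidalCategory HomologicalComplex CategoryTheory.Pretriangulated
attribute [local instance] HasDerivedCategory.standard

namespace Groth.Agent.DQCoh.AdicPro

variable {A : Type u} [CommRing A]

/-- `N ↦ X ⊗ N`, termwise. -/
@[simps]
noncomputable def tX (X : DRing.Cx A) : ModuleCat.{u} A ⥤ DRing.Cx A where
  obj N := ((tensorRight N).mapHomologicalComplex (ComplexShape.up ℤ)).obj X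
  map f := (NatTrans.mapHomologicalComplex ((tensoringRight (ModuleCat.{u} A)).map f) _).app X
  map_id N := HomologicalComplex.hom_ext _ _ fun i => MonoidalCategory.whiskerLeft_id _ _
  map_comp f g := HomologicalComplex.hom_ext _ _ fun i => MonoidalCategory.whiskerLeft_comp _ _ _

lemma tX_map_f (X : DRing.Cx A) {N N' : ModuleCat.{u} A} (f : N ⟶ N') (i : ℤ) :
    ((tX X).map f).f i = X.X i ◁ f := rfl

instance tX_additive (X : DRing.Cx A) : (tX X).Additive where
  map_add := HomologicalComplex.hom_ext _ _ fun i => MonoidalPreadditive.whiskerLeft_add _ _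

instance tX_linear (X : DRing.Cx A) : (tX X).Linear A where
  map_smul f r := HomologicalComplex.hom_ext _ _ fun i => MonoidalLinear.whiskerLeft_smul _ r f

lemma tX_smul_apply (X : DRing.Cx A) (N : ModuleCat.{u} A) (r : A) (i : ℤ) (x : ((tX X).obj N).X i) :
    (((tX X).map (r • 𝟙 N)).f i).hom x = r • x := by
  rw [Functor.map_smul, CategoryTheory.Functor.map_id]
  rfl

/-- A map of complexes, as a natural transformation. -/
noncomputable def tC {X Y : DRing.Cx A} (c : X ⟶ Y) : tX X ⟶ tX Y where
  app N := ((tensorRight N).mapHomologicalComplex (ComplexShape.up ℤ)).map c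
  naturality N N' f := HomologicalComplex.hom_ext _ _ fun i =>
    (MonoidalCategory.whisker_exchange (c.f i) f)

/-- Twisting commutes with linear comparisons. -/
lemma twist_whisker {C : Type*} [Category C] [Preadditive C] [Linear A C] {D : Type*} [Category D] [Preadditive D]
    [Linear A D] (g : A) (B : ARSys.PS C) {G₁ G₂ : C ⥤ D} [G₁.Additive] [G₂.Additive] [G₁.Linear A] [G₂.Linear A]
    (τ : G₁ ⟶ G₂) (h : DerCA.IsProIso (Functor.whiskerLeft B τ)) :
    DerCA.IsProIso (Functor.whiskerLeft (Pro.twist g B) τ) := fun n => by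
  obtain ⟨m, hm, b, b1, b2⟩ := h n
  refine ⟨m, hm, g ^ (m - n) • b, ?_, ?_⟩
  · show τ.app (B.obj (op m)) ≫ (g ^ (m - n) • b) = G₁.map (g ^ (m - n) • B.map (homOfLE hm).op)
    rw [Linear.comp_smul, Functor.map_smul]
    exact congrArg (g ^ (m - n) • ·) b1
  · show (g ^ (m - n) • b) ≫ τ.app (B.obj (op n)) = G₂.map (g ^ (m - n) • B.map (homOfLE hm).op)
    rw [Linear.smul_comp, Functor.map_smul]
    exact congrArg (g ^ (m - n) • ·) b2

section Delta

variable {C : Type*} [Category C] (F : C ⥤ DRing.Cx A)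

/-- A short exact sequence of systems of complexes. -/
abbrev LevelExact (S : ShortComplex (ARSys.PS (DRing.Cx A))) : Prop :=
  ∀ k : ℕᵒᵖ, (S.map ((evaluation _ _).obj k)).ShortExact

/-- The connecting maps of a short exact sequence of systems. -/
noncomputable def δsys {S : ShortComplex (ARSys.PS (DRing.Cx A))} (hS : LevelExact S) :
    (S.X₃ ⋙ DerivedCategory.Q) ⟶ (S.X₁ ⋙ DerivedCategory.Q) ⋙ shiftFunctor (Dual.D A) (1 : ℤ) where
  app k := DerivedCategory.triangleOfSESδ (hS k)
  naturality k k' φ :=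
    (DerivedCategory.triangleOfSESδ_naturality (hS k) (hS k') (S.mapNatTrans ((evaluation _ _).map φ))).symm

lemma δsys_natural {S S' : ShortComplex (ARSys.PS (DRing.Cx A))} (hS : LevelExact S) (hS' : LevelExact S')
    (φ : S ⟶ S') :
    δsys hS ≫ Functor.whiskerRight (Functor.whiskerRight φ.τ₁ DerivedCategory.Q) (shiftFunctor (Dual.D A) (1 : ℤ)) =
      Functor.whiskerRight φ.τ₃ DerivedCategory.Q ≫ δsys hS' :=
  NatTrans.ext (funext fun k => DerivedCategory.triangleOfSESδ_naturality (hS k) (hS' k)
    (((evaluation _ _).obj k).mapShortComplex.map φ))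

lemma triangle_sys {S : ShortComplex (ARSys.PS (DRing.Cx A))} (hS : LevelExact S) (n : ℕ) :
    Triangle.mk ((Functor.whiskerRight S.f DerivedCategory.Q).app (op n))
      ((Functor.whiskerRight S.g DerivedCategory.Q).app (op n)) ((δsys hS).app (op n)) ∈ distinguishedTriangles :=
  DerivedCategory.triangleOfSES_distinguished (hS (op n))

/-- A pro-zero subsystem may be divided out. -/
theorem proIso_g {S : ShortComplex (ARSys.PS (DRing.Cx A))} (hS : LevelExact S)
    (h : DerCA.IsProZero (S.X₁ ⋙ DerivedCategory.Q)) :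
    DerCA.IsProIso (Functor.whiskerRight S.g DerivedCategory.Q) :=
  Pro.of_proZero₃ _ (δsys hS)
    (-(Functor.whiskerRight (Functor.whiskerRight S.f DerivedCategory.Q) (shiftFunctor (Dual.D A) (1 : ℤ))))
    (fun n => rot_of_distTriang _ (triangle_sys hS n))
    (Pro.zero_whisker (shiftFunctor (Dual.D A) (1 : ℤ)) h)

/-- The five lemma for short exact sequences of systems. -/
theorem proIso_τ₃ {S S' : ShortComplex (ARSys.PS (DRing.Cx A))} (hS : LevelExact S) (hS' : LevelExact S')
    (φ : S ⟶ S') (h₁ : DerCA.IsProIso (Functor.whiskerRight φ.τ₁ DerivedCategory.Q))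
    (h₂ : DerCA.IsProIso (Functor.whiskerRight φ.τ₂ DerivedCategory.Q)) :
    DerCA.IsProIso (Functor.whiskerRight φ.τ₃ DerivedCategory.Q) :=
  Pro.five _ _ (δsys hS) _ _ (δsys hS') (triangle_sys hS) (triangle_sys hS') _ _ _
    (by rw [← Functor.whiskerRight_comp, ← Functor.whiskerRight_comp, φ.comm₁₂])
    (by rw [← Functor.whiskerRight_comp, ← Functor.whiskerRight_comp, φ.comm₂₃])
    (δsys_natural hS hS' φ) h₁ h₂

end Delta

/-- Exactness in the category of systems is levelwise. -/
lemma exact_sys {E : Type*} [Category E] [Abelian E] (S : ShortComplex (ARSys.PS E))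
    (h : ∀ k : ℕᵒᵖ, (S.map ((evaluation _ _).obj k)).Exact) : S.Exact := by
  rw [ShortComplex.exact_iff_isZero_homology]
  exact Functor.isZero _ fun k => IsZero.of_iso ((ShortComplex.exact_iff_isZero_homology _).1 (h k))
    (S.mapHomologyIso ((evaluation _ E).obj k)).symm

lemma shortExact_sys {E : Type*} [Category E] [Abelian E] (S : ShortComplex (ARSys.PS E)) (hS : S.ShortExact)
    (k : ℕᵒᵖ) : (S.map ((evaluation _ _).obj k)).ShortExact :=
  hS.map_of_exact ((evaluation _ E).obj k)

/-- Torsion of `g` in `X ⊗ B_n` is bounded, uniformly in the degree. -/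
def Stab (g : A) (B : ARSys.PS (ModuleCat.{u} A)) (X : DRing.Cx A) : Prop :=
  ∀ n : ℕ, ∃ c : ℕ, ∀ (i : ℤ) (m : ℕ) (x : ((tX X).obj (B.obj (op n))).X i),
    g ^ m • x = 0 → g ^ c • x = 0

section Step

variable (g : A) {B B' : ARSys.PS (ModuleCat.{u} A)} (π : B ⟶ B')
  (hπ : ∀ k, Function.Surjective (π.app k).hom)
  (hex : ∀ (k : ℕᵒᵖ) (x : B.obj k), (π.app k).hom x = 0 ↔ ∃ y : B.obj k, g ^ k.unop • y = x)

variable (B) in
/-- Multiplication by the powers of `g`. -/
noncomputable def mulPow : Pro.twist g B ⟶ B where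
  app k := g ^ k.unop • 𝟙 (B.obj k)
  naturality k k' φ := by
    have h : k'.unop ≤ k.unop := leOfHom φ.unop
    refine ModuleCat.hom_ext (LinearMap.ext fun (x : B.obj k) => ?_)
    show g ^ k'.unop • (g ^ (k.unop - k'.unop) • (B.map φ).hom x) = (B.map φ).hom (g ^ k.unop • x)
    rw [smul_smul, ← pow_add, Nat.add_sub_cancel' h, map_smul]

variable (X : DRing.Cx A)

include hπ hex in
lemma exact_seq :
    ∃ w, (ShortComplex.mk (Functor.whiskerRight (mulPow g B) (tX X)) (Functor.whiskerRight π (tX X)) w).Exact := by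
  have w0 : mulPow g B ≫ π = 0 := NatTrans.ext (funext fun k => ModuleCat.hom_ext (LinearMap.ext fun y =>
    (hex k _).2 ⟨y, rfl⟩))
  refine ⟨?_, exact_sys _ fun k => exact_of_degreewise_exact _ fun i => ?_⟩
  · rw [← Functor.whiskerRight_comp, w0]
    exact NatTrans.ext (funext fun k => (tX X).map_zero _ _)
  · rw [ShortComplex.ShortExact.moduleCat_exact_iff_function_exact]
    show Function.Exact (LinearMap.lTensor (X.X i) ((mulPow g B).app k).hom)
      (LinearMap.lTensor (X.X i) (π.app k).hom)
    exact lTensor_exact (X.X i) (fun x => (hex k x).trans ⟨fun ⟨y, hy⟩ => ⟨y, hy⟩, fun ⟨y, hy⟩ => ⟨y, hy⟩⟩) (hπ k)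

/-- `g^k (X ⊗ B_k)`, as the kernel of `π`. -/
noncomputable abbrev imSys : ARSys.PS (DRing.Cx A) := kernel (Functor.whiskerRight π (tX X))

/-- The corestriction of the multiplication. -/
noncomputable def toIm (w : Functor.whiskerRight (mulPow g B) (tX X) ≫ Functor.whiskerRight π (tX X) = 0) :
    Pro.twist g B ⋙ tX X ⟶ imSys π X :=
  kernel.lift (Functor.whiskerRight π (tX X)) (Functor.whiskerRight (mulPow g B) (tX X)) w

lemma toIm_ι (w : Functor.whiskerRight (mulPow g B) (tX X) ≫ Functor.whiskerRight π (tX X) = 0) :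
    toIm g π X w ≫ kernel.ι _ = Functor.whiskerRight (mulPow g B) (tX X) := kernel.lift_ι _ _ _

/-- The torsion system is pro-zero. -/
lemma proZero_ker (w : Functor.whiskerRight (mulPow g B) (tX X) ≫ Functor.whiskerRight π (tX X) = 0)
    (hS : Stab g B X) : DerCA.IsProZero (kernel (toIm g π X w) ⋙ DerivedCategory.Q) := by
  refine Pro.zero_whisker DerivedCategory.Q fun n => ?_
  obtain ⟨c, hc⟩ := hS n
  refine ⟨n + c, Nat.le_add_right n c, ?_⟩
  haveI : Mono ((kernel.ι (toIm g π X w)).app (op n)) :=
    inferInstanceAs (Mono (((evaluation _ _).obj (op n)).map (kernel.ι (toIm g π X w))))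
  rw [← cancel_mono ((kernel.ι (toIm g π X w)).app (op n)), zero_comp, Pro.nat]
  have hzero : (kernel.ι (toIm g π X w)).app (op (n + c)) ≫ (tX X).map (g ^ (n + c) • 𝟙 (B.obj (op (n + c)))) = 0 := by
    have h : kernel.ι (toIm g π X w) ≫ Functor.whiskerRight (mulPow g B) (tX X) = 0 := by
      rw [← toIm_ι g π X w, kernel.condition_assoc, zero_comp]
    exact NatTrans.congr_app h (op (n + c))
  refine HomologicalComplex.hom_ext _ _ fun i => ModuleCat.hom_ext (LinearMap.ext fun z => ?_)
  let x : ((tX X).obj (B.obj (op (n + c)))).X i := ((kernel.ι (toIm g π X w)).app (op (n + c))).f i z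
  have hx : g ^ (n + c) • x = 0 := by
    have h := ConcreteCategory.congr_hom (HomologicalComplex.congr_hom hzero i) z
    exact (tX_smul_apply X (B.obj (op (n + c))) (g ^ (n + c)) i x).symm.trans h
  let τ := ((tX X).map (B.map (homOfLE (Nat.le_add_right n c)).op)).f i
  show (((tX X).map (g ^ (n + c - n) • B.map (homOfLE (Nat.le_add_right n c)).op)).f i).hom x = 0
  rw [Functor.map_smul]
  show g ^ (n + c - n) • τ.hom x = 0
  rw [Nat.add_sub_cancel_left]
  refine hc i (n + c) _ ?_
  rw [← map_smul, hx, map_zero]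

lemma epi_kernel_lift_of_exact {E : Type*} [Category E] [Abelian E] {U V W : E} (f : U ⟶ V) (q : V ⟶ W)
    (w : f ≫ q = 0) (h : (ShortComplex.mk f q w).Exact) : Epi (kernel.lift q f w) :=
  (ShortComplex.exact_iff_epi_kernel_lift _).1 h

include hπ in
lemma epi_whisker (Z : DRing.Cx A) : Epi (Functor.whiskerRight π (tX Z)) := by
  haveI : ∀ k, Epi ((Functor.whiskerRight π (tX Z)).app k) := fun k => by
    haveI : ∀ i, Epi (((Functor.whiskerRight π (tX Z)).app k).f i) := fun i =>
      (ModuleCat.epi_iff_surjective _).2 (LinearMap.lTensor_surjective (Z.X i) (hπ k))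
    exact HomologicalComplex.epi_of_epi_f _ inferInstance
  exact NatTrans.epi_of_epi_app _

lemma levelExact_kernel {U V : ARSys.PS (DRing.Cx A)} (f : U ⟶ V) [Epi f] :
    LevelExact (ShortComplex.mk (kernel.ι f) f (kernel.condition f)) :=
  shortExact_sys _ { exact := ShortComplex.exact_of_f_is_kernel _ (kernelIsKernel f) }

variable {X} {Y : DRing.Cx A} (c : X ⟶ Y)

lemma tC_square {U V : ARSys.PS (ModuleCat.{u} A)} (f : U ⟶ V) :
    Functor.whiskerRight f (tX X) ≫ Functor.whiskerLeft V (tC c) =
      Functor.whiskerLeft U (tC c) ≫ Functor.whiskerRight f (tX Y) :=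
  NatTrans.ext (funext fun k => (tC c).naturality (f.app k))

/-- The map between the kernels. -/
noncomputable abbrev imMap : imSys π X ⟶ imSys π Y :=
  kernel.map _ _ (Functor.whiskerLeft B (tC c)) (Functor.whiskerLeft B' (tC c)) (tC_square c π)

lemma toIm_square (wX : Functor.whiskerRight (mulPow g B) (tX X) ≫ Functor.whiskerRight π (tX X) = 0)
    (wY : Functor.whiskerRight (mulPow g B) (tX Y) ≫ Functor.whiskerRight π (tX Y) = 0) :
    toIm g π X wX ≫ imMap π c = Functor.whiskerLeft (Pro.twist g B) (tC c) ≫ toIm g π Y wY := by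
  rw [← cancel_mono (kernel.ι (Functor.whiskerRight π (tX Y))), Category.assoc, Category.assoc, toIm_ι,
    kernel.lift_ι, ← Category.assoc, toIm_ι]
  exact tC_square c (mulPow g B)

include hπ hex in
/-- One step: from `B` to `B / g^k B`. -/
theorem step (hX : Stab g B X) (hY : Stab g B Y)
    (h : DerCA.IsProIso (Functor.whiskerLeft B (Functor.whiskerRight (tC c) DerivedCategory.Q))) :
    DerCA.IsProIso (Functor.whiskerLeft B' (Functor.whiskerRight (tC c) DerivedCategory.Q)) := by
  obtain ⟨wX, eX⟩ := exact_seq g π hπ hex X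
  obtain ⟨wY, eY⟩ := exact_seq g π hπ hex Y
  haveI : Epi (toIm g π X wX) := epi_kernel_lift_of_exact _ _ wX eX
  haveI : Epi (toIm g π Y wY) := epi_kernel_lift_of_exact _ _ wY eY
  haveI := epi_whisker π hπ X
  haveI := epi_whisker π hπ Y
  have pX := proIso_g (levelExact_kernel (toIm g π X wX)) (proZero_ker g π X wX hX)
  have pY := proIso_g (levelExact_kernel (toIm g π Y wY)) (proZero_ker g π Y wY hY)
  have pI : DerCA.IsProIso (Functor.whiskerRight (imMap π c) DerivedCategory.Q) := by
    refine Pro.of_comp_left pX ?_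
    rw [← Functor.whiskerRight_comp, toIm_square g π c wX wY, Functor.whiskerRight_comp]
    exact Pro.comp (twist_whisker g B (Functor.whiskerRight (tC c) DerivedCategory.Q) h) pY
  exact proIso_τ₃ (levelExact_kernel (Functor.whiskerRight π (tX X)))
    (levelExact_kernel (Functor.whiskerRight π (tX Y)))
    { τ₁ := imMap π c, τ₂ := Functor.whiskerLeft B (tC c), τ₃ := Functor.whiskerLeft B' (tC c)
      comm₁₂ := kernel.lift_ι _ _ _
      comm₂₃ := (tC_square c π).symm } pI h

end Step

end Groth.Agent.DQCoh.AdicPro
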