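import Groth.Agent.DQCoh.Tilde
import Groth.Agent.DCat.PullPerf
import Groth.Agent.DCat.PerfTensor
import Groth.Agent.AffSchLib.TildeExact
import Groth.Agent.Props12.TildeFin
import Mathlib.Algebra.Homology.DerivedCategory.KProjective

/-!
# Bounded above complexes of finite locally free modules on affine schemes
-/

set_option autoImplicit false
set_option backward.isDefEq.respectTransparency false
set_option backward.defeqAttrib.useBackward true
set_option linter.style.haveILetI false
set_option synthInstance.maxHeartbeats 100000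
set_option backward.isDefEq.respectTransparency.types false

universe u v v' u₁ u₂ u₃

open CategoryTheory CategoryTheory.Limits DerivedCategory AlgebraicGeometry
open Groth.Agent.DCat

attribute [local instance] HasDerivedCategory.standard
attribute [-instance] Int.instConditionallyCompleteLinearOrder

namespace Groth.Agent.DQCoh.AffineKProj17

section Generic

variable {A : Type u₁} [Category.{v} A] [Abelian A] {B : Type u₂} [Category.{v} B] [Abelian B]
  {C : Type u₃} [Category.{v} C] [Abelian C]

/-- Composites of exact functors on derived categories, naturally. -/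
theorem nonempty_mdcCompIso (F : A ⥤ B) (G : B ⥤ C) [F.Additive] [G.Additive] [PreservesFiniteLimits F]
    [PreservesFiniteColimits F] [PreservesFiniteLimits G] [PreservesFiniteColimits G]
    (H : A ⥤ C) [H.Additive] [PreservesFiniteLimits H] [PreservesFiniteColimits H] (e : F ⋙ G ≅ H) :
    Nonempty (F.mapDerivedCategory ⋙ G.mapDerivedCategory ≅ H.mapDerivedCategory) := by
  let W := HomologicalComplex.quasiIso A (ComplexShape.up ℤ)
  let η : Q ⋙ F.mapDerivedCategory ⋙ G.mapDerivedCategory ≅
      H.mapHomologicalComplex (ComplexShape.up ℤ) ⋙ Q :=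
    (Functor.associator _ _ _).symm ≪≫ Functor.isoWhiskerRight F.mapDerivedCategoryFactors _ ≪≫
      Functor.associator _ _ _ ≪≫ Functor.isoWhiskerLeft _ G.mapDerivedCategoryFactors ≪≫
      (Functor.associator _ _ _).symm ≪≫ Functor.isoWhiskerRight (NatIso.ofComponents
        (fun K => HomologicalComplex.Hom.isoOfComponents (fun n => e.app (K.X n))
          (fun a b _ => (e.hom.naturality (K.d a b)).symm))
        (fun {K L} f => by ext n; exact e.hom.naturality (f.f n))) Q
  letI : Localization.Lifting Q W (Q ⋙ F.mapDerivedCategory ⋙ G.mapDerivedCategory)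
    (F.mapDerivedCategory ⋙ G.mapDerivedCategory) := ⟨Iso.refl _⟩
  letI : Localization.Lifting Q W (H.mapHomologicalComplex (ComplexShape.up ℤ) ⋙ Q) H.mapDerivedCategory :=
    ⟨H.mapDerivedCategoryFactors⟩
  exact ⟨Localization.liftNatIso Q W _ _ _ _ η⟩

theorem nonempty_mdcIdIso : Nonempty ((𝟭 A).mapDerivedCategory ≅ 𝟭 (DerivedCategory A)) := by
  let W := HomologicalComplex.quasiIso A (ComplexShape.up ℤ)
  letI : Localization.Lifting Q W ((𝟭 A).mapHomologicalComplex (ComplexShape.up ℤ) ⋙ Q) (𝟭 A).mapDerivedCategory :=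
    ⟨(𝟭 A).mapDerivedCategoryFactors⟩
  letI : Localization.Lifting Q W (Q : CochainComplex A ℤ ⥤ _) (𝟭 (DerivedCategory A)) := ⟨Q.rightUnitor⟩
  exact ⟨Localization.liftNatIso Q W ((𝟭 A).mapHomologicalComplex (ComplexShape.up ℤ) ⋙ Q) Q _ _
    (Functor.isoWhiskerRight (Functor.mapHomologicalComplexIdIso A (ComplexShape.up ℤ)) Q ≪≫ Functor.leftUnitor Q)⟩

/-- Mutually inverse exact functors give equivalences of derived categories. -/
theorem isEquivalence_mdc (F : A ⥤ B) (G : B ⥤ A) [F.Additive] [G.Additive] [PreservesFiniteLimits F]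
    [PreservesFiniteColimits F] [PreservesFiniteLimits G] [PreservesFiniteColimits G]
    (e₁ : F ⋙ G ≅ 𝟭 A) (e₂ : G ⋙ F ≅ 𝟭 B) : F.mapDerivedCategory.IsEquivalence := by
  obtain ⟨a⟩ := nonempty_mdcCompIso F G _ e₁
  obtain ⟨a'⟩ := nonempty_mdcIdIso (A := A)
  obtain ⟨b⟩ := nonempty_mdcCompIso G F _ e₂
  obtain ⟨b'⟩ := nonempty_mdcIdIso (A := B)
  exact (CategoryTheory.Equivalence.mk F.mapDerivedCategory G.mapDerivedCategory (a ≪≫ a').symm
    (b ≪≫ b')).isEquivalence_functor

/-- K-projective complexes have the same maps in the homotopy and derived categories after a fully faithful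
exact functor which is fully faithful on derived categories. -/
theorem bijective_Qh_map (G : A ⥤ B) [G.Additive] [PreservesFiniteLimits G] [PreservesFiniteColimits G]
    [G.Full] [G.Faithful] [G.mapDerivedCategory.Full] [G.mapDerivedCategory.Faithful]
    (P M : CochainComplex A ℤ) [P.IsKProjective] :
    Function.Bijective (fun φ : (HomotopyCategory.quotient B (ComplexShape.up ℤ)).obj
        ((G.mapHomologicalComplex (ComplexShape.up ℤ)).obj P) ⟶
        (HomotopyCategory.quotient B (ComplexShape.up ℤ)).obj ((G.mapHomologicalComplex (ComplexShape.up ℤ)).obj M) =>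
      (Qh (C := B)).map φ) := by
  let qA := HomotopyCategory.quotient A (ComplexShape.up ℤ)
  let qB := HomotopyCategory.quotient B (ComplexShape.up ℤ)
  let GC := G.mapHomologicalComplex (ComplexShape.up ℤ)
  have sq : ∀ f : P ⟶ M, G.mapDerivedCategory.map (Qh.map (qA.map f)) ≫ G.mapDerivedCategoryFactorsh.hom.app (qA.obj M) =
      G.mapDerivedCategoryFactorsh.hom.app (qA.obj P) ≫ Qh.map (qB.map (GC.map f)) := fun f =>
    G.mapDerivedCategoryFactorsh.hom.naturality (qA.map f)
  have hbij := CochainComplex.IsKProjective.Qh_map_bijective P (qA.obj M)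
  haveI : GC.Full := ⟨fun {K L} f => ⟨{ f := fun n => G.preimage (f.f n), comm' := fun a b _ => G.map_injective (by
    rw [G.map_comp, G.map_comp, G.map_preimage, G.map_preimage]; exact f.comm a b) }, by ext n; exact G.map_preimage _⟩⟩
  constructor
  · intro φ ψ h
    obtain ⟨f, rfl⟩ := qB.map_surjective φ
    obtain ⟨g, rfl⟩ := qB.map_surjective ψ
    obtain ⟨f', rfl⟩ := GC.map_surjective f
    obtain ⟨g', rfl⟩ := GC.map_surjective g
    have h1 : Qh.map (qA.map f') = Qh.map (qA.map g') := G.mapDerivedCategory.map_injective (by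
      rw [← cancel_mono (G.mapDerivedCategoryFactorsh.hom.app (qA.obj M)), sq, sq]
      exact congrArg (G.mapDerivedCategoryFactorsh.hom.app (qA.obj P) ≫ ·) h)
    exact HomotopyCategory.eq_of_homotopy _ _ (G.mapHomotopy (HomotopyCategory.homotopyOfEq _ _ (hbij.1 h1)))
  · intro δ
    obtain ⟨δ', hδ⟩ := G.mapDerivedCategory.map_surjective
      (G.mapDerivedCategoryFactorsh.hom.app (qA.obj P) ≫ δ ≫ G.mapDerivedCategoryFactorsh.inv.app (qA.obj M))
    obtain ⟨ψ, hψ⟩ := hbij.2 δ'
    obtain ⟨f, rfl⟩ := qA.map_surjective ψ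
    refine ⟨qB.map (GC.map f), ?_⟩
    rw [← cancel_epi (G.mapDerivedCategoryFactorsh.hom.app (qA.obj P))]
    show _ ≫ Qh.map (qB.map (GC.map f)) = _
    rw [← sq f, hψ, hδ, Category.assoc, Category.assoc]
    erw [Iso.inv_hom_id_app]
    exact congrArg _ (Category.comp_id δ)

end Generic

variable (X : Scheme.{u}) [IsAffine X]

/-- Modules over the ring of sections as modules on an affine scheme. -/
noncomputable abbrev tilX : ModuleCat.{u} Γ(X, ⊤) ⥤ X.Modules :=
  tilde.functor Γ(X, ⊤) ⋙ Scheme.Modules.restrictFunctor X.isoSpec.hom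

/-- Global sections as modules over the ring of sections. -/
noncomputable abbrev secX : X.Modules ⥤ ModuleCat.{u} Γ(X, ⊤) :=
  Scheme.Modules.restrictFunctor X.isoSpec.inv ⋙ moduleSpecΓFunctor

instance additive_secX : (secX X).Additive :=
  haveI : (moduleSpecΓFunctor (R := Γ(X, ⊤))).Additive := Adjunction.right_adjoint_additive tilde.adjunction
  inferInstance

/-- Restrictions along mutually inverse isomorphisms. -/
noncomputable def restrictCompIdIso {U V : Scheme.{u}} (e : U ≅ V) :
    Scheme.Modules.restrictFunctor e.inv ⋙ Scheme.Modules.restrictFunctor e.hom ≅ 𝟭 U.Modules :=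
  (Scheme.Modules.restrictFunctorComp e.hom e.inv).symm ≪≫
    Scheme.Modules.restrictFunctorCongr e.hom_inv_id ≪≫ Scheme.Modules.restrictFunctorId

/-- The comparison map. -/
noncomputable def theta : secX X ⋙ tilX X ⟶ 𝟭 X.Modules :=
  Functor.whiskerRight (Functor.whiskerLeft (Scheme.Modules.restrictFunctor X.isoSpec.inv)
      (Scheme.Modules.fromTildeΓNatTrans (R := Γ(X, ⊤)))) (Scheme.Modules.restrictFunctor X.isoSpec.hom) ≫
    (restrictCompIdIso X.isoSpec).hom

theorem isIso_theta (M : X.Modules) (hM : Coh.IsQCoh M) : IsIso ((theta X).app M) := by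
  haveI := hM
  haveI : Coh.IsQCoh ((Scheme.Modules.restrictFunctor X.isoSpec.inv).obj M) :=
    (inferInstance : Coh.IsQCoh (M.restrict X.isoSpec.inv))
  haveI : IsIso (Scheme.Modules.fromTildeΓ ((Scheme.Modules.restrictFunctor X.isoSpec.inv).obj M)) :=
    (isQuasicoherent_iff_isIso_fromTildeΓ _).1 ‹_›
  dsimp only [theta, NatTrans.comp_app, Functor.whiskerRight_app, Functor.whiskerLeft_app, Scheme.Modules.fromTildeΓNatTrans]
  infer_instance

/-- A complex of quasi-coherent modules comes from modules over the ring of sections. -/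
theorem nonempty_iso_tilX (F : CochainComplex X.Modules ℤ) (hF : ∀ i, Coh.IsQCoh (F.X i)) :
    Nonempty (((tilX X).mapHomologicalComplex (ComplexShape.up ℤ)).obj
      (((secX X).mapHomologicalComplex (ComplexShape.up ℤ)).obj F) ≅ F) := by
  haveI := fun n => isIso_theta X (F.X n) (hF n)
  exact ⟨HomologicalComplex.Hom.isoOfComponents (fun n => asIso ((theta X).app (F.X n)))
    (fun a b _ => ((theta X).naturality (F.d a b)).symm)⟩

theorem projective_secX {M : X.Modules} (hM : FlatMod.IsFinLocFree M) : CategoryTheory.Projective ((secX X).obj M) := by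
  let N := (Scheme.Modules.restrictFunctor X.isoSpec.inv).obj M
  have hN : FlatMod.IsFinLocFree N := PerfTensor.isFinLocFree_of_iso
    ((Scheme.Modules.restrictFunctorIsoPullback X.isoSpec.inv).app M).symm (PullPerf.isFinLocFree_pullback _ hM)
  haveI : Coh.IsQCoh N := PullPerf.isQCoh_of_finLocFree hN
  haveI : IsIso (Scheme.Modules.fromTildeΓ N) := (isQuasicoherent_iff_isIso_fromTildeΓ _).1 ‹_›
  have h : FlatMod.IsFinLocFree (tilde ((secX X).obj M)) :=
    PerfTensor.isFinLocFree_of_iso (asIso (Scheme.Modules.fromTildeΓ N)).symm hN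
  let P : ModuleCat.{u} Γ(X, ⊤) := (secX X).obj M
  haveI : Module.Projective Γ(X, ⊤) P := ((Props12.isFinLocFree_tilde_iff P).1 h).2
  exact (IsProjective.iff_projective P).1 inferInstance

/-- Homotopy classes of maps out of bounded above complexes of finite locally free modules. -/
theorem bijective_Qh_map_affine (E F : CochainComplex X.Modules ℤ) (b : ℤ) (hEb : ∀ i : ℤ, b < i → IsZero (E.X i))
    (hE : ∀ i : ℤ, FlatMod.IsFinLocFree (E.X i)) (hF : ∀ i : ℤ, Coh.IsQCoh (F.X i)) :
    Function.Bijective (fun φ : (HomotopyCategory.quotient X.Modules (ComplexShape.up ℤ)).obj E ⟶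
        (HomotopyCategory.quotient X.Modules (ComplexShape.up ℤ)).obj F =>
      (DerivedCategory.Qh (C := X.Modules)).map φ) := by
  obtain ⟨eE⟩ := nonempty_iso_tilX X E (fun i => PullPerf.isQCoh_of_finLocFree (hE i))
  obtain ⟨eF⟩ := nonempty_iso_tilX X F hF
  let P : CochainComplex (ModuleCat.{u} Γ(X, ⊤)) ℤ := ((secX X).mapHomologicalComplex (ComplexShape.up ℤ)).obj E
  let M := ((secX X).mapHomologicalComplex (ComplexShape.up ℤ)).obj F
  haveI : P.IsStrictlyLE b :=
    (CochainComplex.isStrictlyLE_iff P b).2 fun n hn => (secX X).map_isZero (hEb n hn)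
  haveI : ∀ n, CategoryTheory.Projective (P.X n) := fun n => projective_secX X (hE n)
  haveI : P.IsKProjective := CochainComplex.isKProjective_of_projective P b
  haveI := AffSchLib.preservesFiniteLimits_tilde Γ(X, ⊤)
  haveI : PreservesFiniteColimits (tilde.functor Γ(X, ⊤)) :=
    haveI := (tilde.adjunction (R := Γ(X, ⊤))).leftAdjoint_preservesColimits
    inferInstance
  obtain ⟨hf, hff, -⟩ := tildeD_main Γ(X, ⊤)
  haveI := isEquivalence_mdc (Scheme.Modules.restrictFunctor X.isoSpec.hom)
    (Scheme.Modules.restrictFunctor X.isoSpec.inv) (restrictCompIdIso X.isoSpec.symm) (restrictCompIdIso X.isoSpec)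
  haveI : (Scheme.Modules.restrictFunctor X.isoSpec.hom).IsEquivalence :=
    (CategoryTheory.Equivalence.mk (Scheme.Modules.restrictFunctor X.isoSpec.hom)
      (Scheme.Modules.restrictFunctor X.isoSpec.inv) (restrictCompIdIso X.isoSpec.symm).symm
      (restrictCompIdIso X.isoSpec)).isEquivalence_functor
  obtain ⟨c⟩ := nonempty_mdcCompIso (tilde.functor Γ(X, ⊤)) (Scheme.Modules.restrictFunctor X.isoSpec.hom) _
    (Iso.refl (tilX X))
  haveI := Functor.Full.of_iso c
  haveI := Functor.Faithful.of_iso c
  have key := bijective_Qh_map (tilX X) P M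
  let qB := HomotopyCategory.quotient X.Modules (ComplexShape.up ℤ)
  let a := qB.mapIso eE
  let b' := qB.mapIso eF
  have e : (fun φ : qB.obj E ⟶ qB.obj F => (DerivedCategory.Qh (C := X.Modules)).map φ) =
      (Iso.homCongr (Qh.mapIso a) (Qh.mapIso b')) ∘
        (fun φ => (DerivedCategory.Qh (C := X.Modules)).map φ) ∘ (Iso.homCongr a b').symm := by
    funext φ
    simp [Iso.homCongr]
  rw [e]
  exact (Equiv.bijective _).comp (key.comp (Equiv.bijective _))

end Groth.Agent.DQCoh.AffineKProj17
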