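import Groth.Agent.DQCoh.PscNoeth
import Groth.Agent.DQCoh.TildePush
import Groth.Agent.DCat.LTensorModule
import Groth.Agent.DCat.KFlatModule
import Groth.Agent.FlatCxLib.CochainBetti
import Groth.Prelude.Def_PerfD

/-!
# Fibre dimensions of pseudo-coherent objects on affine charts
-/

set_option autoImplicit false
set_option backward.isDefEq.respectTransparency false
set_option backward.defeqAttrib.useBackward true
set_option linter.style.haveILetI false
set_option synthInstance.maxHeartbeats 100000
set_option linter.unusedVariables false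
set_option backward.isDefEq.respectTransparency.types false

universe u

open CategoryTheory CategoryTheory.Limits CategoryTheory.Pretriangulated DerivedCategory Opposite TopologicalSpace AlgebraicGeometry
open Groth.Agent.SiteDer16 Groth.Agent.DCat Groth.Agent.Coherent
open scoped TensorProduct

namespace Groth.Agent.DQCoh

attribute [local instance] HasDerivedCategory.standard
attribute [-instance] Int.instConditionallyCompleteLinearOrder

section Module

variable {A : Type u} [CommRing A]

/-- The homology of a complex of finite projective modules after base change to a field. -/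
theorem finrank_extend_field (P : DRing.Cx A) (hP : DRing.TermwiseFiniteProjective P) (L : Type u) [Field L]
    (ψ : A →+* L) (x : PrimeSpectrum A) (hx : PrimeSpectrum.comap ψ ⊥ = x) (p : ℤ) :
    Module.finrank L ((((ModuleCat.extendScalars ψ).mapHomologicalComplex (ComplexShape.up ℤ)).obj P).homology p) +
        Module.rankAtStalk (P.X (p + 1)) x =
      FlatCxLib.fibreRank (A := A) (P.X p ⧸ LinearMap.range (P.d (p - 1) p).hom) x +
        FlatCxLib.fibreRank (A := A) (P.X (p + 1) ⧸ LinearMap.range (P.d p (p + 1)).hom) x := by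
  letI := ψ.toAlgebra
  haveI := (hP p).1
  haveI := (hP (p + 1)).1
  haveI := (hP (p + 1)).2
  have hfield : ∀ (M : Type u) [AddCommGroup M] [Module A M] [Module.Finite A M],
      Module.finrank L (L ⊗[A] M) = FlatCxLib.fibreRank M x := by
    intro M _ _ _
    subst hx
    rw [show PrimeSpectrum.comap ψ ⊥ = PrimeSpectrum.comap (algebraMap A L) ⊥ from rfl,
      ← FlatCxLib.fibreRank_baseChange, FlatCxLib.fibreRank_eq_rankAtStalk,
      Module.rankAtStalk_eq_finrank_of_free, Pi.natCast_apply, Nat.cast_id]
  have h1 : (P.d p (p + 1)).hom ∘ₗ (P.d (p - 1) p).hom = 0 :=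
    congrArg ModuleCat.Hom.hom (P.d_comp_d (p - 1) p (p + 1))
  have h2 := FlatCxLib.finrank_homologyQuot_add ((P.d (p - 1) p).hom.baseChange L) ((P.d p (p + 1)).hom.baseChange L)
    (by rw [← LinearMap.baseChange_comp, h1, LinearMap.baseChange_zero])
  rw [FlatCxLib.finrank_coker_baseChange, FlatCxLib.finrank_coker_baseChange, hfield, hfield, hfield,
    FlatCxLib.fibreRank_eq_rankAtStalk] at h2
  refine (congrArg (· + _) ?_).trans h2
  exact FlatCxLib.finrank_extend_cochain_aux ψ P (p - 1) p (p + 1) (by omega) rfl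

theorem finrank_top_tilde (R : CommRingCat.{u}) (N : ModuleCat.{u} R) :
    Module.finrank (Coh.Γtop (Spec R)) ((tilde N).val.obj (op ⊤)) = Module.finrank R N := by
  refine congrArg Cardinal.toNat ?_
  exact (rank_eq_of_equiv_equiv (algebraMap R Γ(Spec R, ⊤)) (Props12.topEquiv N).toAddEquiv
    Props12.bijective_algebraMap_top fun r m =>
      ((Props12.topEquiv N).map_smul r m).trans (IsScalarTower.algebraMap_smul Γ(Spec R, ⊤) r _).symm).symm

theorem finrank_top_congr {Y : Scheme.{u}} {M N : Y.Modules} (e : M ≅ N) :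
    Module.finrank (Coh.Γtop Y) (M.val.obj (op ⊤)) = Module.finrank (Coh.Γtop Y) (N.val.obj (op ⊤)) :=
  ((PresheafOfModules.evaluation _ (op ⊤)).mapIso ((SheafOfModules.forget _).mapIso e)).toLinearEquiv.finrank_eq

end Module

variable {X : Scheme.{u}}

/-- Points of a chart as ring maps to residue fields. -/
theorem exists_point_ring {R : CommRingCat.{u}} (k : Spec R ⟶ X) [IsOpenImmersion k] (y : Spec R) :
    ∃ ψ : R ⟶ X.residueField (k y), Spec.map ψ ≫ k = X.fromSpecResidueField (k y) ∧
      PrimeSpectrum.comap ψ.hom ⊥ = y := by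
  let ρ := k.residueFieldMap y
  have hρ : Spec.map (inv ρ) ≫ (Spec R).fromSpecResidueField y ≫ k = X.fromSpecResidueField (k y) := by
    rw [← k.SpecMap_residueFieldMap_fromSpecResidueField, ← Category.assoc, ← Spec.map_comp, IsIso.hom_inv_id,
      Spec.map_id, Category.id_comp]
  refine ⟨Spec.preimage (Spec.map (inv ρ) ≫ (Spec R).fromSpecResidueField y), ?_, ?_⟩
  · rw [Spec.map_preimage, Category.assoc, hρ]
  · refine Eq.trans ?_ (Scheme.fromSpecResidueField_apply (X := Spec R) y ((Spec.map (inv ρ))
      (⊥ : PrimeSpectrum (X.residueField (k y)))))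
    rw [← Scheme.Hom.comp_apply]
    conv_rhs => rw [← Spec.map_preimage (Spec.map (inv ρ) ≫ (Spec R).fromSpecResidueField y)]
    rfl

/-- Fibre dimensions computed on a chart. -/
theorem betti_chart [∀ x : X, DCoh.HasLpull (X.fromSpecResidueField x)] (E : DCoh.D X) {R : CommRingCat.{u}}
    [PreservesFiniteLimits (tilde.functor R)] (k : Spec R ⟶ X) [IsOpenImmersion k] (P : DRing.Cx R)
    (hPk : IsKFlatFor (modT R) P)
    (m : ℤ) (α : (DCoh.tildeD R).obj (DRing.toD P) ⟶ (PerfLocal.rd k).obj E) (hα : PullPerf.Apx m α) (x : X)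
    (ψ : R ⟶ X.residueField x) (hψ : Spec.map ψ ≫ k = X.fromSpecResidueField x) (p : ℤ) (hp : m < p) :
    PerfD.betti E x p = Module.finrank (X.residueField x)
      ((((ModuleCat.extendScalars ψ.hom).mapHomologicalComplex (ComplexShape.up ℤ)).obj P).homology p) := by
  haveI := hasLpull k
  haveI := hasLpull (Spec.map ψ)
  haveI := hasLpull (Spec.map ψ ≫ k)
  haveI : DRing.HasLBaseChange ψ.hom := hasLBaseChange ψ.hom
  haveI := AffSchLib.preservesFiniteLimits_tilde (X.residueField x)
  haveI := preservesFiniteColimits_tilde (X.residueField x)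
  obtain ⟨c⟩ := nonempty_LpullComp (Spec.map ψ) k
  obtain ⟨r⟩ := nonempty_Lpull_restrict k E
  obtain ⟨b⟩ := nonempty_LBaseChange_tildeD ψ
  obtain ⟨η⟩ := nonempty_homology_natIso (tilde.functor (X.residueField x)) p
  haveI := (PullPerf.apx_Lpull (Spec.map ψ) hα).1 p hp
  have hcongr : ∀ (g : Spec (X.residueField x) ⟶ X) [DCoh.HasLpull g], g = X.fromSpecResidueField x →
      Nonempty ((DCoh.Lpull (X.fromSpecResidueField x)).obj E ≅ (DCoh.Lpull g).obj E) := by
    intro g _ h
    subst h
    exact ⟨Iso.refl _⟩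
  obtain ⟨d⟩ := hcongr _ hψ
  let e : DCoh.HD ((DCoh.Lpull (X.fromSpecResidueField x)).obj E) p ≅
      tilde ((((ModuleCat.extendScalars ψ.hom).mapHomologicalComplex (ComplexShape.up ℤ)).obj P).homology p) :=
    (homologyFunctor _ p).mapIso (d ≪≫ (c.app E).symm ≪≫ (DCoh.Lpull (Spec.map ψ)).mapIso r) ≪≫
      (asIso ((homologyFunctor _ p).map ((DCoh.Lpull (Spec.map ψ)).map α))).symm ≪≫
      (homologyFunctor _ p).mapIso ((b.app (DRing.toD P)).symm) ≪≫ η.app _ ≪≫
      (tilde.functor (X.residueField x)).mapIso
        ((homologyFunctor _ p).mapIso (lbaseChangeIso ψ.hom hPk) ≪≫ DRingLib.HQ _ p)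
  exact (finrank_top_congr e).trans (finrank_top_tilde _ _)

end Groth.Agent.DQCoh
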