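import Groth.Agent.DQCoh.CohAffineExt

/-! Bounded coherent objects extend from opens of Noetherian schemes. -/

set_option autoImplicit false
set_option backward.isDefEq.respectTransparency false
set_option backward.defeqAttrib.useBackward true
set_option backward.isDefEq.respectTransparency.types false
set_option linter.style.haveILetI false
set_option linter.unusedSectionVars false
set_option synthInstance.maxHeartbeats 100000

universe u

open CategoryTheory CategoryTheory.Limits CategoryTheory.Pretriangulated DerivedCategory AlgebraicGeometry Opposite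
open Groth.Agent.DCat

attribute [local instance] HasDerivedCategory.standard

namespace Groth.Agent.DQCoh.CohExt

variable {X : Scheme.{u}}

theorem nonempty_restrictD_congr {U : Scheme.{u}} {j j' : U ⟶ X} [IsOpenImmersion j] [IsOpenImmersion j']
    (h : j = j') (K : DCoh.D X) : Nonempty ((DCoh.restrictD j).obj K ≅ (DCoh.restrictD j').obj K) := by
  subst h; exact ⟨Iso.refl _⟩

theorem nonempty_restrictD_id (K : DCoh.D X) : Nonempty ((DCoh.restrictD (𝟙 X)).obj K ≅ K) := by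
  let F := DerivedCategory.Q.objPreimage K
  let e := DerivedCategory.Q.objObjPreimageIso K
  exact ⟨(DCoh.restrictD (𝟙 X)).mapIso e.symm ≪≫ (Scheme.Modules.restrictFunctor (𝟙 X)).mapDerivedCategoryFactors.app F ≪≫
    DerivedCategory.Q.mapIso (HomologicalComplex.Hom.isoOfComponents
      (fun n => Scheme.Modules.restrictFunctorId.app (F.X n))
      (fun i j _ => (Scheme.Modules.restrictFunctorId.hom.naturality (F.d i j)).symm)) ≪≫ e⟩

/-- The comparison for a factorisation. -/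
theorem nonempty_restrictD_fac {U V : Scheme.{u}} (h : U ⟶ V) [IsOpenImmersion h] (k : V ⟶ X) [IsOpenImmersion k]
    (j : U ⟶ X) [IsOpenImmersion j] (e : h ≫ k = j) (K : DCoh.D X) :
    Nonempty ((DCoh.restrictD j).obj K ≅ (DCoh.restrictD h).obj ((DCoh.restrictD k).obj K)) := by
  subst e; exact PerfLocal.rd_comp h k K

/-- Adding one affine open. -/
theorem exists_ext_step [IsNoetherian X] {U : Scheme.{u}} (j : U ⟶ X) [IsOpenImmersion j] (V : X.Opens)
    (hV : IsAffineOpen V) (hcov : j.opensRange ⊔ V = ⊤) (F : DCoh.D U) (hF : Good F) :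
    ∃ G : DCoh.D X, Good G ∧ Nonempty ((DCoh.restrictD j).obj G ≅ F) := by
  let U' := j.opensRange
  let e := j.isoOpensRange
  let F' := (DCoh.restrictD e.inv).obj F
  have hF' : Good F' := hF.restrict e.inv
  let R : CommRingCat.{u} := Γ(X, V)
  haveI : IsNoetherianRing R := IsLocallyNoetherian.component_noetherian ⟨V, hV⟩
  let i := hV.isoSpec
  let W : (Spec R).Opens := (i.inv ≫ V.ι) ⁻¹ᵁ U'
  have hrange : Set.range (W.ι ≫ i.inv ≫ V.ι) ⊆ Set.range U'.ι := by
    rintro _ ⟨z, rfl⟩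
    rw [Scheme.Opens.range_ι]
    exact z.2
  let m : W.toScheme ⟶ U'.toScheme := IsOpenImmersion.lift U'.ι (W.ι ≫ i.inv ≫ V.ι) hrange
  haveI : IsOpenImmersion m := by
    haveI : IsOpenImmersion (m ≫ U'.ι) := by rw [IsOpenImmersion.lift_fac]; infer_instance
    exact IsOpenImmersion.of_comp m U'.ι
  obtain ⟨GV, hGV, ⟨eGV⟩⟩ := exists_ext_affine W ((DCoh.restrictD m).obj F') (hF'.restrict m)
  let B := (DCoh.restrictD i.hom).obj GV
  let hu := X.homOfLE (inf_le_left : U' ⊓ V ≤ U')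
  let hv := X.homOfLE (inf_le_right : U' ⊓ V ≤ V)
  have hrange' : Set.range (hv ≫ i.hom) ⊆ Set.range W.ι := by
    rintro _ ⟨z, rfl⟩
    rw [Scheme.Opens.range_ι]
    show (i.inv ≫ V.ι) ((hv ≫ i.hom) z) ∈ U'
    rw [← Scheme.Hom.comp_apply, Category.assoc, i.hom_inv_id_assoc, Scheme.homOfLE_ι]
    exact z.2.1
  let p : (U' ⊓ V).toScheme ⟶ W.toScheme := IsOpenImmersion.lift W.ι (hv ≫ i.hom) hrange'
  haveI : IsOpenImmersion p := by
    haveI : IsOpenImmersion (p ≫ W.ι) := by rw [IsOpenImmersion.lift_fac]; infer_instance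
    exact IsOpenImmersion.of_comp p W.ι
  have hpm : p ≫ m = hu := by
    rw [← cancel_mono U'.ι, Category.assoc, IsOpenImmersion.lift_fac, IsOpenImmersion.lift_fac_assoc]
    simp [hu, hv]
  obtain ⟨c₁⟩ := PerfLocal.rd_comp hv i.hom GV
  obtain ⟨c₂⟩ := nonempty_restrictD_fac p W.ι (hv ≫ i.hom) (IsOpenImmersion.lift_fac _ _ _) GV
  obtain ⟨c₃⟩ := nonempty_restrictD_fac p m hu hpm F'
  let c : (DCoh.restrictD hu).obj F' ≅ (DCoh.restrictD hv).obj B :=
    c₃ ≪≫ (DCoh.restrictD p).mapIso eGV.symm ≪≫ c₂.symm ≪≫ c₁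
  obtain ⟨G, ⟨g₁⟩, ⟨g₂⟩⟩ := Dual22Lib.AdjGeom.exists_glue U' V hcov F' B c
  refine ⟨G, ?_, ?_⟩
  · refine Good.of_cover (fun t : ULift.{u} Bool => if t.down then U' else V) (fun x => ?_) fun t => ?_
    · have hx : x ∈ U' ⊔ V := by rw [hcov]; trivial
      rcases hx with h | h
      · exact ⟨⟨true⟩, h⟩
      · exact ⟨⟨false⟩, h⟩
    · obtain ⟨t⟩ := t
      cases t
      · exact (hGV.restrict i.hom).of_iso g₂.symm
      · exact hF'.of_iso g₁.symm
  · obtain ⟨d₁⟩ := nonempty_restrictD_fac e.hom U'.ι j j.isoOpensRange_hom_ι G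
    obtain ⟨d₂⟩ := nonempty_restrictD_fac e.hom e.inv (𝟙 U) e.hom_inv_id F
    obtain ⟨d₃⟩ := nonempty_restrictD_id F
    exact ⟨d₁ ≪≫ (DCoh.restrictD e.hom).mapIso g₁ ≪≫ d₂.symm ≪≫ d₃⟩

/-- Extension to a Noetherian scheme. -/
theorem exists_ext [IsNoetherian X] (U : X.Opens) (F : DCoh.D (U : Scheme.{u})) (hF : Good F) :
    ∃ G : DCoh.D X, Good G ∧ Nonempty ((DCoh.restrictD U.ι).obj G ≅ F) := by
  classical
  obtain ⟨t, ht⟩ := isCompact_univ.elim_finite_subcover (fun V : X.affineOpens => (V.1 : Set X)) (fun V => V.1.2)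
    (fun x _ => by
      obtain ⟨W, hW, hxW, -⟩ := TopologicalSpace.Opens.isBasis_iff_nbhd.mp X.isBasis_affineOpens (TopologicalSpace.Opens.mem_top x)
      exact Set.mem_iUnion.2 ⟨⟨W, hW⟩, hxW⟩)
  suffices H : ∀ s : Finset X.affineOpens, ∃ (Z : X.Opens) (hUZ : U ≤ Z) (G : DCoh.D (Z : Scheme.{u})),
      Good G ∧ (∀ V ∈ s, V.1 ≤ Z) ∧ Nonempty ((DCoh.restrictD (X.homOfLE hUZ)).obj G ≅ F) by
    obtain ⟨Z, hUZ, G, hG, hs, ⟨g⟩⟩ := H t
    have hZ : (⊤ : X.Opens) ≤ Z := fun x _ => by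
      obtain ⟨V, hV, hx⟩ := Set.mem_iUnion₂.1 (ht (Set.mem_univ x))
      exact hs V hV hx
    obtain rfl : Z = ⊤ := top_le_iff.1 hZ
    refine ⟨(DCoh.restrictD X.topIso.inv).obj G, hG.restrict _, ?_⟩
    obtain ⟨d⟩ := nonempty_restrictD_fac U.ι X.topIso.inv (X.homOfLE hUZ) (by
      rw [← cancel_mono (Scheme.Opens.ι (⊤ : X.Opens)), Category.assoc, Scheme.homOfLE_ι, ← Scheme.topIso_hom,
        Iso.inv_hom_id, Category.comp_id]) G
    exact ⟨d.symm ≪≫ g⟩
  intro s
  induction s using Finset.induction_on with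
  | empty =>
    obtain ⟨d⟩ := nonempty_restrictD_id F
    obtain ⟨d'⟩ := nonempty_restrictD_congr (show X.homOfLE (le_refl U) = 𝟙 _ by simp) F
    exact ⟨U, le_rfl, F, hF, fun V hV => absurd hV (Finset.notMem_empty V), ⟨d' ≪≫ d⟩⟩
  | insert V s hVs ih =>
    obtain ⟨Z, hUZ, G, hG, hs, ⟨g⟩⟩ := ih
    let Z' := Z ⊔ V.1
    let T := Z'.toScheme
    haveI : IsLocallyNoetherian T := isLocallyNoetherian_of_isOpenImmersion Z'.ι
    haveI : CompactSpace T := isCompact_iff_compactSpace.1 (TopologicalSpace.NoetherianSpace.isCompact _)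
    haveI : IsNoetherian T := { }
    let j := X.homOfLE (le_sup_left : Z ≤ Z')
    let VT : T.Opens := Z'.ι ⁻¹ᵁ V.1
    have hVT : IsAffineOpen VT := by
      rw [← Z'.ι.isAffineOpen_iff_of_isOpenImmersion, Scheme.Hom.image_preimage_eq_opensRange_inf,
        Scheme.Opens.opensRange_ι, inf_eq_right.2 le_sup_right]
      exact V.2
    have hcov : j.opensRange ⊔ VT = ⊤ := by
      rw [eq_top_iff]
      intro x _
      rcases x.2 with h | h
      · exact Or.inl ⟨⟨x.1, h⟩, Subtype.ext (X.homOfLE_apply _ _)⟩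
      · exact Or.inr h
    obtain ⟨G', hG', ⟨g'⟩⟩ := exists_ext_step j VT hVT hcov G hG
    refine ⟨Z', hUZ.trans le_sup_left, G', hG', fun W hW => ?_, ?_⟩
    · rcases Finset.mem_insert.1 hW with rfl | hW
      · exact le_sup_right
      · exact (hs W hW).trans le_sup_left
    · obtain ⟨d⟩ := nonempty_restrictD_fac (X.homOfLE hUZ) j (X.homOfLE (hUZ.trans le_sup_left)) (by simp [j]) G'
      exact ⟨d ≪≫ (DCoh.restrictD (X.homOfLE hUZ)).mapIso g' ≪≫ g⟩

end Groth.Agent.DQCoh.CohExt
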