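import Groth.Agent.Dual22Lib.GammaZ
import Groth.Agent.DQCoh.TildePush
import Groth.Agent.Dual22Lib.SchStalk
import Groth.Agent.CechExt.Basic
import Groth.Agent.DQCoh.CohExtend
import Groth.Prelude.Def_Wider
import Groth.Agent.DCat.PCTriangle
import Mathlib.RingTheory.Localization.BaseChange

/-!
# The extended Čech complex computes sections with support on an affine scheme
-/

set_option autoImplicit false
set_option backward.isDefEq.respectTransparency false
set_option backward.defeqAttrib.useBackward true
set_option linter.style.haveILetI false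
set_option linter.unusedSectionVars false
set_option synthInstance.maxHeartbeats 100000

universe u

open CategoryTheory CategoryTheory.Limits CategoryTheory.Pretriangulated AlgebraicGeometry HomologicalComplex
open Groth.Agent Groth.Agent.Dual22Lib

attribute [local instance] HasDerivedCategory.standard
attribute [-instance] Int.instConditionallyCompleteLinearOrder

namespace Groth.Agent.DQCoh.CechSupp17

section Loc

variable {A : Type u} [CommRing A]

/-- Localisation as a functor to modules over the localised ring. -/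
noncomputable def locMod (S : Submonoid A) : ModuleCat.{u} A ⥤ ModuleCat.{u} (Localization S) where
  obj M := ModuleCat.of (Localization S) (LocalizedModule S M)
  map {M N} g := ModuleCat.ofHom
    ((IsLocalizedModule.map S (LocalizedModule.mkLinearMap S M) (LocalizedModule.mkLinearMap S N) g.hom).extendScalarsOfIsLocalization
      S (Localization S))
  map_id M := by
    ext x
    exact ConcreteCategory.congr_hom ((DerCA.locFunctor S).map_id M) x
  map_comp {M N P} g g' := by
    ext x
    exact ConcreteCategory.congr_hom ((DerCA.locFunctor S).map_comp g g') x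

instance additive_locMod (S : Submonoid A) : (locMod S).Additive where
  map_add {M N g g'} := by
    ext x
    exact ConcreteCategory.congr_hom ((DerCA.locFunctor S).map_add (f := g) (g := g')) x

/-- Seen over the base ring this is the localisation functor. -/
noncomputable def locModIso (S : Submonoid A) :
    DerCA.locFunctor S ≅ locMod S ⋙ ModuleCat.restrictScalars (algebraMap A (Localization S)) :=
  NatIso.ofComponents (fun M => LinearEquiv.toModuleIso
    (X₂ := ((ModuleCat.restrictScalars (algebraMap A (Localization S))).obj ((locMod S).obj M) : Type u))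
    { AddEquiv.refl (LocalizedModule S M) with
      map_smul' := fun a x => ((IsScalarTower.algebraMap_smul (Localization S) a x)).symm })
    fun g => by
      ext x
      rfl

end Loc

variable (A : Type u) [CommRing A] [PreservesFiniteLimits (tilde.functor (CommRingCat.of A))]

/-- The object on `Spec A` of a complex of modules. -/
noncomputable abbrev sh : Dual.D A ⥤ DCoh.D (Spec (CommRingCat.of A)) := DCoh.tildeD (CommRingCat.of A)

/-- `tilde` of a localised complex receives no map from objects killed on the basic open. -/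
theorem eq_zero_locCx {T : Scheme.{u}} (j : T ⟶ Spec (CommRingCat.of A)) [IsOpenImmersion j] (f : A)
    (hf : (PrimeSpectrum.basicOpen f : Set (PrimeSpectrum A)) ⊆ Set.range j) (K : DRing.Cx A)
    {N : DCoh.D (Spec (CommRingCat.of A))} (hN : AdjGeom.killed j N)
    (g : N ⟶ (sh A).obj (DerivedCategory.Q.obj ((DerCA.locCx (Submonoid.powers f)).obj K))) : g = 0 := by
  let B := Localization.Away f
  let φ : CommRingCat.of A ⟶ CommRingCat.of B := CommRingCat.ofHom (algebraMap A B)
  haveI : IsOpenImmersion (Spec.map φ) := IsOpenImmersion.of_isLocalization f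
  haveI := DCat.hasRpush (Spec.map φ)
  haveI := AffSchLib.preservesFiniteLimits_tilde (CommRingCat.of B)
  have hN' : AdjGeom.killed (Spec.map φ) N := AdjGeom.killed_mono j (Spec.map φ) (fun x hx => by
    have hx' : x ∈ Set.range (PrimeSpectrum.comap (algebraMap A B)) := hx
    rw [PrimeSpectrum.localization_away_comap_range B f] at hx'
    exact hf hx') hN
  let L := (DerCA.locCx (Submonoid.powers f)).obj K
  let res := ModuleCat.restrictScalars.{u} (algebraMap A B)
  let Lp := ((locMod (Submonoid.powers f)).mapHomologicalComplex (ComplexShape.up ℤ)).obj K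
  let e₀ : L ≅ (res.mapHomologicalComplex (ComplexShape.up ℤ)).obj Lp :=
    Hom.isoOfComponents (fun n => (locModIso (Submonoid.powers f)).app (K.X n))
      (fun p q _ => ((locModIso (Submonoid.powers f)).hom.naturality (K.d p q)).symm)
  obtain ⟨c⟩ := nonempty_tildeD_Rpush φ
  let e : (sh A).obj (DerivedCategory.Q.obj L) ≅
      (DCoh.Rpush (Spec.map φ)).obj ((DCoh.tildeD (CommRingCat.of B)).obj (DerivedCategory.Q.obj Lp)) :=
    (sh A).mapIso (DerivedCategory.Q.mapIso e₀ ≪≫ (res.mapDerivedCategoryFactors.app Lp).symm) ≪≫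
      (c.app (DerivedCategory.Q.obj Lp)).symm
  rw [← cancel_mono e.hom, zero_comp]
  exact GammaZ.eq_zero_of_killed (Spec.map φ) hN' _

/-- Mapping cocones give distinguished triangles in `D(A)`. -/
theorem distinguished_cocone {K L : DRing.Cx A} (ψ : K ⟶ L) :
    DerivedCategory.Q.mapTriangle.obj (CochainComplex.mappingCocone.triangle ψ) ∈ distTriang (Dual.D A) := by
  rw [rotate_distinguished_triangle]
  refine isomorphic_distinguished _ ((DerivedCategory.mem_distTriang_iff _).2 ⟨_, _, ψ, ⟨Iso.refl _⟩⟩) _ ?_
  exact ((DerivedCategory.Q.mapTriangleRotateIso).app _) ≪≫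
    DerivedCategory.Q.mapTriangle.mapIso (CochainComplex.mappingCocone.rotateTriangleIso ψ)

/-- Maps from supported objects into the extended Čech complex are maps into the module. -/
theorem exists_bijective {T : Scheme.{u}} (j : T ⟶ Spec (CommRingCat.of A)) [IsOpenImmersion j] (M : ModuleCat.{u} A) :
    ∀ fs : List A, (∀ f ∈ fs, (PrimeSpectrum.basicOpen f : Set (PrimeSpectrum A)) ⊆ Set.range j) →
      ∃ a : (sh A).obj (DRing.toD (DerCA.extCech M fs)) ⟶ (sh A).obj (Dual.inD A M),
        ∀ N, AdjGeom.killed j N → Function.Bijective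
          (fun g : N ⟶ (sh A).obj (DRing.toD (DerCA.extCech M fs)) => g ≫ a)
  | [], _ => ⟨((sh A).mapIso ((DerivedCategory.singleFunctorIsoCompQ (ModuleCat.{u} A) 0).app M).symm).hom,
      fun N _ => ((Iso.refl N).homCongr
        ((sh A).mapIso ((DerivedCategory.singleFunctorIsoCompQ (ModuleCat.{u} A) 0).app M).symm)).bijective.imp
        (fun h a b hab => h (by simpa using hab)) (fun h y => by
          obtain ⟨z, hz⟩ := h y
          exact ⟨z, by simpa using hz⟩)⟩
  | f :: t, h => by
    obtain ⟨a, ha⟩ := exists_bijective j M t fun g hg => h g (List.mem_cons_of_mem _ hg)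
    let ψ := DerCA.locCxUnit (Submonoid.powers f) (DerCA.extCech M t)
    let T₀ := (sh A).mapTriangle.obj (DerivedCategory.Q.mapTriangle.obj (CochainComplex.mappingCocone.triangle ψ))
    have hT : T₀ ∈ distTriang _ := (sh A).map_distinguished _ (distinguished_cocone A ψ)
    refine ⟨T₀.mor₁ ≫ a, fun N hN => ?_⟩
    have hb : Function.Bijective (fun g : N ⟶ T₀.obj₁ => g ≫ T₀.mor₁) := by
      have hzero : ∀ (N : DCoh.D (Spec (CommRingCat.of A))), AdjGeom.killed j N → ∀ g : N ⟶ T₀.obj₃, g = 0 :=
        fun N hN g => eq_zero_locCx A j f (h f List.mem_cons_self) (DerCA.extCech M t) hN g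
      refine ⟨(injective_iff_map_eq_zero (Preadditive.rightComp N T₀.mor₁)).2 fun g hg => ?_, fun y => ?_⟩
      · obtain ⟨θ, hθ⟩ := Triangle.coyoneda_exact₂ _ (inv_rot_of_distTriang _ hT) g hg
        have hθ0 : θ = 0 := by
          apply (shiftFunctor (DCoh.D (Spec (CommRingCat.of A))) (1 : ℤ)).map_injective
          rw [Functor.map_zero, ← cancel_mono ((shiftFunctorCompIsoId (DCoh.D (Spec (CommRingCat.of A))) (-1) (1 : ℤ)
            (by omega)).hom.app T₀.obj₃), zero_comp]
          exact hzero _ ((AdjGeom.killed j).le_shift (1 : ℤ) N hN) _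
        rw [hθ, hθ0, zero_comp]
      · obtain ⟨g, hg⟩ := Triangle.coyoneda_exact₂ _ hT y (hzero N hN _)
        exact ⟨g, hg.symm⟩
    have he : (fun g : N ⟶ T₀.obj₁ => g ≫ T₀.mor₁ ≫ a) = (fun g => g ≫ a) ∘ (fun g : N ⟶ T₀.obj₁ => g ≫ T₀.mor₁) :=
      funext fun g => (Category.assoc _ _ _).symm
    exact he ▸ (ha N hN).comp hb

/-- The extended Čech complex is supported on the zero locus. -/
theorem killed_extCech {T : Scheme.{u}} (j : T ⟶ Spec (CommRingCat.of A)) [IsOpenImmersion j] (M : ModuleCat.{u} A)
    (fs : List A) (hj : ∀ x ∈ Set.range j, ∃ f ∈ fs, f ∉ (x : PrimeSpectrum A).asIdeal) :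
    AdjGeom.killed j ((sh A).obj (DRing.toD (DerCA.extCech M fs))) := by
  haveI : ∀ (U : Scheme.{u}) (k : U ⟶ Spec (CommRingCat.of A)) [IsOpenImmersion k],
      PreservesFiniteLimits (Scheme.Modules.restrictFunctor k) := fun _ k _ => DCat.PullPerf.preservesFiniteLimits_restrict k
  haveI : ∀ R : CommRingCat.{u}, PreservesFiniteLimits (tilde.functor R) := AffSchLib.preservesFiniteLimits_tilde
  refine (AdjGeom.killed_iff j _).2 fun i x hx => ?_
  by_contra hn
  let E := DerCA.extCech M fs
  obtain ⟨e⟩ := CohExt.nonempty_restrictD_id ((sh A).obj (DRing.toD E))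
  have hs := (nontrivial_stalk_iff (𝟙 (Spec (CommRingCat.of A))) e x i).1 (not_subsingleton_iff_nontrivial.1 hn)
  obtain ⟨f, hf, hfx⟩ := hj x hx
  refine (Module.mem_support_iff'.1 hs).elim fun v hv => ?_
  let c := (DerivedCategory.homologyFunctorFactors (ModuleCat.{u} A) i).app E
  obtain ⟨n, -, hn'⟩ := CechExt.exists_pow_smul_eq_zero M fs i (c.hom v)
  refine hv (f ^ n) (fun h => hfx ((x : PrimeSpectrum A).isPrime.mem_of_pow_mem n h)) ?_
  refine c.toLinearEquiv.injective ?_
  rw [map_zero, map_smul]
  exact hn' f hf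

/-- The extended Čech complex computes sections with support. -/
theorem nonempty_iso {T : Scheme.{u}} (j : T ⟶ Spec (CommRingCat.of A)) [IsOpenImmersion j] [CxOX.HasRgammaZ j]
    (M : ModuleCat.{u} A) (fs : List A)
    (h₁ : ∀ f ∈ fs, (PrimeSpectrum.basicOpen f : Set (PrimeSpectrum A)) ⊆ Set.range j)
    (h₂ : ∀ x ∈ Set.range j, ∃ f ∈ fs, f ∉ (x : PrimeSpectrum A).asIdeal) :
    Nonempty ((sh A).obj (DRing.toD (DerCA.extCech M fs)) ≅ (CxOX.RgammaZ j).obj ((sh A).obj (Dual.inD A M))) := by
  haveI := DCat.hasRpush j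
  obtain ⟨a, ha⟩ := exists_bijective A j M fs h₁
  have hN := killed_extCech A j M fs h₂
  let K := (sh A).obj (Dual.inD A M)
  obtain ⟨g, hg⟩ := (GammaZ.bijective_comp j hN K).2 a
  obtain ⟨g', hg'⟩ := (ha _ (GammaZ.killed_RgammaZ j K)).2 ((CxOX.RgammaZToId j).app K)
  simp only at hg hg'
  refine ⟨⟨g, g', (ha _ hN).1 ?_, (GammaZ.bijective_comp j (GammaZ.killed_RgammaZ j K) K).1 ?_⟩⟩
  · simp only
    rw [Category.assoc, hg', hg, Category.id_comp]
  · simp only
    rw [Category.assoc, hg, hg', Category.id_comp]

end Groth.Agent.DQCoh.CechSupp17
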