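import Groth.Agent.DQCoh.DQCohNoeth17
import Groth.Agent.DQCoh.ResPropD17
import Groth.Agent.CommAlg4.SerreSubRes
import Groth.Agent.Coherent.SubFTApps
import Groth.Agent.Coherent.Devissage
import Groth.Agent.DQCoh.CohAffineExt

/-!
# `D⁻(Coh X) ≅ D⁻_Coh(QCoh X)` and `D^b(Coh X) ≅ D^b_Coh(X)` for noetherian schemes
-/

set_option autoImplicit false
set_option backward.isDefEq.respectTransparency false
set_option backward.defeqAttrib.useBackward true
set_option linter.style.haveILetI false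
set_option linter.unusedSectionVars false
set_option synthInstance.maxHeartbeats 100000
set_option maxHeartbeats 800000
set_option backward.isDefEq.respectTransparency.types false

universe u

open CategoryTheory CategoryTheory.Limits AlgebraicGeometry Opposite TopologicalSpace
open Groth.Agent.Coherent Groth.Agent.DQCoh.DQCohEquiv17

attribute [local instance] HasDerivedCategory.standard
attribute [-instance] Int.instConditionallyCompleteLinearOrder

namespace Groth.Agent.DQCoh.CohEquiv17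

open ResPropD17

variable {X : Scheme.{u}}

/-- Coherence as an object property. -/
abbrev CP (X : Scheme.{u}) : ObjectProperty X.Modules := fun M => Coh.IsCoh M

/-- Coherence inside quasi-coherent modules. -/
abbrev CQ (X : Scheme.{u}) : ObjectProperty (QP X).FullSubcategory := fun M => Coh.IsCoh M.obj

/-- Coherent modules surjecting onto a coherent quotient. -/
theorem exists_coherent_sub [IsNoetherian X] {F Y : X.Modules} [Coh.IsQCoh F] (π : F ⟶ Y) [Epi π]
    (hY : Coh.IsCoh Y) : ∃ (G : X.Modules) (i : G ⟶ F), Mono i ∧ Coh.IsCoh G ∧ Epi (i ≫ π) := by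
  classical
  haveI : Coh.IsQCoh Y := hY.1
  obtain ⟨t, ht, hcov⟩ := isCompact_iff_finite_and_eq_biUnion_affineOpens.1
    (show IsCompact ((⊤ : X.Opens) : Set X) from isCompact_univ)
  haveI := ht.to_subtype
  have H : ∀ V : t, ∃ (n : ℕ) (y : Fin n → Γ(Y, V.1.1)) (Q : SubM F),
      Submodule.span Γ(X, V.1.1) (Set.range y) = ⊤ ∧ Q.Good ⊤ ∧
      ∀ k, ∃ s ∈ Q.carrier V.1.1, π.app V.1.1 s = y k := fun V => by
    haveI := ((isCoh_iff_finite_sections Y).1 hY).2 V.1.1 V.1.2
    obtain ⟨n, y, hy⟩ := Module.Finite.exists_fin (R := Γ(X, V.1.1)) (M := Γ(Y, V.1.1))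
    choose s hs using fun k => H8Lim.app_surjective_of_epi π V.1.2 (y k)
    obtain ⟨Q, hQ, hmem⟩ := exists_good_containing_qcqs (F := F) V.1.2.isCompact
      (fun k : ULift.{u} (Fin n) => s k.down)
    exact ⟨n, y, Q, hy, hQ, fun k => ⟨s k, hmem ⟨k⟩, hs k⟩⟩
  choose n y Q hy hQ hlift using H
  have hgood := SubM.good_sum Q hQ
  let P := SubM.sum Q
  refine ⟨P.toMod, P.toι, inferInstance, ⟨SubM.isQCoh hgood, SubM.isFT hgood⟩,
    epi_of_locally_surjective _ fun W a z hz => ?_⟩
  have hzt : z ∈ ((⊤ : X.Opens) : Set X) := trivial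
  rw [hcov] at hzt
  simp only [Opens.mem_iSup, SetLike.mem_coe] at hzt
  obtain ⟨V, hV, hzV⟩ := hzt
  let V' : t := ⟨V, hV⟩
  have hg : GenOn Y V.1 (fun k : ULift.{u} (Fin (n V')) => y V' k.down) :=
    genOn_of_span_top Y V.2 _ (by
      rw [show Set.range (fun k : ULift.{u} (Fin (n V')) => y V' k.down) = Set.range (y V') from
        ULift.down_surjective.range_comp (y V')]
      exact hy V')
  obtain ⟨W', hW', hzW', c, hc⟩ := hg (W ⊓ V.1) inf_le_right (resM Y inf_le_left a) z ⟨hz, hzV⟩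
  choose s hsQ hs using hlift V'
  refine ⟨W', hW'.trans inf_le_left, hzW', ?_⟩
  let b : Γ(F, W') := ∑ k : ULift.{u} (Fin (n V')), c k • resM F (hW'.trans inf_le_right) (s k.down)
  have hb : b ∈ P.carrier W' := Submodule.sum_mem _ fun k _ =>
    Submodule.smul_mem _ _ (P.res _ (SubM.le_sum Q V' _ (hsQ k.down)))
  obtain ⟨b', hb'⟩ := P.mem_range_toι.2 hb
  refine ⟨b', ?_⟩
  rw [← resM_resM Y inf_le_left hW' a, hc]
  show π.app W' (P.toι.app W' b') = _
  rw [hb', map_sum]
  refine Finset.sum_congr rfl fun k _ => ?_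
  rw [Scheme.Modules.Hom.app_smul, app_resM, hs]

variable [IsNoetherian X]

theorem isCoh_obj (M : (QP X).FullSubcategory) : Coh.IsQCoh M.obj := M.property

instance isSerreClass_CQ : (CQ X).IsSerreClass where
  exists_zero := by
    obtain ⟨Z, hZ⟩ := HasZeroObject.zero (C := (QP X).FullSubcategory)
    refine ⟨Z, ⟨hZ.1, hZ.2⟩, Z.property, ?_⟩
    have hz : IsZero ((QP X).ι.obj Z) := (QP X).ι.map_isZero ⟨hZ.1, hZ.2⟩
    exact Coherent.isFT_of_locallyFinGen fun x => ⟨⊤, PEmpty, inferInstance, PEmpty.elim, trivial,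
      fun W _ a y hy => ⟨W, le_rfl, hy, PEmpty.elim, by
        simp only [Finset.univ_eq_empty, Finset.sum_empty]
        rw [show a = 0 from congr((Scheme.Modules.Hom.app $(hz.eq_of_src (𝟙 _) 0) W) a), map_zero]⟩⟩
  prop_of_mono {M N} f _ hN := by
    haveI : Mono ((QP X).ι.map f) := inferInstance
    exact Coherent.isCoh_of_mono ((QP X).ι.map f) hN M.property
  prop_of_epi {M N} f _ hM := by
    haveI : Epi ((QP X).ι.map f) := inferInstance
    exact ⟨N.property, Coherent.isFT_of_epi ((QP X).ι.map f) hM.2⟩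
  prop_X₂_of_shortExact {S} hS h₁ h₃ :=
    Coherent.isCoh_X₂ (hS.map_of_exact (QP X).ι) h₁ h₃

instance kernels_CQ : (CQ X).IsClosedUnderKernels := inferInstance

instance cokernels_CQ : (CQ X).IsClosedUnderCokernels := inferInstance

instance binaryProducts_CQ : (CQ X).IsClosedUnderBinaryProducts where
  limitsOfShape_le := by
    rintro M ⟨p⟩
    haveI := HasBinaryBiproducts.of_hasBinaryProducts (C := (QP X).FullSubcategory)
    exact (CQ X).prop_of_iso (biprod.isoProd _ _ ≪≫ (prodIsProd _ _).conePointUniqueUpToIso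
      ((IsLimit.equivOfNatIsoOfIso (diagramIsoPair p.diag) _ _ (Iso.refl _)).1 p.isLimit))
      (CommAlg4.SerreSubRes.prop_biprod (CQ X) (p.prop_diag_obj _) (p.prop_diag_obj _))

instance finiteProducts_CQ : (CQ X).IsClosedUnderFiniteProducts :=
  ObjectProperty.IsClosedUnderFiniteProducts.mk'

instance preservesFiniteLimits_CQ : PreservesFiniteLimits (CQ X).ι := by
  haveI : ∀ {M N : (CQ X).FullSubcategory} (f : M ⟶ N), PreservesLimit (parallelPair f 0) (CQ X).ι :=
    fun f => (CQ X).preservesKernels_ι f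
  exact Functor.preservesFiniteLimits_of_preservesKernels _

instance preservesFiniteColimits_CQ : PreservesFiniteColimits (CQ X).ι := by
  haveI : ∀ {M N : (CQ X).FullSubcategory} (f : M ⟶ N), PreservesColimit (parallelPair f 0) (CQ X).ι :=
    fun f => (CQ X).preservesCokernels_ι f
  exact Functor.preservesFiniteColimits_of_preservesCokernels _

theorem hlift (F Y : (QP X).FullSubcategory) (π : F ⟶ Y) (_ : Epi π) (hY : CQ X Y) :
    ∃ (F' : (QP X).FullSubcategory) (i : F' ⟶ F), Mono i ∧ CQ X F' ∧ Epi (i ≫ π) := by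
  haveI : Coh.IsQCoh F.obj := F.property
  haveI : Epi ((QP X).ι.map π) := inferInstance
  haveI : Coh.IsQCoh ((QP X).ι.obj F) := F.property
  obtain ⟨G, i, hi, hG, he⟩ := exists_coherent_sub ((QP X).ι.map π) hY
  refine ⟨⟨G, hG.1⟩, ObjectProperty.homMk i, (QP X).ι.mono_of_mono_map (show Mono i from hi), hG,
    (QP X).ι.epi_of_epi_map ?_⟩
  rw [Functor.map_comp]
  exact he

variable [(CP X).ContainsZero] [(CP X).IsClosedUnderKernels] [(CP X).IsClosedUnderCokernels]
  [(CP X).IsClosedUnderFiniteProducts]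

/-- Coherent modules into quasi-coherent modules. -/
abbrev Lc (X : Scheme.{u}) : (CP X).FullSubcategory ⥤ (QP X).FullSubcategory :=
  ObjectProperty.lift (QP X) (CP X).ι (fun M => M.property.1)

variable [PreservesFiniteLimits (Lc X)] [PreservesFiniteColimits (Lc X)]

/-- Coherent modules are coherent objects of quasi-coherent modules. -/
abbrev toCQ (X : Scheme.{u}) : (CP X).FullSubcategory ⥤ (CQ X).FullSubcategory :=
  ObjectProperty.lift (CQ X) (Lc X) (fun M => M.property)

/-- The inverse. -/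
abbrev fromCQ (X : Scheme.{u}) : (CQ X).FullSubcategory ⥤ (CP X).FullSubcategory :=
  ObjectProperty.lift (CP X) ((CQ X).ι ⋙ (QP X).ι) (fun M => M.property)

theorem exact_toCQ : PreservesFiniteLimits (toCQ X) ∧ PreservesFiniteColimits (toCQ X) ∧
    PreservesFiniteLimits (fromCQ X) ∧ PreservesFiniteColimits (fromCQ X) := by
  let e : (CP X).FullSubcategory ≌ (CQ X).FullSubcategory :=
    CategoryTheory.Equivalence.mk (toCQ X) (fromCQ X) (Iso.refl _) (Iso.refl _)
  exact ⟨inferInstanceAs (PreservesFiniteLimits e.functor), inferInstanceAs (PreservesFiniteColimits e.functor),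
    inferInstanceAs (PreservesFiniteLimits e.inverse), inferInstanceAs (PreservesFiniteColimits e.inverse)⟩

/-- `D⁻(Coh X) ≅ D⁻_Coh(QCoh X)`. -/
theorem minus_equiv :
    (∀ (M N : DerivedCategory (CP X).FullSubcategory) (b : ℤ), M.IsLE b → N.IsLE b →
      Function.Bijective (fun φ : M ⟶ N => (Lc X).mapDerivedCategory.map φ)) ∧
    ∀ (K : DerivedCategory (QP X).FullSubcategory) (b : ℤ), K.IsLE b →
      (∀ i : ℤ, Coh.IsCoh ((DerivedCategory.homologyFunctor (QP X).FullSubcategory i).obj K).obj) →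
      ∃ M : DerivedCategory (CP X).FullSubcategory, M.IsLE b ∧
        Nonempty ((Lc X).mapDerivedCategory.obj M ≅ K) := by
  obtain ⟨i₁, i₂, i₃, i₄⟩ := exact_toCQ (X := X)
  haveI := i₁
  haveI := i₂
  haveI := i₃
  haveI := i₄
  obtain ⟨c⟩ := AffineKProj17.nonempty_mdcCompIso (toCQ X) (CQ X).ι (Lc X) (Iso.refl _)
  haveI hE : (toCQ X).mapDerivedCategory.IsEquivalence :=
    AffineKProj17.isEquivalence_mdc (toCQ X) (fromCQ X) (Iso.refl _) (Iso.refl _)
  let E := (toCQ X).mapDerivedCategory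
  have isLE_E : ∀ (M : DerivedCategory (CP X).FullSubcategory) (b : ℤ), M.IsLE b ↔ (E.obj M).IsLE b := fun M b => by
    rw [DerivedCategory.isLE_iff, DerivedCategory.isLE_iff]
    refine forall₂_congr fun i hi => ⟨fun h => ((toCQ X).map_isZero h).of_iso
      (DCat.SuppOpen.hdMapIso (toCQ X) M i), fun h => ?_⟩
    have h' := (fromCQ X).map_isZero (h.of_iso (DCat.SuppOpen.hdMapIso (toCQ X) M i).symm)
    exact h'
  refine ⟨fun M N b hM hN => ?_, fun K b hK hH => ?_⟩
  · haveI := (isLE_E M b).1 hM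
    haveI := (isLE_E N b).1 hN
    have h := CommAlg4.SerreSubRes.bijective_map (CQ X) hlift (E.obj M) (E.obj N) b
    have he : (fun φ : M ⟶ N => (Lc X).mapDerivedCategory.map φ) =
        (Iso.homCongr (c.app M) (c.app N)) ∘ (fun φ => (CQ X).ι.mapDerivedCategory.map φ) ∘
          fun φ : M ⟶ N => E.map φ := by
      funext φ
      simp only [Function.comp_apply, Iso.homCongr_apply, Iso.app_hom, Iso.app_inv]
      exact (NatIso.naturality_1 c φ).symm
    rw [he]
    exact (Equiv.bijective _).comp (h.comp ⟨fun a b h => E.map_injective h, E.map_surjective⟩)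
  · haveI := hK
    obtain ⟨M', hM', ⟨e⟩⟩ := CommAlg4.SerreSubRes.essImage (CQ X) hlift K b hH
    refine ⟨E.objPreimage M', (isLE_E _ b).2 ?_, ⟨(c.app _).symm ≪≫
      (CQ X).ι.mapDerivedCategory.mapIso (E.objObjPreimageIso M') ≪≫ e⟩⟩
    haveI := hM'
    exact DerivedCategory.TStructure.t.isLE_of_iso (E.objObjPreimageIso M').symm b

/-- `D^b(Coh X) ≅ D^b_Coh(X)`. -/
theorem bounded_equiv [PreservesFiniteLimits (CP X).ι] [PreservesFiniteColimits (CP X).ι] :
    (∀ (M N : DerivedCategory (CP X).FullSubcategory) (a b : ℤ), M.IsGE a → M.IsLE b → N.IsGE a → N.IsLE b →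
      Function.Bijective (fun φ : M ⟶ N => (CP X).ι.mapDerivedCategory.map φ)) ∧
    ∀ (K : DCoh.D X) (a b : ℤ), K.IsGE a → K.IsLE b → DCoh.IsCohD K →
      ∃ M : DerivedCategory (CP X).FullSubcategory, M.IsGE a ∧ M.IsLE b ∧
        Nonempty ((CP X).ι.mapDerivedCategory.obj M ≅ K) := by
  obtain ⟨hff, hess⟩ := minus_equiv (X := X)
  obtain ⟨hfull, hfaith⟩ := DQCohNoeth17.full_faithful (X := X)
  haveI := hfull
  haveI := hfaith
  obtain ⟨c⟩ := AffineKProj17.nonempty_mdcCompIso (Lc X) (QP X).ι (CP X).ι (Iso.refl _)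
  let Φ := (QP X).ι.mapDerivedCategory
  refine ⟨fun M N a b _ hM _ hN => ?_, fun K a b ha hb hK => ?_⟩
  · have he : (fun φ : M ⟶ N => (CP X).ι.mapDerivedCategory.map φ) =
        (Iso.homCongr (c.app M) (c.app N)) ∘ (fun φ => Φ.map φ) ∘
          fun φ : M ⟶ N => (Lc X).mapDerivedCategory.map φ := by
      funext φ
      simp only [Function.comp_apply, Iso.homCongr_apply, Iso.app_hom, Iso.app_inv]
      exact (NatIso.naturality_1 c φ).symm
    rw [he]
    exact (Equiv.bijective _).comp (Function.Bijective.comp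
      ⟨fun a b h => Φ.map_injective h, Φ.map_surjective⟩ (hff M N b hM hN))
  · obtain ⟨L, ⟨e⟩⟩ := (DQCohNoeth17.isQCohD_iff K).1 fun i => (hK i).1
    have hzero : ∀ {Z : (QP X).FullSubcategory}, IsZero Z.obj → IsZero Z := fun {Z} h =>
      (IsZero.iff_id_eq_zero _).2 ((QP X).ι.map_injective (h.eq_of_src _ _))
    let eL := fun i => (DCat.SuppOpen.hdMapIso (QP X).ι L i).symm ≪≫
      (DerivedCategory.homologyFunctor X.Modules i).mapIso e
    have hLb : L.IsLE b := (DerivedCategory.isLE_iff _ _).2 fun i hi =>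
      hzero (((DerivedCategory.isLE_iff _ _).1 hb i hi).of_iso (eL i))
    obtain ⟨M, hMb, ⟨e'⟩⟩ := hess L b hLb fun i => CohExt.isCoh_of_iso (eL i).symm (hK i)
    let e'' : (CP X).ι.mapDerivedCategory.obj M ≅ K := (c.app M).symm ≪≫ Φ.mapIso e' ≪≫ e
    refine ⟨M, (DerivedCategory.isGE_iff _ _).2 fun i hi => ?_, hMb, ⟨e''⟩⟩
    exact (IsZero.iff_id_eq_zero _).2 ((CP X).ι.map_injective
      ((((DerivedCategory.isGE_iff _ _).1 ha i hi).of_iso
        ((DCat.SuppOpen.hdMapIso (CP X).ι M i).symm ≪≫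
          (DerivedCategory.homologyFunctor X.Modules i).mapIso e'')).eq_of_src _ _))

end Groth.Agent.DQCoh.CohEquiv17
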