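import Mathlib.Algebra.Category.ModuleCat.Abelian
import Mathlib.Algebra.Homology.ShortComplex.ModuleCat
import Mathlib.Algebra.Homology.HomologicalComplexAbelian
import Mathlib.Algebra.Homology.Embedding.CochainComplex
import Mathlib.RingTheory.Noetherian.Basic

/-! Finitely generated subcomplexes seeing prescribed cohomology classes. -/

set_option autoImplicit false
set_option backward.isDefEq.respectTransparency false
set_option linter.style.haveILetI false

universe u

open CategoryTheory CategoryTheory.Limits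

namespace Groth.Agent.DQCoh.SubCx

variable {R : Type u} [CommRing R] [IsNoetherianRing R] (M : CochainComplex (ModuleCat.{u} R) ℤ)

/-- The cycles as a submodule. -/
abbrev Z (n : ℤ) : Submodule R (M.X n) := LinearMap.ker (M.d n (n + 1)).hom

/-- One step of the descending construction. -/
theorem exists_step (n : ℤ) (C : Submodule R (M.X (n + 1))) (hC : C.FG) (N : Submodule R (M.X n)) (hN : N.FG)
    (hNZ : N ≤ Z M n) :
    ∃ D : Submodule R (M.X n), D.FG ∧ N ≤ D ∧ D.map (M.d n (n + 1)).hom = C ⊓ LinearMap.range (M.d n (n + 1)).hom := by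
  haveI : Module.Finite R C := Module.Finite.of_fg hC
  haveI : IsNoetherian R C := isNoetherian_of_isNoetherianRing_of_finite R C
  let I : Submodule R (M.X (n + 1)) := C ⊓ LinearMap.range (M.d n (n + 1)).hom
  have hI : I.FG := by
    have h : (I.comap C.subtype).FG := IsNoetherian.noetherian _
    have h' := h.map C.subtype
    rwa [Submodule.map_comap_subtype, inf_eq_right.2 (inf_le_left : I ≤ C)] at h'
  obtain ⟨D, hD, hDI⟩ : ∃ D : Submodule R (M.X n), D.FG ∧ D.map (M.d n (n + 1)).hom = I := by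
    classical
    obtain ⟨s, hs⟩ := hI
    have hmem : ∀ y ∈ s, ∃ x, (M.d n (n + 1)).hom x = y := fun y hy =>
      ((hs ▸ Submodule.subset_span hy : y ∈ I).2)
    choose g hg using hmem
    refine ⟨Submodule.span R (s.attach.image fun y => g y.1 y.2), ⟨_, rfl⟩, ?_⟩
    rw [Submodule.map_span, ← hs]
    congr 1
    ext y
    simp only [Finset.coe_image, Set.mem_image, SetLike.mem_coe, Finset.mem_attach, true_and, Subtype.exists]
    constructor
    · rintro ⟨x, ⟨a, ha, -, rfl⟩, rfl⟩
      rw [hg]; exact ha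
    · intro hy
      exact ⟨g y hy, ⟨y, hy, rfl⟩, hg y hy⟩
  refine ⟨D ⊔ N, hD.sup hN, le_sup_right, ?_⟩
  have hN0 : N.map (M.d n (n + 1)).hom = ⊥ := (Submodule.eq_bot_iff _).2 fun y hy => by
    obtain ⟨x, hx, rfl⟩ := hy
    exact hNZ hx
  rw [Submodule.map_sup, hDI, hN0, sup_bot_eq]

variable (N : ∀ n : ℤ, Submodule R (M.X n)) (hN : ∀ n, (N n).FG) (hNZ : ∀ n, N n ≤ Z M n)
  (a b : ℤ) (hab : ∀ n, n < a ∨ b < n → IsZero (M.X n))

include hN hNZ hab in
/-- The family of submodules. -/
theorem exists_family :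
    ∃ C : ∀ n : ℤ, Submodule R (M.X n), (∀ n, (C n).FG) ∧ (∀ n, N n ≤ C n) ∧
      ∀ n, (C n).map (M.d n (n + 1)).hom = C (n + 1) ⊓ LinearMap.range (M.d n (n + 1)).hom := by
  suffices H : ∀ (k : ℕ), ∃ C : ∀ n : ℤ, Submodule R (M.X n), (∀ n, (C n).FG) ∧ (∀ n, b - k < n → N n ≤ C n) ∧
      ∀ n, b - k < n → (C n).map (M.d n (n + 1)).hom = C (n + 1) ⊓ LinearMap.range (M.d n (n + 1)).hom by
    obtain ⟨C, h₁, h₂, h₃⟩ := H (b - a + 2).toNat
    refine ⟨C, h₁, fun n => ?_, fun n => ?_⟩
    · by_cases hn : b - (b - a + 2).toNat < n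
      · exact h₂ n hn
      · haveI := ModuleCat.subsingleton_of_isZero (hab n (Or.inl (by omega)))
        exact fun x _ => Subsingleton.elim (0 : M.X n) x ▸ zero_mem _
    · by_cases hn : b - (b - a + 2).toNat < n
      · exact h₃ n hn
      · haveI := ModuleCat.subsingleton_of_isZero (hab (n + 1) (Or.inl (by omega)))
        exact Subsingleton.elim _ _
  intro k
  induction k with
  | zero =>
    refine ⟨fun _ => ⊥, fun _ => Submodule.fg_bot, fun n hn => ?_, fun n hn => ?_⟩
    · haveI := ModuleCat.subsingleton_of_isZero (hab n (Or.inr (by simpa using hn)))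
      exact fun x _ => Subsingleton.elim (0 : M.X n) x ▸ zero_mem _
    · simp
  | succ k ih =>
    obtain ⟨C, h₁, h₂, h₃⟩ := ih
    let n₀ : ℤ := b - k
    obtain ⟨D, hD, hND, hDC⟩ := exists_step M n₀ (C (n₀ + 1)) (h₁ _) (N n₀) (hN _) (hNZ _)
    refine ⟨Function.update C n₀ D, fun n => ?_, fun n hn => ?_, fun n hn => ?_⟩
    · rcases eq_or_ne n n₀ with rfl | hne
      · rw [Function.update_self]; exact hD
      · rw [Function.update_of_ne hne]; exact h₁ n
    · rcases eq_or_ne n n₀ with rfl | hne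
      · rw [Function.update_self]; exact hND
      · rw [Function.update_of_ne hne]; exact h₂ n (by omega)
    · rcases eq_or_ne n n₀ with rfl | hne
      · rw [Function.update_self, Function.update_of_ne (by omega : n₀ + 1 ≠ n₀)]; exact hDC
      · rw [Function.update_of_ne hne, Function.update_of_ne (by omega : n + 1 ≠ n₀)]; exact h₃ n (by omega)

include hN hNZ hab in
/-- A bounded subcomplex with finitely generated terms, injective on cohomology and containing `N`. -/
theorem exists_subcomplex :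
    ∃ (C : CochainComplex (ModuleCat.{u} R) ℤ) (i : C ⟶ M),
      (∀ n, Module.Finite R (C.X n)) ∧ (∀ n, n < a ∨ b < n → IsZero (C.X n)) ∧
      (∀ n, Mono (i.f n)) ∧
      (∀ n, Mono (HomologicalComplex.homologyMap i n)) ∧ ∀ n, N n ≤ LinearMap.range (i.f n).hom := by
  obtain ⟨C, h₁, h₂, h₃⟩ := exists_family M N hN hNZ a b hab
  have hd : ∀ (n : ℤ) (x : M.X n), x ∈ C n → (M.d n (n + 1)).hom x ∈ C (n + 1) := fun n x hx =>
    (((h₃ n).le (Submodule.mem_map_of_mem hx)).1)
  let K : CochainComplex (ModuleCat.{u} R) ℤ := CochainComplex.of (fun n => ModuleCat.of R (C n))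
    (fun n => ModuleCat.ofHom ((M.d n (n + 1)).hom.restrict (hd n)))
    (fun n => ModuleCat.hom_ext (LinearMap.ext fun x => Subtype.ext
      (ConcreteCategory.congr_hom (M.d_comp_d n (n + 1) (n + 1 + 1)) x.1)))
  let i : K ⟶ M :=
    { f := fun n => ModuleCat.ofHom (C n).subtype
      comm' := fun n n' (h : n + 1 = n') => by
        subst h
        simp only [K, CochainComplex.of_d]
        rfl }
  refine ⟨K, i, fun n => Module.Finite.of_fg (h₁ n), fun n hn => ?_,
    fun n => (ModuleCat.mono_iff_injective _).2 (C n).injective_subtype, fun n => ?_, fun n x hx => ⟨⟨x, h₂ n hx⟩, rfl⟩⟩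
  · haveI := ModuleCat.subsingleton_of_isZero (hab n hn)
    exact @ModuleCat.isZero_of_subsingleton _ _ _ (inferInstanceAs (Subsingleton (C n)))
  · obtain ⟨p, rfl⟩ : ∃ p, n = p + 1 := ⟨n - 1, by omega⟩
    rw [ModuleCat.mono_iff_injective, injective_iff_map_eq_zero]
    intro z hz
    obtain ⟨y, rfl⟩ := (ModuleCat.epi_iff_surjective (K.homologyπ (p + 1))).1 inferInstance z
    have hz' : M.homologyπ (p + 1) ((HomologicalComplex.cyclesMap i (p + 1)).hom y) = 0 := by
      have e := ConcreteCategory.congr_hom (HomologicalComplex.homologyπ_naturality i (p + 1)) y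
      exact e.symm.trans hz
    have hexM : (ShortComplex.mk (M.toCycles p (p + 1)) (M.homologyπ (p + 1))
        (M.toCycles_comp_homologyπ p (p + 1))).Exact :=
      ShortComplex.exact_of_g_is_cokernel _ (M.homologyIsCokernel p (p + 1) (by simp))
    rw [ShortComplex.moduleCat_exact_iff] at hexM
    obtain ⟨w, hw⟩ := hexM _ hz'
    have hw' : (M.d p (p + 1)).hom w = (K.iCycles (p + 1) y : C (p + 1)).1 := by
      have e1 := ConcreteCategory.congr_hom (M.toCycles_i p (p + 1)) w
      have e2 := ConcreteCategory.congr_hom (HomologicalComplex.cyclesMap_i i (p + 1)) y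
      exact e1.symm.trans ((congrArg (M.iCycles (p + 1)).hom hw).trans e2)
    obtain ⟨v, hv, hv'⟩ := (h₃ p).ge ⟨(K.iCycles (p + 1) y : C (p + 1)).2, ⟨w, hw'⟩⟩
    have hy : K.toCycles p (p + 1) ⟨v, hv⟩ = y := by
      apply (ModuleCat.mono_iff_injective (K.iCycles (p + 1))).1 inferInstance
      refine (ConcreteCategory.congr_hom (K.toCycles_i p (p + 1)) ⟨v, hv⟩).trans ?_
      simp only [K, CochainComplex.of_d]
      exact Subtype.ext hv'
    rw [← hy]
    exact ConcreteCategory.congr_hom (K.toCycles_comp_homologyπ p (p + 1)) ⟨v, hv⟩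

end Groth.Agent.DQCoh.SubCx
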