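import Groth.Agent.DQCoh.PerfectHom
import Groth.Agent.FlatMorStrat.QcqsColim
import Groth.Agent.DCat.Amplitude
import Groth.Agent.DCat.TriSum
import Groth.Agent.DCat.KInjRes
import Groth.Agent.Coherent.CohModule
import Mathlib.CategoryTheory.Limits.Constructions.Filtered

/-!
# Perfect objects commute with sums of uniformly bounded below families of arbitrary modules
-/

set_option autoImplicit false
set_option backward.isDefEq.respectTransparency false
set_option backward.defeqAttrib.useBackward true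
set_option linter.style.haveILetI false
set_option synthInstance.maxHeartbeats 100000
set_option linter.unusedVariables false

universe v' u u' w

open CategoryTheory CategoryTheory.Limits CategoryTheory.Pretriangulated DerivedCategory Opposite TopologicalSpace AlgebraicGeometry
open CategoryTheory.Abelian CoproductsFromFiniteFiltered
open Groth.Agent.SiteDer16 Groth.Agent.DCat Groth.Agent.Coherent

namespace Groth.Agent.DQCoh.CompactBdd

attribute [local instance] HasDerivedCategory.standard
attribute [-instance] Int.instConditionallyCompleteLinearOrder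

variable {X : Scheme.{u}}

local notation "t₀" => (DerivedCategory.TStructure.t : CategoryTheory.Triangulated.TStructure (DCoh.D X))

/-- Every class in the cohomology of a quasi-compact open with values in a direct sum is finitely supported. -/
theorem ext_finite_support [QuasiSeparatedSpace X] {ι : Type u} (F : ι → X.Modules) {U : X.Opens}
    (hU : IsCompact (U : Set X)) (n : ℕ) (x : Ext ((freeModOn X).obj U) (∐ F) n) :
    ∃ s : Finset ι, x.comp (Ext.mk₀ (subSum F s)) (add_zero n) = x := by
  classical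
  let Hn := (Sheaf.cohomologyPresheafFunctor.{u} (Opens.grothendieckTopology X.toTopCat) n).flip.obj (op U)
  let H : X.Modules ⥤ AddCommGrpCat.{u} := toAbFunctor X ⋙ Hn
  haveI h1 : PreservesColimitsOfShape (Finset (Discrete ι)) (toAbFunctor X) :=
    SerreDual.preservesColimitsOfShape_toAb X _
  haveI : QuasiSeparatedSpace X.toTopCat := ‹QuasiSeparatedSpace X›
  haveI : PrespectralSpace X.toTopCat := (inferInstance : PrespectralSpace X)
  haveI h2 : PreservesColimitsOfShape (Finset (Discrete ι)) Hn :=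
    FlatMorStrat.preservesFilteredColimits_HAt (T := X.toTopCat) hU _ n
  haveI : PreservesColimitsOfShape (Finset (Discrete ι)) H := comp_preservesColimitsOfShape _ _
  obtain ⟨S, y, hy⟩ := Concrete.isColimit_exists_rep _
    (isColimitOfPreserves H (isColimitFiniteSubproductsCocone F)) (extToH U (∐ F) n x)
  let s : Finset ι := S.image Discrete.as
  have hs : (finiteSubcoproductsCocone F).ι.app S ≫ subSum F s = (finiteSubcoproductsCocone F).ι.app S := by
    refine Sigma.hom_ext _ _ fun j => ?_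
    simp only [finiteSubcoproductsCocone_ι_app]
    rw [← Category.assoc]
    erw [Sigma.ι_desc]
    exact (ι_subSum F s _).trans (if_pos (Finset.mem_image_of_mem Discrete.as j.2))
  refine ⟨s, (bijective_extToH U n (∐ F)).1 ?_⟩
  rw [extToH_post]
  show H.map (subSum F s) (extToH U (∐ F) n x) = _
  rw [← hy]
  show H.map (subSum F s) (H.map ((finiteSubcoproductsCocone F).ι.app S) y) =
    H.map ((finiteSubcoproductsCocone F).ι.app S) y
  exact (ConcreteCategory.comp_apply _ _ _).symm.trans
    (congrArg (fun φ => (ConcreteCategory.hom φ) y) ((H.map_comp _ _).symm.trans (congrArg H.map hs)))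

/-- Maps from `P` into the shifted coproduct factor through finite subsums. -/
def Fin' {D : Type u'} [Category.{v'} D] [Preadditive D] [HasShift D ℤ] {κ : Type w} (K : κ → D) [HasCoproduct K]
    (P : D) (m : ℤ) : Prop :=
  ∀ α : P ⟶ (∐ K)⟦m⟧, ∃ s : Finset κ, α ≫ (subSum K s)⟦m⟧' = α

section General

variable {D : Type u'} [Category.{v'} D] [Preadditive D] [HasShift D ℤ] {κ : Type w}

theorem subSum_natural {K L : κ → D} [HasCoproduct K] [HasCoproduct L] (φ : ∀ i, K i ⟶ L i) (s : Finset κ) :
    subSum K s ≫ Limits.Sigma.map φ = Limits.Sigma.map φ ≫ subSum L s := by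
  classical
  refine Sigma.hom_ext _ _ fun k => ?_
  rw [← Category.assoc, ι_subSum, Sigma.ι_map_assoc, ι_subSum]
  split_ifs with hk <;> simp

theorem fin'_of_iso {K L : κ → D} [HasCoproduct K] [HasCoproduct L] (e : ∀ i, K i ≅ L i) {P : D} {m : ℤ}
    (h : Fin' K P m) : Fin' L P m := fun α => by
  let E : ∐ K ≅ ∐ L :=
    { hom := Limits.Sigma.map fun i => (e i).hom
      inv := Limits.Sigma.map fun i => (e i).inv
      hom_inv_id := Sigma.hom_ext _ _ fun i => by simp
      inv_hom_id := Sigma.hom_ext _ _ fun i => by simp }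
  obtain ⟨s, hs⟩ := h (α ≫ E.inv⟦m⟧')
  refine ⟨s, ?_⟩
  haveI : IsIso E.inv := ⟨E.hom, E.inv_hom_id, E.hom_inv_id⟩
  rw [← cancel_mono ((shiftFunctor D m).map E.inv), Category.assoc, ← Functor.map_comp,
    show subSum L s ≫ E.inv = E.inv ≫ subSum K s from
      subSum_natural (fun i => (e i).inv) s, Functor.map_comp, ← Category.assoc]
  exact hs

theorem fin'_of_zero {K : κ → D} [HasCoproduct K] {P : D} {m : ℤ} (h : ∀ α : P ⟶ (∐ K)⟦m⟧, α = 0) : Fin' K P m :=
  fun α => ⟨∅, by rw [h α, zero_comp]⟩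

theorem fin'_mono {K : κ → D} [HasCoproduct K] {P : D} {m : ℤ} {α : P ⟶ (∐ K)⟦m⟧} {s t : Finset κ}
    (hs : α ≫ (subSum K s)⟦m⟧' = α) (h : s ⊆ t) : α ≫ (subSum K t)⟦m⟧' = α := by
  rw [← hs, Category.assoc, ← Functor.map_comp, subSum_comp K h]

variable [HasZeroObject D] [∀ n : ℤ, (shiftFunctor D n).Additive] [Pretriangulated D]

theorem fin'_of_triangles {J : Type w} (T : J → Triangle D) (hT : ∀ j, T j ∈ distTriang D)
    [HasCoproduct (fun j => (T j).obj₁)] [HasCoproduct (fun j => (T j).obj₂)] [HasCoproduct (fun j => (T j).obj₃)]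
    {P : D} {m : ℤ} (h₁ : Fin' (fun j => (T j).obj₁) P m) (h₃ : Fin' (fun j => (T j).obj₃) P m) :
    Fin' (fun j => (T j).obj₂) P m := fun α => by
  classical
  let f := Limits.Sigma.map (fun j => (T j).mor₁)
  let g := Limits.Sigma.map (fun j => (T j).mor₂)
  let F := shiftFunctor D m
  obtain ⟨s, hs⟩ := h₃ (α ≫ F.map g)
  let β := α - α ≫ F.map (subSum (fun j => (T j).obj₂) s)
  have hz : β ≫ F.map g = 0 := by
    simp only [β, Preadditive.sub_comp, Category.assoc, ← F.map_comp, sub_eq_zero, g, subSum_natural]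
    rw [F.map_comp, ← Category.assoc]
    exact hs.symm
  have hd := Triangle.shift_distinguished _ (DCat.coproduct_distinguished T hT) m
  let Tm := (Triangle.shiftFunctor D m).obj (Triangle.mk f g
    (Sigma.desc (fun j => (T j).mor₃ ≫ (shiftFunctor D (1 : ℤ)).map (Sigma.ι (fun j => (T j).obj₁) j))))
  obtain ⟨γ, hγ⟩ := Triangle.coyoneda_exact₂ Tm hd β (by
    show β ≫ (m.negOnePow • F.map g) = 0
    rw [Linear.comp_units_smul, hz, smul_zero])
  obtain ⟨u₁, hu⟩ := h₁ (m.negOnePow • γ)
  refine ⟨s ∪ u₁, ?_⟩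
  have hγ' : β = (m.negOnePow • γ) ≫ F.map f := by
    rw [hγ]
    show γ ≫ (m.negOnePow • F.map f) = _
    rw [Linear.comp_units_smul, Linear.units_smul_comp]
  have hβ : β ≫ F.map (subSum (fun j => (T j).obj₂) (s ∪ u₁)) = β := by
    rw [hγ', Category.assoc, ← F.map_comp,
      show f ≫ subSum (fun j => (T j).obj₂) (s ∪ u₁) = subSum (fun j => (T j).obj₁) (s ∪ u₁) ≫ f from
        (subSum_natural _ _).symm, F.map_comp, ← Category.assoc, fin'_mono hu Finset.subset_union_right]
  have e : α = β + α ≫ F.map (subSum (fun j => (T j).obj₂) s) := by simp [β]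
  conv_rhs => rw [e]
  conv_lhs => rw [e]
  rw [Preadditive.add_comp, hβ, Category.assoc, ← F.map_comp, subSum_comp _ Finset.subset_union_left]

theorem fin'_ext {κ : Type w} {K : κ → D} [HasCoproduct K] {T : Triangle D} (hT : T ∈ distTriang D) {m : ℤ}
    (h₁ : Fin' K T.obj₁ m) (h₃ : Fin' K T.obj₃ m) : Fin' K T.obj₂ m := fun α => by
  classical
  obtain ⟨s, hs⟩ := h₁ (T.mor₁ ≫ α)
  obtain ⟨γ, hγ⟩ := Triangle.yoneda_exact₂ _ hT (α - α ≫ (subSum K s)⟦m⟧') (by
    rw [Preadditive.comp_sub, ← Category.assoc, hs, sub_self])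
  obtain ⟨u₁, hu⟩ := h₃ γ
  refine ⟨s ∪ u₁, ?_⟩
  have e : α = T.mor₂ ≫ γ + α ≫ (subSum K s)⟦m⟧' := by rw [← hγ]; abel
  conv_rhs => rw [e]
  conv_lhs => rw [e]
  rw [Preadditive.add_comp, Category.assoc, fin'_mono hu Finset.subset_union_right, Category.assoc,
    ← Functor.map_comp, subSum_comp K Finset.subset_union_left]

end General

instance : IsGrothendieckAbelian.{u} X.Modules := DCat.schemeModules_isGrothendieckAbelian X

theorem hasCoproduct_derived {ι : Type u} (K : ι → DCoh.D X) : HasCoproduct K :=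
  haveI := DCat.hasCoproductsOfShape_derived (A := X.Modules) DCat.enoughKInj_of_isGrothendieckAbelian ι
  inferInstance

attribute [local instance] hasCoproduct_derived

theorem isGE_sigma {ι : Type u} (K : ι → DCoh.D X) (a : ℤ) (h : ∀ i, (K i).IsGE a) : (∐ K).IsGE a := by
  rw [DerivedCategory.isGE_iff]
  intro j hj
  obtain ⟨G, hG, ⟨e⟩⟩ := exists_homology_sigma_derived K j
  refine IsZero.of_iso ((IsZero.iff_id_eq_zero _).2 (colimit.hom_ext fun ⟨i⟩ => ?_)) e
  haveI := h i
  exact ((DerivedCategory.isZero_of_isGE (K i) a j hj).of_iso (hG i).some).eq_of_src _ _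

theorem pt_isLE (U : X.Opens) : ((sec X).pt.obj U).IsLE 0 :=
  inferInstanceAs (((DerivedCategory.singleFunctor X.Modules 0).obj ((freeModOn X).obj U)).IsLE 0)

theorem hom_pt_eq_zero (U : X.Opens) {E : DCoh.D X} (a m : ℤ) [hE : E.IsGE a] (h : m < a)
    (α : (sec X).pt.obj U ⟶ E⟦m⟧) : α = 0 := by
  haveI := pt_isLE U
  haveI : (E⟦m⟧).IsGE (a - m) := (t₀).isGE_shift E a m (a - m) (by omega)
  exact (t₀).zero α 0 (a - m) (by omega)

theorem fin'_single0 [QuasiSeparatedSpace X] {ι : Type u} (F : ι → X.Modules) {U : X.Opens}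
    (hU : IsCompact (U : Set X)) (q : ℤ)
    (β : (sec X).pt.obj U ⟶ ((singleFunctor X.Modules 0).obj (∐ F))⟦q⟧) :
    ∃ s : Finset ι, β ≫ ((singleFunctor X.Modules 0).map (subSum F s))⟦q⟧' = β := by
  by_cases hq : 0 ≤ q
  · obtain ⟨n, rfl⟩ := Int.eq_ofNat_of_zero_le hq
    obtain ⟨x, hx⟩ := (Ext.homEquiv (X := (freeModOn X).obj U) (Y := ∐ F) (n := n)).surjective β
    obtain ⟨s, hs⟩ := ext_finite_support F hU n x
    refine ⟨s, ?_⟩
    have h1 := congrArg Ext.hom hs
    rw [Ext.comp_hom, Ext.mk₀_hom, ShiftedHom.comp_mk₀] at h1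
    rw [← hx]
    exact h1
  · exact ⟨∅, by rw [hom_pt_eq_zero U 0 q (by omega) β, zero_comp]⟩

theorem fin'_single [QuasiSeparatedSpace X] {ι : Type u} (F : ι → X.Modules) {U : X.Opens}
    (hU : IsCompact (U : Set X)) (b m : ℤ) :
    Fin' (fun i => (singleFunctor X.Modules b).obj (F i)) ((sec X).pt.obj U) m := fun α => by
  classical
  haveI := DCat.RHomExist.preservesCoproducts_Q (A := X.Modules) ι
  haveI : PreservesColimitsOfShape (Discrete ι) (HomologicalComplex.single X.Modules (ComplexShape.up ℤ) b) :=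
    inferInstance
  haveI : PreservesColimitsOfShape (Discrete ι) (CochainComplex.singleFunctor X.Modules b ⋙ DerivedCategory.Q) :=
    comp_preservesColimitsOfShape (HomologicalComplex.single X.Modules (ComplexShape.up ℤ) b) _
  haveI : PreservesColimitsOfShape (Discrete ι) (singleFunctor X.Modules b) :=
    preservesColimitsOfShape_of_natIso (DerivedCategory.singleFunctorIsoCompQ X.Modules b).symm
  let c : (singleFunctor X.Modules b).obj (∐ F) ≅ ∐ fun i => (singleFunctor X.Modules b).obj (F i) :=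
    PreservesCoproduct.iso (singleFunctor X.Modules b) F
  have hc : ∀ s, subSum (fun i => (singleFunctor X.Modules b).obj (F i)) s ≫ c.inv =
      c.inv ≫ (singleFunctor X.Modules b).map (subSum F s) := fun s => by
    refine Sigma.hom_ext _ _ fun i => ?_
    simp only [c, PreservesCoproduct.inv_hom]
    rw [ι_comp_sigmaComparison_assoc, ← Functor.map_comp, ι_subSum, ← Category.assoc, ι_subSum]
    split_ifs
    · rw [ι_comp_sigmaComparison]
    · rw [Functor.map_zero, zero_comp]
  let η : singleFunctor X.Modules b ⋙ shiftFunctor (DCoh.D X) m ≅ singleFunctor X.Modules 0 ⋙ shiftFunctor (DCoh.D X) (m - b) :=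
    Functor.isoWhiskerLeft _ (shiftFunctorAdd' (DCoh.D X) b (m - b) m (by omega)) ≪≫ (Functor.associator _ _ _).symm ≪≫
      Functor.isoWhiskerRight ((singleFunctors X.Modules).shiftIso b 0 b (by omega)) _
  obtain ⟨s, hs⟩ := fin'_single0 F hU (m - b) ((α ≫ c.inv⟦m⟧') ≫ η.hom.app (∐ F))
  refine ⟨s, ?_⟩
  have hn := η.hom.naturality (subSum F s)
  simp only [Functor.comp_map] at hn
  rw [← cancel_mono ((shiftFunctor (DCoh.D X) m).map c.inv), Category.assoc, ← Functor.map_comp,
    hc s,
    Functor.map_comp, ← cancel_mono (η.hom.app (∐ F))]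
  simp only [Category.assoc] at hs ⊢
  rw [hn]
  exact hs

theorem fin'_bounded [QuasiSeparatedSpace X] {ι : Type u} {U : X.Opens} (hU : IsCompact (U : Set X)) :
    ∀ (k : ℕ) (a : ℤ) (K : ι → DCoh.D X), (∀ i, (K i).IsGE a) → (∀ i, (K i).IsLE (a - 1 + k)) →
      ∀ m : ℤ, Fin' K ((sec X).pt.obj U) m := by
  intro k
  induction k with
  | zero =>
    intro a K hG hL m
    have hz : ∀ i, IsZero (K i) := fun i => by
      haveI := hG i
      haveI := hL i
      exact DCat.WayOut.isZero_of_isGE_of_isLE (K i) a (a - 1 + ((0 : ℕ) : ℤ)) (by omega)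
    have h0 : IsZero (∐ K) := (IsZero.iff_id_eq_zero _).2 (Sigma.hom_ext _ _ fun i => (hz i).eq_of_src _ _)
    exact fin'_of_zero fun α => ((shiftFunctor (DCoh.D X) m).map_isZero h0).eq_of_tgt α 0
  | succ k ih =>
    intro a K hG hL m
    let b : ℤ := a + k
    let T : ι → Triangle (DCoh.D X) := fun i => ((t₀).triangleLTGE b).obj (K i)
    have hT : ∀ i, T i ∈ distTriang _ := fun i => (t₀).triangleLTGE_distinguished b (K i)
    have h₁ : Fin' (fun i => (T i).obj₁) ((sec X).pt.obj U) m := by
      refine ih a _ (fun i => ?_) (fun i => ?_) m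
      · haveI := hG i
        exact (inferInstance : (((t₀).truncLT b).obj (K i)).IsGE a)
      · haveI := (t₀).isLE_truncLT_obj (K i) b (b - 1) (by omega)
        exact (t₀).isLE_of_le (((t₀).truncLT b).obj (K i)) (b - 1) _ (by omega)
    have h₃ : Fin' (fun i => (T i).obj₃) ((sec X).pt.obj U) m := by
      have hM : ∀ i, ∃ M : X.Modules, Nonempty (((t₀).truncGE b).obj (K i) ≅ (singleFunctor X.Modules b).obj M) := fun i => by
        haveI h3 : (((t₀).truncGE b).obj (K i)).IsGE b := (t₀).isGE_truncGE_obj (K i) b b (by omega)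
        haveI := hL i
        haveI : (K i).IsLE b := (t₀).isLE_of_le (K i) (a - 1 + ((k + 1 : ℕ) : ℤ)) b (by omega)
        haveI : (((t₀).truncGE b).obj (K i)).IsLE b := inferInstance
        exact DerivedCategory.exists_iso_singleFunctor_obj_of_isGE_of_isLE _ b
      choose M hM using hM
      exact fin'_of_iso (fun i => (hM i).some.symm) (fin'_single M hU b m)
    exact fin'_of_triangles T hT h₁ h₃

theorem fin'_pt [QuasiSeparatedSpace X] {ι : Type u} {U : X.Opens} (hU : IsCompact (U : Set X)) (K : ι → DCoh.D X)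
    (a : ℤ) (hG : ∀ i, (K i).IsGE a) (m : ℤ) : Fin' K ((sec X).pt.obj U) m := by
  let T : ι → Triangle (DCoh.D X) := fun i => ((t₀).triangleLTGE (m + 1)).obj (K i)
  have hT : ∀ i, T i ∈ distTriang _ := fun i => (t₀).triangleLTGE_distinguished (m + 1) (K i)
  refine fin'_of_triangles T hT (fin'_bounded hU (m - a + 1).toNat a _ (fun i => ?_) (fun i => ?_) m)
    (fin'_of_zero fun α => ?_)
  · haveI := hG i
    exact (inferInstance : (((t₀).truncLT (m + 1)).obj (K i)).IsGE a)
  · haveI := (t₀).isLE_truncLT_obj (K i) (m + 1) m (by omega)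
    exact (t₀).isLE_of_le (((t₀).truncLT (m + 1)).obj (K i)) m _ (by omega)
  · haveI : (∐ fun i => (T i).obj₃).IsGE (m + 1) :=
      isGE_sigma _ _ fun i => (t₀).isGE_truncGE_obj (K i) (m + 1) (m + 1) (by omega)
    exact hom_pt_eq_zero U (m + 1) m (by omega) α

/-- All shifts of `P` see only finite subsums of uniformly bounded below families. -/
def BddCompact (P : DCoh.D X) : Prop :=
  ∀ {ι : Type u} (K : ι → DCoh.D X) (a : ℤ), (∀ i, (K i).IsGE a) → ∀ m : ℤ, Fin' K P m

theorem isDev_bddCompact : IsDev (BddCompact (X := X)) where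
  iso := fun {P Q} e h {ι} K a hK m α => by
    obtain ⟨s, hs⟩ := h K a hK m (e.hom ≫ α)
    exact ⟨s, by rwa [← cancel_epi e.hom, ← Category.assoc]⟩
  zero := fun P hP {ι} K a hK m => fin'_of_zero fun α => hP.eq_of_src α 0
  shift := fun P n h {ι} K a hK m α => by
    let η := (shiftFunctorAdd' (DCoh.D X) (m - n) n m (by omega))
    obtain ⟨y, hy⟩ := (shiftFunctor (DCoh.D X) n).map_surjective (α ≫ η.hom.app (∐ K))
    obtain ⟨s, hs⟩ := h K a hK (m - n) y
    refine ⟨s, ?_⟩
    rw [← cancel_mono (η.hom.app (∐ K)), Category.assoc, η.hom.naturality, ← Category.assoc, ← hy, Functor.comp_map,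
      ← Functor.map_comp, hs]
  ext := fun T hT h₁ h₃ {ι} K a hK m => fin'_ext hT (h₁ K a hK m) (h₃ K a hK m)

theorem bddCompact_perfect [CompactSpace X] [QuasiSeparatedSpace X] (P : DCoh.D X) (hP : DCoh.IsPerfect P) :
    BddCompact P :=
  perfect_induction isDev_bddCompact (fun Z hZ {ι} K a hK m => fin'_pt hZ K a hK m) P hP

end Groth.Agent.DQCoh.CompactBdd
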