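import Groth.Agent.DQCoh.CompactBdd
import Groth.Agent.DQCoh.RHomQCoh
import Groth.Agent.DCat.RHomDual

/-!
# Perfect objects are compact when the scheme has finite cohomological dimension
-/

set_option autoImplicit false
set_option backward.isDefEq.respectTransparency false
set_option backward.defeqAttrib.useBackward true
set_option linter.style.haveILetI false
set_option synthInstance.maxHeartbeats 100000
set_option linter.unusedVariables false

universe v' u u' w w'

open CategoryTheory CategoryTheory.Limits CategoryTheory.Pretriangulated DerivedCategory Opposite TopologicalSpace AlgebraicGeometry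
open CategoryTheory.Abelian HomologicalComplex
open Groth.Agent.SiteDer16 Groth.Agent.DCat Groth.Agent.Coherent

namespace Groth.Agent.DQCoh.CompactBdd

attribute [local instance] HasDerivedCategory.standard
attribute [-instance] Int.instConditionallyCompleteLinearOrder
attribute [local instance] hasCoproduct_derived

variable {X : Scheme.{u}}

local notation "t₀" => (DerivedCategory.TStructure.t : CategoryTheory.Triangulated.TStructure (DCoh.D X))

theorem isLE_sigma {ι : Type u} (K : ι → DCoh.D X) (a : ℤ) (h : ∀ i, (K i).IsLE a) : (∐ K).IsLE a := by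
  rw [DerivedCategory.isLE_iff]
  intro j hj
  obtain ⟨G, hG, ⟨e⟩⟩ := exists_homology_sigma_derived K j
  refine IsZero.of_iso ((IsZero.iff_id_eq_zero _).2 (colimit.hom_ext fun ⟨i⟩ => ?_)) e
  haveI := h i
  exact ((DerivedCategory.isZero_of_isLE (K i) a j hj).of_iso (hG i).some).eq_of_src _ _

/-- A module with vanishing `Ext` beyond degree `d` sees no maps into objects far to the left. -/
theorem from_module_eq_zero (P : X.Modules) (d : ℕ)
    (hP : ∀ (M : X.Modules) (i : ℕ), d < i → Subsingleton (Ext P M i)) (E : DCoh.D X) (b i : ℤ) [hE : E.IsLE b]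
    (hi : b + d < i) (φ : (singleFunctor X.Modules 0).obj P ⟶ E⟦i⟧) : φ = 0 := by
  obtain ⟨I, f, hI, hf, -, hinj⟩ := DCat.exists_kInj_res (DerivedCategory.Q.objPreimage E)
  haveI := hI
  haveI := hf
  haveI := hinj
  let e : E ≅ DerivedCategory.Q.obj I :=
    (DerivedCategory.Q.objObjPreimageIso E).symm ≪≫ asIso (DerivedCategory.Q.map f)
  have hex : ∀ j, b < j → IsZero (I.homology j) := fun j hj =>
    ((DerivedCategory.isZero_of_isLE E b j hj).of_iso
      (((DerivedCategory.homologyFunctorFactors X.Modules j).app I).symm ≪≫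
        (DerivedCategory.homologyFunctor X.Modules j).mapIso e.symm))
  let S : ℤ → ShortComplex X.Modules := fun j =>
    ShortComplex.mk (I.iCycles j) (I.toCycles j (j + 1)) (by
      rw [← cancel_mono (I.iCycles (j + 1)), Category.assoc, toCycles_i, iCycles_d, zero_comp])
  have hS : ∀ j, b ≤ j → (S j).ShortExact := fun j hj => by
    haveI : Epi (I.toCycles j (j + 1)) := Preadditive.epi_of_cancel_zero _ fun g hg =>
      (Cofork.IsColimit.desc' (I.homologyIsCokernel j (j + 1) (by simp)) g (by simpa using hg)).2 ▸ by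
        simp [(hex (j + 1) (by omega)).eq_of_src _ 0]
    have hker : IsLimit (KernelFork.ofι (I.iCycles j) (S j).zero) :=
      KernelFork.IsLimit.ofι _ _
        (fun g hg => I.liftCycles g (j + 1) (by simp) (by
          rw [← I.toCycles_i j (j + 1), ← Category.assoc, hg, zero_comp]))
        (fun g hg => I.liftCycles_i _ _ _ _)
        (fun g hg m hm => by rw [← cancel_mono (I.iCycles j), hm, liftCycles_i])
    exact
      { exact := ShortComplex.exact_of_f_is_kernel _ hker
        mono_f := inferInstanceAs (Mono (I.iCycles j))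
        epi_g := inferInstanceAs (Epi (I.toCycles j (j + 1))) }
  have hext : ∀ (k n : ℕ), d ≤ n + k → Subsingleton (Ext P (I.cycles (b + k)) (n + 1)) := by
    intro k
    induction k with
    | zero => exact fun n hn => hP _ _ (by omega)
    | succ k ih =>
      intro n hn
      rw [show b + ((k + 1 : ℕ) : ℤ) = b + k + 1 by omega]
      refine subsingleton_of_forall_eq 0 fun x => ?_
      have hse := hS (b + k) (by omega)
      haveI : Injective (S (b + k)).X₂ := hinj _
      haveI := ih (n + 1) (by omega)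
      obtain ⟨y, hy⟩ := Ext.covariant_sequence_exact₃ P hse x rfl (Subsingleton.elim _ 0)
      rw [← hy, Ext.eq_zero_of_injective y, Ext.zero_comp]
  refine (DCat.Amplitude.from_shift_iff e P i).2 ((DCat.Amplitude.from_single_iff I P i).2 fun g hg => ?_) φ
  obtain ⟨k, hk⟩ : ∃ k : ℕ, i - 1 = b + k := ⟨(i - 1 - b).toNat, by omega⟩
  have hse := hS (i - 1) (by omega)
  haveI : Subsingleton (Ext P (S (i - 1)).X₁ 1) := by
    have := hext k 0 (by omega)
    rw [← hk] at this
    exact this
  let g' : P ⟶ I.cycles (i - 1 + 1) := I.liftCycles (g ≫ (I.XIsoOfEq (show i = i - 1 + 1 by omega)).hom) (i + 1) (by simp)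
    (by rw [Category.assoc, XIsoOfEq_hom_comp_d, hg])
  obtain ⟨y, hy⟩ := Ext.covariant_sequence_exact₃ P hse (Ext.mk₀ g') rfl (Subsingleton.elim _ 0)
  obtain ⟨h, rfl⟩ := (Ext.mk₀_bijective _ _).2 y
  refine ⟨h, ?_⟩
  rw [Ext.mk₀_comp_mk₀] at hy
  have h2 := congrArg (· ≫ I.iCycles (i - 1 + 1)) ((Ext.mk₀_bijective _ _).1 hy)
  simp only [S, Category.assoc, toCycles_i, g', liftCycles_i] at h2
  rw [← cancel_mono (I.XIsoOfEq (show i = i - 1 + 1 by omega)).hom, Category.assoc, d_comp_XIsoOfEq_hom]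
  exact h2.symm

/-- In finite cohomological dimension, perfect objects see no maps into objects far to the left. -/
theorem exists_vanish_perfect [CompactSpace X] [QuasiSeparatedSpace X] (K : DCoh.D X) (hK : DCoh.IsPerfect K)
    (d : ℕ) (hd : ∀ (F : X.Modules) (i : ℕ), d < i → Subsingleton (Coh.HH X F i)) :
    ∃ N : ℤ, ∀ (E : DCoh.D X), E.IsLE N → ∀ φ : K ⟶ E, φ = 0 := by
  obtain ⟨K', hK', ⟨eK⟩⟩ := PullPerf.exists_kflat_rep K
  have hKp : DCoh.IsPerfect (DerivedCategory.Q.obj K') := PCTriangle.perfect_iso eK.symm hK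
  haveI := LTensorSheaf.hasLTensorCx K'
  haveI := RHomExist.hasRSheafHom K'
  let O := (DerivedCategory.singleFunctor X.Modules 0).obj (Coh.structureModule X)
  obtain ⟨c, hc⟩ := exists_isLE_perfect _ (RHomDual.isPerfect_dual K' hKp)
  haveI := hc
  obtain ⟨C, hC, ⟨eC⟩⟩ := DerivedCategory.exists_iso_Q_obj_of_isLE ((DCoh.RSheafHom K').obj O) c
  obtain ⟨D, q, hDk, -, hq, hD⟩ := exists_kflat_sheaf_le C c fun n hn => CochainComplex.isZero_of_isStrictlyLE C c n hn
  haveI := hq
  haveI := LTensorSheaf.hasLTensorCx D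
  obtain ⟨u⟩ := nonempty_unit_LTensor K'
  refine ⟨-c - d - 1, fun E hE φ => ?_⟩
  haveI := hE
  obtain ⟨w⟩ := RHomDual.nonempty_tensor_dual K' hK' hKp D hDk
    (asIso (DerivedCategory.Q.map q) ≪≫ eC.symm) E
  haveI hT := isLE_LTensor D hDk c hD E (-c - d - 1)
  haveI : ((DCoh.RSheafHom K').obj E).IsLE (-c - d - 1 + c) := ⟨((t₀).le _).prop_of_iso w hT.le⟩
  let ψ := (DCoh.RSheafHomAdj K').homEquiv _ _ (u.hom ≫ eK.hom ≫ φ)
  have hψ : ψ = 0 := by
    rw [← cancel_mono ((shiftFunctorZero (DCoh.D X) ℤ).inv.app _), zero_comp]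
    refine from_module_eq_zero ((freeModOn X).obj ⊤) d (fun M i hi => ?_) _ (-c - d - 1 + c) 0 (by omega) _
    haveI := hd M i hi
    haveI : Subsingleton (Ext (freeSh (X := X.toTopCat) (⊤ : X.Opens)) (Coh.toAb M) i) :=
      (HHTopAdd M i).symm.toEquiv.subsingleton
    exact (bijective_extToH ⊤ i M).1.subsingleton
  have h0 : u.hom ≫ eK.hom ≫ φ = 0 := by
    apply ((DCoh.RSheafHomAdj K').homEquiv _ _).injective
    show ψ = _
    rw [hψ]
    haveI : (DCoh.LTensorCx K').IsLeftAdjoint := (DCoh.RSheafHomAdj K').isLeftAdjoint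
    haveI : (DCoh.RSheafHom K').IsRightAdjoint := (DCoh.RSheafHomAdj K').isRightAdjoint
    rw [Adjunction.homEquiv_unit, Functor.map_zero, comp_zero]
  rwa [← cancel_epi eK.hom, ← cancel_epi u.hom, comp_zero, comp_zero]

theorem sumFac_of_fin' {ι : Type w} {K : ι → DCoh.D X} [HasCoproduct K] {P : DCoh.D X} (h : Fin' K P 0) :
    SumFac K P := fun α => by
  obtain ⟨s, hs⟩ := h (α ≫ (shiftFunctorZero (DCoh.D X) ℤ).inv.app _)
  refine ⟨s, ?_⟩
  rw [← cancel_mono ((shiftFunctorZero (DCoh.D X) ℤ).inv.app (∐ K)), Category.assoc]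
  refine Eq.trans ?_ hs
  rw [Category.assoc]
  exact congrArg (α ≫ ·) ((shiftFunctorZero (DCoh.D X) ℤ).inv.naturality (subSum K s))

theorem sumFac_reindex {ι : Type w} {κ : Type w'} (e : ι ≃ κ) (M : κ → DCoh.D X) [HasCoproduct M]
    [HasCoproduct fun i => M (e i)] [HasCoproduct (M ∘ e)] {P : DCoh.D X} (h : SumFac (fun i => M (e i)) P) : SumFac M P := fun α => by
  classical
  obtain ⟨s, hs⟩ := h (α ≫ (Sigma.reindex e M).inv)
  refine ⟨s.map e.toEmbedding, ?_⟩
  rw [← cancel_mono (Sigma.reindex e M).inv, Category.assoc]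
  refine Eq.trans ?_ hs
  rw [Category.assoc]
  refine congrArg (α ≫ ·) ((cancel_epi (Sigma.reindex e M).hom).1 ?_)
  refine Sigma.hom_ext _ _ fun i => ?_
  simp only [Iso.hom_inv_id_assoc, Sigma.ι_reindex_hom_assoc]
  rw [← Category.assoc, ι_subSum]
  have h2 : Sigma.ι (fun i => M (e i)) i ≫ subSum (fun i => M (e i)) s = if i ∈ s then Sigma.ι (fun i => M (e i)) i else 0 :=
    ι_subSum _ s i
  refine Eq.trans ?_ h2.symm
  by_cases h1 : i ∈ s
  · rw [if_pos (show e i ∈ s.map e.toEmbedding from Finset.mem_map.2 ⟨i, h1, rfl⟩), if_pos h1]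
    exact (Iso.comp_inv_eq _).2 (Sigma.ι_reindex_hom e M i).symm
  · rw [if_neg (fun h => h1 (by obtain ⟨j, hj, hje⟩ := Finset.mem_map.1 h; exact e.injective hje ▸ hj)), if_neg h1]
    exact zero_comp

theorem sumFac_bddBelow [CompactSpace X] [QuasiSeparatedSpace X] (P : DCoh.D X) (hP : DCoh.IsPerfect P)
    {ι : Type u} (K : ι → DCoh.D X) (a : ℤ) (hK : ∀ i, (K i).IsGE a) : SumFac K P :=
  sumFac_of_fin' (bddCompact_perfect P hP K a hK 0)

theorem sumFac_of_cd [CompactSpace X] [QuasiSeparatedSpace X] (P : DCoh.D X) (hP : DCoh.IsPerfect P)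
    (d : ℕ) (hd : ∀ (F : X.Modules) (i : ℕ), d < i → Subsingleton (Coh.HH X F i))
    {ι : Type u} (K : ι → DCoh.D X) : SumFac K P := by
  obtain ⟨N, hN⟩ := exists_vanish_perfect P hP d hd
  let T : ι → Triangle (DCoh.D X) := fun i => ((t₀).triangleLTGE (N + 1)).obj (K i)
  have hT : ∀ i, T i ∈ distTriang _ := fun i => (t₀).triangleLTGE_distinguished (N + 1) (K i)
  refine sumFac_of_fin' (fin'_of_triangles T hT (fin'_of_zero fun α => ?_)
    (bddCompact_perfect P hP _ (N + 1) (fun i => (t₀).isGE_truncGE_obj (K i) (N + 1) (N + 1) (by omega)) 0))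
  haveI : (∐ fun i => (T i).obj₁).IsLE N := isLE_sigma _ _ fun i => (t₀).isLE_truncLT_obj (K i) (N + 1) N (by omega)
  exact hN _ ((t₀).isLE_shift _ N 0 N (by omega)) α

end Groth.Agent.DQCoh.CompactBdd
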