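import Groth.Agent.DQCoh.CompactBdd
import Groth.Agent.DQCoh.RpushSum
import Groth.Agent.DCat.RHomEvalMain

/-!
# `Rf_*` commutes with sums of uniformly bounded below families of arbitrary modules
-/

set_option autoImplicit false
set_option backward.isDefEq.respectTransparency false
set_option backward.defeqAttrib.useBackward true
set_option linter.style.haveILetI false
set_option synthInstance.maxHeartbeats 100000
set_option linter.unusedVariables false

universe v' u u' w

open CategoryTheory CategoryTheory.Limits CategoryTheory.Pretriangulated DerivedCategory Opposite TopologicalSpace AlgebraicGeometry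
open Groth.Agent.SiteDer16 Groth.Agent.DCat Groth.Agent.Coherent

namespace Groth.Agent.DQCoh.CompactBdd

attribute [local instance] HasDerivedCategory.standard
attribute [-instance] Int.instConditionallyCompleteLinearOrder
attribute [local instance] hasCoproduct_derived

variable {X : Scheme.{u}}

local notation "t₀" => (DerivedCategory.TStructure.t : CategoryTheory.Triangulated.TStructure (DCoh.D X))

/-- Transfer along an adjunction whose right adjoint preserves the coproduct. -/
theorem fin'_of_adj {C D : Type*} [Category C] [Category D] [Preadditive C] [Preadditive D] [HasShift C ℤ] [HasShift D ℤ]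
    {G : C ⥤ D} {F : D ⥤ C} (adj : G ⊣ F) [F.CommShift ℤ] [F.PreservesZeroMorphisms] {κ : Type w} (K : κ → D)
    [HasCoproduct K] [HasCoproduct fun i => F.obj (K i)] [PreservesColimit (Discrete.functor K) F] {P : C} {m : ℤ}
    (h : Fin' (fun i => F.obj (K i)) P m) : Fin' K (G.obj P) m := fun α => by
  classical
  let c : (F.obj (∐ K)) ≅ ∐ fun i => F.obj (K i) := PreservesCoproduct.iso F K
  have hc : ∀ s, F.map (subSum K s) ≫ c.hom = c.hom ≫ subSum (fun i => F.obj (K i)) s := fun s => by
    have hs : subSum (fun i => F.obj (K i)) s ≫ c.inv = c.inv ≫ F.map (subSum K s) := by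
      refine Sigma.hom_ext _ _ fun i => ?_
      simp only [c, PreservesCoproduct.inv_hom]
      rw [ι_comp_sigmaComparison_assoc, ← Functor.map_comp, ι_subSum, ← Category.assoc, ι_subSum]
      split_ifs
      · rw [ι_comp_sigmaComparison]
      · rw [Functor.map_zero, zero_comp]
    rw [← cancel_mono c.inv, Category.assoc, Category.assoc, hs, Iso.hom_inv_id, Category.comp_id, Iso.hom_inv_id_assoc]
  let η : F.obj ((∐ K)⟦m⟧) ≅ (∐ fun i => F.obj (K i))⟦m⟧ :=
    (F.commShiftIso m).app _ ≪≫ (shiftFunctor C m).mapIso c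
  have hη : ∀ s, F.map ((subSum K s)⟦m⟧') ≫ η.hom = η.hom ≫ (subSum (fun i => F.obj (K i)) s)⟦m⟧' := fun s => by
    simp only [η, Iso.trans_hom, Iso.app_hom, Functor.mapIso_hom]
    rw [← Category.assoc, show F.map ((shiftFunctor D m).map (subSum K s)) ≫ (F.commShiftIso m).hom.app (∐ K) =
      (F.commShiftIso m).hom.app (∐ K) ≫ (shiftFunctor C m).map (F.map (subSum K s)) from
        (F.commShiftIso m).hom.naturality (subSum K s), Category.assoc, Category.assoc, ← Functor.map_comp, hc,
      Functor.map_comp]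
  obtain ⟨s, hs⟩ := h (adj.homEquiv _ _ α ≫ η.hom)
  refine ⟨s, (adj.homEquiv _ _).injective ?_⟩
  rw [Adjunction.homEquiv_naturality_right, ← cancel_mono η.hom, Category.assoc, hη, ← Category.assoc]
  exact hs

/-- Quasi-compact quasi-separated opens of any scheme. -/
theorem bddCompact_pt {W : X.Opens} (hc : IsCompact (W : Set X)) (hs : IsQuasiSeparated (W : Set X)) :
    BddCompact ((sec X).pt.obj W) := by
  intro ι K a hK m
  let j := W.ι
  haveI : QuasiSeparatedSpace (W : Scheme.{u}) := isQuasiSeparated_iff_quasiSeparatedSpace (W : Set X) W.2 |>.1 hs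
  haveI : CompactSpace (W : Scheme.{u}) := isCompact_iff_compactSpace.1 hc
  haveI : PreservesColimitsOfShape (Discrete ι) ((Scheme.Modules.restrictFunctor j).mapHomologicalComplex (ComplexShape.up ℤ)) :=
    inferInstance
  haveI := DCat.RHomExist.preservesCoproducts_Q (A := (W : Scheme.{u}).Modules) ι
  haveI : PreservesColimitsOfShape (Discrete ι) (DerivedCategory.Q ⋙ PerfLocal.rd j) :=
    preservesColimitsOfShape_of_natIso (Scheme.Modules.restrictFunctor j).mapDerivedCategoryFactors.symm
  haveI : PreservesColimitsOfShape (Discrete ι) (PerfLocal.rd j) :=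
    DCat.RHomExist.preservesCoproducts_of_fac (PerfLocal.rd j) ι
  have h0 : Fin' (fun i => (PerfLocal.rd j).obj (K i)) ((sec (W : Scheme.{u})).pt.obj ⊤) m :=
    fin'_pt isCompact_univ _ a (fun i => by
      haveI := hK i
      exact SiteDer16.isGE_map (G := Scheme.Modules.restrictFunctor j)) m
  have h1 := fin'_of_adj (JShriek.shriekD j) K h0
  obtain ⟨e⟩ := nonempty_shriek_pt j (⊤ : (W : Scheme.{u}).Opens)
  intro α
  let e' := e ≪≫ (sec X).pt.mapIso (eqToIso W.ι_image_top)
  obtain ⟨s, hs'⟩ := h1 (e'.hom ≫ α)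
  exact ⟨s, by rwa [← cancel_epi e'.hom, ← Category.assoc]⟩

/-- `Rf_*` commutes with sums of uniformly bounded below families. -/
theorem isIso_sigmaDesc_Rpush_bdd {S : Scheme.{u}} (f : X ⟶ S) [QuasiCompact f] [QuasiSeparated f] [DCoh.HasRpush f]
    {ι : Type u} (K : ι → DCoh.D X) (n : ℤ) (hK : ∀ i, (K i).IsGE n) [HasCoproduct K]
    [HasCoproduct (fun i => (DCoh.Rpush f).obj (K i))] :
    IsIso (Sigma.desc (fun i => (DCoh.Rpush f).map (Sigma.ι K i))) := by
  classical
  obtain ⟨_, _⟩ := exists_commShift_Rpush f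
  refine isIso_of_bijective_affine _ fun W hW k => ?_
  let R := DCoh.Rpush f
  let K' := fun i => R.obj (K i)
  have hK' : ∀ i, (K' i).IsGE n := fun i => by
    haveI := hK i
    exact isGE_totalRightDerived (modules_enoughKInj X) (Scheme.Modules.pushforward f) _ n
  let Φ : ∐ K' ⟶ R.obj (∐ K) := Sigma.desc fun i => R.map (Sigma.ι K i)
  have hc : IsCompact ((f ⁻¹ᵁ W : X.Opens) : Set X) :=
    f.isCompact_preimage hW.isCompact
  have hs : IsQuasiSeparated ((f ⁻¹ᵁ W : X.Opens) : Set X) :=
    f.isQuasiSeparated_preimage hW.isQuasiSeparated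
  have sf : ∀ {Y : Scheme.{u}} {V : Y.Opens}, IsCompact (V : Set Y) → IsQuasiSeparated (V : Set Y) →
      ∀ (L : ι → DCoh.D Y) [HasCoproduct L], (∀ i, (L i).IsGE n) → SumFac L (((sec Y).pt.obj V)⟦k⟧) := by
    intro Y V hVc hVs L _ hL α
    obtain ⟨s, hs⟩ := isDev_bddCompact.shift _ k (bddCompact_pt hVc hVs) L n hL 0
      (α ≫ (shiftFunctorZero (DCoh.D Y) ℤ).inv.app _)
    refine ⟨s, ?_⟩
    rw [← cancel_mono ((shiftFunctorZero (DCoh.D Y) ℤ).inv.app (∐ L)), Category.assoc]
    refine Eq.trans ?_ hs
    rw [Category.assoc]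
    exact congrArg (α ≫ ·) ((shiftFunctorZero (DCoh.D Y) ℤ).inv.naturality (subSum L s))
  constructor
  · intro h₁ h₂ h
    obtain ⟨s, hs'⟩ := sf hW.isCompact hW.isQuasiSeparated K' hK' (h₁ - h₂)
    have hd : (h₁ - h₂) ≫ Φ = 0 := by
      rw [Preadditive.sub_comp, sub_eq_zero]
      exact h
    refine sub_eq_zero.1 ?_
    rw [← hs', subSum_eq_sum, Preadditive.comp_sum]
    refine Finset.sum_eq_zero fun i _ => ?_
    have e : Φ ≫ R.map (coord K i) = coord K' i := Sigma.hom_ext _ _ fun j => by
      simp only [Φ, coord, Sigma.ι_desc_assoc, Sigma.ι_desc, ← R.map_comp]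
      split_ifs with hj
      · subst hj
        simp [R]
        rfl
      · exact R.map_zero _ _
    rw [← Category.assoc, ← e, ← Category.assoc, hd, zero_comp, zero_comp]
  · intro g
    obtain ⟨b, hb⟩ := exists_homEquiv f W k
    obtain ⟨s, hs'⟩ := sf hc hs K hK (b _ g)
    have hg : g ≫ R.map (subSum K s) = g := (b _).injective ((hb _ g).trans hs')
    refine ⟨g ≫ ∑ i ∈ s, R.map (coord K i) ≫ Sigma.ι K' i, ?_⟩
    show (g ≫ ∑ i ∈ s, R.map (coord K i) ≫ Sigma.ι K' i) ≫ Φ = g
    conv_rhs => rw [← hg, subSum_eq_sum, Functor.map_sum]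
    rw [Category.assoc, Preadditive.sum_comp]
    refine congrArg (g ≫ ·) (Finset.sum_congr rfl fun i _ => ?_)
    rw [Category.assoc, R.map_comp]
    exact congrArg (R.map (coord K i) ≫ ·) (Sigma.ι_desc _ _)

end Groth.Agent.DQCoh.CompactBdd
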