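import Groth.Agent.TPowGen8.Ideal
import Groth.Agent.Coherent.AnnSheaf
import Groth.Agent.InjMod14.Kosz.AffineHom
import Groth.Agent.H8Lim.ModFPDescent
import Groth.Agent.EGA43.InjFibre.Restriction
import Groth.Agent.AmpleLib.FTIdeal
import Groth.Agent.Props12.FinLocFree
import Groth.Agent.Coherent.CohBC.PushStructure

/-!
# The image ideal of a cosection `p : E ⟶ O`

The annihilator ideal sheaf of the cokernel of a cosection is its image.
-/

set_option autoImplicit false
set_option backward.isDefEq.respectTransparency false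

universe u

open CategoryTheory CategoryTheory.Limits AlgebraicGeometry Opposite TopologicalSpace
open Groth.Agent.Coherent Groth.Agent.AssSch12

noncomputable section

namespace Groth.Agent.CosecLocus17

variable {X : Scheme.{u}} {E : X.Modules} (p : E ⟶ Coh.structureModule X)

theorem isQCoh_coker [Coh.IsQCoh E] : Coh.IsQCoh (cokernel p) := by
  have : Coh.IsQCoh (Coh.structureModule X) := isQCoh_structureModule (X := X)
  exact isQCoh_cokernel p

theorem isFT_coker [Coh.IsQCoh E] : CohB1.IsFT (cokernel p) := by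
  have : Coh.IsQCoh (Coh.structureModule X) := isQCoh_structureModule (X := X)
  have h := Props12.isFP_of_isFinLocFree (Coh.structureModule X) (CohBC.isFinLocFree_structureModule X)
  exact Coherent.isFT_of_epi (cokernel.π p) (haveI := h; inferInstance : CohB1.IsFT (Coh.structureModule X))

/-- The image ideal sheaf. -/
def imageIdeal [Coh.IsQCoh E] : X.IdealSheafData := annSheaf (isQCoh_coker p) (isFT_coker p)

theorem support_imageIdeal [Coh.IsQCoh E] :
    ((imageIdeal p).support : Set X) = CohB1.support (cokernel p) :=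
  support_annSheaf _ _

theorem mem_imageIdeal [Coh.IsQCoh E] (U : X.affineOpens) (f : Γ(X, U.1)) :
    f ∈ (imageIdeal p).ideal U ↔ ∃ e : Γ(E, U.1), p.app U.1 e = f := by
  have : Coh.IsQCoh (Coh.structureModule X) := isQCoh_structureModule (X := X)
  have : Coh.IsQCoh (cokernel p) := isQCoh_coker p
  show f ∈ Module.annihilator Γ(X, U.1) Γ(cokernel p, U.1) ↔ _
  constructor
  · intro hf
    let one : Γ(Coh.structureModule X, U.1) := (1 : Γ(X, U.1))
    have h1 : (cokernel.π p).app U.1 (f • one) = 0 := by
      rw [Scheme.Modules.Hom.app_smul]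
      exact Module.mem_annihilator.1 hf _
    have : Coh.IsQCoh (Abelian.image p) := isQCoh_kernel (cokernel.π p)
    obtain ⟨k, hk⟩ := kernel_sections_exact (cokernel.π p) (f • one) h1
    obtain ⟨e, he⟩ := H8Lim.app_surjective_of_epi (Abelian.factorThruImage p) U.2 k
    refine ⟨e, ?_⟩
    have h2 : p.app U.1 e = f • one := by
      rw [← hk, ← he]
      exact congr(($(Abelian.image.fac p)).app U.1 e).symm
    exact h2.trans (mul_one f)
  · rintro ⟨e, rfl⟩
    refine Module.mem_annihilator.2 fun t => ?_
    obtain ⟨r, rfl⟩ := H8Lim.app_surjective_of_epi (cokernel.π p) U.2 t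
    let r' : Γ(X, U.1) := r
    have h1 : p.app U.1 (r' • e) = (show Γ(X, U.1) from p.app U.1 e) • r := by
      rw [Scheme.Modules.Hom.app_smul]
      exact mul_comm r' (show Γ(X, U.1) from p.app U.1 e)
    rw [← Scheme.Modules.Hom.app_smul, ← h1]
    exact congr(($(cokernel.condition p)).app U.1 (r' • e))

/-- The cosection factors through the image ideal. -/
theorem exists_toIdealMod [Coh.IsQCoh E] :
    ∃ q : E ⟶ ClSub.idealMod (imageIdeal p), q ≫ ClSub.idealModι (imageIdeal p) = p := by
  refine ⟨kernel.lift _ p ?_, kernel.lift_ι _ _ _⟩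
  refine InjMod14.Kosz.hom_ext_affine _ _ fun U e => ?_
  have hm : (show Γ(X, U.1) from p.app U.1 e) ∈ (imageIdeal p).ideal U := (mem_imageIdeal p U _).2 ⟨e, rfl⟩
  rw [← (imageIdeal p).ker_subschemeι_app U, RingHom.mem_ker] at hm
  obtain ⟨k, hk⟩ := (AmpleLib.mem_range_idealModι (imageIdeal p) U.1 _).2 hm
  show (ClSub.toSubscheme (imageIdeal p)).app U.1 (p.app U.1 e) = 0
  rw [← show (ClSub.idealModι (imageIdeal p)).app U.1 k = p.app U.1 e from hk]
  exact congr(($(kernel.condition (ClSub.toSubscheme (imageIdeal p)))).app U.1 k)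

/-- Off the support of the cokernel the cosection hits `1`. -/
theorem exists_eq_one [Coh.IsQCoh E] (W : X.affineOpens)
    (hW : ∀ x ∈ W.1, x ∉ CohB1.support (cokernel p)) :
    ∃ e : Γ(E, W.1), p.app W.1 e = (show Γ(Coh.structureModule X, W.1) from (1 : Γ(X, W.1))) := by
  refine (mem_imageIdeal p W 1).1 (Module.mem_annihilator.2 fun t => ?_)
  rw [one_smul]
  refine EGA43.InjFibre.eq_zero_of_germ _ t fun x hx => ?_
  exact (not_not.1 (hW x hx) : Subsingleton _).elim _ _

/-- A cosection with image an ideal sheaf `I` (up to an epimorphism) has the zero locus of `I`. -/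
theorem support_coker_of_epi [Coh.IsQCoh E] (I : X.IdealSheafData) (π : E ⟶ ClSub.idealMod I) [Epi π] :
    CohB1.support (cokernel (π ≫ ClSub.idealModι I)) = (I.support : Set X) := by
  have : Coh.IsQCoh (Coh.structureModule X) := isQCoh_structureModule (X := X)
  have : Coh.IsQCoh (Coh.structureModule I.subscheme) := isQCoh_structureModule (X := I.subscheme)
  have : Coh.IsQCoh ((Scheme.Modules.pushforward I.subschemeι).obj (Coh.structureModule I.subscheme)) :=
    isQCoh_push I.subschemeι _
  have : Coh.IsQCoh (ClSub.idealMod I) := isQCoh_kernel (ClSub.toSubscheme I)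
  rw [← support_imageIdeal]
  suffices h : imageIdeal (π ≫ ClSub.idealModι I) = I by rw [h]
  refine Scheme.IdealSheafData.ext (funext fun U => Ideal.ext fun f => ?_)
  rw [mem_imageIdeal, ← I.ker_subschemeι_app U, RingHom.mem_ker]
  refine Iff.trans ?_ (AmpleLib.mem_range_idealModι I U.1 f)
  constructor
  · rintro ⟨e, rfl⟩
    exact ⟨π.app U.1 e, rfl⟩
  · rintro ⟨k, rfl⟩
    obtain ⟨e, rfl⟩ := H8Lim.app_surjective_of_epi π U.2 k
    exact ⟨e, rfl⟩

end Groth.Agent.CosecLocus17
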