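import Groth.Agent.DQCoh.CountHom17
import Groth.Agent.DQCoh.Coproduct
import Groth.Prelude.Def_DerLim

/-!
# Homotopy colimits of perfect objects and countability
-/

set_option autoImplicit false
set_option backward.isDefEq.respectTransparency false
set_option backward.defeqAttrib.useBackward true
set_option linter.style.haveILetI false
set_option linter.unusedSectionVars false
set_option synthInstance.maxHeartbeats 100000

universe u v w w'

open CategoryTheory CategoryTheory.Limits CategoryTheory.Pretriangulated AlgebraicGeometry Opposite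
open Groth.Agent

attribute [local instance] HasDerivedCategory.standard

namespace Groth.Agent.DQCoh.CountHom17

section Reindex

variable {D : Type w} [Category.{v} D] [Preadditive D]

/-- Finite factorisation is insensitive to reindexing. -/
theorem sumFac_reindex {κ : Type w'} {κ' : Type u} (σ : κ' ≃ κ) (K : κ → D) [HasCoproduct K]
    [HasCoproduct (K ∘ σ)] {Q : D} (h : SumFac (K ∘ σ) Q) : SumFac K Q := fun α => by
  classical
  let e := Sigma.reindex σ K
  obtain ⟨s, hs⟩ := h (α ≫ e.inv)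
  refine ⟨s.map σ.toEmbedding, ?_⟩
  have he : subSum (K ∘ σ) s ≫ e.hom = e.hom ≫ subSum K (s.map σ.toEmbedding) := Sigma.hom_ext _ _ fun k => by
    rw [← Category.assoc, ι_subSum, show Sigma.ι (K ∘ σ) k ≫ e.hom ≫ subSum K (s.map σ.toEmbedding) =
      Sigma.ι K (σ k) ≫ subSum K (s.map σ.toEmbedding) from by rw [← Category.assoc, Sigma.ι_reindex_hom], ι_subSum]
    by_cases hk : k ∈ s
    · rw [if_pos hk, if_pos]
      · exact Sigma.ι_reindex_hom σ K k
      · simpa using hk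
    · rw [if_neg hk, if_neg, zero_comp]
      simpa using hk
  have := hs =≫ e.hom
  rw [Category.assoc, he] at this
  simpa using this

theorem countable_sumFac {κ : Type w'} [Countable κ] (K : κ → D) [HasCoproduct K] {Q : D}
    (hQ : SumFac K Q) (h : ∀ k, Countable (Q ⟶ K k)) : Countable (Q ⟶ ∐ K) := by
  classical
  refine Function.Surjective.countable
    (f := fun p : Σ s : Finset κ, ∀ i : {i // i ∈ s}, (Q ⟶ K i.1) => ∑ i ∈ p.1.attach, p.2 i ≫ Sigma.ι K i.1)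
    fun α => ?_
  obtain ⟨s, hs⟩ := hQ α
  refine ⟨⟨s, fun i => α ≫ coord K i.1⟩, ?_⟩
  conv_rhs => rw [← hs, subSum_eq_sum, Preadditive.comp_sum, ← Finset.sum_attach]
  exact Finset.sum_congr rfl fun i _ => Category.assoc _ _ _

theorem ι_coord_self {κ : Type w'} (K : κ → D) [HasCoproduct K] (k : κ) : Sigma.ι K k ≫ coord K k = 𝟙 _ := by
  simp [coord]

theorem ι_coord_ne {κ : Type w'} (K : κ → D) [HasCoproduct K] {k i : κ} (h : k ≠ i) :
    Sigma.ι K k ≫ coord K i = 0 := by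
  simp [coord, h]

/-- `1 - shift` is injective on maps out of objects seeing finite subsums. -/
theorem eq_zero_of_comp_one_sub_shift (E : ℕ → D) (f : ∀ n, E n ⟶ E (n + 1)) [HasCoproduct E] {Q : D}
    (hQ : SumFac E Q) (w : Q ⟶ ∐ E) (hw : w ≫ (𝟙 _ - DerLim.shiftMap E f) = 0) : w = 0 := by
  classical
  have hw' : w = w ≫ DerLim.shiftMap E f := by
    rwa [Preadditive.comp_sub, Category.comp_id, sub_eq_zero] at hw
  have h0 : DerLim.shiftMap E f ≫ coord E 0 = 0 := Sigma.hom_ext _ _ fun n => by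
    rw [DerLim.shiftMap, Sigma.ι_desc_assoc, Category.assoc, ι_coord_ne E (by omega : n + 1 ≠ 0), comp_zero, comp_zero]
  have hs : ∀ m, DerLim.shiftMap E f ≫ coord E (m + 1) = coord E m ≫ f m := fun m => Sigma.hom_ext _ _ fun n => by
    rw [DerLim.shiftMap, Sigma.ι_desc_assoc, Category.assoc]
    by_cases h : n = m
    · subst h
      rw [ι_coord_self, Category.comp_id, reassoc_of% ι_coord_self E n]
    · rw [ι_coord_ne E (by omega : n + 1 ≠ m + 1), comp_zero, reassoc_of% ι_coord_ne E h, zero_comp]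
  have hm : ∀ m, w ≫ coord E m = 0 := by
    intro m
    induction m with
    | zero => rw [hw', Category.assoc, h0, comp_zero]
    | succ m ih => rw [hw', Category.assoc, hs, reassoc_of% ih, zero_comp]
  obtain ⟨s, hs'⟩ := hQ w
  rw [← hs', subSum_eq_sum, Preadditive.comp_sum]
  exact Finset.sum_eq_zero fun i _ => by rw [← Category.assoc, hm, zero_comp]

end Reindex

section Shift

variable {D : Type w} [Category.{v} D] [Preadditive D] [HasShift D ℤ] [∀ n : ℤ, (shiftFunctor D n).Additive]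

/-- Transposition of maps into a shift. -/
theorem exists_transpose {A B : D} (n : ℤ) (x : A ⟶ B⟦n⟧) :
    ∃ y : A⟦-n⟧ ⟶ B, x = ((shiftFunctorCompIsoId D (-n) n (by omega)).app A).inv ≫ y⟦n⟧' := by
  obtain ⟨y, hy⟩ := (shiftFunctor D n).map_surjective (((shiftFunctorCompIsoId D (-n) n (by omega)).app A).hom ≫ x)
  exact ⟨y, by rw [hy, Iso.inv_hom_id_assoc]⟩

theorem comp_shift_eq_zero_iff {A B C : D} (n : ℤ) (y : A⟦-n⟧ ⟶ B) (f : B ⟶ C) :
    (((shiftFunctorCompIsoId D (-n) n (by omega)).app A).inv ≫ y⟦n⟧') ≫ f⟦n⟧' = 0 ↔ y ≫ f = 0 := by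
  rw [Category.assoc, ← Functor.map_comp, ← cancel_epi ((shiftFunctorCompIsoId D (-n) n (by omega)).app A).hom,
    Iso.hom_inv_id_assoc, comp_zero]
  exact (shiftFunctor D n).map_eq_zero_iff

end Shift

variable {X : Scheme.{u}}

/-- Objects compact relative to `D_QCoh` see finite subsums of sequences. -/
theorem sumFac_nat [HasColimitsOfShape (Discrete ℕ) (DCoh.D X)] {Q : DCoh.D X} (hQ : QCompact Q)
    (E : ℕ → DCoh.D X) (hE : ∀ n, DCoh.IsQCohD (E n)) (k : ℤ) : SumFac E (Q⟦k⟧) := by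
  haveI : HasColimitsOfShape (Discrete (ULift.{u} ℕ)) (DCoh.D X) :=
    hasColimitsOfShape_of_equivalence (Discrete.equivalence Equiv.ulift.symm : Discrete ℕ ≌ Discrete (ULift.{u} ℕ))
  exact sumFac_reindex Equiv.ulift E (hQ (E ∘ Equiv.ulift.{u}) (fun n => hE _) k)

theorem isQCohD_sigma_nat [HasColimitsOfShape (Discrete ℕ) (DCoh.D X)] (E : ℕ → DCoh.D X)
    (hE : ∀ n, DCoh.IsQCohD (E n)) : DCoh.IsQCohD (∐ E) := fun i => by
  haveI : HasColimitsOfShape (Discrete (ULift.{u} ℕ)) (DCoh.D X) :=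
    hasColimitsOfShape_of_equivalence (Discrete.equivalence Equiv.ulift.symm : Discrete ℕ ≌ Discrete (ULift.{u} ℕ))
  haveI : Coh.IsQCoh (DCoh.HD (∐ (E ∘ Equiv.ulift.{u})) i) := isQCohD_sigma _ (fun n => hE _) i
  exact Coherent.isQCoh_of_iso ((DerivedCategory.homologyFunctor X.Modules i).mapIso (Sigma.reindex Equiv.ulift E))

/-- Maps out of compact objects into countable homotopy colimits of objects with countably many such. -/
theorem countHom_sigma [HasColimitsOfShape (Discrete ℕ) (DCoh.D X)] {Q : DCoh.D X} (hQ : QCompact Q)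
    (E : ℕ → DCoh.D X) (hE : ∀ n, DCoh.IsQCohD (E n)) (h : ∀ n, CountHom Q (E n)) : CountHom Q (∐ E) := fun j => by
  haveI : ∀ n, Countable (Q⟦-j⟧ ⟶ E n) := fun n => ((h n).shift_src (-j)).countable
  haveI := countable_sumFac E (sumFac_nat hQ E hE (-j)) this
  exact Function.Surjective.countable
    (f := fun y : Q⟦-j⟧ ⟶ ∐ E => ((shiftFunctorCompIsoId (DCoh.D X) (-j) j (by omega)).app Q).inv ≫ y⟦j⟧')
    fun x => by
      obtain ⟨y, hy⟩ := exists_transpose j x
      exact ⟨y, hy.symm⟩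

/-- The object part of a stage of the construction. -/
structure Stage (G K : DCoh.D X) where
  E : DCoh.D X
  perfect : DCoh.IsPerfect E
  i : E ⟶ K
  q : ℕ → ℕ → Σ j : ℤ, G⟦j⟧ ⟶ E
  hq : ∀ m l, (q m l).2 ≫ i = 0

theorem exists_step [CompactSpace X] [QuasiSeparatedSpace X] {G K E : DCoh.D X} (hG : DCoh.IsPerfect G)
    (hE : DCoh.IsPerfect E) (i : E ⟶ K) {j : ℤ} (z : G⟦j⟧ ⟶ E) (hz : z ≫ i = 0) {j' : ℤ} (s : G⟦j'⟧ ⟶ K) :
    ∃ (E' : DCoh.D X) (f : E ⟶ E') (i' : E' ⟶ K) (t : G⟦j'⟧ ⟶ E'),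
      DCoh.IsPerfect E' ∧ f ≫ i' = i ∧ z ≫ f = 0 ∧ t ≫ i' = s := by
  obtain ⟨C, u, w, hT⟩ := distinguished_cocone_triangle z
  obtain ⟨g, hg⟩ := Triangle.yoneda_exact₂ _ hT i hz
  have hC : DCoh.IsPerfect C :=
    (DCat.PCTriangle.perfect_two_out_of_three hT).1 (DCat.PCTriangle.perfect_shift hG j) hE
  have hB := binaryBiproductTriangle_distinguished C (G⟦j'⟧)
  refine ⟨C ⊞ G⟦j'⟧, u ≫ biprod.inl, biprod.desc g s, biprod.inr,
    (DCat.PCTriangle.perfect_two_out_of_three hB).2.1 hC (DCat.PCTriangle.perfect_shift hG j'), ?_, ?_, biprod.inr_desc _ _⟩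
  · rw [Category.assoc, biprod.inl_desc]
    exact hg.symm
  · rw [← Category.assoc, show z ≫ u = 0 from comp_distTriang_mor_zero₁₂ _ hT, zero_comp]

/-- Objects with countable sections are homotopy colimits of sequences of perfect objects. -/
theorem exists_hocolim [CompactSpace X] [QuasiSeparatedSpace X] [HasColimitsOfShape (Discrete ℕ) (DCoh.D X)]
    (hX : ∀ U : X.Opens, IsAffineOpen U → Countable Γ(X, U))
    {G : DCoh.D X} (hG : DCoh.IsPerfect G)
    (hgen : ∀ E : DCoh.D X, DCoh.IsQCohD E → (IsZero E ↔ ∀ (n : ℤ) (φ : G⟦n⟧ ⟶ E), φ = 0))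
    {K : DCoh.D X} (hK : DCoh.IsQCohD K)
    (hKc : ∀ U : X.Opens, IsAffineOpen U → ∀ i : ℤ, Countable Γ(DCoh.HD K i, U)) :
    ∃ (E : ℕ → DCoh.D X) (f : ∀ n, E n ⟶ E (n + 1)) (i : ∀ n, E n ⟶ K),
      (∀ n, DCoh.IsPerfect (E n)) ∧ DerLim.IsHocolim E f K i := by
  classical
  have hKh : ∀ j : ℤ, Countable (G⟦j⟧ ⟶ K) := fun j => ((countHom_perfect hK hKc hG).shift_src j).countable
  haveI : ∀ j : ℤ, Countable (G⟦j⟧ ⟶ K) := hKh
  haveI : Nonempty (Σ j : ℤ, G⟦j⟧ ⟶ K) := ⟨⟨0, 0⟩⟩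
  obtain ⟨sE, hsE⟩ := exists_surjective_nat (Σ j : ℤ, G⟦j⟧ ⟶ K)
  have henum : ∀ (E : DCoh.D X), DCoh.IsPerfect E → ∀ i : E ⟶ K,
      ∃ e : ℕ → Σ j : ℤ, G⟦j⟧ ⟶ E, (∀ l, (e l).2 ≫ i = 0) ∧
        ∀ (j : ℤ) (z : G⟦j⟧ ⟶ E), z ≫ i = 0 → ∃ l, e l = ⟨j, z⟩ := fun E hE i => by
    have hEq : DCoh.IsQCohD E := isQCohD_of_psc fun m => psc_of_perfect hE m
    haveI : ∀ j : ℤ, Countable (G⟦j⟧ ⟶ E) := fun j =>
      ((countHom_perfect hEq (countable_sections_perfect hX hE) hG).shift_src j).countable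
    haveI : Nonempty (Σ j : ℤ, {z : G⟦j⟧ ⟶ E // z ≫ i = 0}) := ⟨⟨0, 0, zero_comp⟩⟩
    obtain ⟨e, he⟩ := exists_surjective_nat (Σ j : ℤ, {z : G⟦j⟧ ⟶ E // z ≫ i = 0})
    refine ⟨fun l => ⟨(e l).1, (e l).2.1⟩, fun l => (e l).2.2, fun j z hz => ?_⟩
    obtain ⟨l, hl⟩ := he ⟨j, z, hz⟩
    exact ⟨l, by dsimp only; rw [hl]⟩
  choose enum henum0 henum using henum
  have hstep : ∀ (n : ℕ) (S : Stage G K), ∃ (S' : Stage G K) (f : S.E ⟶ S'.E), f ≫ S'.i = S.i ∧
      (S.q n.unpair.1 n.unpair.2).2 ≫ f = 0 ∧ (∃ t : G⟦(sE n).1⟧ ⟶ S'.E, t ≫ S'.i = (sE n).2) ∧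
      (∀ l, S'.q (n + 1) l = enum S'.E S'.perfect S'.i l) ∧
      ∀ m l, m ≠ n + 1 → S'.q m l = ⟨(S.q m l).1, (S.q m l).2 ≫ f⟩ := fun n S => by
    obtain ⟨E', f, i', t, h', hf, hz, ht⟩ :=
      exists_step hG S.perfect S.i (S.q n.unpair.1 n.unpair.2).2 (S.hq _ _) (sE n).2
    refine ⟨⟨E', h', i', fun m l => if m = n + 1 then enum E' h' i' l else ⟨(S.q m l).1, (S.q m l).2 ≫ f⟩,
      fun m l => ?_⟩, f, hf, hz, ⟨t, ht⟩, fun l => if_pos rfl, fun m l hm => if_neg hm⟩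
    by_cases hm : m = n + 1
    · show (if m = n + 1 then enum E' h' i' l else ⟨(S.q m l).1, (S.q m l).2 ≫ f⟩ : Σ j : ℤ, G⟦j⟧ ⟶ E').2 ≫ i' = 0
      rw [if_pos hm]
      exact henum0 E' h' i' l
    · rw [if_neg hm, Category.assoc, hf, S.hq]
  choose next g hgi hgz hgs hgnew hgold using hstep
  have hzero : DCoh.IsPerfect (X := X) (G ⊞ G) := (DCat.PCTriangle.perfect_two_out_of_three
    (binaryBiproductTriangle_distinguished G G)).2.1 hG hG
  let S₀ : Stage G K := ⟨G ⊞ G, hzero, 0, fun _ l => enum _ hzero 0 l, fun _ _ => comp_zero⟩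
  let S : ℕ → Stage G K := fun n => Nat.rec S₀ next n
  let E : ℕ → DCoh.D X := fun n => (S n).E
  let f : ∀ n, E n ⟶ E (n + 1) := fun n => g n (S n)
  let i : ∀ n, E n ⟶ K := fun n => (S n).i
  have hfi : ∀ n, f n ≫ i (n + 1) = i n := fun n => hgi n (S n)
  let F := Functor.ofSequence f
  have hF : ∀ n, F.map (homOfLE (Nat.le_succ n)) = f n := fun n => Functor.ofSequence_map_homOfLE_succ _ n
  -- the bookkeeping of the kernels
  have hq : ∀ (m l n : ℕ) (h : m ≤ n), (S n).q m l =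
      ⟨(enum (E m) (S m).perfect (i m) l).1, (enum (E m) (S m).perfect (i m) l).2 ≫ F.map (homOfLE h)⟩ := by
    intro m l n h
    induction n, h using Nat.le_induction with
    | base =>
      have hb : (S m).q m l = enum (E m) (S m).perfect (i m) l := by
        cases m with
        | zero => rfl
        | succ p => exact hgnew p (S p) l
      rw [hb]
      simp only [homOfLE_refl, F.map_id]
      exact Sigma.ext rfl (heq_of_eq (Category.comp_id _).symm)
    | succ n hn ih =>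
      have he' : (S (n + 1)).q m l = ⟨((S n).q m l).1, ((S n).q m l).2 ≫ f n⟩ := hgold n (S n) m l (by omega)
      have hmap : F.map (homOfLE (hn.trans (Nat.le_succ n))) = F.map (homOfLE hn) ≫ f n := by
        rw [← hF, ← F.map_comp, homOfLE_comp]
      rw [ih] at he'
      refine he'.trans ?_
      simp only [hmap]
      rw [Category.assoc]
  obtain ⟨L, p, c, hT⟩ := distinguished_cocone_triangle (𝟙 (∐ E) - DerLim.shiftMap E f)
  obtain ⟨φ, hφ⟩ := Triangle.yoneda_exact₂ _ hT (Sigma.desc i) (by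
    refine Sigma.hom_ext _ _ fun n => ?_
    simp [DerLim.shiftMap, Preadditive.sub_comp, Preadditive.comp_sub, hfi, sub_eq_zero])
  replace hφ : Sigma.desc i = p ≫ φ := hφ
  have hp : ∀ (m n : ℕ) (h : m ≤ n), F.map (homOfLE h) ≫ Sigma.ι E n ≫ p = Sigma.ι E m ≫ p := by
    intro m n h
    induction n, h using Nat.le_induction with
    | base => simp
    | succ n hn ih =>
      rw [← ih, ← homOfLE_comp hn (Nat.le_succ n), F.map_comp, Category.assoc, hF]
      congr 1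
      have h12 := Sigma.ι E n ≫= comp_distTriang_mor_zero₁₂ _ hT
      simp only [DerLim.shiftMap, Triangle.mk_mor₁, Triangle.mk_mor₂, Preadditive.sub_comp, Preadditive.comp_sub,
        Category.id_comp, Sigma.ι_desc_assoc, Category.assoc, comp_zero, sub_eq_zero] at h12
      exact h12.symm.trans (congrArg (Sigma.ι E n ≫ ·) (Category.id_comp p))
  have hEq : ∀ n, DCoh.IsQCohD (E n) := fun n => isQCohD_of_psc fun m => psc_of_perfect (S n).perfect m
  have hGc : ∀ k : ℤ, QCompact (G⟦k⟧) := fun k => qCompact_perfect _ (DCat.PCTriangle.perfect_shift hG k)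
  have hinj : ∀ (j : ℤ) (x : G⟦j⟧ ⟶ L), x ≫ φ = 0 → x = 0 := by
    intro j x hx
    obtain ⟨w, hw⟩ := exists_transpose 1 (x ≫ c)
    have hw0 : w = 0 := by
      refine eq_zero_of_comp_one_sub_shift E f (sumFac_nat (hGc j) E hEq (-1)) w ?_
      have h0 : (x ≫ c) ≫ (𝟙 (∐ E) - DerLim.shiftMap E f)⟦(1 : ℤ)⟧' = 0 := by
        rw [Category.assoc, show c ≫ (𝟙 (∐ E) - DerLim.shiftMap E f)⟦(1 : ℤ)⟧' = 0 from
          comp_distTriang_mor_zero₃₁ _ hT, comp_zero]
      rw [hw] at h0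
      exact (comp_shift_eq_zero_iff 1 w _).1 h0
    rw [hw0, Functor.map_zero, comp_zero] at hw
    obtain ⟨y, hy⟩ := Triangle.coyoneda_exact₃ _ hT x hw
    replace hy : x = y ≫ p := hy
    obtain ⟨s, hs⟩ := (sumFac_nat (hGc j) E hEq 0).of_iso
      ((shiftFunctorZero (DCoh.D X) ℤ).app (G⟦j⟧)) y
    let N := s.sup id
    have hsN : ∀ n ∈ s, n ≤ N := fun n hn => Finset.le_sup (f := id) hn
    let z : G⟦j⟧ ⟶ E N := ∑ n ∈ s.attach, (y ≫ coord E n.1) ≫ F.map (homOfLE (hsN n.1 n.2))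
    have hxz : x = z ≫ Sigma.ι E N ≫ p := by
      rw [hy, ← hs, subSum_eq_sum, Preadditive.comp_sum, Preadditive.sum_comp, ← Finset.sum_attach]
      simp only [z, Preadditive.sum_comp]
      exact Finset.sum_congr rfl fun n _ => by simp only [Category.assoc, hp]
    have hzi : z ≫ i N = 0 := by
      rw [← hx, hxz]
      simp only [Category.assoc, ← hφ, Sigma.ι_desc]
    obtain ⟨l, hl⟩ := henum (E N) (S N).perfect (i N) j z hzi
    obtain ⟨n, hn⟩ : ∃ n, n = Nat.pair N l := ⟨_, rfl⟩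
    have hNn : N ≤ n := hn ▸ Nat.left_le_pair N l
    have hq' := hq N l n hNn
    have hkill := hgz n (S n)
    rw [hn, Nat.unpair_pair, ← hn] at hkill
    rw [hq'] at hkill
    dsimp only at hkill
    rw [hl] at hkill
    dsimp only at hkill
    have hk : z ≫ F.map (homOfLE (hNn.trans (Nat.le_succ n))) = 0 := by
      rw [← homOfLE_comp hNn (Nat.le_succ n), F.map_comp, hF]
      exact (Category.assoc _ _ _).symm.trans hkill
    rw [hxz, ← hp N (n + 1) (hNn.trans (Nat.le_succ n)), reassoc_of% hk, zero_comp]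
  have hsurj : ∀ (j : ℤ) (y : G⟦j⟧ ⟶ K), ∃ x : G⟦j⟧ ⟶ L, x ≫ φ = y := by
    intro j y
    obtain ⟨n, hn⟩ := hsE ⟨j, y⟩
    have h' : ∀ p : Σ j : ℤ, G⟦j⟧ ⟶ K, sE n = p → ∃ t : G⟦p.1⟧ ⟶ E (n + 1), t ≫ i (n + 1) = p.2 :=
      fun p hp => hp ▸ hgs n (S n)
    obtain ⟨t, ht⟩ := h' _ hn
    exact ⟨t ≫ Sigma.ι E (n + 1) ≫ p, by simp only [Category.assoc, ← hφ, Sigma.ι_desc]; exact ht⟩
  obtain ⟨C, a, δ, hC⟩ := distinguished_cocone_triangle φ
  have hsum := isQCohD_sigma_nat E hEq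
  have hL : DCoh.IsQCohD L := isQCohD_obj₃ hT hsum hsum
  have hC0 : IsZero C := (hgen C (isQCohD_obj₃ hC hL hK)).2 fun j x => by
    have h1 : x ≫ δ = 0 := by
      obtain ⟨w, hw⟩ := exists_transpose 1 (x ≫ δ)
      have h0 : w ≫ φ = 0 := by
        refine (comp_shift_eq_zero_iff 1 w φ).1 ?_
        rw [← hw, Category.assoc, show δ ≫ φ⟦(1 : ℤ)⟧' = 0 from comp_distTriang_mor_zero₃₁ _ hC, comp_zero]
      let e : G⟦j + -1⟧ ≅ (G⟦j⟧)⟦(-1 : ℤ)⟧ := (shiftFunctorAdd (DCoh.D X) j (-1)).app G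
      have : w = 0 := by
        rw [← cancel_epi e.hom, comp_zero]
        exact hinj _ _ (by rw [Category.assoc, h0, comp_zero])
      rw [hw, this, Functor.map_zero, comp_zero]
    obtain ⟨y, hy⟩ := Triangle.coyoneda_exact₃ _ hC x h1
    replace hy : x = y ≫ a := hy
    obtain ⟨x', rfl⟩ := hsurj j y
    rw [hy, Category.assoc, show φ ≫ a = 0 from comp_distTriang_mor_zero₁₂ _ hC, comp_zero]
  haveI : IsIso φ := (Triangle.isZero₃_iff_isIso₁ _ hC).1 hC0
  exact ⟨E, f, i, fun n => (S n).perfect, inv φ ≫ c, isomorphic_distinguished _ hT _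
    (Triangle.isoMk _ _ (Iso.refl _) (Iso.refl _) (asIso φ).symm (by simp) (by simp [hφ]) (by simp))⟩

/-- Homotopy colimits of perfect objects have countable sections. -/
theorem countable_of_hocolim [CompactSpace X] [QuasiSeparatedSpace X] [HasColimitsOfShape (Discrete ℕ) (DCoh.D X)]
    (hX : ∀ U : X.Opens, IsAffineOpen U → Countable Γ(X, U))
    {K : DCoh.D X} (hK : DCoh.IsQCohD K) {E : ℕ → DCoh.D X} {f : ∀ n, E n ⟶ E (n + 1)} {i : ∀ n, E n ⟶ K}
    (hE : ∀ n, DCoh.IsPerfect (E n)) (hi : DerLim.IsHocolim E f K i)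
    (U : X.Opens) (hU : IsAffineOpen U) (j : ℤ) : Countable Γ(DCoh.HD K j, U) := by
  obtain ⟨c, hT⟩ := hi
  refine countable_of_countHom_pt hK hU ?_ j
  have hEq : ∀ n, DCoh.IsQCohD (E n) := fun n => isQCohD_of_psc fun m => psc_of_perfect (hE n) m
  have h : CountHom ((sec X).pt.obj U) (∐ E) := countHom_sigma (fun {ι} K _ hK => shiftSumFac_affine hK hU) E hEq
    fun n => countHom_pt (hEq n) hU (countable_sections_perfect hX (hE n) U hU)
  exact countHom_ext_tgt (rot_of_distTriang _ hT) h (h.shift_tgt 1)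

end Groth.Agent.DQCoh.CountHom17
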