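import Groth.Agent.DQCoh.PerfectHom
import Groth.Agent.DQCoh.PerfectAffine
import Groth.Agent.Dual22Lib.AdjGeom
import Groth.Agent.DCat.SuppOpen
import Groth.Agent.DCat.PullPerf
import Groth.Agent.DQCoh.RelTorBC
import Groth.Agent.Coherent.FreeSections

/-!
# Countability of maps and of sections
-/

set_option autoImplicit false
set_option backward.isDefEq.respectTransparency false
set_option backward.defeqAttrib.useBackward true
set_option linter.style.haveILetI false
set_option linter.unusedSectionVars false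
set_option synthInstance.maxHeartbeats 100000

universe u v w

open CategoryTheory CategoryTheory.Limits CategoryTheory.Pretriangulated AlgebraicGeometry Opposite TopologicalSpace
open Groth.Agent

attribute [local instance] HasDerivedCategory.standard

namespace Groth.Agent.DQCoh.CountHom17

section Generic

variable {D : Type w} [Category.{v} D] [Preadditive D] [HasZeroObject D] [HasShift D ℤ]
  [∀ n : ℤ, (shiftFunctor D n).Additive] [Pretriangulated D]

/-- All shifts of maps from `A` to `B` form countable sets. -/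
def CountHom (A B : D) : Prop := ∀ j : ℤ, Countable (A ⟶ B⟦j⟧)

theorem CountHom.of_iso_tgt {A B B' : D} (h : CountHom A B) (e : B ≅ B') : CountHom A B' := fun j => by
  haveI := h j
  exact ((Iso.refl A).homCongr ((shiftFunctor D j).mapIso e)).symm.injective.countable

theorem CountHom.of_iso_src {A A' B : D} (h : CountHom A B) (e : A ≅ A') : CountHom A' B := fun j => by
  haveI := h j
  exact (e.symm.homCongr (Iso.refl (B⟦j⟧))).injective.countable

/-- The degree zero case. -/
theorem CountHom.countable {A B : D} (h : CountHom A B) : Countable (A ⟶ B) := by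
  haveI := h 0
  exact (((Iso.refl A).homCongr ((shiftFunctorZero D ℤ).app B))).symm.injective.countable

theorem CountHom.shift_src {A B : D} (h : CountHom A B) (n : ℤ) : CountHom (A⟦n⟧) B := fun j => by
  haveI := h (j - n)
  let e : (B⟦j - n⟧)⟦n⟧ ≅ B⟦j⟧ := ((shiftFunctorAdd' D (j - n) n j (by omega)).app B).symm
  exact Function.Surjective.countable (f := fun g : A ⟶ B⟦j - n⟧ => g⟦n⟧' ≫ e.hom) fun f => by
    obtain ⟨g, hg⟩ := (shiftFunctor D n).map_surjective (f ≫ e.inv)
    exact ⟨g, by simp only [hg, Category.assoc, e.inv_hom_id, Category.comp_id]⟩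

theorem CountHom.shift_tgt {A B : D} (h : CountHom A B) (n : ℤ) : CountHom A (B⟦n⟧) := fun j => by
  haveI := h (n + j)
  exact (((Iso.refl A).homCongr ((shiftFunctorAdd D n j).app B))).symm.injective.countable

theorem countHom_zero_tgt (A : D) {B : D} (hB : IsZero B) : CountHom A B := fun j => by
  haveI : Subsingleton (A ⟶ B⟦j⟧) := ⟨fun f g => ((shiftFunctor D j).map_isZero hB).eq_of_tgt f g⟩
  infer_instance

theorem countHom_zero_src (B : D) {A : D} (hA : IsZero A) : CountHom A B := fun j => by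
  haveI : Subsingleton (A ⟶ B⟦j⟧) := ⟨fun f g => hA.eq_of_src f g⟩
  infer_instance

theorem countHom_ext_src {T : Triangle D} (hT : T ∈ distTriang D) {B : D} (h₁ : CountHom T.obj₁ B)
    (h₃ : CountHom T.obj₃ B) : CountHom T.obj₂ B := fun j => by
  classical
  haveI := h₁ j
  haveI := h₃ j
  let r : (T.obj₁ ⟶ B⟦j⟧) → (T.obj₂ ⟶ B⟦j⟧) := fun c => if h : ∃ f, T.mor₁ ≫ f = c then h.choose else 0
  refine Function.Surjective.countable
    (f := fun p : (T.obj₁ ⟶ B⟦j⟧) × (T.obj₃ ⟶ B⟦j⟧) => r p.1 + T.mor₂ ≫ p.2) fun f => ?_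
  have hr : T.mor₁ ≫ r (T.mor₁ ≫ f) = T.mor₁ ≫ f := by
    have h : ∃ f', T.mor₁ ≫ f' = T.mor₁ ≫ f := ⟨f, rfl⟩
    simp only [r, dif_pos h]
    exact h.choose_spec
  obtain ⟨g, hg⟩ := Triangle.yoneda_exact₂ T hT (f - r (T.mor₁ ≫ f)) (by rw [Preadditive.comp_sub, hr, sub_self])
  exact ⟨(T.mor₁ ≫ f, g), by
    show r (T.mor₁ ≫ f) + T.mor₂ ≫ g = f
    rw [← hg]
    abel⟩

theorem countHom_ext_tgt {T : Triangle D} (hT : T ∈ distTriang D) {A : D} (h₁ : CountHom A T.obj₁)
    (h₃ : CountHom A T.obj₃) : CountHom A T.obj₂ := fun j => by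
  classical
  haveI := h₁ j
  haveI := h₃ j
  have hT' := Triangle.shift_distinguished T hT j
  let p : T.obj₂⟦j⟧ ⟶ T.obj₃⟦j⟧ := ((Triangle.shiftFunctor D j).obj T).mor₂
  let q : T.obj₁⟦j⟧ ⟶ T.obj₂⟦j⟧ := ((Triangle.shiftFunctor D j).obj T).mor₁
  let r : (A ⟶ T.obj₃⟦j⟧) → (A ⟶ T.obj₂⟦j⟧) := fun c => if h : ∃ f, f ≫ p = c then h.choose else 0
  refine Function.Surjective.countable
    (f := fun z : (A ⟶ T.obj₁⟦j⟧) × (A ⟶ T.obj₃⟦j⟧) => r z.2 + z.1 ≫ q) fun f => ?_
  have hr : r (f ≫ p) ≫ p = f ≫ p := by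
    have h : ∃ f', f' ≫ p = f ≫ p := ⟨f, rfl⟩
    simp only [r, dif_pos h]
    exact h.choose_spec
  obtain ⟨g, hg⟩ := Triangle.coyoneda_exact₂ _ hT' (f - r (f ≫ p)) (by
    show (f - r (f ≫ p)) ≫ p = 0
    rw [Preadditive.sub_comp, hr, sub_self])
  exact ⟨(g, f ≫ p), by
    show (r (f ≫ p) + g ≫ q : A ⟶ T.obj₂⟦j⟧) = f
    have hg' : f - r (f ≫ p) = g ≫ q := hg
    rw [← hg']
    abel⟩

end Generic

variable {X : Scheme.{u}}

theorem isDev_countHom_src (B : DCoh.D X) : IsDev (fun A : DCoh.D X => CountHom A B) where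
  iso := fun e h => h.of_iso_src e
  zero := fun _ hK => countHom_zero_src B hK
  shift := fun _ n h => h.shift_src n
  ext := fun _ hT h₁ h₃ => countHom_ext_src hT h₁ h₃

theorem isDev_countHom_tgt (A : DCoh.D X) : IsDev (fun B : DCoh.D X => CountHom A B) where
  iso := fun e h => h.of_iso_tgt e
  zero := fun _ hK => countHom_zero_tgt A hK
  shift := fun _ n h => h.shift_tgt n
  ext := fun _ hT h₁ h₃ => countHom_ext_tgt hT h₁ h₃

/-- Countable sections give countably many maps out of `j_! O_U`. -/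
theorem countHom_pt {K : DCoh.D X} (hK : DCoh.IsQCohD K) {U : X.Opens} (hU : IsAffineOpen U)
    (h : ∀ i : ℤ, Countable Γ(DCoh.HD K i, U)) : CountHom ((sec X).pt.obj U) K := fun j => by
  haveI := h j
  haveI : Countable Γ(DCoh.HD (K⟦j⟧) 0, U) := by
    let e : DCoh.HD (K⟦j⟧) 0 ≅ DCoh.HD K j :=
      ((DerivedCategory.homologyFunctor X.Modules 0).shiftIso j 0 j (by omega)).app K
    exact Function.Injective.countable (f := fun x => e.hom.app U x)
      (Function.LeftInverse.injective (g := fun y => e.inv.app U y) fun x =>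
        ((CategoryTheory.comp_apply (e.hom.app U) (e.inv.app U) x).symm.trans
          ((ConcreteCategory.congr_hom (congrArg (fun φ => Scheme.Modules.Hom.app φ U) e.hom_inv_id) x).trans rfl)))
  haveI : Countable ((sec X).P.obj U ⟶ DCoh.HD (K⟦j⟧) 0) :=
    (Coherent.freeModOnEquiv U (DCoh.HD (K⟦j⟧) 0)).injective.countable
  exact (bijective_θ (K⟦j⟧) (isQCohD_shift hK j) hU).1.countable

/-- Countably many maps out of `j_! O_U` give countable sections. -/
theorem countable_of_countHom_pt {K : DCoh.D X} (hK : DCoh.IsQCohD K) {U : X.Opens} (hU : IsAffineOpen U)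
    (h : CountHom ((sec X).pt.obj U) K) (i : ℤ) : Countable Γ(DCoh.HD K i, U) := by
  haveI := h i
  haveI : Countable ((sec X).P.obj U ⟶ DCoh.HD (K⟦i⟧) 0) :=
    (bijective_θ (K⟦i⟧) (isQCohD_shift hK i) hU).2.countable
  haveI : Countable Γ(DCoh.HD (K⟦i⟧) 0, U) :=
    @Function.Injective.countable _ _ ‹Countable ((sec X).P.obj U ⟶ DCoh.HD (K⟦i⟧) 0)› _
      (Coherent.freeModOnEquiv U (DCoh.HD (K⟦i⟧) 0)).symm.injective
  let e : DCoh.HD K i ≅ DCoh.HD (K⟦i⟧) 0 :=
    (((DerivedCategory.homologyFunctor X.Modules 0).shiftIso i 0 i (by omega)).app K).symm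
  exact Function.Injective.countable (f := fun x => e.hom.app U x)
    (Function.LeftInverse.injective (g := fun y => e.inv.app U y) fun x =>
      ((CategoryTheory.comp_apply (e.hom.app U) (e.inv.app U) x).symm.trans
        ((ConcreteCategory.congr_hom (congrArg (fun φ => Scheme.Modules.Hom.app φ U) e.hom_inv_id) x).trans rfl)))

/-- Perfect objects have countably many maps into objects with countable sections. -/
theorem countHom_perfect [CompactSpace X] [QuasiSeparatedSpace X] {K : DCoh.D X} (hK : DCoh.IsQCohD K)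
    (h : ∀ U : X.Opens, IsAffineOpen U → ∀ i : ℤ, Countable Γ(DCoh.HD K i, U))
    {P : DCoh.D X} (hP : DCoh.IsPerfect P) : CountHom P K :=
  perfect_induction (isDev_countHom_src K) ((isDev_countHom_src K).of_affine fun U hU => countHom_pt hK hU (h U hU)) P hP

/-- Countability of sections is local. -/
theorem countable_sections_of_local (M : X.Modules) {V : X.Opens} (hV : IsAffineOpen V)
    (h : ∀ x ∈ V, ∃ U : X.Opens, x ∈ U ∧ ∀ W : X.Opens, IsAffineOpen W → W ≤ U → Countable Γ(M, W)) :
    Countable Γ(M, V) := by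
  classical
  choose U hxU hU using fun x : {x : X // x ∈ V} => h x.1 x.2
  choose f hf hxf using fun x : {x : X // x ∈ V} => hV.exists_basicOpen_le (V := U x) ⟨x.1, hxU x⟩ x.2
  obtain ⟨t, ht⟩ := hV.isCompact.elim_finite_subcover (fun x => ((X.basicOpen (f x)) : Set X))
    (fun x => (X.basicOpen (f x)).2) fun x hx => Set.mem_iUnion.2 ⟨⟨x, hx⟩, hxf _⟩
  haveI : ∀ x : {x // x ∈ t}, Countable Γ(M, X.basicOpen (f x.1)) := fun x =>
    hU x.1 _ (hV.basicOpen _) (hf x.1)
  refine Function.Injective.countable (f := fun (s : Γ(M, V)) (x : {x // x ∈ t}) =>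
    M.presheaf.map (homOfLE (X.basicOpen_le (f x.1))).op s) fun a b hab => ?_
  refine TopCat.Sheaf.eq_of_locally_eq' ⟨M.presheaf, M.isSheaf⟩ (fun x : {x // x ∈ t} => X.basicOpen (f x.1)) V
    (fun x => homOfLE (X.basicOpen_le _)) (fun y hy => ?_) a b (fun x => congrFun hab x)
  obtain ⟨x, hx, hyx⟩ := Set.mem_iUnion₂.1 (ht hy)
  exact Opens.mem_iSup.2 ⟨⟨x, hx⟩, hyx⟩

theorem isZero_HD_single {W : Scheme.{u}} (M : W.Modules) (j : ℤ) (hj : j ≠ 0) :
    IsZero (DCoh.HD ((DerivedCategory.singleFunctor W.Modules 0).obj M) j) := by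
  rcases lt_or_gt_of_ne hj with h | h
  · exact DerivedCategory.isZero_of_isGE _ 0 j h
  · exact DerivedCategory.isZero_of_isLE _ 0 j h

/-- Bounded complexes of free modules have countable sections over a scheme with countable rings. -/
theorem countable_sections_free {W : Scheme.{u}}
    (hW : ∀ V : W.Opens, IsAffineOpen V → Countable Γ(W, V))
    (E : CochainComplex W.Modules ℤ) {a b : ℤ} (hE : DCoh.VanishesOutside E a b)
    (hfree : ∀ i, ∃ n, Nonempty (E.X i ≅ FlatMod.freeMod W n))
    (hq : DCoh.IsQCohD (DerivedCategory.Q.obj E)) (V : W.Opens) (hV : IsAffineOpen V) (i : ℤ) :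
    Countable Γ(DCoh.HD (DerivedCategory.Q.obj E) i, V) := by
  refine countable_of_countHom_pt hq hV ?_ i
  let P : ObjectProperty (DCoh.D W) := fun B => CountHom ((sec W).pt.obj V) B
  have hP : IsDev P := isDev_countHom_tgt _
  refine hP.bounded E hE fun n => ?_
  obtain ⟨m, ⟨e⟩⟩ := hfree n
  refine hP.iso ((DerivedCategory.singleFunctor W.Modules 0).mapIso e).symm (hP.sigma _ fun _ => ?_)
  have hq0 : DCoh.IsQCohD ((DerivedCategory.singleFunctor W.Modules 0).obj (Coh.structureModule W)) := fun j => by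
    by_cases hj : j = 0
    · subst hj
      exact Coherent.isQCoh_of_iso
        ((DerivedCategory.singleFunctorCompHomologyFunctorIso W.Modules 0).app (Coh.structureModule W)).symm
        (h := Coherent.isQCoh_structureModule)
    · exact Coherent.isQCoh_of_isZero (isZero_HD_single _ j hj)
  refine countHom_pt hq0 hV fun j => ?_
  by_cases hj : j = 0
  · subst hj
    haveI : Countable Γ(Coh.structureModule W, V) := hW V hV
    let e₀ : DCoh.HD ((DerivedCategory.singleFunctor W.Modules 0).obj (Coh.structureModule W)) 0 ≅ Coh.structureModule W :=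
      (DerivedCategory.singleFunctorCompHomologyFunctorIso W.Modules 0).app (Coh.structureModule W)
    exact Function.Injective.countable (f := fun x => e₀.hom.app V x)
      (Function.LeftInverse.injective (g := fun y => e₀.inv.app V y) fun x =>
        ((CategoryTheory.comp_apply (e₀.hom.app V) (e₀.inv.app V) x).symm.trans
          ((ConcreteCategory.congr_hom (congrArg (fun φ => Scheme.Modules.Hom.app φ V) e₀.hom_inv_id) x).trans rfl)))
  · have hz : IsZero (DCoh.HD ((DerivedCategory.singleFunctor W.Modules 0).obj (Coh.structureModule W)) j) :=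
      isZero_HD_single _ j hj
    haveI : Subsingleton Γ(DCoh.HD ((DerivedCategory.singleFunctor W.Modules 0).obj (Coh.structureModule W)) j, V) :=
      AddCommGrpCat.subsingleton_of_isZero
        (((evaluation _ AddCommGrpCat.{u}).obj (op V)).map_isZero ((Scheme.Modules.toPresheaf W).map_isZero hz))
    infer_instance

/-- Perfect objects have countable sections over a scheme with countable rings. -/
theorem countable_sections_perfect [CompactSpace X] [QuasiSeparatedSpace X]
    (hX : ∀ U : X.Opens, IsAffineOpen U → Countable Γ(X, U)) {P : DCoh.D X} (hP : DCoh.IsPerfect P)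
    (V : X.Opens) (hV : IsAffineOpen V) (i : ℤ) : Countable Γ(DCoh.HD P i, V) := by
  refine countable_sections_of_local _ hV fun x _ => ?_
  have hPq : DCoh.IsQCohD P := isQCohD_of_psc fun m => psc_of_perfect hP m
  let N := DerivedCategory.Q.objPreimage P
  let eN : DerivedCategory.Q.obj N ≅ P := DerivedCategory.Q.objObjPreimageIso P
  obtain ⟨O, hxO, hO⟩ := hP x
  obtain ⟨E, ⟨⟨a, b, hab⟩, hf⟩, ⟨e⟩⟩ := hO N ⟨eN⟩
  obtain ⟨U, hxU, hU⟩ := exists_free_nhd E hf ⟨x, hxO⟩ (Finset.Icc a b)
  refine ⟨O.ι ''ᵁ U, ⟨⟨x, hxO⟩, hxU, rfl⟩, fun W hW hle => ?_⟩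
  let F := Scheme.Modules.restrictFunctor U.ι
  haveI := DCat.PullPerf.preservesFiniteLimits_restrict O.ι
  haveI := DCat.PullPerf.preservesFiniteLimits_restrict U.ι
  let E' := (F.mapHomologicalComplex (ComplexShape.up ℤ)).obj E
  let eE : F.mapDerivedCategory.obj ((DCoh.restrictD O.ι).obj P) ≅ DerivedCategory.Q.obj E' :=
    F.mapDerivedCategory.mapIso ((DCoh.restrictD O.ι).mapIso eN.symm ≪≫
      (Scheme.Modules.restrictFunctor O.ι).mapDerivedCategoryFactors.app N ≪≫ e) ≪≫ F.mapDerivedCategoryFactors.app E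
  have hq : DCoh.IsQCohD (DerivedCategory.Q.obj E') := fun j =>
    haveI : Coh.IsQCoh (DCoh.HD ((DCoh.restrictD U.ι).obj ((DCoh.restrictD O.ι).obj P)) j) :=
      Dual22Lib.AdjGeom.isQCohD_restrictD U.ι (Dual22Lib.AdjGeom.isQCohD_restrictD O.ι hPq) j
    Coherent.isQCoh_of_iso ((DerivedCategory.homologyFunctor _ j).mapIso eE)
  have hfree : ∀ j, ∃ n, Nonempty (E'.X j ≅ FlatMod.freeMod U n) := fun j => by
    by_cases hj : j ∈ Finset.Icc a b
    · exact hU j hj
    · rw [Finset.mem_Icc, not_and_or, not_le, not_le] at hj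
      refine ⟨0, ⟨IsZero.iso (F.map_isZero (hab j hj)) ?_⟩⟩
      exact (IsZero.iff_id_eq_zero _).2 (Sigma.hom_ext _ _ fun i => i.elim0)
  let j : (U : Scheme.{u}) ⟶ X := U.ι ≫ O.ι
  obtain ⟨W', hW'⟩ : ∃ W' : (U : Scheme.{u}).Opens, W' = j ⁻¹ᵁ W := ⟨_, rfl⟩
  have hjW : O.ι ''ᵁ (U.ι ''ᵁ W') = W := by
    rw [← Scheme.Hom.comp_image, hW', Scheme.Hom.image_preimage_eq_opensRange_inf]
    refine inf_eq_right.2 (hle.trans ?_)
    rw [Scheme.Hom.opensRange_comp, Scheme.Opens.opensRange_ι]
  have hW'a : IsAffineOpen W' := (j.isAffineOpen_iff_of_isOpenImmersion).1 (by rw [Scheme.Hom.comp_image]; exact hjW ▸ hW)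
  have hcW : ∀ V' : (U : Scheme.{u}).Opens, IsAffineOpen V' → Countable Γ(U, V') := fun V' hV' => by
    haveI := hX (j ''ᵁ V') (hV'.image_of_isOpenImmersion j)
    exact (j.appIso V').commRingCatIsoToRingEquiv.toEquiv.symm.injective.countable
  haveI hc := countable_sections_free hcW E' (fun j hj => F.map_isZero (hab j hj)) hfree hq W' hW'a i
  let eH : DCoh.HD (DerivedCategory.Q.obj E') i ≅
      ((DCoh.HD P i).restrict O.ι).restrict U.ι :=
    ((DerivedCategory.homologyFunctor _ i).mapIso eE.symm) ≪≫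
      DCat.SuppOpen.hdMapIso F _ i ≪≫ F.mapIso (DCat.SuppOpen.hdMapIso (Scheme.Modules.restrictFunctor O.ι) P i)
  haveI : Countable Γ(((DCoh.HD P i).restrict O.ι).restrict U.ι, W') :=
    Function.Injective.countable (f := fun x => eH.inv.app W' x)
      (Function.LeftInverse.injective (g := fun y => eH.hom.app W' y) fun x =>
        ((CategoryTheory.comp_apply (eH.inv.app W') (eH.hom.app W') x).symm.trans
          ((ConcreteCategory.congr_hom (congrArg (fun φ => Scheme.Modules.Hom.app φ W') eH.inv_hom_id) x).trans rfl)))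
  rw [← hjW]
  exact ‹Countable Γ(((DCoh.HD P i).restrict O.ι).restrict U.ι, W')›

end Groth.Agent.DQCoh.CountHom17
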