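import Groth.Agent.Dual22Lib.PerfSupp
import Groth.Agent.Dual22Lib.PerfLiftMap
import Groth.Agent.DQCoh.PerfectAffine
import Groth.Agent.DQCoh.PscNoeth

/-!
# Approximation by perfect complexes: generalities
-/

set_option autoImplicit false
set_option backward.isDefEq.respectTransparency false
set_option backward.defeqAttrib.useBackward true
set_option linter.style.haveILetI false
set_option linter.unusedSectionVars false
set_option synthInstance.maxHeartbeats 100000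

universe u

open CategoryTheory CategoryTheory.Limits CategoryTheory.Pretriangulated AlgebraicGeometry Opposite
open Groth.Agent.DCat Groth.Agent.DCat.PerfLocal Groth.Agent.Dual22Lib Groth.Agent.Dual22Lib.AdjGeom
open Groth.Agent.Dual22Lib.PerfSupp
open scoped ZeroObject

attribute [local instance] HasDerivedCategory.standard
attribute [-instance] Int.instConditionallyCompleteLinearOrder

namespace Groth.Agent.DQCoh.PerfApprox

variable {X W : Scheme.{u}}

/-- The cohomology sheaves in degrees `> n` vanish on `O`. -/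
def LEOn (O : X.Opens) (n : ℤ) (K : DCoh.D X) : Prop :=
  ∀ i : ℤ, n < i → ∀ x ∈ O, Subsingleton ((DCoh.HD K i).presheaf.stalk x)

theorem leOn_iff (j : W ⟶ X) [IsOpenImmersion j] (n : ℤ) (K : DCoh.D X) :
    ((rd j).obj K).IsLE n ↔ LEOn j.opensRange n K := by
  rw [DerivedCategory.isLE_iff]
  refine ⟨fun h i hi x hx => ?_, fun h i hi => ?_⟩
  · obtain ⟨t, rfl⟩ := hx
    refine DCat.SuppOpen.subsingleton_stalk_of_restrict j _ t
      (DCat.SuppOpen.subsingleton_of_isZero_stalkFunctor _ t ((DerSch.stalkFunctor W t).map_isZero ?_))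
    exact (h i hi).of_iso (DCat.SuppOpen.hdMapIso (Scheme.Modules.restrictFunctor j) K i).symm
  · refine IsZero.of_iso (ModStalk.isZero_of_stalks fun t => ?_)
      (DCat.SuppOpen.hdMapIso (Scheme.Modules.restrictFunctor j) K i)
    haveI := DCat.SuppOpen.subsingleton_stalk_restrict j (DCoh.HD K i) t (h i hi _ ⟨t, rfl⟩)
    exact DCat.SuppOpen.isZero_stalkFunctor _ t

theorem leOn_iff_opens (O : X.Opens) (n : ℤ) (K : DCoh.D X) : ((rd O.ι).obj K).IsLE n ↔ LEOn O n K := by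
  rw [leOn_iff, Scheme.Opens.opensRange_ι]

theorem leOn_mono {O O' : X.Opens} {n n' : ℤ} {K : DCoh.D X} (h : LEOn O n K) (hO : O' ≤ O) (hn : n ≤ n') :
    LEOn O' n' K := fun i hi x hx => h i (lt_of_le_of_lt hn hi) x (hO hx)

theorem leOn_of_isLE {O : X.Opens} {n : ℤ} {K : DCoh.D X} (h : K.IsLE n) : LEOn O n K := fun i hi x _ =>
  DCat.SuppOpen.subsingleton_of_isZero_stalkFunctor _ x
    ((DerSch.stalkFunctor X x).map_isZero ((DerivedCategory.isLE_iff _ _).1 h i hi))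

theorem leOn_of_killed {O : X.Opens} (n : ℤ) {K : DCoh.D X} (h : killed O.ι K) : LEOn O n K := fun i _ x hx =>
  (killed_iff O.ι K).1 h i x (by rw [Scheme.Opens.opensRange_ι]; exact hx)

theorem leOn_sup {O O' : X.Opens} {n : ℤ} {K : DCoh.D X} (h : LEOn O n K) (h' : LEOn O' n K) :
    LEOn (O ⊔ O') n K := fun i hi x hx => hx.elim (h i hi x) (h' i hi x)

theorem isLE_of_cover {n : ℤ} {K : DCoh.D X} (h : ∀ x : X, ∃ O : X.Opens, x ∈ O ∧ LEOn O n K) : K.IsLE n := by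
  rw [DerivedCategory.isLE_iff]
  refine fun i hi => ModStalk.isZero_of_stalks fun x => ?_
  obtain ⟨O, hx, hO⟩ := h x
  haveI := hO i hi x hx
  exact DCat.SuppOpen.isZero_stalkFunctor _ x

theorem leOn_rd (j : W ⟶ X) [IsOpenImmersion j] (O : X.Opens) {n : ℤ} {K : DCoh.D X} (h : LEOn O n K) :
    LEOn (j ⁻¹ᵁ O) n ((rd j).obj K) := fun i hi t ht => by
  haveI := DCat.SuppOpen.subsingleton_stalk_restrict j (DCoh.HD K i) t (h i hi _ ht)
  exact DCat.SuppOpen.subsingleton_of_isZero_stalkFunctor _ t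
    ((DCat.SuppOpen.isZero_stalkFunctor _ t).of_iso
      ((DerSch.stalkFunctor W t).mapIso (DCat.SuppOpen.hdMapIso (Scheme.Modules.restrictFunctor j) K i)))

theorem leOn_obj₂ {T : Triangle (DCoh.D X)} (hT : T ∈ distTriang _) {O : X.Opens} {n : ℤ}
    (h₁ : LEOn O n T.obj₁) (h₃ : LEOn O n T.obj₃) : LEOn O n T.obj₂ :=
  haveI := PullPerf.preservesFiniteLimits_restrict O.ι
  (leOn_iff_opens O n _).1 (DerivedCategory.TStructure.t.isLE₂ _ ((DCoh.restrictD O.ι).map_distinguished _ hT) n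
    ((leOn_iff_opens O n _).2 h₁) ((leOn_iff_opens O n _).2 h₃))

theorem leOn_shift {O : X.Opens} {n : ℤ} {K : DCoh.D X} (h : LEOn O n K) (k n' : ℤ) (hk : k + n' = n) :
    LEOn O n' (K⟦k⟧) := by
  haveI := PullPerf.preservesFiniteLimits_restrict O.ι
  haveI := (leOn_iff_opens O n K).2 h
  haveI := DerivedCategory.TStructure.t.isLE_shift ((rd O.ι).obj K) n k n' hk
  have e : ((rd O.ι).obj K)⟦k⟧ ≅ (rd O.ι).obj (K⟦k⟧) := (((rd O.ι).commShiftIso k).app K).symm
  exact (leOn_iff_opens O n' _).1 (DerivedCategory.TStructure.t.isLE_of_iso e n')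

/-- The cone of a morphism. -/
theorem leOn_obj₃ {T : Triangle (DCoh.D X)} (hT : T ∈ distTriang _) {O : X.Opens} {n : ℤ}
    (h₁ : LEOn O (n + 1) T.obj₁) (h₂ : LEOn O n T.obj₂) : LEOn O n T.obj₃ :=
  leOn_obj₂ (rot_of_distTriang _ hT) h₂ (leOn_shift h₁ 1 n (by ring))

theorem isLE_obj₂ {T : Triangle (DCoh.D X)} (hT : T ∈ distTriang _) {n : ℤ} (h₁ : T.obj₁.IsLE n)
    (h₃ : T.obj₃.IsLE n) : T.obj₂.IsLE n := DerivedCategory.TStructure.t.isLE₂ _ hT n h₁ h₃

/-- Approximations compose along cones. -/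
theorem exists_fibre_of_comp {O : X.Opens} {P₁ E C P₂ C' : DCoh.D X} {a : P₁ ⟶ E} {v : E ⟶ C}
    {w : C ⟶ P₁⟦(1 : ℤ)⟧} (h₁ : Triangle.mk a v w ∈ distTriang _) {a' : P₂ ⟶ C} {v' : C ⟶ C'}
    {w' : C' ⟶ P₂⟦(1 : ℤ)⟧} (h₂ : Triangle.mk a' v' w' ∈ distTriang _) (hP₁ : DCoh.IsPerfect P₁)
    (hP₂ : DCoh.IsPerfect P₂) (hk₁ : killed O.ι P₁) (hk₂ : killed O.ι P₂) {m : ℤ} (hC' : C'.IsLE (m - 1)) :
    ∃ (P : DCoh.D X) (α : P ⟶ E), DCoh.IsPerfect P ∧ killed O.ι P ∧ PullPerf.Apx m α := by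
  obtain ⟨P, α, δ, h₁₃⟩ := distinguished_cocone_triangle₁ (v ≫ v')
  have o := Triangulated.someOctahedron (show v ≫ v' = v ≫ v' from rfl) (rot_of_distTriang _ h₁)
    (rot_of_distTriang _ h₂) (rot_of_distTriang _ h₁₃)
  haveI := PullPerf.preservesFiniteLimits_restrict O.ι
  have hP : DCoh.IsPerfect (P⟦(1 : ℤ)⟧) :=
    (PCTriangle.perfect_two_out_of_three o.mem).2.1 (PCTriangle.perfect_shift hP₁ 1) (PCTriangle.perfect_shift hP₂ 1)
  have hk : killed O.ι (P⟦(1 : ℤ)⟧) := Triangle.isZero₂_of_isZero₁₃ _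
    ((DCoh.restrictD O.ι).map_distinguished _ o.mem) (killed_shift _ hk₁ 1) (killed_shift _ hk₂ 1)
  let e := (shiftFunctorCompIsoId (DCoh.D X) (1 : ℤ) (-1) (by omega)).app P
  refine ⟨P, α, PCTriangle.perfect_iso e (PCTriangle.perfect_shift hP (-1)), killed_iso e (killed_shift _ hk (-1)),
    (PullPerf.apx_iff_isLE m _ h₁₃).2 hC'⟩

/-- Additive functors detect isomorphisms and epimorphisms on biproducts. -/
theorem isIso_map_biprod {C D : Type*} [Category C] [Category D] [Preadditive C] [Preadditive D]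
    (F : C ⥤ D) [F.Additive] {A B A' B' : C} [HasBinaryBiproduct A B] [HasBinaryBiproduct A' B']
    (f : A ⟶ A') (g : B ⟶ B') [IsIso (F.map f)] [IsIso (F.map g)] : IsIso (F.map (biprod.map f g)) := by
  refine ⟨⟨F.map biprod.fst ≫ inv (F.map f) ≫ F.map biprod.inl +
    F.map biprod.snd ≫ inv (F.map g) ≫ F.map biprod.inr, ?_, ?_⟩⟩
  · rw [Preadditive.comp_add, ← Category.assoc, ← F.map_comp, biprod.map_fst, F.map_comp, Category.assoc,
      IsIso.hom_inv_id_assoc, ← Category.assoc (F.map (biprod.map f g)), ← F.map_comp (biprod.map f g),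
      biprod.map_snd, F.map_comp, Category.assoc, IsIso.hom_inv_id_assoc, ← F.map_comp, ← F.map_comp,
      ← F.map_add, biprod.total, F.map_id]
  · rw [Preadditive.add_comp, Category.assoc, Category.assoc, ← F.map_comp, biprod.inl_map, F.map_comp,
      IsIso.inv_hom_id_assoc, Category.assoc, Category.assoc, ← F.map_comp (biprod.inr), biprod.inr_map,
      F.map_comp, IsIso.inv_hom_id_assoc, ← F.map_comp, ← F.map_comp, ← F.map_add, biprod.total, F.map_id]

theorem epi_map_biprod {C D : Type*} [Category C] [Category D] [Preadditive C] [Preadditive D]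
    (F : C ⥤ D) [F.Additive] {A B A' B' : C} [HasBinaryBiproduct A B] [HasBinaryBiproduct A' B']
    (f : A ⟶ A') (g : B ⟶ B') [Epi (F.map f)] [Epi (F.map g)] : Epi (F.map (biprod.map f g)) := by
  refine Preadditive.epi_of_cancel_zero _ fun {Z} h hh => ?_
  have e₁ : F.map biprod.inl ≫ h = 0 := by
    rw [← cancel_epi (F.map f), comp_zero, ← Category.assoc, ← F.map_comp, ← biprod.inl_map f g, F.map_comp,
      Category.assoc, hh, comp_zero]
  have e₂ : F.map biprod.inr ≫ h = 0 := by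
    rw [← cancel_epi (F.map g), comp_zero, ← Category.assoc, ← F.map_comp, ← biprod.inr_map f g, F.map_comp,
      Category.assoc, hh, comp_zero]
  rw [← Category.id_comp h, ← F.map_id, ← biprod.total, F.map_add, Preadditive.add_comp, F.map_comp, F.map_comp,
    Category.assoc, Category.assoc, e₁, e₂, comp_zero, comp_zero, add_zero]

theorem apx_biprod {m : ℤ} {K L K' L' : DCoh.D X} {f : K ⟶ K'} {g : L ⟶ L'} (hf : PullPerf.Apx m f)
    (hg : PullPerf.Apx m g) : PullPerf.Apx m (biprod.map f g) := by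
  refine ⟨fun i hi => ?_, ?_⟩
  · haveI := hf.1 i hi
    haveI := hg.1 i hi
    exact isIso_map_biprod _ f g
  · haveI := hf.2
    haveI := hg.2
    exact epi_map_biprod _ f g

/-- The projection off a piece living below `b`. -/
theorem apx_fst {b : ℤ} (E F : DCoh.D X) [hF : F.IsLE (b - 1)] :
    PullPerf.Apx b (biprod.fst : E ⊞ F ⟶ E) := by
  have key : ∀ i, b ≤ i → IsIso ((DerivedCategory.homologyFunctor X.Modules i).map (biprod.fst : E ⊞ F ⟶ E)) := by
    intro i hi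
    let H := DerivedCategory.homologyFunctor X.Modules i
    refine ⟨⟨H.map biprod.inl, ?_, by rw [← H.map_comp, biprod.inl_fst, H.map_id]⟩⟩
    have hz : H.map (biprod.snd : E ⊞ F ⟶ F) = 0 :=
      ((DerivedCategory.isLE_iff _ _).1 hF i (by omega)).eq_of_tgt _ _
    rw [← H.map_id, ← biprod.total, H.map_add, H.map_comp biprod.snd, hz, zero_comp, add_zero, H.map_comp]
  exact ⟨fun i hi => key i hi.le, haveI := key b le_rfl; inferInstance⟩

/-- An isomorphism criterion for units. -/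
theorem isIso_unit_of_killed (A B : X.Opens) (hAB : ∀ x : X, x ∈ A ∨ x ∈ B) [DCoh.HasRpush B.ι]
    (adj : DCoh.restrictD B.ι ⊣ DCoh.Rpush B.ι) [IsIso adj.counit] {N : DCoh.D X} (hN : killed A.ι N) :
    IsIso (adj.unit.app N) := by
  haveI := PullPerf.preservesFiniteLimits_restrict A.ι
  haveI := PullPerf.preservesFiniteLimits_restrict B.ι
  obtain ⟨M, p, q, hM⟩ := distinguished_cocone_triangle (adj.unit.app N)
  refine (Triangle.isZero₃_iff_isIso₁ _ hM).1 (PerfSupp.isZero_of_killed fun x => ?_)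
  rcases hAB x with hx | hx
  · refine ⟨_, A.ι, inferInstance, by simpa using hx, Triangle.isZero₃_of_isZero₁₂ _
      ((DCoh.restrictD A.ι).map_distinguished _ hM) hN (killed_rpush B.ι _ ?_)⟩
    refine (killed_rd_iff _ _ _).2 (killed_mono A.ι _ ?_ hN)
    rw [Scheme.Hom.opensRange_comp, Scheme.Opens.opensRange_ι, Scheme.Opens.opensRange_ι]
    rintro _ ⟨y, hy, rfl⟩
    exact hy
  · refine ⟨_, B.ι, inferInstance, by simpa using hx, ?_⟩
    haveI : IsIso ((DCoh.restrictD B.ι).map (adj.unit.app N)) := by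
      rw [show (DCoh.restrictD B.ι).map (adj.unit.app N) = inv (adj.counit.app _) from
        IsIso.eq_inv_of_inv_hom_id (adj.left_triangle_components N)]
      infer_instance
    exact (Triangle.isZero₃_iff_isIso₁ _ ((DCoh.restrictD B.ι).map_distinguished _ hM)).2 ‹_›

theorem isCompact_preimage_inf (U V : X.Opens) (h : IsCompact ((U ⊓ V : X.Opens) : Set X)) :
    IsCompact ((V.ι ⁻¹ᵁ U : (V : Scheme.{u}).Opens) : Set (V : Scheme.{u})) := by
  refine V.ι.isOpenEmbedding.isInducing.isCompact_iff.2 ?_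
  rw [show (⇑V.ι '' ((V.ι ⁻¹ᵁ U : (V : Scheme.{u}).Opens) : Set (V : Scheme.{u}))) =
    ((U ⊓ V : X.Opens) : Set X) from Set.image_preimage_eq_range_inter.trans (by
      rw [Scheme.Opens.range_ι]; exact Set.inter_comm _ _)]
  exact h

/-- Quasi-coherence over `V` of direct images from `U`. -/
theorem isQCohD_rd_rpush (U V : X.Opens) (hUVc : IsCompact ((U ⊓ V : X.Opens) : Set X)) (hV : IsAffineOpen V)
    [DCoh.HasRpush U.ι] {K : DCoh.D (U : Scheme.{u})} (hK : DCoh.IsQCohD K) :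
    DCoh.IsQCohD ((DCoh.restrictD V.ι).obj ((DCoh.Rpush U.ι).obj K)) := by
  haveI : IsAffine V := hV
  haveI := PullPerf.preservesFiniteLimits_restrict V.ι
  haveI := PullPerf.preservesFiniteLimits_restrict (U.ι ⁻¹ᵁ V).ι
  haveI := DCat.hasRpush (U.ι ∣_ V)
  haveI : CompactSpace (U.ι ⁻¹ᵁ V) := isCompact_iff_compactSpace.1
    (isCompact_preimage_inf V U (by rwa [inf_comm]))
  haveI : QuasiCompact (U.ι ∣_ V) := quasiCompact_of_compactSpace _
  have h1 : DCoh.IsQCohD ((DCoh.Rpush (U.ι ∣_ V)).obj ((DCoh.restrictD (U.ι ⁻¹ᵁ V).ι).obj K)) := by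
    apply DQCoh.isQCohD_Rpush
    exact AdjGeom.isQCohD_restrictD (U.ι ⁻¹ᵁ V).ι hK
  have e := (OpenDerived.rpushRestrictIso U.ι V).app K
  exact DQCoh.isQCohD_of_iso e.symm h1

/-- Extension across an affine open. -/
theorem exists_extend_step' (U V : X.Opens) (hUV : U ⊔ V = ⊤) (hUVc : IsCompact ((U ⊓ V : X.Opens) : Set X))
    (hV : IsAffineOpen V) (O : X.Opens) (hOV : IsCompact ((V.ι ⁻¹ᵁ O : (V : Scheme.{u}).Opens) : Set (V : Scheme.{u}))) {P : DCoh.D (U : Scheme.{u})}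
    (hP : DCoh.IsPerfect P) (hk : killed (U.ι ⁻¹ᵁ O).ι P) :
    ∃ F : DCoh.D X, DCoh.IsPerfect F ∧ killed O.ι F ∧ Nonempty ((rd U.ι).obj F ≅ P ⊞ P⟦(1 : ℤ)⟧) := by
  haveI : IsAffine V := hV
  let hu := X.homOfLE (inf_le_left : U ⊓ V ≤ U)
  let hv := X.homOfLE (inf_le_right : U ⊓ V ≤ V)
  haveI : CompactSpace ((U ⊓ V : X.Opens) : Scheme.{u}) := isCompact_iff_compactSpace.1
    hUVc
  haveI : CompactSpace (V : Scheme.{u}) := isCompact_iff_compactSpace.1 hV.isCompact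
  have hcomp : hu ≫ U.ι = hv ≫ V.ι := by simp [hu, hv]
  have hkW : killed (hv ⁻¹ᵁ (V.ι ⁻¹ᵁ O)).ι ((rd hu).obj P) := by
    refine (killed_rd_iff _ _ _).2 (killed_mono (U.ι ⁻¹ᵁ O).ι _ ?_ hk)
    rw [Scheme.Hom.opensRange_comp, Scheme.Opens.opensRange_ι, Scheme.Opens.opensRange_ι]
    rintro _ ⟨y, hy, rfl⟩
    show (hu ≫ U.ι) y ∈ O
    rw [hcomp]
    exact hy
  obtain ⟨R, hR, hRk, ⟨e⟩⟩ := exists_extend_supp (V.ι ⁻¹ᵁ O) hOV hv
    (PerfLift.isPerfect_restrictD hu hP) hkW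
  haveI := PullPerf.preservesFiniteLimits_restrict hu
  haveI := preservesBinaryBiproducts_of_preservesBiproducts (rd hu)
  obtain ⟨F, ⟨eU⟩, ⟨eV⟩⟩ := AdjGeom.exists_glue U V hUV (P ⊞ P⟦(1 : ℤ)⟧) R
    (show (rd hu).obj (P ⊞ P⟦(1 : ℤ)⟧) ≅ (rd hv).obj R from (rd hu).mapBiprod _ _ ≪≫
      biprod.mapIso (Iso.refl _) (((rd hu).commShiftIso (1 : ℤ)).app P) ≪≫ e.symm)
  have hPP : DCoh.IsPerfect (P ⊞ P⟦(1 : ℤ)⟧) :=
    (PCTriangle.perfect_two_out_of_three (binaryBiproductTriangle_distinguished _ _)).2.1 hP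
      (PCTriangle.perfect_shift hP 1)
  refine ⟨F, (PerfLocal.isPerfect_iff _).2 fun x => ?_, killed_of_cover fun x hxO => ?_, ⟨eU⟩⟩
  · rcases (hUV ▸ trivial : x ∈ U ⊔ V) with hx | hx
    · exact PerfLocal.isPerfect_of_rd (j := U.ι) _ (PCTriangle.perfect_iso eU.symm hPP) x (by simpa using hx)
    · exact PerfLocal.isPerfect_of_rd (j := V.ι) _ (PCTriangle.perfect_iso eV.symm hR) x (by simpa using hx)
  · rcases (hUV ▸ trivial : x ∈ U ⊔ V) with hx | hx
    · exact ⟨_, (U.ι ⁻¹ᵁ O).ι ≫ U.ι, inferInstance, ⟨⟨⟨x, hx⟩, hxO⟩, rfl⟩, (killed_rd_iff _ _ _).1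
        (killed_iso eU.symm (killed_biprod _ hk (killed_shift _ hk 1)))⟩
    · exact ⟨_, (V.ι ⁻¹ᵁ O).ι ≫ V.ι, inferInstance, ⟨⟨⟨x, hx⟩, hxO⟩, rfl⟩, (killed_rd_iff _ _ _).1
        (killed_iso eV.symm hRk)⟩

/-- Lifting a map over `U` after modifying the source away from `U`. -/
theorem exists_lift_up_to_iso (U V : X.Opens) (hUV : U ⊔ V = ⊤)
    (hUVc : IsCompact ((U ⊓ V : X.Opens) : Set X)) (hV : IsAffineOpen V) (O : X.Opens) {F E : DCoh.D X} (hF : DCoh.IsPerfect F)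
    (hkF : killed O.ι F) (hE : DCoh.IsQCohD E) (φ : (rd U.ι).obj F ⟶ (rd U.ι).obj E) :
    ∃ (R : DCoh.D X) (ι : R ⟶ F) (β : R ⟶ E), DCoh.IsPerfect R ∧ killed O.ι R ∧ IsIso ((rd U.ι).map ι) ∧
      (rd U.ι).map β = (rd U.ι).map ι ≫ φ := by
  haveI : IsAffine V := hV
  haveI : CompactSpace (V : Scheme.{u}) := isCompact_iff_compactSpace.1 hV.isCompact
  haveI := DCat.hasRpush U.ι
  haveI := DCat.hasRpush V.ι
  haveI := PullPerf.preservesFiniteLimits_restrict U.ι
  haveI := PullPerf.preservesFiniteLimits_restrict V.ι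
  haveI := PullPerf.preservesFiniteLimits_restrict O.ι
  obtain ⟨aU, haU⟩ := AdjGeom.exists_adj U.ι
  obtain ⟨aV, haV⟩ := AdjGeom.exists_adj V.ι
  haveI := haU
  haveI := haV
  obtain ⟨N, d, c, hT⟩ := distinguished_cocone_triangle (aU.unit.app E)
  have hN : DCoh.IsQCohD ((DCoh.restrictD V.ι).obj N) :=
    DQCoh.isQCohD_obj₃ ((DCoh.restrictD V.ι).map_distinguished _ hT) (AdjGeom.isQCohD_restrictD V.ι hE)
      (isQCohD_rd_rpush U V hUVc hV (AdjGeom.isQCohD_restrictD U.ι hE))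
  have hkN : killed U.ι N := by
    haveI : IsIso ((DCoh.restrictD U.ι).map (aU.unit.app E)) := by
      rw [show (DCoh.restrictD U.ι).map (aU.unit.app E) = inv (aU.counit.app _) from
        IsIso.eq_inv_of_inv_hom_id (aU.left_triangle_components E)]
      infer_instance
    exact (Triangle.isZero₃_iff_isIso₁ _ ((DCoh.restrictD U.ι).map_distinguished _ hT)).2 ‹_›
  have hcov' : ∀ x : X, x ∈ U ∨ x ∈ V := fun x => (hUV ▸ trivial : x ∈ U ⊔ V)
  have hcov : ∀ x : X, x ∈ V.ι.opensRange ∨ x ∈ U := fun x =>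
    (hcov' x).elim Or.inr fun h => Or.inl (by simpa using h)
  haveI := isIso_unit_of_killed U V hcov' aV hkN
  have hkNV : killed (V.ι ⁻¹ᵁ U).ι ((DCoh.restrictD V.ι).obj N) := by
    refine (killed_rd_iff _ _ _).2 (killed_mono U.ι _ ?_ hkN)
    rw [Scheme.Hom.opensRange_comp, Scheme.Opens.opensRange_ι, Scheme.Opens.opensRange_ι]
    rintro _ ⟨y, hy, rfl⟩
    exact hy
  let ψ := aU.homEquiv _ _ φ
  obtain ⟨s, hs⟩ := PerfLift.exists_cover_basic (V.ι ⁻¹ᵁ U) (isCompact_preimage_inf U V hUVc)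
  obtain ⟨C₀, u, g', hC₀, hkC₀, hu, hOC⟩ := PerfLift.exists_killing s hN
    (fun f hf => killed_mono (V.ι ⁻¹ᵁ U).ι _ (by
      rw [Scheme.Opens.opensRange_ι, Scheme.Opens.opensRange_ι]
      exact fun x hx => hs.ge (Set.mem_iUnion₂.2 ⟨f, hf, hx⟩)) hkNV)
    (PerfLift.isPerfect_restrictD V.ι hF) ((DCoh.restrictD V.ι).map (ψ ≫ d))
  have hkC₀U : killed (V.ι ⁻¹ᵁ U).ι C₀ := killed_of_cover fun x hx => by
    obtain ⟨f, hf, hxf⟩ := Set.mem_iUnion₂.1 (hs.le hx)
    exact ⟨_, ((V : Scheme.{u}).basicOpen f).ι, inferInstance, by simpa using hxf, hkC₀ f hf⟩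
  let C := (DCoh.Rpush V.ι).obj C₀
  have hC : DCoh.IsPerfect C := PerfSupp.isPerfect_rpush V.ι _ hcov hC₀ hkC₀U
  have hkC : killed U.ι C := killed_rpush V.ι _ hkC₀U
  have hkCO : killed O.ι C := killed_rpush V.ι _ (hOC _ ((killed_rd_iff _ _ _).2 (killed_mono O.ι _ (by
    rw [Scheme.Hom.opensRange_comp, Scheme.Opens.opensRange_ι, Scheme.Opens.opensRange_ι]
    rintro _ ⟨y, hy, rfl⟩
    exact hy) hkF)))
  let u' : F ⟶ C := aV.unit.app F ≫ (DCoh.Rpush V.ι).map u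
  let g'' : C ⟶ N := (DCoh.Rpush V.ι).map g' ≫ inv (aV.unit.app N)
  have hfac : u' ≫ g'' = ψ ≫ d := by
    rw [← cancel_mono (aV.unit.app N)]
    simp only [u', g'', Category.assoc, IsIso.inv_hom_id, Category.comp_id, ← Functor.map_comp, hu]
    have := aV.unit.naturality (ψ ≫ d)
    simp only [Functor.id_map, Functor.comp_map, Category.assoc, Functor.map_comp] at this ⊢
    exact this.symm
  obtain ⟨R, ι, δ, hR⟩ := distinguished_cocone_triangle₁ u'
  have hιu : ι ≫ u' = 0 := comp_distTriang_mor_zero₁₂ _ hR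
  obtain ⟨β, hβ⟩ := Triangle.coyoneda_exact₂ _ hT (ι ≫ ψ) (by
    show (ι ≫ ψ) ≫ d = 0
    rw [Category.assoc, ← hfac, reassoc_of% hιu, zero_comp])
  replace hβ : ι ≫ ψ = β ≫ aU.unit.app E := hβ
  haveI : IsIso ((DCoh.restrictD U.ι).map ι) :=
    (Triangle.isZero₃_iff_isIso₁ _ ((DCoh.restrictD U.ι).map_distinguished _ hR)).1 hkC
  refine ⟨R, ι, β, PerfLift.isPerfect_fibre hR hF hC, Triangle.isZero₁_of_isZero₂₃ _
      ((DCoh.restrictD O.ι).map_distinguished _ hR) hkF hkCO, inferInstance, ?_⟩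
  apply (aU.homEquiv _ _).injective
  rw [Adjunction.homEquiv_naturality_left]
  show _ = ι ≫ ψ
  rw [hβ, Adjunction.homEquiv_unit]
  exact (aU.unit.naturality β).symm

/-- Maps into objects over `V` extend from perfect objects supported off `U`. -/
theorem exists_extend_map (U V : X.Opens) (hUV : U ⊔ V = ⊤) [DCoh.HasRpush V.ι]
    (adj : DCoh.restrictD V.ι ⊣ DCoh.Rpush V.ι) [IsIso adj.counit] {C : DCoh.D X}
    {P : DCoh.D (V : Scheme.{u})} (hkP : killed (V.ι ⁻¹ᵁ U).ι P) (γ : P ⟶ (rd V.ι).obj C) :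
    ∃ γ' : (DCoh.Rpush V.ι).obj P ⟶ C, (rd V.ι).map γ' = adj.counit.app P ≫ γ := by
  haveI := DCat.hasRpush U.ι
  haveI := PullPerf.preservesFiniteLimits_restrict U.ι
  haveI := PullPerf.preservesFiniteLimits_restrict V.ι
  obtain ⟨aU, haU⟩ := AdjGeom.exists_adj U.ι
  haveI := haU
  obtain ⟨N, d, c, hT⟩ := distinguished_cocone_triangle (adj.unit.app C)
  have hkN : killed V.ι N := by
    haveI : IsIso ((DCoh.restrictD V.ι).map (adj.unit.app C)) := by
      rw [show (DCoh.restrictD V.ι).map (adj.unit.app C) = inv (adj.counit.app _) from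
        IsIso.eq_inv_of_inv_hom_id (adj.left_triangle_components C)]
      infer_instance
    exact (Triangle.isZero₃_iff_isIso₁ _ ((DCoh.restrictD V.ι).map_distinguished _ hT)).2 ‹_›
  haveI := isIso_unit_of_killed V U (fun x => ((hUV ▸ trivial : x ∈ U ⊔ V) : x ∈ U ∨ x ∈ V).symm) aU hkN
  have h0 : ∀ z : (DCoh.Rpush V.ι).obj P ⟶ N, z = 0 := fun z => by
    rw [← cancel_mono (aU.unit.app N), zero_comp]
    exact (aU.homEquiv _ _).symm.injective ((killed_rpush V.ι U hkP).eq_of_src _ _)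
  obtain ⟨γ', hγ'⟩ := Triangle.coyoneda_exact₂ _ hT ((DCoh.Rpush V.ι).map γ) (h0 _)
  replace hγ' : (DCoh.Rpush V.ι).map γ = γ' ≫ adj.unit.app C := hγ'
  refine ⟨γ', ?_⟩
  have h := congrArg ((DCoh.restrictD V.ι).map · ≫ adj.counit.app _) hγ'
  simp only [Functor.map_comp, Category.assoc] at h
  erw [adj.left_triangle_components C, Category.comp_id] at h
  exact h.symm.trans (adj.counit.naturality γ)

end Groth.Agent.DQCoh.PerfApprox
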