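import Groth.Agent.DQCoh.PointAlg17
import Groth.Agent.DQCoh.BettiPerf
import Groth.Agent.Dual22Lib.PerfLift
import Groth.Agent.Dual22Lib.AdjGeom
import Groth.Agent.Dual22Lib.SchStalk
import Groth.Agent.DQCoh.RelTorBC
import Groth.Agent.DCat.PointHom
import Groth.Agent.DCat.JShriek
import Groth.Agent.Coherent.FreeSections
import Groth.Agent.DQCoh.PerfApproxBase

/-!
# Perfect objects near a closed point, on an affine chart
-/

set_option autoImplicit false
set_option backward.isDefEq.respectTransparency false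
set_option backward.defeqAttrib.useBackward true
set_option linter.style.haveILetI false
set_option linter.unusedSectionVars false
set_option synthInstance.maxHeartbeats 100000

universe u

open CategoryTheory CategoryTheory.Limits CategoryTheory.Pretriangulated AlgebraicGeometry Opposite TopologicalSpace
open Groth.Agent

attribute [local instance] HasDerivedCategory.standard
attribute [-instance] Int.instConditionallyCompleteLinearOrder

namespace Groth.Agent.DQCoh.PointChart17

variable {X : Scheme.{u}}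

/-- The structure sheaf of a closed subscheme on an affine open, as a tilde. -/
theorem nonempty_push_restrict_tilde {P X : Scheme.{u}} (ι : X ⟶ P) [IsClosedImmersion ι] {U : P.Opens} (hU : IsAffineOpen U) {J : Ideal Γ(P, U)}
    (hJ : RingHom.ker (ι.app U).hom = J) :
    Nonempty (((Scheme.Modules.pushforward ι).obj (Coh.structureModule X)).restrict hU.fromSpec ≅
      tilde (ModuleCat.of Γ(P, U) (Γ(P, U) ⧸ J))) := by
  let A := (Scheme.Modules.pushforward ι).obj (Coh.structureModule X)
  haveI : Coh.IsQCoh (Coh.structureModule X) := Coherent.isQCoh_structureModule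
  haveI hA : Coh.IsQCoh A := Coherent.isQCoh_push ι _
  haveI : A.IsQuasicoherent := hA
  let A' : (Spec Γ(P, U)).Modules := (Scheme.Modules.restrictFunctor hU.fromSpec).obj A
  haveI : A'.IsQuasicoherent := inferInstance
  let V := hU.fromSpec ''ᵁ ⊤
  have hV : V = U := (Scheme.Hom.image_top_eq_opensRange _).trans (IsAffineOpen.opensRange_fromSpec hU)
  let G := moduleSpecΓFunctor.obj A'
  let one : G := (show Γ(X, ι ⁻¹ᵁ V) from 1)
  let L : Γ(P, U) →ₗ[Γ(P, U)] G := LinearMap.toSpanSingleton _ _ one
  have key : ∀ r : Γ(P, U), (hU.fromSpec.appIso ⊤).inv ((Scheme.ΓSpecIso Γ(P, U)).inv r) =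
      P.presheaf.map (eqToHom hV).op r := by
    intro r
    refine (ConcreteCategory.bijective_of_isIso (hU.fromSpec.appIso ⊤).hom).1 ?_
    rw [Iso.inv_hom_id_apply, Scheme.Hom.appIso_hom]
    show _ = (P.presheaf.map (eqToHom hV).op ≫ hU.fromSpec.app V ≫ (Spec Γ(P, U)).presheaf.map _) r
    rw [hU.fromSpec.naturality_assoc, hU.fromSpec_app_self, Category.assoc, ← Functor.map_comp,
      ← Functor.map_comp]
    rw [Subsingleton.elim ((eqToHom hU.fromSpec_preimage_self).op ≫ _) (𝟙 (op (⊤ : (Spec Γ(P, U)).Opens))),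
      CategoryTheory.Functor.map_id, Category.comp_id]
  have hL : ∀ r : Γ(P, U), (show Γ(X, ι ⁻¹ᵁ V) from L r) = ι.app V (P.presheaf.map (eqToHom hV).op r) := by
    intro r
    show ι.app V ((hU.fromSpec.appIso ⊤).inv ((Spec Γ(P, U)).presheaf.map (⊤ : (Spec Γ(P, U)).Opens).leTop.op
      ((Scheme.ΓSpecIso Γ(P, U)).inv r))) * 1 = _
    rw [mul_one, ← key, show (⊤ : (Spec Γ(P, U)).Opens).leTop.op = 𝟙 _ from Subsingleton.elim _ _,
      CategoryTheory.Functor.map_id]
    rfl
  have gen : ∀ (W : P.Opens) (h : W = U),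
      Function.Surjective (fun r => ι.app W (P.presheaf.map (eqToHom h).op r)) ∧
        ∀ r, ι.app W (P.presheaf.map (eqToHom h).op r) = 0 ↔ r ∈ J := by
    rintro W rfl
    simp only [eqToHom_refl, op_id, CategoryTheory.Functor.map_id]
    exact ⟨ι.app_surjective W hU, fun r => by rw [← hJ]; rfl⟩
  have hsurj : Function.Surjective L := fun g => by
    obtain ⟨r, hr⟩ := (gen V hV).1 (show Γ(X, ι ⁻¹ᵁ V) from g)
    exact ⟨r, (hL r).trans hr⟩
  have hker : LinearMap.ker L = J := Submodule.ext fun r => by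
    rw [LinearMap.mem_ker]
    exact Iff.trans (Eq.congr_left (hL r)) ((gen V hV).2 r)
  let eG : (Γ(P, U) ⧸ J) ≃ₗ[Γ(P, U)] G :=
    (Submodule.quotEquivOfEq _ _ hker.symm).trans (L.quotKerEquivOfSurjective hsurj)
  haveI : IsIso A'.fromTildeΓ := inferInstance
  exact ⟨(asIso A'.fromTildeΓ).symm ≪≫ (tilde.functor _).mapIso eG.toModuleIso.symm⟩

/-- Extension by zero recovers a module vanishing outside the open. -/
theorem isIso_counit_of_stalks {W : Scheme.{u}} (j : W ⟶ X) [IsOpenImmersion j] (M : X.Modules)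
    (h : ∀ x : X, x ∉ j.opensRange → IsZero ((DerSch.stalkFunctor X x).obj M)) :
    IsIso ((DCat.JShriek.shriekAdj j).counit.app M) := by
  let c := (DCat.JShriek.shriekAdj j).counit.app M
  let F := Scheme.Modules.restrictFunctor j
  haveI := DCat.PullPerf.preservesFiniteLimits_restrict j
  haveI : IsIso (F.map c) := IsIso.of_isIso_fac_left ((DCat.JShriek.shriekAdj j).right_triangle_components M)
  haveI : Mono c := Preadditive.mono_of_isZero_kernel _ (DCat.JShriek.isZero_of_restrict j
    (IsZero.of_iso (isZero_kernel_of_mono _) (PreservesKernel.iso F c)) fun x hx =>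
      IsZero.of_mono ((DerSch.stalkFunctor X x).map (kernel.ι c)) (DCat.JShriek.isZero_stalk_shriek j _ x hx))
  haveI : Epi c := Preadditive.epi_of_isZero_cokernel _ (DCat.JShriek.isZero_of_restrict j
    (IsZero.of_iso (isZero_cokernel_of_epi _) (PreservesCokernel.iso F c)) fun x hx =>
      IsZero.of_epi ((DerSch.stalkFunctor X x).map (cokernel.π c)) (h x hx))
  exact isIso_of_mono_of_epi c

/-- The chart of a perfect object at a closed point. -/
structure Chart (x : X) (K : DCoh.D X) where
  A : Type u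
  [ring : CommRing A]
  [noeth : IsNoetherianRing A]
  j : Spec (CommRingCat.of A) ⟶ X
  [open_j : IsOpenImmersion j]
  [tilde_pfl : PreservesFiniteLimits (tilde.functor (CommRingCat.of A))]
  y : PrimeSpectrum A
  maximal : y.asIdeal.IsMaximal
  hy : j y = x
  E : DRing.Cx A
  a : ℤ
  b : ℤ
  outside : DRing.VanishesOutside E a b
  proj : DRing.TermwiseFiniteProjective E
  eK : (DCoh.restrictD j).obj K ≅ (DCoh.tildeD (CommRingCat.of A)).obj (DerivedCategory.Q.obj E)
  ept : (DCat.PointHom.ptMod x).restrict j ≅ (tilde.functor (CommRingCat.of A)).obj (ModuleCat.of A (A ⧸ y.asIdeal))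

attribute [instance] Chart.ring Chart.noeth Chart.open_j Chart.tilde_pfl

theorem nonempty_chart [IsLocallyNoetherian X] {x : X} (hx : IsClosed ({x} : Set X)) {K : DCoh.D X}
    (hK : DCoh.IsPerfect K) : Nonempty (Chart x K) := by
  obtain ⟨U, hU, hxU, -⟩ := exists_isAffineOpen_mem_and_subset (x := x) (U := (⊤ : X.Opens)) trivial
  let A : Type u := Γ(X, U)
  haveI : IsNoetherianRing A := IsLocallyNoetherian.component_noetherian ⟨U, hU⟩
  haveI := AffSchLib.preservesFiniteLimits_tilde Γ(X, U)
  let j : Spec Γ(X, U) ⟶ X := hU.fromSpec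
  have hKq : DCoh.IsQCohD K := isQCohD_of_psc fun m => psc_of_perfect hK m
  obtain ⟨M, ⟨e⟩⟩ := ((tildeD_main Γ(X, U)).2.2 _).1 (Dual22Lib.AdjGeom.isQCohD_restrictD j hKq)
  obtain ⟨E, a, b, hE, hp, ⟨eE⟩⟩ := perfect_of_isPerfect_tildeD
    (DCat.PCTriangle.perfect_iso e.symm (Dual22Lib.PerfLift.isPerfect_restrictD j hK))
  let i := X.fromSpecResidueField x
  haveI : IsClosedImmersion i := isClosed_singleton_iff_isClosedImmersion.1 hx
  let J : Ideal A := RingHom.ker (i.app U).hom
  obtain ⟨ept⟩ := nonempty_push_restrict_tilde i hU (J := J) rfl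
  have hsurj : Function.Surjective (i.app U).hom := i.app_surjective U hU
  have hpre : i ⁻¹ᵁ U = ⊤ := eq_top_iff.2 fun z _ => by
    show i z ∈ U
    rw [Scheme.fromSpecResidueField_apply]
    exact hxU
  let φ : Γ(Spec (X.residueField x), i ⁻¹ᵁ U) ≅ X.residueField x :=
    (Spec (X.residueField x)).presheaf.mapIso (eqToIso hpre.symm).op ≪≫ Scheme.ΓSpecIso _
  have hfield : IsField Γ(Spec (X.residueField x), i ⁻¹ᵁ U) :=
    MulEquiv.isField (Field.toIsField (X.residueField x)) φ.commRingCatIsoToRingEquiv.toMulEquiv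
  have hJ : J.IsMaximal := Ideal.Quotient.maximal_of_isField _
    (MulEquiv.isField hfield (RingHom.quotientKerEquivOfSurjective hsurj).toMulEquiv)
  let p := hU.primeIdealOf ⟨x, hxU⟩
  have hp' : j p = x := hU.fromSpec_primeIdealOf ⟨x, hxU⟩
  have hle : J ≤ p.asIdeal := fun r hr => by
    by_contra hrp
    have hxb : x ∈ X.basicOpen r := by
      rw [← hU.fromSpec_image_basicOpen]
      exact ⟨p, hrp, hp'⟩
    have htop : (Spec (X.residueField x)).basicOpen ((i.app U) r) = ⊤ := eq_top_iff.2 fun z _ => by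
      rw [← Scheme.preimage_basicOpen]
      show i z ∈ X.basicOpen r
      rw [Scheme.fromSpecResidueField_apply]
      exact hxb
    rw [show (i.app U) r = 0 from hr, Scheme.basicOpen_zero] at htop
    exact bot_ne_top (α := (Spec (X.residueField x)).Opens) htop
  have hpJ : p.asIdeal = J := (hJ.eq_of_le p.2.ne_top hle).symm
  exact ⟨{ A := A, j := j, y := p, maximal := hpJ ▸ hJ, hy := hp', E := E, a := a, b := b, outside := hE, proj := hp
           eK := e.symm ≪≫ (DCoh.tildeD Γ(X, U)).mapIso eE.symm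
           ept := ept ≪≫ (tilde.functor Γ(X, U)).mapIso (Submodule.quotEquivOfEq J p.asIdeal hpJ.symm).toModuleIso }⟩

variable {x : X} {K : DCoh.D X}

/-- Homology of bounded complexes of finite modules over Noetherian rings. -/
theorem finite_homology {A : Type u} [CommRing A] [IsNoetherianRing A] (E : DRing.Cx A)
    (hp : DRing.TermwiseFiniteProjective E) (i : ℤ) : Module.Finite A (E.homology i) := by
  haveI := (hp i).1
  haveI : Module.Finite A (E.cycles i) := Module.Finite.of_injective (E.iCycles i).hom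
    ((ModuleCat.mono_iff_injective _).1 inferInstance)
  exact Module.Finite.of_surjective (E.homologyπ i).hom ((ModuleCat.epi_iff_surjective _).1 inferInstance)

/-- Finite modules killed at a prime vanish near it. -/
theorem notMem_support {A : Type u} [CommRing A] (y : PrimeSpectrum A) (H : Type*) [AddCommGroup H] [Module A H]
    (h : PointAlg17.Killed y.asIdeal H) : y ∉ Module.support A H := by
  rw [Module.notMem_support_iff']
  exact fun v => h v

/-- A cohomology sheaf presented on a chart by a finite module killed at the point vanishes nearby. -/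
theorem exists_nhd {A : Type u} [CommRing A] [PreservesFiniteLimits (tilde.functor (CommRingCat.of A))] (j : Spec (CommRingCat.of A) ⟶ X) [IsOpenImmersion j]
    {K' : DCoh.D X} {M : Dual.D A} (e : (DCoh.restrictD j).obj K' ≅ (DCoh.tildeD (CommRingCat.of A)).obj M)
    (y : PrimeSpectrum A) (i : ℤ)
    [Module.Finite A ((DerivedCategory.homologyFunctor (ModuleCat.{u} A) i).obj M)]
    (h : PointAlg17.Killed y.asIdeal ((DerivedCategory.homologyFunctor (ModuleCat.{u} A) i).obj M)) :
    ∃ U : X.Opens, j y ∈ U ∧ U ≤ j.opensRange ∧ ∀ z : X, z ∈ U → z ∉ CohB1.support (DCoh.HD K' i) := by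
  haveI : ∀ (U : Scheme.{u}) (j : U ⟶ X) [IsOpenImmersion j], PreservesFiniteLimits (Scheme.Modules.restrictFunctor j) :=
    fun _ j _ => DCat.PullPerf.preservesFiniteLimits_restrict j
  haveI : ∀ R : CommRingCat.{u}, PreservesFiniteLimits (tilde.functor R) := AffSchLib.preservesFiniteLimits_tilde
  let H := (DerivedCategory.homologyFunctor (ModuleCat.{u} A) i).obj M
  let D : (Spec (CommRingCat.of A)).Opens :=
    ⟨(Module.support A H)ᶜ, Module.isClosed_support.isOpen_compl⟩
  refine ⟨j ''ᵁ D, ⟨y, notMem_support y H h, rfl⟩, ?_, ?_⟩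
  · rintro z ⟨t, -, rfl⟩
    exact ⟨t, rfl⟩
  · rintro z ⟨t, ht, rfl⟩ hz
    exact ht ((Dual22Lib.nontrivial_stalk_iff j e t i).1 (not_subsingleton_iff_nontrivial.1 hz))

/-- The perfect object is zero near the point as soon as its cohomology is killed there. -/
theorem Chart.exists_nhd_zero (c : Chart x K)
    (h : ∀ i, PointAlg17.Killed c.y.asIdeal
      ((DerivedCategory.homologyFunctor (ModuleCat.{u} c.A) i).obj (DerivedCategory.Q.obj c.E))) :
    ∃ U : X.Opens, x ∈ U ∧ ∀ (i : ℤ) (z : X), z ∈ U → z ∉ CohB1.support (DCoh.HD K i) := by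
  classical
  haveI : ∀ i, Module.Finite c.A ((DerivedCategory.homologyFunctor (ModuleCat.{u} c.A) i).obj (DerivedCategory.Q.obj c.E)) :=
    fun i => haveI : Module.Finite c.A ((HomologicalComplex.homologyFunctor (ModuleCat.{u} c.A) (ComplexShape.up ℤ) i).obj c.E) :=
        finite_homology c.E c.proj i
      Module.Finite.equiv ((DerivedCategory.homologyFunctorFactors (ModuleCat.{u} c.A) i).app c.E).symm.toLinearEquiv
  choose U hxU hUj hU using fun i => exists_nhd c.j c.eK c.y i (h i)
  refine ⟨(Finset.Icc c.a c.b).inf U ⊓ c.j.opensRange, ⟨?_, ⟨c.y, c.hy⟩⟩, fun i z hz => ?_⟩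
  · have : ∀ s : Finset ℤ, x ∈ s.inf U := fun s => by
      induction s using Finset.induction_on with
      | empty => rw [Finset.inf_empty]; trivial
      | insert k s _ ih => rw [Finset.inf_insert]; exact ⟨c.hy ▸ hxU k, ih⟩
    exact this _
  · by_cases hi : i ∈ Finset.Icc c.a c.b
    · exact hU i z (Finset.inf_le (f := U) hi hz.1)
    · intro hs
      obtain ⟨t, rfl⟩ := hz.2
      haveI : ∀ (U : Scheme.{u}) (j : U ⟶ X) [IsOpenImmersion j], PreservesFiniteLimits (Scheme.Modules.restrictFunctor j) :=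
        fun _ j _ => DCat.PullPerf.preservesFiniteLimits_restrict j
      haveI : ∀ R : CommRingCat.{u}, PreservesFiniteLimits (tilde.functor R) := AffSchLib.preservesFiniteLimits_tilde
      have ht := (Dual22Lib.nontrivial_stalk_iff c.j c.eK t i).1 (not_subsingleton_iff_nontrivial.1 hs)
      rw [Finset.mem_Icc, not_and_or, not_le, not_le] at hi
      haveI : Subsingleton ((DerivedCategory.homologyFunctor (ModuleCat.{u} c.A) i).obj (DerivedCategory.Q.obj c.E)) :=
        ModuleCat.subsingleton_of_isZero (IsZero.of_iso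
          (ShortComplex.isZero_homology_of_isZero_X₂ (c.E.sc i) (c.outside i hi))
          ((DerivedCategory.homologyFunctorFactors (ModuleCat.{u} c.A) i).app c.E))
      rw [Module.support_eq_empty] at ht
      exact ht

/-- Vanishing of maps from the sheaf of the point into one shift gives the same on the chart. -/
theorem Chart.killed_of_hom (c : Chart x K) (hx : IsClosed ({x} : Set X)) (i : ℤ)
    (h : ∀ φ : DCoh.inD X (DCat.PointHom.ptMod x) ⟶ K⟦i⟧, φ = 0) :
    PointAlg17.Killed c.y.asIdeal
      (PointAlg17.mod0 (A := c.A) (c.A ⧸ c.y.asIdeal) ⟶ (DerivedCategory.Q.obj c.E)⟦i⟧) := by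
  intro v
  refine ⟨1, fun h1 => c.maximal.ne_top ((Ideal.eq_top_iff_one _).2 h1), (one_smul _ v).trans ?_⟩
  let R := CommRingCat.of c.A
  haveI := AffSchLib.preservesFiniteLimits_tilde R
  haveI := DCat.PullPerf.preservesFiniteLimits_restrict c.j
  obtain ⟨hF, hFF, -⟩ := tildeD_main R
  haveI := hF
  haveI := hFF
  haveI : PreservesFiniteColimits (tilde.functor R) := preservesFiniteColimits_tilde R
  haveI : (tilde.functor R).Additive := Functor.additive_of_preserves_binary_products _
  haveI : IsIso ((DCat.JShriek.shriekAdj c.j).counit.app (DCat.PointHom.ptMod x)) :=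
    isIso_counit_of_stalks c.j _ fun z hz => by
      haveI := DCat.PointHom.subsingleton_stalk_ptMod x hx z fun hzx => hz ⟨c.y, c.hy.trans hzx.symm⟩
      exact @ModuleCat.isZero_of_subsingleton _ _ _ this
  let N := ModuleCat.of c.A (c.A ⧸ c.y.asIdeal)
  let eS : (DCat.JShriek.shriek c.j).mapDerivedCategory.obj
      ((DerivedCategory.singleFunctor (Spec R).Modules 0).obj ((DCat.PointHom.ptMod x).restrict c.j)) ≅
      DCoh.inD X (DCat.PointHom.ptMod x) :=
    ((DCat.JShriek.shriek c.j).mapDerivedCategorySingleFunctor 0).app _ ≪≫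
      (DerivedCategory.singleFunctor X.Modules 0).mapIso
        (asIso ((DCat.JShriek.shriekAdj c.j).counit.app (DCat.PointHom.ptMod x)))
  have h0 : ∀ ψ : (DerivedCategory.singleFunctor (Spec R).Modules 0).obj ((DCat.PointHom.ptMod x).restrict c.j) ⟶
      (DCoh.restrictD c.j).obj (K⟦i⟧), ψ = 0 := fun ψ => by
    apply ((DCat.JShriek.shriekD c.j).homEquiv _ _).symm.injective
    rw [← cancel_epi eS.inv]
    exact (h _).trans (h _).symm
  let e₁ : (DCoh.tildeD R).obj (PointAlg17.mod0 (A := c.A) (c.A ⧸ c.y.asIdeal)) ≅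
      (DerivedCategory.singleFunctor (Spec R).Modules 0).obj ((DCat.PointHom.ptMod x).restrict c.j) :=
    ((tilde.functor R).mapDerivedCategorySingleFunctor 0).app N ≪≫
      (DerivedCategory.singleFunctor (Spec R).Modules 0).mapIso c.ept.symm
  let e₂ : (DCoh.tildeD R).obj ((DerivedCategory.Q.obj c.E)⟦i⟧) ≅ (DCoh.restrictD c.j).obj (K⟦i⟧) :=
    ((DCoh.tildeD R).commShiftIso i).app _ ≪≫ (shiftFunctor _ i).mapIso c.eK.symm ≪≫
      (((DCoh.restrictD c.j).commShiftIso i).app K).symm
  apply (DCoh.tildeD R).map_injective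
  rw [Functor.map_zero, ← cancel_mono e₂.hom, zero_comp, ← cancel_epi e₁.inv, comp_zero]
  exact h0 _

/-- Vanishing of maps from the sheaf of the point gives vanishing of maps from the residue field on the chart. -/
theorem Chart.van_of_hom (c : Chart x K) (hx : IsClosed ({x} : Set X))
    (h : ∀ (i : ℤ) (φ : DCoh.inD X (DCat.PointHom.ptMod x) ⟶ K⟦i⟧), φ = 0) :
    PointAlg17.Van (DerivedCategory.Q.obj c.E) c.y.asIdeal (c.A ⧸ c.y.asIdeal) :=
  fun i => c.killed_of_hom hx i (h i)

/-- Objects killed off a closed set inside an open are direct images from it. -/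
theorem isIso_unit_of_killed {W : Scheme.{u}} (j : W ⟶ X) [IsOpenImmersion j] (O : X.Opens)
    (hO : ∀ z : X, z ∈ O ∨ z ∈ j.opensRange) [DCoh.HasRpush j] (adj : DCoh.restrictD j ⊣ DCoh.Rpush j) [IsIso adj.counit]
    {N : DCoh.D X} (hN : Dual22Lib.AdjGeom.killed O.ι N) : IsIso (adj.unit.app N) := by
  haveI := DCat.PullPerf.preservesFiniteLimits_restrict O.ι
  haveI := DCat.PullPerf.preservesFiniteLimits_restrict j
  obtain ⟨M, p, q, hM⟩ := distinguished_cocone_triangle (adj.unit.app N)
  refine (Triangle.isZero₃_iff_isIso₁ _ hM).1 (Dual22Lib.PerfSupp.isZero_of_killed fun z => ?_)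
  rcases hO z with hz | hz
  · refine ⟨_, O.ι, inferInstance, by simpa using hz, Triangle.isZero₃_of_isZero₁₂ _
      ((DCoh.restrictD O.ι).map_distinguished _ hM) hN (Dual22Lib.PerfSupp.killed_rpush j _ ?_)⟩
    refine (Dual22Lib.PerfSupp.killed_rd_iff _ _ _).2 (Dual22Lib.AdjGeom.killed_mono O.ι _ ?_ hN)
    rw [Scheme.Hom.opensRange_comp, Scheme.Opens.opensRange_ι, Scheme.Opens.opensRange_ι]
    rintro _ ⟨y, hy, rfl⟩
    exact hy
  · refine ⟨_, j, inferInstance, hz, ?_⟩
    haveI : IsIso ((DCoh.restrictD j).map (adj.unit.app N)) := by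
      rw [show (DCoh.restrictD j).map (adj.unit.app N) = inv (adj.counit.app _) from
        IsIso.eq_inv_of_inv_hom_id (adj.left_triangle_components N)]
      infer_instance
    exact (Triangle.isZero₃_iff_isIso₁ _ ((DCoh.restrictD j).map_distinguished _ hM)).2 ‹_›

/-- Vanishing of maps to the sheaf of the point gives vanishing of maps to the residue field on the chart. -/
theorem Chart.coVan_of_hom (c : Chart x K) (hx : IsClosed ({x} : Set X)) (i : ℤ)
    (h : ∀ φ : K ⟶ (DCoh.inD X (DCat.PointHom.ptMod x))⟦i⟧, φ = 0) :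
    PointAlg17.CoVan (DerivedCategory.Q.obj c.E) i c.y.asIdeal (c.A ⧸ c.y.asIdeal) := by
  intro v
  refine ⟨1, fun h1 => c.maximal.ne_top ((Ideal.eq_top_iff_one _).2 h1), (one_smul _ v).trans ?_⟩
  let R := CommRingCat.of c.A
  haveI := AffSchLib.preservesFiniteLimits_tilde R
  haveI := DCat.PullPerf.preservesFiniteLimits_restrict c.j
  haveI := DCat.hasRpush c.j
  obtain ⟨hF, hFF, -⟩ := tildeD_main R
  haveI := hF
  haveI := hFF
  haveI : PreservesFiniteColimits (tilde.functor R) := preservesFiniteColimits_tilde R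
  haveI : (tilde.functor R).Additive := Functor.additive_of_preserves_binary_products _
  let O : X.Opens := ⟨{x}ᶜ, hx.isOpen_compl⟩
  obtain ⟨adj, hadj⟩ := Dual22Lib.AdjGeom.exists_adj c.j
  haveI := hadj
  let P0 := DCat.PointHom.ptMod x
  let T := (DCoh.inD X P0)⟦i⟧
  haveI : IsIso (adj.unit.app T) := by
    refine isIso_unit_of_killed c.j O (fun z => ?_) adj ?_
    · by_cases hz : z = x
      · exact Or.inr ⟨c.y, c.hy.trans hz.symm⟩
      · exact Or.inl hz
    · haveI := DCat.PullPerf.preservesFiniteLimits_restrict O.ι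
      have hzero : IsZero (P0.restrict O.ι) := ModStalk.isZero_of_stalks fun z => by
        haveI : Subsingleton (P0.presheaf.stalk (O.ι z)) := DCat.PointHom.subsingleton_stalk_ptMod x hx (O.ι z) z.2
        haveI : Subsingleton ↑((Scheme.Modules.toPresheaf X ⋙ TopCat.Presheaf.stalkFunctor Ab.{u} (O.ι z)).obj P0) :=
          ‹Subsingleton (P0.presheaf.stalk (O.ι z))›
        haveI : Subsingleton ((P0.restrict O.ι).presheaf.stalk z) :=
          (ConcreteCategory.bijective_of_isIso ((Scheme.Modules.restrictStalkNatIso O.ι z).hom.app P0)).1.subsingleton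
        exact @ModuleCat.isZero_of_subsingleton _ _ _ this
      exact IsZero.of_iso ((shiftFunctor (DCoh.D (O : Scheme.{u})) i).map_isZero
        ((DerivedCategory.singleFunctor (O : Scheme.{u}).Modules 0).map_isZero hzero))
        (((DCoh.restrictD O.ι).commShiftIso i).app _ ≪≫ (shiftFunctor _ i).mapIso
          (((Scheme.Modules.restrictFunctor O.ι).mapDerivedCategorySingleFunctor 0).app P0))
  let e₁ : (DCoh.tildeD R).obj (PointAlg17.mod0 (A := c.A) (c.A ⧸ c.y.asIdeal)) ≅
      (DCoh.restrictD c.j).obj (DCoh.inD X P0) :=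
    ((tilde.functor R).mapDerivedCategorySingleFunctor 0).app _ ≪≫
      (DerivedCategory.singleFunctor (Spec R).Modules 0).mapIso c.ept.symm ≪≫
      (((Scheme.Modules.restrictFunctor c.j).mapDerivedCategorySingleFunctor 0).app P0).symm
  let e₂ : (DCoh.tildeD R).obj ((PointAlg17.mod0 (A := c.A) (c.A ⧸ c.y.asIdeal))⟦i⟧) ≅ (DCoh.restrictD c.j).obj T :=
    ((DCoh.tildeD R).commShiftIso i).app _ ≪≫ (shiftFunctor _ i).mapIso e₁ ≪≫
      (((DCoh.restrictD c.j).commShiftIso i).app _).symm
  have h0 : ∀ ψ : (DCoh.restrictD c.j).obj K ⟶ (DCoh.restrictD c.j).obj T, ψ = 0 := fun ψ => by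
    apply (adj.homEquiv _ _).injective
    rw [← cancel_mono (inv (adj.unit.app T))]
    exact (h _).trans (h _).symm
  apply (DCoh.tildeD R).map_injective
  rw [Functor.map_zero, ← cancel_mono e₂.hom, zero_comp, ← cancel_epi c.eK.hom, comp_zero]
  exact h0 _

end Groth.Agent.DQCoh.PointChart17
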