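import Groth.Agent.DQCoh.RHomTilde
import Groth.Agent.DQCoh.RHomQCoh
import Groth.Agent.DQCoh.PointChart17
import Groth.Agent.DualLib.ResidueHom
import Groth.Agent.DCat.DTenHom
import Groth.Agent.DQCoh.Tilde

/-! `RHom` out of a perfect tilde on an affine scheme. -/

set_option autoImplicit false
universe u
open CategoryTheory CategoryTheory.Limits AlgebraicGeometry
attribute [local instance] HasDerivedCategory.standard

namespace Groth.Agent.DQCoh.DualChart17

open Groth.Agent.DCat Groth.Agent.DQCoh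

/-- `RHom(K~, L~) ≅ RHom(K, L)~` for perfect `K`. -/
theorem nonempty_RH_tilde (A : Type u) [CommRing A] [DTen.HasLTen A] [DTen.HasRHom A]
    [PreservesFiniteLimits (tilde.functor (CommRingCat.of A))] (k : Dual.D A)
    (hk : DRing.IsPerfect A k) (L : Dual.D A)
    (E : CochainComplex (Spec (CommRingCat.of A)).Modules ℤ) [DCoh.HasLTensorCx E] [DCoh.HasRSheafHom E]
    (eE : DerivedCategory.Q.obj E ≅ (DCoh.tildeD (CommRingCat.of A)).obj k) :
    Nonempty ((DCoh.RSheafHom E).obj ((DCoh.tildeD (CommRingCat.of A)).obj L) ≅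
      (DCoh.tildeD (CommRingCat.of A)).obj ((DTen.RHomR A k).obj L)) := by
  obtain ⟨K, ⟨eK⟩⟩ : ∃ K : DRing.Cx A, Nonempty (DRing.toD K ≅ k) := ⟨_, ⟨DerivedCategory.Q.objObjPreimageIso k⟩⟩
  haveI : (tilde.functor (CommRingCat.of A)).Additive := RHomTilde.additive_tilde_functor (R := CommRingCat.of A)
  obtain ⟨P, s, hP, -, hs, -⟩ := exists_kflat K
  haveI := hs
  haveI : IsIso (DerivedCategory.Q.map s) :=
    (DerivedCategory.isIso_Q_map_iff_quasiIso _ s).2 hs
  let T := DCoh.tildeD (CommRingCat.of A)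
  let E' := ((tilde.functor (CommRingCat.of A)).mapHomologicalComplex (ComplexShape.up ℤ)).obj P
  haveI := LTensorSheaf.hasLTensorCx E'
  haveI := RHomExist.hasRSheafHom E'
  haveI : PreservesFiniteColimits (tilde.functor (CommRingCat.of A)) :=
    haveI := (tilde.adjunction (R := CommRingCat.of A)).leftAdjoint_preservesColimits
    inferInstance
  let eT : DerivedCategory.Q.obj E' ≅ T.obj (DRing.toD K) :=
    ((tilde.functor (CommRingCat.of A)).mapDerivedCategoryFactors.app P).symm ≪≫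
      T.mapIso (asIso (DerivedCategory.Q.map s))
  obtain ⟨c⟩ := TensorCongr.nonempty_congr_rhom (E := E') (E' := E) (eT ≪≫ T.mapIso eK ≪≫ eE.symm)
  obtain ⟨n⟩ := RHomTilde.nonempty_tilde_tensor (R := CommRingCat.of A) P hP
  obtain ⟨hF, hFF, hQ⟩ := tildeD_main (CommRingCat.of A)
  let h := DCat.enoughKInj_of_isGrothendieckAbelian (A := (Spec (CommRingCat.of A)).Modules)
  haveI : (moduleSpecΓFunctor (R := CommRingCat.of A)).Additive := Adjunction.right_adjoint_additive tilde.adjunction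
  haveI := DCat.hasRightDerivedFunctor_of_enoughKInj h
    ((moduleSpecΓFunctor (R := CommRingCat.of A)).mapHomotopyCategory (ComplexShape.up ℤ) ⋙ DerivedCategory.Qh)
  obtain ⟨RG, ⟨adj⟩⟩ : ∃ RG, Nonempty ((tilde.functor (CommRingCat.of A)).mapDerivedCategory ⊣ RG) :=
    ⟨_, (DCat.derived_localization h (tilde.adjunction (R := CommRingCat.of A))).1⟩
  let φ := (((DTen.rhomAdj A (DerivedCategory.Q.obj P)).comp adj).ofNatIsoLeft n).rightAdjointUniq
    (adj.comp (DCoh.RSheafHomAdj E'))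
  haveI : ∀ Y, IsIso (adj.unit.app Y) := fun Y => inferInstance
  have hqc := isQCohD_RHom_perfect E'
    (DCat.PCTriangle.perfect_iso (eT ≪≫ T.mapIso eK).symm (isPerfect_tildeD hk)) (T.obj L)
    (isQCohD_tildeD (CommRingCat.of A) L)
  obtain ⟨M, ⟨eM⟩⟩ := (hQ _).1 hqc
  refine ⟨(c.app (T.obj L)).symm ≪≫ eM.symm ≪≫ T.mapIso ?_⟩
  exact asIso (adj.unit.app M) ≪≫ RG.mapIso eM ≪≫ (φ.app (T.obj L)).symm ≪≫
    (DTen.RHomR A (DerivedCategory.Q.obj P)).mapIso (asIso (adj.unit.app L)).symm ≪≫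
    (DualLib.rhomCongr (asIso (DerivedCategory.Q.map s) ≪≫ eK) L).symm


end Groth.Agent.DQCoh.DualChart17
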