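import Groth.Agent.Desc19b.FTFlatOpen
import Mathlib.RingTheory.Finiteness.Descent

/-!
# Finite type descends along flat surjective submersions, for arbitrary modules
-/

set_option autoImplicit false
set_option backward.isDefEq.respectTransparency false
set_option backward.isDefEq.respectTransparency.types false
set_option linter.style.haveILetI false

universe u

open CategoryTheory CategoryTheory.Limits AlgebraicGeometry TopologicalSpace
open scoped TensorProduct
open Groth.Agent.OmegaLib Groth.Agent.Desc19b.FTFlatOpen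

noncomputable section

namespace Groth.Agent.DQCoh.FlatDesc17

variable {X Y : Scheme.{u}}

/-- The locus where given sections generate the stalks is open. -/
theorem isOpen_span_eq_top (G : X.Modules) (hG : Coherent.LocallyFinGen G) {U₀ : X.Opens} {κ : Type u} [Fintype κ]
    (T : κ → Γ(G, U₀)) : IsOpen {x : X | ∃ h : x ∈ U₀,
      Submodule.span (X.presheaf.stalk x) (Set.range fun p => gm G U₀ x h (T p)) = ⊤} := by
  classical
  refine isOpen_iff_forall_mem_open.2 fun x hx => ?_
  obtain ⟨hxU₀, hspan⟩ := hx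
  obtain ⟨U, I, _, t, hxU, ht⟩ := hG x
  choose c hc using fun k : I => (Submodule.mem_span_range_iff_exists_fun _).1
    (hspan.ge (Submodule.mem_top (x := gm G U x hxU (t k))))
  choose O hO r hr using fun q : I × κ => X.presheaf.exists_germ_eq (x := x) (c q.1 q.2)
  let U₁ : X.Opens := U ⊓ U₀ ⊓ ⟨⋂ q : I × κ, (O q : Set X), isOpen_iInter_of_finite fun q => (O q).2⟩
  have hx₁ : x ∈ U₁ := ⟨⟨hxU, hxU₀⟩, Set.mem_iInter.2 hO⟩
  have h1U : U₁ ≤ U := fun z hz => hz.1.1
  have h1U₀ : U₁ ≤ U₀ := fun z hz => hz.1.2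
  have h1O : ∀ q, U₁ ≤ O q := fun q z hz => Set.mem_iInter.1 hz.2 q
  let rhs : I → Γ(G, U₁) := fun k =>
    ∑ p, X.presheaf.map (homOfLE (h1O (k, p))).op (r (k, p)) • Coherent.resM G h1U₀ (T p)
  have heq : ∀ k, gm G U₁ x hx₁ (Coherent.resM G h1U (t k)) = gm G U₁ x hx₁ (rhs k) := fun k => by
    rw [show gm G U₁ x hx₁ (Coherent.resM G h1U (t k)) = gm G U x hxU (t k) from gm_res G hxU h1U hx₁ _, ← hc k]
    refine ((map_sum (G.presheaf.germ U₁ x hx₁).hom _ _).trans (Finset.sum_congr rfl fun p _ => ?_)).symm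
    refine (gm_smul G hx₁ _ _).trans ?_
    rw [X.presheaf.germ_res_apply, hr,
      show gm G U₁ x hx₁ (Coherent.resM G h1U₀ (T p)) = gm G U₀ x hxU₀ (T p) from gm_res G hxU₀ h1U₀ hx₁ _]
  choose W hxW i₁ i₂ hW using fun k =>
    TopCat.Presheaf.germ_eq G.presheaf (U := U₁) (V := U₁) x hx₁ hx₁ _ _ (heq k)
  refine ⟨(U₁ : Set X) ∩ ⋂ k : I, (W k : Set X), ?_, U₁.2.inter (isOpen_iInter_of_finite fun k => (W k).2),
    hx₁, Set.mem_iInter.2 hxW⟩
  rintro x' ⟨hx', hxW'⟩
  refine ⟨h1U₀ hx', eq_top_iff.2 ?_⟩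
  rw [← span_gm_eq_top ht (h1U hx')]
  refine Submodule.span_le.2 ?_
  rintro _ ⟨k, rfl⟩
  have hk : x' ∈ W k := Set.mem_iInter.1 hxW' k
  have e1 := congrArg (gm G (W k) x' hk) (hW k)
  have e2 : gm G U x' (h1U hx') (t k) = gm G U₁ x' hx' (rhs k) :=
    ((gm_res G (h1U hx') h1U hx' (t k)).symm.trans (gm_res G hx' (leOfHom (i₁ k)) hk _).symm).trans
      (e1.trans (gm_res G hx' (leOfHom (i₂ k)) hk _))
  show gm G U x' (h1U hx') (t k) ∈ _
  rw [e2, show gm G U₁ x' hx' (rhs k) = _ from map_sum (G.presheaf.germ U₁ x' hx').hom _ _]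
  refine Submodule.sum_mem _ fun p _ => ?_
  show gm G U₁ x' hx' (_ • Coherent.resM G h1U₀ (T p)) ∈ _
  rw [gm_smul, show gm G U₁ x' hx' (Coherent.resM G h1U₀ (T p)) = gm G U₀ x' (h1U₀ hx') (T p) from
    gm_res G (h1U₀ hx') h1U₀ hx' _]
  exact Submodule.smul_mem _ _ (Submodule.subset_span ⟨p, rfl⟩)

variable (f : X ⟶ Y) [Flat f]

theorem faithfullyFlat_stalkMap (x : X) :
    letI := (f.stalkMap x).hom.toAlgebra
    Module.FaithfullyFlat (Y.presheaf.stalk (f x)) (X.presheaf.stalk x) := by
  letI := (f.stalkMap x).hom.toAlgebra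
  haveI : IsLocalHom (algebraMap (Y.presheaf.stalk (f x)) (X.presheaf.stalk x)) :=
    inferInstanceAs (IsLocalHom (f.stalkMap x).hom)
  haveI : Module.Flat (Y.presheaf.stalk (f x)) (X.presheaf.stalk x) := Flat.stalkMap f x
  exact Module.FaithfullyFlat.of_flat_of_isLocalHom

/-- Sections generate a stalk iff their pullbacks do. -/
theorem span_pull_eq_top_iff (F : Y.Modules) {V : Y.Opens} {κ : Type u} [Fintype κ] (s : κ → Γ(F, V)) (x : X)
    (h : f x ∈ V) :
    Submodule.span (X.presheaf.stalk x) (Set.range fun p =>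
      gm ((Scheme.Modules.pullback f).obj F) (f ⁻¹ᵁ V) x h (OmegaSh.pullSect f F V (s p))) = ⊤ ↔
    Submodule.span (Y.presheaf.stalk (f x)) (Set.range fun p => gm F V (f x) h (s p)) = ⊤ := by
  letI := (f.stalkMap x).hom.toAlgebra
  haveI := faithfullyFlat_stalkMap f x
  obtain ⟨E, hE⟩ := exists_pullback_stalk_equiv f F x
  let G := (Scheme.Modules.pullback f).obj F
  let S' := Submodule.span (X.presheaf.stalk x) (Set.range fun p =>
      gm G (f ⁻¹ᵁ V) x h (OmegaSh.pullSect f F V (s p)))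
  let N := Submodule.span (Y.presheaf.stalk (f x)) (Set.range fun p => gm F V (f x) h (s p))
  constructor
  · intro h1
    let π := N.mkQ.baseChange (X.presheaf.stalk x)
    have hzero : ∀ z, π (E.symm z) = 0 := by
      intro z
      have hz : z ∈ S' := h1.ge (Submodule.mem_top (x := z))
      induction hz using Submodule.span_induction with
      | mem z hz =>
        obtain ⟨p, rfl⟩ := hz
        show π (E.symm (gm G (f ⁻¹ᵁ V) x h (OmegaSh.pullSect f F V (s p)))) = 0
        rw [← hE V h (s p), E.symm_apply_apply, LinearMap.baseChange_tmul,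
          show N.mkQ (gm F V (f x) h (s p)) = 0 from
            (Submodule.Quotient.mk_eq_zero N).2 (Submodule.subset_span ⟨p, rfl⟩),
          TensorProduct.tmul_zero]
      | zero => simp only [map_zero]
      | add a c _ _ ha hc => simp only [map_add, ha, hc, add_zero]
      | smul a c _ hc => simp only [map_smul, hc, smul_zero]
    have hs : Subsingleton (X.presheaf.stalk x ⊗[Y.presheaf.stalk (f x)]
        ((DerSch.stalkFunctor Y (f x)).obj F ⧸ N)) := by
      refine subsingleton_of_forall_eq 0 fun q => ?_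
      obtain ⟨w, rfl⟩ := LinearMap.lTensor_surjective (X.presheaf.stalk x) (Submodule.mkQ_surjective N) q
      have := hzero (E w)
      rwa [E.symm_apply_apply] at this
    haveI := Module.FaithfullyFlat.lTensor_reflects_triviality (Y.presheaf.stalk (f x)) (X.presheaf.stalk x)
      ((DerSch.stalkFunctor Y (f x)).obj F ⧸ N)
    exact Submodule.Quotient.subsingleton_iff.1 this
  · intro h1
    refine eq_top_iff.2 fun z _ => ?_
    rw [← E.apply_symm_apply z]
    induction E.symm z using TensorProduct.induction_on with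
    | zero => rw [map_zero]; exact Submodule.zero_mem _
    | add a b ha hb => rw [map_add]; exact Submodule.add_mem _ ha hb
    | tmul a m =>
      have hm : m ∈ N := h1.ge (Submodule.mem_top (x := m))
      induction hm using Submodule.span_induction generalizing a with
      | mem m hm =>
        obtain ⟨p, rfl⟩ := hm
        rw [show a ⊗ₜ[Y.presheaf.stalk (f x)] gm F V (f x) h (s p) = a • ((1 : X.presheaf.stalk x) ⊗ₜ gm F V (f x) h (s p))
          by rw [TensorProduct.smul_tmul', smul_eq_mul, mul_one], map_smul, hE V h (s p)]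
        exact Submodule.smul_mem _ _ (Submodule.subset_span ⟨p, rfl⟩)
      | zero => rw [TensorProduct.tmul_zero, map_zero]; exact Submodule.zero_mem _
      | add m m' _ _ ha hb => rw [TensorProduct.tmul_add, map_add]; exact Submodule.add_mem _ (ha a) (hb a)
      | smul c m _ hc =>
        rw [← TensorProduct.smul_tmul]
        exact hc _

/-- Finite type descends along flat surjective submersions. -/
theorem isFT_of_pullback [Surjective f] (hq : Topology.IsQuotientMap f.base) (F : Y.Modules)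
    (h : CohB1.IsFT ((Scheme.Modules.pullback f).obj F)) : CohB1.IsFT F := by
  classical
  refine Coherent.isFT_of_locallyFinGen fun y => ?_
  obtain ⟨x, rfl⟩ := f.surjective y
  let G := (Scheme.Modules.pullback f).obj F
  have hG := Coherent.locallyFinGen_of_isFT G h
  letI := (f.stalkMap x).hom.toAlgebra
  haveI := faithfullyFlat_stalkMap f x
  obtain ⟨E, hE⟩ := exists_pullback_stalk_equiv f F x
  obtain ⟨U, I, _, t, hxU, ht⟩ := hG x
  haveI : Module.Finite (X.presheaf.stalk x) ((DerSch.stalkFunctor X x).obj G) :=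
    ⟨by rw [← span_gm_eq_top ht hxU]; exact Submodule.fg_span (Set.finite_range _)⟩
  haveI : Module.Finite (X.presheaf.stalk x)
      (X.presheaf.stalk x ⊗[Y.presheaf.stalk (f x)] ((DerSch.stalkFunctor Y (f x)).obj F)) :=
    Module.Finite.equiv E.symm
  haveI : Module.Finite (Y.presheaf.stalk (f x)) ((DerSch.stalkFunctor Y (f x)).obj F) :=
    Module.Finite.of_finite_tensorProduct_of_faithfullyFlat (X.presheaf.stalk x)
  obtain ⟨n, z, hz⟩ := Module.Finite.exists_fin (R := Y.presheaf.stalk (f x))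
    (M := ((DerSch.stalkFunctor Y (f x)).obj F))
  choose V hV s hs using fun p : ULift.{u} (Fin n) => exists_gm F (z p.down)
  let V₀ : Y.Opens := ⟨⋂ p, (V p : Set Y), isOpen_iInter_of_finite fun p => (V p).2⟩
  have hxV₀ : f x ∈ V₀ := Set.mem_iInter.2 hV
  have hV₀ : ∀ p, V₀ ≤ V p := fun p z hz => Set.mem_iInter.1 hz p
  let s' : ULift.{u} (Fin n) → Γ(F, V₀) := fun p => Coherent.resM F (hV₀ p) (s p)
  let Z : Set Y := {y' | ∃ h : y' ∈ V₀,
    Submodule.span (Y.presheaf.stalk y') (Set.range fun p => gm F V₀ y' h (s' p)) = ⊤}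
  have hZ : IsOpen Z := by
    rw [← hq.isOpen_preimage]
    convert isOpen_span_eq_top G hG (U₀ := f ⁻¹ᵁ V₀) (fun p => OmegaSh.pullSect f F V₀ (s' p)) using 1
    ext x'
    exact ⟨fun ⟨h', e⟩ => ⟨h', (span_pull_eq_top_iff f F s' x' h').2 e⟩,
      fun ⟨h', e⟩ => ⟨h', (span_pull_eq_top_iff f F s' x' h').1 e⟩⟩
  let V' : Y.Opens := ⟨Z, hZ⟩
  have hV' : V' ≤ V₀ := fun y' hy' => hy'.1
  refine ⟨V', ULift.{u} (Fin n), inferInstance, fun p => Coherent.resM F hV' (s' p), ⟨hxV₀, ?_⟩,
    genOn_of_span _ fun y' hy' => ?_⟩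
  · rw [eq_top_iff, ← hz, Submodule.span_le]
    rintro _ ⟨i, rfl⟩
    refine Submodule.subset_span ⟨⟨i⟩, ?_⟩
    exact (gm_res F (hV ⟨i⟩) (hV₀ ⟨i⟩) hxV₀ (s ⟨i⟩)).trans (hs ⟨i⟩)
  · obtain ⟨h', e⟩ := hy'
    refine Eq.trans (congrArg (Submodule.span (Y.presheaf.stalk y')) (congrArg Set.range (funext fun p => ?_))) e
    exact gm_res F h' hV' _ (s' p)

end Groth.Agent.DQCoh.FlatDesc17
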