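import Groth.Agent.DQCoh.FlatDescFT17
import Groth.Agent.FlatCx12.EmbPush
import Groth.Agent.DCat.FlatPull

/-!
# Pseudo-coherence descends along flat surjective morphisms
-/

set_option autoImplicit false
set_option backward.isDefEq.respectTransparency false
set_option backward.defeqAttrib.useBackward true
set_option linter.style.haveILetI false
set_option synthInstance.maxHeartbeats 100000
set_option backward.isDefEq.respectTransparency.types false

universe u

open CategoryTheory CategoryTheory.Limits CategoryTheory.Pretriangulated DerivedCategory Opposite TopologicalSpace AlgebraicGeometry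
open scoped TensorProduct
open Groth.Agent.DCat Groth.Agent.Coherent Groth.Agent.OmegaLib
open Groth.Agent.FlatCx12 (EmbPush.psc_of_isLE' EmbPush.pscAll EmbPush.exists_map_top)

namespace Groth.Agent.DQCoh.FlatDesc17

attribute [local instance] HasDerivedCategory.standard
attribute [-instance] Int.instConditionallyCompleteLinearOrder

variable {X Y : Scheme.{u}} (f : X ⟶ Y) [Flat f]

/-- Pullback along a flat morphism on derived categories. -/
noncomputable abbrev fd : DCoh.D Y ⥤ DCoh.D X := (Scheme.Modules.pullback f).mapDerivedCategory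

theorem nonempty_Lpull_fd [DCoh.HasLpull f] (K : DCoh.D Y) :
    Nonempty ((DCoh.Lpull f).obj K ≅ (fd f).obj K) := by
  obtain ⟨N, hN, ⟨e⟩⟩ := PullPerf.exists_kflat_rep K
  exact ⟨(DCoh.Lpull f).mapIso e.symm ≪≫ PullPerf.lpullIso f hN ≪≫
    ((Scheme.Modules.pullback f).mapDerivedCategoryFactors.app N).symm ≪≫ (fd f).mapIso e⟩

theorem psc_fd {m : ℤ} {K : DCoh.D Y} (hK : DCoh.IsPseudoCoherentD m K) :
    DCoh.IsPseudoCoherentD m ((fd f).obj K) := by
  haveI := DCat.hasLpull f
  obtain ⟨e⟩ := nonempty_Lpull_fd f K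
  exact PCTriangle.psc_iso e (PullPerf.isPseudoCoherentD_Lpull f m K hK)

theorem nonempty_rd_fd (V : Y.Opens) (K : DCoh.D Y) :
    Nonempty ((PerfLocal.rd (f ⁻¹ᵁ V).ι).obj ((fd f).obj K) ≅ (fd (f ∣_ V)).obj ((PerfLocal.rd V.ι).obj K)) :=
  FlatCx12.EmbPush.nonempty_mdc_sq _ _ _ _ (PullPerf.pullRestrict f V) K

theorem subsingleton_stalk_of_pullback (M : Y.Modules) (x : X)
    (h : Subsingleton (((Scheme.Modules.pullback f).obj M).presheaf.stalk x)) :
    Subsingleton (M.presheaf.stalk (f x)) := by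
  letI := (f.stalkMap x).hom.toAlgebra
  haveI := faithfullyFlat_stalkMap f x
  obtain ⟨E, -⟩ := exists_pullback_stalk_equiv f M x
  haveI : Subsingleton ((DerSch.stalkFunctor X x).obj ((Scheme.Modules.pullback f).obj M)) := h
  haveI := E.toEquiv.subsingleton
  exact Module.FaithfullyFlat.lTensor_reflects_triviality (Y.presheaf.stalk (f x)) (X.presheaf.stalk x)
    ((DerSch.stalkFunctor Y (f x)).obj M)

/-- Vanishing of cohomology sheaves is seen after flat pullback. -/
theorem subsingleton_stalk_of_fd (K : DCoh.D Y) (i : ℤ) (x : X) (h : IsZero (DCoh.HD ((fd f).obj K) i)) :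
    Subsingleton ((DCoh.HD K i).presheaf.stalk (f x)) :=
  subsingleton_stalk_of_pullback f _ x (SuppOpen.subsingleton_of_isZero_stalkFunctor _ x
    ((DerSch.stalkFunctor X x).map_isZero (h.of_iso (SuppOpen.hdMapIso (Scheme.Modules.pullback f) K i).symm)))

/-- A local bound on the cohomology. -/
theorem exists_isLE_nhd (hU : ∀ y : Y, ∃ U : X.Opens, IsCompact (U : Set X) ∧ f '' (U : Set X) ∈ nhds y)
    {m : ℤ} (K : DCoh.D Y) (h : DCoh.IsPseudoCoherentD m ((fd f).obj K)) (y : Y) :
    ∃ (V : Y.Opens) (b : ℤ), y ∈ V ∧ ((PerfLocal.rd V.ι).obj K).IsLE b := by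
  obtain ⟨U, hUc, hy⟩ := hU y
  obtain ⟨V, hVU, hV, hyV⟩ := mem_nhds_iff.1 hy
  haveI : CompactSpace U.toScheme := isCompact_iff_compactSpace.1 hUc
  obtain ⟨b, hb⟩ := exists_isLE_psc (psc_rd U.ι h)
  refine ⟨⟨V, hV⟩, b, hyV, (DerivedCategory.isLE_iff _ _).2 fun i hi => ?_⟩
  refine IsZero.of_iso (ModStalk.isZero_of_stalks fun v => ?_)
    (SuppOpen.hdMapIso (Scheme.Modules.restrictFunctor (Scheme.Opens.ι ⟨V, hV⟩)) K i)
  obtain ⟨w, hw, hwv⟩ := hVU v.2
  have hz : IsZero ((Scheme.Modules.restrictFunctor U.ι).obj (DCoh.HD ((fd f).obj K) i)) :=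
    ((DerivedCategory.isLE_iff _ _).1 hb i hi).of_iso
      (SuppOpen.hdMapIso (Scheme.Modules.restrictFunctor U.ι) ((fd f).obj K) i).symm
  haveI : Subsingleton ((DCoh.HD ((fd f).obj K) i).presheaf.stalk w) :=
    SuppOpen.subsingleton_stalk_of_restrict U.ι _ ⟨w, hw⟩
      (SuppOpen.subsingleton_of_isZero_stalkFunctor _ _ ((DerSch.stalkFunctor _ _).map_isZero hz))
  have hs : Subsingleton ((DCoh.HD K i).presheaf.stalk (f w)) :=
    subsingleton_stalk_of_pullback f _ w (SuppOpen.subsingleton_of_isZero_stalkFunctor _ w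
      ((SuppOpen.isZero_stalkFunctor _ w).of_iso ((DerSch.stalkFunctor X w).mapIso
        (SuppOpen.hdMapIso (Scheme.Modules.pullback f) K i).symm)))
  rw [hwv] at hs
  haveI := SuppOpen.subsingleton_stalk_restrict (Scheme.Opens.ι ⟨V, hV⟩) (DCoh.HD K i) v hs
  exact SuppOpen.isZero_stalkFunctor _ v

theorem psc_desc_aux (k : ℕ) : ∀ {X Y : Scheme.{u}} (f : X ⟶ Y) [Flat f] [Surjective f]
    (_ : Topology.IsQuotientMap f.base) (m : ℤ) (K : DCoh.D Y), K.IsLE (m - 1 + k) →
    DCoh.IsPseudoCoherentD m ((fd f).obj K) → DCoh.IsPseudoCoherentD m K := by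
  induction k with
  | zero => exact fun f _ _ _ m K hK _ => EmbPush.psc_of_isLE' (n := m - 1 + ((0 : ℕ) : ℤ)) (by omega) hK
  | succ k ih =>
    intro X Y f _ _ hq m K hK h
    obtain ⟨b, hb⟩ : ∃ b : ℤ, b = m + k := ⟨_, rfl⟩
    have hKb : K.IsLE b := by rwa [show b = m - 1 + ((k + 1 : ℕ) : ℤ) by push_cast; omega]
    have hle := FlatCx12.EmbPush.isLE_map (Scheme.Modules.pullback f) K b hKb
    have htop := (top_of_psc b _ (PCTriangle.psc_mono (show m ≤ b by omega) h)).1 fun i hi =>
      (DerivedCategory.isLE_iff _ _).1 hle i hi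
    have hH : CohB1.IsFT (DCoh.HD K b) :=
      isFT_of_pullback f hq _ (Coherent.isFT_of_epi (SuppOpen.hdMapIso (Scheme.Modules.pullback f) K b).hom htop)
    refine psc_of_local _ fun y => ?_
    obtain ⟨W, j, _, P, α, hyW, hP, ha⟩ := EmbPush.exists_map_top K b hKb hH y
    let V := j.opensRange
    have hrange : Set.range V.ι ⊆ Set.range j := by
      rw [Scheme.Opens.range_ι, Scheme.Hom.coe_opensRange]
    let l := IsOpenImmersion.lift j V.ι hrange
    haveI : IsOpenImmersion l :=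
      haveI : IsOpenImmersion (l ≫ j) := by rw [IsOpenImmersion.lift_fac]; infer_instance
      IsOpenImmersion.of_comp _ j
    obtain ⟨c⟩ := PerfLocal.rd_comp l j K
    obtain ⟨c'⟩ := FlatCx12.EmbPush.nonempty_rd_congr' (k := l ≫ j) (k' := V.ι) (IsOpenImmersion.lift_fac j V.ι hrange)
    let α' : (PerfLocal.rd l).obj P ⟶ (PerfLocal.rd V.ι).obj K := (PerfLocal.rd l).map α ≫ c.inv ≫ c'.hom.app K
    have ha' : PullPerf.Apx b α' :=
      (PerfLocal.apx_rd l ha).comp ((PullPerf.apx_of_isIso b _).comp (PullPerf.apx_of_isIso b _))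
    obtain ⟨C, g, w, hT⟩ := distinguished_cocone_triangle α'
    have hC : C.IsLE (m - 1 + k) := by
      have := (PullPerf.apx_iff_isLE b _ hT).1 ha'
      rwa [show m - 1 + (k : ℤ) = b - 1 by omega]
    haveI : Surjective (f ∣_ V) := IsZariskiLocalAtTarget.restrict (P := @Surjective) inferInstance V
    have hqV : Topology.IsQuotientMap (f ∣_ V).base := by
      rw [morphismRestrict_base]
      exact hq.restrictPreimage_isOpen V.2
    obtain ⟨e⟩ := nonempty_rd_fd f V K
    refine ⟨V, V.ι, inferInstance, by simpa [V] using hyW,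
      PCTriangle.psc_ext hT (psc_rd l (hP m)) (ih (f ∣_ V) hqV m C hC ?_)⟩
    exact PCTriangle.psc_cone ((fd (f ∣_ V)).map_distinguished _ hT)
      (psc_fd (f ∣_ V) (psc_rd l (hP (m + 1)))) (PCTriangle.psc_iso e (psc_rd _ h))

/-- Pseudo-coherence descends along flat surjective submersions with compact neighbourhood lifts. -/
theorem psc_desc [Surjective f] (hq : Topology.IsQuotientMap f.base)
    (hU : ∀ y : Y, ∃ U : X.Opens, IsCompact (U : Set X) ∧ f '' (U : Set X) ∈ nhds y)
    {m : ℤ} (K : DCoh.D Y) (h : DCoh.IsPseudoCoherentD m ((fd f).obj K)) : DCoh.IsPseudoCoherentD m K := by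
  refine psc_of_local _ fun y => ?_
  obtain ⟨V, b, hy, hb⟩ := exists_isLE_nhd f hU K h y
  refine ⟨V, V.ι, inferInstance, by simpa using hy, ?_⟩
  haveI : Surjective (f ∣_ V) := IsZariskiLocalAtTarget.restrict (P := @Surjective) inferInstance V
  have hqV : Topology.IsQuotientMap (f ∣_ V).base := by
    rw [morphismRestrict_base]
    exact hq.restrictPreimage_isOpen V.2
  obtain ⟨e⟩ := nonempty_rd_fd f V K
  haveI := hb
  refine psc_desc_aux (b - (m - 1)).toNat (f ∣_ V) hqV m _ ?_ (PCTriangle.psc_iso e (psc_rd _ h))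
  exact DerivedCategory.TStructure.t.isLE_of_le ((PerfLocal.rd V.ι).obj K) b _ (by omega)

omit [Flat f] in
/-- Quasi-compact morphisms have compact neighbourhood lifts. -/
theorem exists_compact_nhd_qc [QuasiCompact f] [Surjective f] (y : Y) :
    ∃ U : X.Opens, IsCompact (U : Set X) ∧ f '' (U : Set X) ∈ nhds y := by
  obtain ⟨V, hV, hyV, -⟩ := exists_isAffineOpen_mem_and_subset (x := y) (U := (⊤ : Y.Opens)) trivial
  refine ⟨f ⁻¹ᵁ V, f.isCompact_preimage hV.isCompact, ?_⟩
  show f '' (f ⁻¹' (V : Set Y)) ∈ nhds y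
  rw [Set.image_preimage_eq _ f.surjective]
  exact V.2.mem_nhds hyV

omit [Flat f] in
/-- Open morphisms have compact neighbourhood lifts. -/
theorem exists_compact_nhd_open [Surjective f] (hf : IsOpenMap f.base) (y : Y) :
    ∃ U : X.Opens, IsCompact (U : Set X) ∧ f '' (U : Set X) ∈ nhds y := by
  obtain ⟨x, rfl⟩ := f.surjective y
  obtain ⟨U, hU, hxU, -⟩ := exists_isAffineOpen_mem_and_subset (x := x) (U := (⊤ : X.Opens)) trivial
  exact ⟨U, hU.isCompact, (hf _ U.2).mem_nhds ⟨x, hxU, rfl⟩⟩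

end Groth.Agent.DQCoh.FlatDesc17
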