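import Groth.Agent.DQCoh.Betti
import Groth.Agent.DCat.TorTriangle
import Groth.Agent.DCat.LPull
import Groth.Agent.Props12.TildeFin
import Groth.Prelude.Def_DTor2
import Mathlib.Algebra.TrivSqZeroExt.Basic

/-!
# Tor amplitude on affine schemes and perfectness
-/

set_option autoImplicit false
set_option backward.isDefEq.respectTransparency false
set_option backward.defeqAttrib.useBackward true
set_option linter.style.haveILetI false
set_option synthInstance.maxHeartbeats 100000
set_option linter.unusedVariables false
set_option backward.isDefEq.respectTransparency.types false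

universe u

open CategoryTheory CategoryTheory.Limits CategoryTheory.Pretriangulated DerivedCategory Opposite TopologicalSpace AlgebraicGeometry
open Groth.Agent.SiteDer16 Groth.Agent.DCat Groth.Agent.Coherent MonoidalCategory
open scoped TensorProduct

namespace Groth.Agent.DQCoh

attribute [local instance] HasDerivedCategory.standard
attribute [-instance] Int.instConditionallyCompleteLinearOrder

section Retract

variable {A : Type u} [CommRing A]

/-- If every base change of a complex is exact in a degree, so is every tensor product. -/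
theorem exactAt_tensor_of_ext (P : DRing.Cx A) (N : ModuleCat.{u} A) (i : ℤ)
    (h : ∀ (B : Type u) [CommRing B] (φ : A →+* B),
      (((ModuleCat.extendScalars φ).mapHomologicalComplex (ComplexShape.up ℤ)).obj P).ExactAt i) :
    (DRing.tensorCx P N).ExactAt i := by
  letI : Module Aᵐᵒᵖ N := Module.compHom N ((RingHom.id A).fromOpposite mul_comm)
  haveI : IsCentralScalar A N := ⟨fun r m => rfl⟩
  let B := TrivSqZeroExt A N
  let φ : A →+* B := TrivSqZeroExt.inlHom A N
  let BA := (ModuleCat.restrictScalars.{u} φ).obj (ModuleCat.of B B)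
  let p : BA →ₗ[A] N :=
    { toFun := fun x => TrivSqZeroExt.snd (R := A) (M := N) x
      map_add' := fun x y => rfl
      map_smul' := fun r x => by
        show TrivSqZeroExt.snd ((TrivSqZeroExt.inl r : B) * @id B x) = r • TrivSqZeroExt.snd (@id B x)
        refine (TrivSqZeroExt.snd_mul (TrivSqZeroExt.inl r : TrivSqZeroExt A N) (show TrivSqZeroExt A N from x)).trans ?_
        simp }
  let j : N →ₗ[A] BA :=
    { toFun := fun m => (TrivSqZeroExt.inr m : B)
      map_add' := fun x y => TrivSqZeroExt.inr_add A x y
      map_smul' := fun r x => by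
        show (TrivSqZeroExt.inr (r • x) : B) = φ r * TrivSqZeroExt.inr x
        exact (TrivSqZeroExt.inl_mul_inr r x).symm }
  let ret : Retract N BA := { i := ConcreteCategory.ofHom j, r := ConcreteCategory.ofHom p }
  let ε : tensorRight BA ≅ ModuleCat.extendScalars φ ⋙ ModuleCat.restrictScalars φ :=
    (BraidedCategory.tensorLeftIsoTensorRight BA).symm ≪≫ restrictExtIso φ
  have hB : ((tensorRight BA).mapHomologicalComplex (ComplexShape.up ℤ) |>.obj P).ExactAt i := by
    have h' := (h B φ).map (ModuleCat.restrictScalars.{u} φ)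
    exact (ShortComplex.exact_iff_of_iso ((HomologicalComplex.shortComplexFunctor _ _ i).mapIso
      ((NatIso.mapHomologicalComplex ε (ComplexShape.up ℤ)).app P))).2 h'
  let retCx : Retract (DRing.tensorCx P N) ((tensorRight BA).mapHomologicalComplex (ComplexShape.up ℤ) |>.obj P) :=
    { i := (NatTrans.mapHomologicalComplex ((tensoringRight (ModuleCat.{u} A)).map ret.i) (ComplexShape.up ℤ)).app P
      r := (NatTrans.mapHomologicalComplex ((tensoringRight (ModuleCat.{u} A)).map ret.r) (ComplexShape.up ℤ)).app P
      retract := by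
        ext n : 1
        show (P.X n ◁ ret.i) ≫ (P.X n ◁ ret.r) = 𝟙 _
        rw [← MonoidalCategory.whiskerLeft_comp, ret.retract, MonoidalCategory.whiskerLeft_id] }
  rw [HomologicalComplex.exactAt_iff_isZero_homology] at hB ⊢
  rw [IsZero.iff_id_eq_zero]
  refine (retCx.map (HomologicalComplex.homologyFunctor _ _ i)).retract.symm.trans ?_
  rw [show (retCx.map (HomologicalComplex.homologyFunctor _ _ i)).i = 0 from hB.eq_of_tgt _ _, zero_comp]

end Retract

/-- Flat modules give flat sheaves. -/
theorem isFlat_tilde {R : CommRingCat.{u}} (M : ModuleCat.{u} R) [Module.Flat R M] : FlatMod.IsFlat (tilde M) := by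
  have := Props12.isQCoh_tilde M
  intro x
  haveI : Module.Flat R Γ(tilde M, ⊤) := Module.Flat.of_linearEquiv (Props12.topEquiv M).symm
  haveI : Module.Flat Γ(Spec R, ⊤) Γ(tilde M, ⊤) := Props12.flat_of_bijective Props12.bijective_algebraMap_top
  exact Props12.flat_stalk_of_flat_sections _ (isAffineOpen_top _) trivial

theorem isZero_HD_of_flatAmp {X : Scheme.{u}} {E : DCoh.D X} {a b : ℤ} (h : DCoh.HasFlatAmplitudeIn a b E) (i : ℤ)
    (hi : i < a ∨ b < i) : IsZero (DCoh.HD E i) := by
  obtain ⟨F, hF, -, ⟨e⟩⟩ := h
  exact IsZero.of_iso (ShortComplex.isZero_homology_of_isZero_X₂ _ (hF i hi))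
    ((homologyFunctor _ i).mapIso e.symm ≪≫ (homologyFunctorFactors X.Modules i).app F)

variable {A : CommRingCat.{u}} [PreservesFiniteLimits (tilde.functor A)]

/-- Tor amplitude of `M~` and of `M`. -/
theorem flatAmp_tildeD_iff (M : Dual.D A) (a b : ℤ) :
    DCoh.HasFlatAmplitudeIn a b ((DCoh.tildeD A).obj M) ↔ DRing.HasTorAmplitudeIn A a b M := by
  constructor
  · intro hF
    haveI : ∀ N : ModuleCat.{u} A, DRing.HasLTensor A N := fun N => DCat.hasLTensor N
    have hb : ∀ i, b < i → IsZero ((homologyFunctor (ModuleCat.{u} A) i).obj M) := by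
      haveI := preservesFiniteColimits_tilde A
      intro i hi
      obtain ⟨η⟩ := nonempty_homology_natIso (tilde.functor A) i
      exact isZero_of_isZero_tilde ((isZero_HD_of_flatAmp hF i (Or.inr hi)).of_iso (η.app M).symm)
    obtain ⟨P, hPk, -, -, ⟨e⟩⟩ := DCat.exists_flat_rep (b := b) hb
    refine DCat.flatAmp_of_vanish fun N i hi => ?_
    rw [DCat.isZero_ltensor_iff N hPk e i]
    refine exactAt_tensor_of_ext P N i fun B _ φ => ?_
    suffices key : ∀ (S : CommRingCat.{u}) (φ' : A ⟶ S),
        (((ModuleCat.extendScalars φ'.hom).mapHomologicalComplex (ComplexShape.up ℤ)).obj P).ExactAt i from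
      key _ (CommRingCat.ofHom φ)
    intro S φ'
    haveI : DRing.HasLBaseChange φ'.hom := DCat.hasLBaseChange φ'.hom
    haveI := hasLpull (Spec.map φ')
    haveI := AffSchLib.preservesFiniteLimits_tilde S
    haveI := preservesFiniteColimits_tilde S
    obtain ⟨c⟩ := nonempty_LBaseChange_tildeD φ'
    obtain ⟨η⟩ := nonempty_homology_natIso (tilde.functor S) i
    have hz := isZero_HD_of_flatAmp (DCat.flatAmp_lpull (Spec.map φ') hF) i hi
    rw [HomologicalComplex.exactAt_iff_isZero_homology]
    refine (isZero_of_isZero_tilde (hz.of_iso ((η.app _).symm ≪≫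
      (homologyFunctor _ i).mapIso (c.app M)))).of_iso ?_
    exact (DRingLib.HQ _ i).symm ≪≫ (homologyFunctor _ i).mapIso
      ((DCat.lbaseChangeIso φ'.hom hPk).symm ≪≫ (DRing.LBaseChange φ'.hom).mapIso e)
  · rintro ⟨P, hP, hf, ⟨e⟩⟩
    exact ⟨((tilde.functor A).mapHomologicalComplex (ComplexShape.up ℤ)).obj P,
      fun i hi => (tilde.functor A).map_isZero (hP i hi), fun i => haveI := hf i; isFlat_tilde (P.X i),
      ⟨((tilde.functor A).mapDerivedCategoryFactors.app P).symm ≪≫ (DCoh.tildeD A).mapIso e⟩⟩

end Groth.Agent.DQCoh
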