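import Groth.Agent.DQCoh.RelTor
import Groth.Agent.DQCoh.TorAmpAffine
import Groth.Agent.Props12.FlatOver
import Groth.Agent.Coherent.QcohOps
import Groth.Agent.Coherent.FiniteType
import Groth.Agent.Coherent.Existence.SysKernel
import Groth.Agent.ModStalk.Exact
import Groth.Agent.FlatCxLib.Algebra
import Groth.Agent.DCat.PullPerf

/-!
# Quasi-coherent modules are quotients of flat quasi-coherent ones on semi-separated schemes
-/

set_option autoImplicit false
set_option backward.isDefEq.respectTransparency false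
set_option linter.style.haveILetI false

universe u

open CategoryTheory CategoryTheory.Limits AlgebraicGeometry Opposite TopologicalSpace
open Groth.Agent.Coherent

namespace Groth.Agent.DQCoh.FlatQCoh17

variable {X P T : Scheme.{u}}

/-- Flatness of a direct image along an affine morphism, over an affine open. -/
theorem flatOver_push_iff (i : X ⟶ P) [IsAffineHom i] (π : P ⟶ T) (M : X.Modules) [Coh.IsQCoh M]
    (V : T.Opens) (U : P.Opens) (hV : IsAffineOpen V) (hU : IsAffineOpen U) (e : U ≤ π ⁻¹ᵁ V) :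
    (∀ y ∈ U, FlatMod.IsFlatOverAt π ((Scheme.Modules.pushforward i).obj M) y) ↔
      ∀ x ∈ i ⁻¹ᵁ U, FlatMod.IsFlatOverAt (i ≫ π) M x := by
  haveI : Coh.IsQCoh ((Scheme.Modules.pushforward i).obj M) := Coherent.isQCoh_push i M
  have hsec : @Module.Flat Γ(T, V) Γ((Scheme.Modules.pushforward i).obj M, U) _ _
      (EGA43.QcohFlat.overModule π _ V U e) ↔
      @Module.Flat Γ(T, V) Γ(M, i ⁻¹ᵁ U) _ _
        (EGA43.QcohFlat.overModule (i ≫ π) M V (i ⁻¹ᵁ U) (fun z hz => e hz)) := by
    letI m₁ := EGA43.QcohFlat.overModule π ((Scheme.Modules.pushforward i).obj M) V U e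
    letI m₂ := EGA43.QcohFlat.overModule (i ≫ π) M V (i ⁻¹ᵁ U) (fun z hz => e hz)
    refine Module.Flat.equiv_iff (LinearEquiv.mk
      { toFun := fun m => (show Γ(M, i ⁻¹ᵁ U) from m), map_add' := fun _ _ => rfl, map_smul' := ?_ }
      (fun m => (show Γ((Scheme.Modules.pushforward i).obj M, U) from m)) (fun _ => rfl) (fun _ => rfl))
    intro r m
    show (i.app U) (π.appLE V U e r) • (show Γ(M, i ⁻¹ᵁ U) from m) =
      ((i ≫ π).appLE V (i ⁻¹ᵁ U) _ r) • (show Γ(M, i ⁻¹ᵁ U) from m)
    rw [← Scheme.Hom.appLE_comp_appLE i π V U (i ⁻¹ᵁ U) e le_rfl, Scheme.Hom.app_eq_appLE]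
    rfl
  rw [← Props12.flat_sections_iff π _ hV hU e, hsec,
    Props12.flat_sections_iff (i ≫ π) M hV (hU.preimage i) (fun z hz => e hz)]

/-- Flatness at a point is flatness over the scheme itself. -/
theorem isFlatAt_iff (M : X.Modules) (x : X) : FlatMod.IsFlatOverAt (𝟙 X) M x ↔ FlatMod.IsFlatAt M x := by
  have hm : FlatMod.moduleStalkOver (𝟙 X) M x = FlatMod.moduleStalk M x := Module.ext' _ _ fun r a => by
    show ((𝟙 X : X ⟶ X).stalkMap x).hom r • a = (show X.presheaf.stalk x from r) • a
    rw [Scheme.Hom.stalkMap_id]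
    rfl
  show @Module.Flat (X.presheaf.stalk x) (M.presheaf.stalk x) _ _ (FlatMod.moduleStalkOver (𝟙 X) M x) ↔ _
  rw [hm]
  rfl

theorem isFlatAt_open_iff (j : P ⟶ X) [IsOpenImmersion j] (M : P.Modules) (p : P) :
    FlatMod.IsFlatOverAt j M p ↔ FlatMod.IsFlatAt M p := by
  rw [← isFlatAt_iff]
  have h := DQCoh.isFlatOverAt_comp_iff (𝟙 P) j M p
  rwa [Category.id_comp] at h

theorem isFlatAt_of_iso {M N : X.Modules} (e : M ≅ N) (x : X) (h : FlatMod.IsFlatAt M x) :
    FlatMod.IsFlatAt N x :=
  (isFlatAt_iff N x).1 (EGA43.DvrCrit.isFlatOverAt_of_iso _ e x ((isFlatAt_iff M x).2 h))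

theorem isFlatAt_restrict_iff (j : P ⟶ X) [IsOpenImmersion j] (M : X.Modules) (p : P) :
    FlatMod.IsFlatAt ((Scheme.Modules.restrictFunctor j).obj M) p ↔ FlatMod.IsFlatAt M (j p) := by
  have h := Props12.isFlatOverAt_pullback_iff j (𝟙 X) M p
    (RingHom.Flat.of_bijective (ConcreteCategory.bijective_of_isIso (j.stalkMap p)))
  rw [Category.comp_id, isFlatAt_iff, isFlatAt_open_iff] at h
  rw [h]
  exact ⟨fun h' => isFlatAt_of_iso ((Scheme.Modules.restrictFunctorIsoPullback j).app M) p h',
    fun h' => isFlatAt_of_iso ((Scheme.Modules.restrictFunctorIsoPullback j).app M).symm p h'⟩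

/-- Flatness in short exact sequences. -/
theorem flat_ses {S : ShortComplex X.Modules} (hS : S.ShortExact) (x : X) (h₃ : FlatMod.IsFlatAt S.X₃ x) :
    (FlatMod.IsFlatAt S.X₁ x → FlatMod.IsFlatAt S.X₂ x) ∧
      (FlatMod.IsFlatAt S.X₂ x → FlatMod.IsFlatAt S.X₁ x) := by
  let T := S.map (DerSch.stalkFunctor X x)
  have hT : T.ShortExact := hS.map_of_exact _
  have hex := (ShortComplex.ShortExact.moduleCat_exact_iff_function_exact T).1 hT.exact
  have hs := (ModuleCat.epi_iff_surjective T.g).1 hT.epi_g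
  have hi := (ModuleCat.mono_iff_injective T.f).1 hT.mono_f
  haveI : Module.Flat (X.presheaf.stalk x) T.X₃ := h₃
  constructor <;> intro h
  · haveI : Module.Flat (X.presheaf.stalk x) T.X₁ := h
    exact FlatCxLib.flat_of_exact_mid T.f.hom T.g.hom hex hs hi
  · haveI : Module.Flat (X.presheaf.stalk x) T.X₂ := h
    exact FlatCxLib.flat_of_exact_left T.f.hom T.g.hom hex hs hi

/-- Direct images along affine morphisms preserve epimorphisms of quasi-coherent modules. -/
theorem epi_push {Y : Scheme.{u}} (j : Y ⟶ X) [IsAffineHom j] {M N : Y.Modules} [Coh.IsQCoh M] [Coh.IsQCoh N]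
    (q : M ⟶ N) [Epi q] : Epi ((Scheme.Modules.pushforward j).map q) := by
  refine Coherent.epi_of_locally_surjective _ fun W a y hy => ?_
  obtain ⟨W', hW', hyW', hle⟩ := exists_isAffineOpen_mem_and_subset hy
  have hsurj := Existence.app_surjective_of_epi q (hW'.preimage j)
  obtain ⟨b, hb⟩ := hsurj (resM ((Scheme.Modules.pushforward j).obj N) hle a)
  exact ⟨W', hle, hyW', b, hb⟩

/-- Every quasi-coherent module on an affine scheme is a quotient of a flat one. -/
theorem exists_flat_cover_spec (R : CommRingCat.{u}) (M : (Spec R).Modules) [Coh.IsQCoh M] :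
    ∃ (F : (Spec R).Modules) (q : F ⟶ M), Epi q ∧ Coh.IsQCoh F ∧ FlatMod.IsFlat F := by
  have key : ∀ N : ModuleCat.{u} R, ∃ (L : ModuleCat.{u} R) (p : L ⟶ N), Epi p ∧ Module.Flat R L :=
    fun N => ⟨ModuleCat.of R (N →₀ R), ModuleCat.ofHom (Finsupp.linearCombination R (id : N → N)),
      (ModuleCat.epi_iff_surjective _).2 (fun n => ⟨Finsupp.single n 1, by simp⟩),
      inferInstanceAs (Module.Flat R (N →₀ R))⟩
  obtain ⟨L, p, _, _⟩ := key ((moduleSpecΓFunctor (R := R)).obj M)
  haveI : (tilde.functor R).IsLeftAdjoint := tilde.adjunction.isLeftAdjoint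
  haveI : IsIso (M.fromTildeΓ) := inferInstance
  refine ⟨(tilde.functor R).obj L, (tilde.functor R).map p ≫ M.fromTildeΓ,
    epi_comp _ _, Props12.isQCoh_tilde _, ?_⟩
  exact DQCoh.isFlat_tilde _

/-- Quasi-coherent modules are quotients of flat quasi-coherent ones. -/
theorem exists_flat_qcoh_cover [CompactSpace X]
    (hsep : ∀ (U : X.Opens) (hU : IsAffineOpen U), IsAffineHom hU.fromSpec) (M : X.Modules) [Coh.IsQCoh M] :
    ∃ (F : X.Modules) (p : F ⟶ M), Epi p ∧ Coh.IsQCoh F ∧ FlatMod.IsFlat F := by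
  have key : ∀ l : List X.affineOpens, ∃ (F : X.Modules) (p : F ⟶ M), Epi p ∧ Coh.IsQCoh F ∧
      ∀ x : X, (∃ V ∈ l, x ∈ V.1) → FlatMod.IsFlatAt F x := by
    intro l
    induction l with
    | nil => exact ⟨M, 𝟙 M, inferInstance, inferInstance, fun x ⟨V, hV, _⟩ => (List.not_mem_nil hV).elim⟩
    | cons U l ih =>
      obtain ⟨N, p, _, _, hN⟩ := ih
      let j := U.2.fromSpec
      haveI : IsOpenImmersion j := inferInstanceAs (IsOpenImmersion U.2.fromSpec)
      haveI : IsAffineHom j := hsep U.1 U.2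
      let R := Scheme.Modules.restrictFunctor j
      let adj := Scheme.Modules.restrictAdjunction j
      haveI : Coh.IsQCoh (R.obj N) := Scheme.Modules.isQuasicoherent_restrictFunctor j N
      obtain ⟨F₀, q, _, _, hF₀⟩ := exists_flat_cover_spec Γ(X, U.1) (R.obj N)
      let J := Scheme.Modules.pushforward j
      haveI : Coh.IsQCoh (J.obj F₀) := Coherent.isQCoh_push j F₀
      haveI : Coh.IsQCoh (J.obj (R.obj N)) := Coherent.isQCoh_push j (R.obj N)
      haveI := epi_push j q
      let N' := pullback (adj.unit.app N) (J.map q)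
      have hsq : IsPullback (pullback.fst (adj.unit.app N) (J.map q)) (pullback.snd _ _) (adj.unit.app N) (J.map q) :=
        IsPullback.of_hasPullback _ _
      haveI : Epi (pullback.fst (adj.unit.app N) (J.map q)) := Abelian.epi_pullback_of_epi_g _ _
      have hN'q : Coh.IsQCoh N' := by
        haveI : Coh.IsQCoh ((𝟭 X.Modules).obj N ⊞ J.obj F₀) := isQCoh_biprod N (J.obj F₀)
        haveI : Coh.IsQCoh ((R ⋙ J).obj N) := inferInstanceAs (Coh.IsQCoh (J.obj (R.obj N)))
        exact isQCoh_of_iso (h := isQCoh_kernel (biprod.desc (adj.unit.app N) (-(J.map q)))) ((kernelIsKernel (biprod.desc (adj.unit.app N) (-(J.map q)))).conePointUniqueUpToIso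
            (Abelian.PullbackToBiproductIsKernel.isLimitPullbackToBiproduct (adj.unit.app N) (J.map q)))
      refine ⟨N', pullback.fst _ _ ≫ p, epi_comp _ _, hN'q, fun x hx => ?_⟩
      by_cases hxU : x ∈ U.1
      · obtain ⟨u₀, rfl⟩ : x ∈ Set.range j := U.2.range_fromSpec.ge hxU
        haveI : IsIso (R.map (adj.unit.app N)) := by
          haveI : IsIso (adj.counit.app (R.obj N)) := inferInstance
          haveI : IsIso (R.map (adj.unit.app N) ≫ adj.counit.app (R.obj N)) := by
            have h := adj.left_triangle_components N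
            erw [h]; infer_instance
          exact IsIso.of_isIso_comp_right _ (adj.counit.app (R.obj N))
        haveI : PreservesFiniteLimits R := DCat.PullPerf.preservesFiniteLimits_restrict j
        haveI : IsIso (R.map (pullback.snd (adj.unit.app N) (J.map q))) := (hsq.map R).isIso_snd_of_isIso
        exact (isFlatAt_restrict_iff j N' u₀).1 (isFlatAt_of_iso
          ((asIso (R.map (pullback.snd (adj.unit.app N) (J.map q)))) ≪≫ asIso (adj.counit.app F₀)).symm
          u₀ (hF₀ u₀))
      · obtain ⟨V, hV, hxV⟩ := hx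
        have hVl : V ∈ l := by
          rcases List.mem_cons.1 hV with rfl | h
          · exact absurd hxV hxU
          · exact h
        let K := kernel q
        haveI : Coh.IsQCoh K := isQCoh_kernel q
        have hK : ∀ u₁ : Spec Γ(X, U.1), j u₁ ∈ V.1 → FlatMod.IsFlatAt K u₁ := fun u₁ hu₁ => by
          let S₀ : ShortComplex _ := ShortComplex.mk (kernel.ι q) q (kernel.condition q)
          have hS₀ : S₀.ShortExact := { exact := S₀.exact_of_f_is_kernel (kernelIsKernel q) }
          exact (flat_ses hS₀ u₁ ((isFlatAt_restrict_iff j N u₁).2 (hN _ ⟨V, hVl, hu₁⟩))).2 (hF₀ u₁)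
        have hJK : FlatMod.IsFlatAt (J.obj K) x := by
          rw [← isFlatAt_iff]
          refine (flatOver_push_iff j (𝟙 X) K V.1 V.1 V.2 V.2 (le_of_eq rfl)).2 (fun u₁ hu₁ => ?_) x hxV
          rw [Category.comp_id, isFlatAt_open_iff]
          exact hK u₁ hu₁
        haveI : PreservesFiniteLimits J :=
          haveI := (Scheme.Modules.pullbackPushforwardAdjunction j).rightAdjoint_preservesLimits
          inferInstance
        let k := kernel (pullback.fst (adj.unit.app N) (J.map q))
        haveI := isIso_kernel_map_of_isPullback hsq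
        let e : k ≅ J.obj K :=
          (asIso (kernel.map (pullback.fst (adj.unit.app N) (J.map q)) (J.map q) (pullback.snd _ _) (adj.unit.app N)
            pullback.condition)) ≪≫ (PreservesKernel.iso J q).symm
        let S₁ : ShortComplex X.Modules := ShortComplex.mk (kernel.ι (pullback.fst (adj.unit.app N) (J.map q)))
          (pullback.fst (adj.unit.app N) (J.map q)) (kernel.condition _)
        have hS₁ : S₁.ShortExact := { exact := S₁.exact_of_f_is_kernel (kernelIsKernel _) }
        exact (flat_ses hS₁ x (hN x ⟨V, hVl, hxV⟩)).1 (isFlatAt_of_iso e.symm x hJK)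
  obtain ⟨t, ht⟩ := isCompact_univ.elim_finite_subcover (fun V : X.affineOpens => (V.1 : Set X)) (fun V => V.1.2)
    (fun x _ => by
      obtain ⟨W, hW, hxW, -⟩ := exists_isAffineOpen_mem_and_subset (x := x) (U := (⊤ : X.Opens)) trivial
      exact Set.mem_iUnion.2 ⟨⟨W, hW⟩, hxW⟩)
  obtain ⟨F, p, hp, hF, hflat⟩ := key t.toList
  refine ⟨F, p, hp, hF, fun x => hflat x ?_⟩
  obtain ⟨V, hV, hxV⟩ := Set.mem_iUnion₂.1 (ht (Set.mem_univ x))
  exact ⟨V, Finset.mem_toList.2 hV, hxV⟩

end Groth.Agent.DQCoh.FlatQCoh17
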