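import Groth.Agent.DQCoh.BettiRank
import Groth.Agent.KoszPn17.TwistGen
import Groth.Agent.RefHullLib.Restrict
import Groth.Agent.H8Lim.ModFPDescent
import Groth.Agent.Props12.FinLocFree
import Groth.Agent.DCat.SuppOpen

/-!
# The locus where the cohomology of a perfect object is finite locally free
-/

set_option autoImplicit false
set_option backward.isDefEq.respectTransparency false
set_option backward.isDefEq.respectTransparency.types false
set_option linter.style.haveILetI false

universe u

open CategoryTheory CategoryTheory.Limits AlgebraicGeometry Opposite TopologicalSpace HomologicalComplex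
open Groth.Agent Groth.Agent.Coherent Groth.Agent.DCat

namespace Groth.Agent.DQCoh.FreeLocus17

attribute [local instance] HasDerivedCategory.standard
attribute [-instance] Int.instConditionallyCompleteLinearOrder

theorem free_stalk_iso {X : Scheme.{u}} {M N : X.Modules} (e : M ≅ N) (x : X)
    (h : Module.Free (X.presheaf.stalk x) (M.presheaf.stalk x)) :
    Module.Free (X.presheaf.stalk x) (N.presheaf.stalk x) :=
  haveI := h
  let l : M.presheaf.stalk x ≃ₗ[X.presheaf.stalk x] N.presheaf.stalk x :=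
    ((DerSch.stalkFunctor X x).mapIso e).toLinearEquiv
  Module.Free.of_equiv l

theorem isFT_of_finLocFree {X : Scheme.{u}} {M : X.Modules} [Coh.IsQCoh M] (hM : FlatMod.IsFinLocFree M) :
    CohB1.IsFT M :=
  have : SheafOfModules.IsFinitePresentation.{u} (R := X.ringCatSheaf) M := Props12.isFP_of_isFinLocFree _ hM
  inferInstanceAs (SheafOfModules.IsFiniteType.{u} (R := X.ringCatSheaf) M)

theorem finite_of_semilinear {R S : Type u} [CommRing R] [CommRing S] (φ : R ≃+* S) {M N : Type u} [AddCommGroup M]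
    [Module R M] [AddCommGroup N] [Module S N] (e : M ≃+ N) (he : ∀ (r : R) (m : M), e (r • m) = φ r • e m)
    (h : Module.Finite S N) : Module.Finite R M := by
  haveI : RingHomSurjective φ.symm.toRingHom := ⟨φ.symm.surjective⟩
  let f : N →ₛₗ[φ.symm.toRingHom] M :=
    { toFun := e.symm
      map_add' := map_add e.symm
      map_smul' := fun s n => e.injective (by simp [he]) }
  exact Module.Finite.of_surjective f e.symm.surjective

theorem finLocFree_restrict {X W : Scheme.{u}} (k : W ⟶ X) [IsOpenImmersion k] {M : X.Modules}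
    (hM : FlatMod.IsFinLocFree M) : FlatMod.IsFinLocFree ((Scheme.Modules.restrictFunctor k).obj M) :=
  PerfTensor.isFinLocFree_of_iso ((Scheme.Modules.restrictFunctorIsoPullback k).app M).symm
    (PullPerf.isFinLocFree_pullback k hM)

theorem finLocFree_restrict_comp {X W W' : Scheme.{u}} (h : W' ⟶ W) [IsOpenImmersion h] (k : W ⟶ X)
    [IsOpenImmersion k] {M : X.Modules} (hM : FlatMod.IsFinLocFree ((Scheme.Modules.restrictFunctor k).obj M)) :
    FlatMod.IsFinLocFree ((Scheme.Modules.restrictFunctor (h ≫ k)).obj M) :=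
  PerfTensor.isFinLocFree_of_iso ((Scheme.Modules.restrictFunctorComp h k).app M).symm (finLocFree_restrict h hM)

/-- If the cokernel is finite locally free, so is the kernel. -/
theorem finLocFree_kernel_of_cokernel {X : Scheme.{u}} {A B Q : X.Modules} (f : A ⟶ B) (π : B ⟶ Q) (w : f ≫ π = 0)
    (hex : (ShortComplex.mk f π w).Exact) [Epi π] (hA : FlatMod.IsFinLocFree A) (hB : FlatMod.IsFinLocFree B)
    (hQ : FlatMod.IsFinLocFree Q) : FlatMod.IsFinLocFree (kernel f) := by
  have hI := KoszPn17.isFinLocFree_kernel π hB hQ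
  haveI : Epi (kernel.lift π f w) := hex.epi_kernelLift
  exact PerfTensor.isFinLocFree_of_iso (kernelCompMono (kernel.lift π f w) (kernel.ι π)).symm
    (KoszPn17.isFinLocFree_kernel (kernel.lift π f w) hA hI) |> fun h =>
      PerfTensor.isFinLocFree_of_iso (kernelIsoOfEq (kernel.lift_ι π f w)) h

variable {X : Scheme.{u}}

/-- Where all cohomology stalks of a strictly perfect complex are free, the cohomology is locally free nearby. -/
theorem exists_nhd (C : CochainComplex X.Modules ℤ) (hC : DCoh.IsStrictlyPerfect C) (x : X)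
    (hx : ∀ i, Module.Free (X.presheaf.stalk x) ((C.homology i).presheaf.stalk x)) :
    ∃ (W : Scheme.{u}) (k : W ⟶ X) (_ : IsOpenImmersion k), x ∈ k.opensRange ∧
      ∀ i, FlatMod.IsFinLocFree ((Scheme.Modules.restrictFunctor k).obj (C.homology i)) := by
  obtain ⟨⟨a, b, hab⟩, hf⟩ := hC
  have key : ∀ n : ℕ, ∀ j : ℤ, b + 1 - n ≤ j → ∃ (W : Scheme.{u}) (k : W ⟶ X) (_ : IsOpenImmersion k),
      x ∈ k.opensRange ∧ FlatMod.IsFinLocFree ((Scheme.Modules.restrictFunctor k).obj (C.cycles j)) ∧
        ∀ i, j < i → FlatMod.IsFinLocFree ((Scheme.Modules.restrictFunctor k).obj (C.homology i)) := by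
    intro n
    induction n with
    | zero =>
      intro j hj
      have hz : IsZero (C.cycles j) := (IsZero.iff_id_eq_zero _).2 (by
        rw [← cancel_mono (C.iCycles j)]
        exact (hab j (Or.inr (by omega))).eq_of_tgt _ _)
      refine ⟨X, 𝟙 X, inferInstance, ⟨x, rfl⟩, PerfTensor.isFinLocFree_of_isZero ((Scheme.Modules.restrictFunctor _).map_isZero hz),
        fun i hi => PerfTensor.isFinLocFree_of_isZero ((Scheme.Modules.restrictFunctor _).map_isZero ?_)⟩
      exact ((C.exactAt_iff_isZero_homology i).1 (HomologicalComplex.exactAt_iff _ _ |>.2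
        (ShortComplex.exact_of_isZero_X₂ _ (hab i (Or.inr (by omega))))))
    | succ n ih =>
      intro j hj
      obtain ⟨W, k, _, ⟨y, rfl⟩, hZ, hH⟩ := ih (j + 1) (by push_cast at hj ⊢; omega)
      let G := Scheme.Modules.restrictFunctor k
      haveI := PullPerf.preservesFiniteLimits_restrict k
      let S := ShortComplex.mk (C.toCycles j (j + 1)) (C.homologyπ (j + 1)) (C.toCycles_comp_homologyπ j (j + 1))
      have hS : S.Exact := ShortComplex.exact_of_g_is_cokernel _ (C.homologyIsCokernel j (j + 1) (by simp))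
      haveI : Coh.IsQCoh (G.obj (C.X j)) := PullPerf.isQCoh_of_finLocFree (finLocFree_restrict k (hf j))
      haveI : Coh.IsQCoh (G.obj (C.cycles (j + 1))) := PullPerf.isQCoh_of_finLocFree hZ
      have hGS : (S.map G).Exact := hS.map G
      haveI : Epi (G.map (C.homologyπ (j + 1))) := inferInstance
      haveI : Epi (S.map G).g := ‹Epi (G.map (C.homologyπ (j + 1)))›
      let e : cokernel (G.map (C.toCycles j (j + 1))) ≅ G.obj (C.homology (j + 1)) :=
        (cokernelIsCokernel _).coconePointUniqueUpToIso (hGS.gIsCokernel)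
      haveI : Coh.IsQCoh (cokernel (G.map (C.toCycles j (j + 1)))) := isQCoh_cokernel _
      have hFP : CohB1.IsFP (cokernel (G.map (C.toCycles j (j + 1)))) :=
        H8Lim.isFP_cokernel _ (isFT_of_finLocFree (finLocFree_restrict k (hf j))) (Props12.isFP_of_isFinLocFree _ hZ)
      obtain ⟨U, r, hyU, ⟨eU₀⟩⟩ := Props12.exists_nhd_free _ hFP y
        (free_stalk_iso e.symm y ((RefHullLib.free_stalk_restrict_iff k (C.homology (j + 1)) y).2 (hx (j + 1))))
      let eU : (Scheme.Modules.restrictFunctor U.ι).obj (G.obj (C.homology (j + 1))) ≅ FlatMod.freeMod U.toScheme r :=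
        (Scheme.Modules.restrictFunctor U.ι).mapIso e.symm ≪≫ eU₀
      let k' := U.ι ≫ k
      let G' := Scheme.Modules.restrictFunctor k'
      haveI := PullPerf.preservesFiniteLimits_restrict k'
      have hHj : FlatMod.IsFinLocFree (G'.obj (C.homology (j + 1))) := by
        refine PerfTensor.isFinLocFree_of_iso ((Scheme.Modules.restrictFunctorComp U.ι k).app _).symm ?_
        refine PerfTensor.isFinLocFree_of_iso eU.symm ?_
        exact fun z => ⟨⊤, r, trivial, ⟨(Scheme.Modules.restrictFunctorIsoPullback _).app _ ≪≫ (PerfTensor.nonempty_pullback_free _ r).some⟩⟩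
      haveI : Epi (G'.map (C.homologyπ (j + 1))) := inferInstance
      have hK := finLocFree_kernel_of_cokernel (G'.map (C.toCycles j (j + 1))) (G'.map (C.homologyπ (j + 1)))
        (by rw [← G'.map_comp, C.toCycles_comp_homologyπ, G'.map_zero]) (hS.map G') (finLocFree_restrict k' (hf j))
        (finLocFree_restrict_comp U.ι k hZ) hHj
      let eZ : kernel (C.toCycles j (j + 1)) ≅ C.cycles j :=
        (kernelCompMono (C.toCycles j (j + 1)) (C.iCycles (j + 1))).symm ≪≫
          kernelIsoOfEq (C.toCycles_i j (j + 1)) ≪≫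
          (kernelIsKernel _).conePointUniqueUpToIso (C.cyclesIsKernel j (j + 1) (by simp))
      refine ⟨U, k', inferInstance, ⟨⟨y, hyU⟩, rfl⟩,
        PerfTensor.isFinLocFree_of_iso ((PreservesKernel.iso G' _).symm ≪≫ G'.mapIso eZ) hK, fun i hi => ?_⟩
      rcases eq_or_lt_of_le (show j + 1 ≤ i by omega) with rfl | h
      · exact hHj
      · exact finLocFree_restrict_comp U.ι k (hH i h)
  obtain ⟨W, k, hk, hxk, -, hH⟩ := key (b + 2 - a).toNat (a - 1) (by omega)
  refine ⟨W, k, hk, hxk, fun i => ?_⟩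
  by_cases hi : a - 1 < i
  · exact hH i hi
  · exact PerfTensor.isFinLocFree_of_isZero ((Scheme.Modules.restrictFunctor k).map_isZero
      ((C.exactAt_iff_isZero_homology i).1 (HomologicalComplex.exactAt_iff _ _ |>.2
        (ShortComplex.exact_of_isZero_X₂ _ (hab i (Or.inl (by omega)))))))

theorem mem_of_finLocFree {W : Scheme.{u}} (k : W ⟶ X) [IsOpenImmersion k] (M : X.Modules)
    (h : FlatMod.IsFinLocFree ((Scheme.Modules.restrictFunctor k).obj M)) (y : W) :
    Module.Free (X.presheaf.stalk (k y)) (M.presheaf.stalk (k y)) ∧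
      Module.Finite (X.presheaf.stalk (k y)) (M.presheaf.stalk (k y)) := by
  haveI := PullPerf.isQCoh_of_finLocFree h
  obtain ⟨φ, e, he, -, -⟩ := RefHullLib.exists_semilinear_restrict k M y
  have hfree := Props12.free_stalk_of_isFinLocFree _ h y
  refine ⟨(RefHullLib.free_stalk_restrict_iff k M y).1 hfree, ?_⟩
  exact finite_of_semilinear φ e he (Props12.finite_stalk_of_isFT _ (isFT_of_finLocFree h) y)

/-- The locus where all cohomology sheaves of a perfect object have free stalks. -/
theorem exists_locus (E : DCoh.D X) (hE : DCoh.IsPerfect E) :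
    ∃ U : X.Opens,
      (U : Set X) = {x : X | ∀ i : ℤ, Module.Free (X.presheaf.stalk x) ((DCoh.HD E i).presheaf.stalk x) ∧
        Module.Finite (X.presheaf.stalk x) ((DCoh.HD E i).presheaf.stalk x)} ∧
      (∀ i : ℤ, FlatMod.IsFinLocFree ((DCoh.HD E i).restrict U.ι)) ∧
      ∀ W : X.Opens, (∀ i : ℤ, FlatMod.IsFinLocFree ((DCoh.HD E i).restrict W.ι)) → W ≤ U := by
  let S : Set X := {x : X | ∀ i : ℤ, Module.Free (X.presheaf.stalk x) ((DCoh.HD E i).presheaf.stalk x) ∧
    Module.Finite (X.presheaf.stalk x) ((DCoh.HD E i).presheaf.stalk x)}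
  have key : ∀ x ∈ S, ∃ (W : Scheme.{u}) (k : W ⟶ X) (_ : IsOpenImmersion k), x ∈ k.opensRange ∧
      ∀ i, FlatMod.IsFinLocFree ((Scheme.Modules.restrictFunctor k).obj (DCoh.HD E i)) := by
    intro x hx
    obtain ⟨W, g, _, ⟨y, rfl⟩, C, hC, ⟨c⟩⟩ := (PerfLocal.isPerfect_iff E).1 hE x
    let ec : ∀ i, C.homology i ≅ (Scheme.Modules.restrictFunctor g).obj (DCoh.HD E i) := fun i =>
      ((DerivedCategory.homologyFunctorFactors W.Modules i).app C).symm ≪≫
        (DerivedCategory.homologyFunctor W.Modules i).mapIso c.symm ≪≫ SuppOpen.hdMapIso _ E i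
    obtain ⟨W', k, _, hyk, hH⟩ := exists_nhd C hC y fun i =>
      free_stalk_iso (ec i).symm y ((RefHullLib.free_stalk_restrict_iff g _ y).2 (hx i).1)
    obtain ⟨z, rfl⟩ := hyk
    exact ⟨W', k ≫ g, inferInstance, ⟨z, rfl⟩, fun i =>
      PerfTensor.isFinLocFree_of_iso ((Scheme.Modules.restrictFunctor k).mapIso (ec i) ≪≫
        ((Scheme.Modules.restrictFunctorComp k g).app _).symm) (hH i)⟩
  have hopen : IsOpen S := by
    refine isOpen_iff_forall_mem_open.2 fun x hx => ?_
    obtain ⟨W, k, _, hxk, hH⟩ := key x hx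
    exact ⟨k.opensRange, fun z ⟨y, hy⟩ i => hy ▸ mem_of_finLocFree k _ (hH i) y, k.opensRange.2, hxk⟩
  let U : X.Opens := ⟨S, hopen⟩
  refine ⟨U, rfl, fun i => ?_, fun V hV z hz i => mem_of_finLocFree V.ι _ (hV i) ⟨z, hz⟩⟩
  refine isFinLocFree_of_local _ fun w => ?_
  obtain ⟨W, k, _, ⟨y, hy⟩, hH⟩ := key (U.ι w) w.2
  have hle : Set.range k ⊆ Set.range U.ι := fun z ⟨y, hy⟩ => by
    rw [Scheme.Opens.range_ι]
    exact fun i => hy ▸ mem_of_finLocFree k _ (hH i) y
  let l : W ⟶ U := IsOpenImmersion.lift U.ι k hle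
  have hl : l ≫ U.ι = k := IsOpenImmersion.lift_fac _ _ _
  haveI : IsOpenImmersion (l ≫ U.ι) := by rw [hl]; infer_instance
  haveI : IsOpenImmersion l := IsOpenImmersion.of_comp l U.ι
  refine ⟨W, l, inferInstance, ⟨y, ?_⟩, ?_⟩
  · refine U.ι.injective ?_
    exact (congr($(hl) y)).trans hy
  · exact PerfTensor.isFinLocFree_of_iso ((Scheme.Modules.restrictFunctorCongr hl.symm).app _ ≪≫
      (Scheme.Modules.restrictFunctorComp l U.ι).app _) (hH i)

end Groth.Agent.DQCoh.FreeLocus17
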