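import Mathlib.Algebra.Homology.ShortComplex.PreservesHomology
import Mathlib.Algebra.Homology.HomotopyCategory
import Mathlib.CategoryTheory.Preadditive.Injective.Basic
import Mathlib.Algebra.Homology.Embedding.CochainComplex

/-!
# Complexes of relatively injective objects which are exact in low degrees

Such complexes split in low degrees, so their first cohomology commutes with left exact additive functors.
-/

set_option autoImplicit false
set_option backward.isDefEq.respectTransparency false
set_option linter.style.haveILetI false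
set_option linter.unusedSectionVars false

universe v v' u u'

open CategoryTheory CategoryTheory.Limits

namespace Groth.Agent.RelInjSplit17

variable {C : Type u} [Category.{v} C] [Abelian C] (P : C → Prop)

/-- `Q` receives extensions along monomorphisms between objects satisfying `P`. -/
def RelInj (Q : C) : Prop :=
  ∀ ⦃A B : C⦄ (m : A ⟶ B) [Mono m], P A → P B → ∀ f : A ⟶ Q, ∃ g : B ⟶ Q, m ≫ g = f

theorem relInj_of_retract {Q Q' : C} (i : Q' ⟶ Q) (r : Q ⟶ Q') (h : i ≫ r = 𝟙 Q') (hQ : RelInj P Q) :
    RelInj P Q' := fun A B m _ hA hB f => by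
  obtain ⟨g, hg⟩ := hQ m hA hB (f ≫ i)
  exact ⟨g ≫ r, by rw [reassoc_of% hg, h, Category.comp_id]⟩

variable (hP : ∀ ⦃A B : C⦄ (m : A ⟶ B) [Mono m], P B → P A)

include hP in
/-- A morphism with relatively injective kernel and source has a generalised inverse. -/
theorem exists_pinv {Q Z : C} (c : Q ⟶ Z) (hQP : P Q) (hZP : P Z) (hQ : RelInj P Q)
    (hK : RelInj P (kernel c)) : ∃ t : Z ⟶ Q, c ≫ t ≫ c = c := by
  obtain ⟨r, hr⟩ := hK (kernel.ι c) (hP (kernel.ι c) hQP) hQP (𝟙 _)
  let p := Abelian.factorThruImage c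
  have hkp : kernel.ι c ≫ p = 0 := by
    rw [← cancel_mono (Abelian.image.ι c), Category.assoc, Abelian.image.fac, zero_comp, kernel.condition]
  let e : Q ⟶ Q := 𝟙 Q - r ≫ kernel.ι c
  have hs : ∃ s : Abelian.image c ⟶ Q, p ≫ s = e := by
    let S : ShortComplex C := ShortComplex.mk (kernel.ι c) p hkp
    haveI : Epi S.g := inferInstanceAs (Epi (Abelian.factorThruImage c))
    have hS : S.Exact := by
      refine ShortComplex.exact_of_f_is_kernel _ (KernelFork.IsLimit.ofι (kernel.ι c) hkp
        (fun g hg => kernel.lift c g ?_) (fun g hg => kernel.lift_ι _ _ _) fun g hg m hm => ?_)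
      · rw [← Abelian.image.fac c, ← Category.assoc, show g ≫ Abelian.factorThruImage c = 0 from hg, zero_comp]
      · exact equalizer.hom_ext (hm.trans (kernel.lift_ι _ _ _).symm)
    refine ⟨hS.desc e ?_, hS.g_desc e _⟩
    show kernel.ι c ≫ e = 0
    rw [Preadditive.comp_sub, Category.comp_id, reassoc_of% hr, sub_self]
  obtain ⟨s, hs⟩ := hs
  obtain ⟨t, ht⟩ := hQ (Abelian.image.ι c) (hP (Abelian.image.ι c) hZP) hZP s
  refine ⟨t, ?_⟩
  calc c ≫ t ≫ c = p ≫ (Abelian.image.ι c ≫ t) ≫ c := by
        simp only [p, ← Category.assoc, Abelian.image.fac]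
    _ = (p ≫ s) ≫ c := by rw [ht, Category.assoc]
    _ = c := by rw [hs, Preadditive.sub_comp, Category.id_comp, Category.assoc, kernel.condition,
                  comp_zero, sub_zero]

variable (K : CochainComplex C ℤ) (hKP : ∀ n, P (K.X n)) (hKI : ∀ n, RelInj P (K.X n))

include hP hKP hKI in
/-- Cycles of a bounded below exact complex of relatively injective objects are relatively injective. -/
theorem relInj_cycles (lo m : ℤ) [K.IsStrictlyGE lo] (hex : ∀ n, n < m → K.ExactAt n) :
    ∀ n, n ≤ m - 1 → RelInj P (K.cycles n) := by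
  suffices h : ∀ (j : ℕ) (n : ℤ), n ≤ m - 1 → n - lo < (j : ℤ) → RelInj P (K.cycles n) from
    fun n hn => h ((n - lo).toNat + 1) n hn (by omega)
  intro j
  induction j with
  | zero =>
    intro n _ hn A B mm _ _ _ f
    refine ⟨0, ?_⟩
    have h0 : K.iCycles n = 0 := (K.isZero_of_isStrictlyGE lo n (by omega)).eq_of_tgt _ _
    rw [← cancel_mono (K.iCycles n)]
    simp [h0]
  | succ j ih =>
    intro n hn hj
    by_cases hlt : n < lo
    · intro A B mm _ _ _ f
      refine ⟨0, ?_⟩
      have h0 : K.iCycles n = 0 := (K.isZero_of_isStrictlyGE lo n hlt).eq_of_tgt _ _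
      rw [← cancel_mono (K.iCycles n)]
      simp [h0]
    have hprev := ih (n - 1) (by omega) (by omega)
    let c := K.toCycles (n - 1) n
    have hk : RelInj P (kernel c) := by
      refine relInj_of_retract P (kernel.lift (K.d (n - 1) n) (kernel.ι c) ?_ ≫
        (K.cyclesIsKernel (n - 1) n (by simp)).lift (KernelFork.ofι (kernel.ι (K.d (n - 1) n)) (kernel.condition _)))
        (kernel.lift c (K.iCycles (n - 1)) ?_) ?_ hprev
      · rw [← K.toCycles_i (n - 1) n, kernel.condition_assoc, zero_comp]
      · rw [← cancel_mono (K.iCycles n), Category.assoc, K.toCycles_i, K.iCycles_d, zero_comp]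
      · apply equalizer.hom_ext
        simp only [Category.id_comp, Category.assoc]
        erw [kernel.lift_ι, Fork.IsLimit.lift_ι (K.cyclesIsKernel (n - 1) n (by simp))]
        exact kernel.lift_ι _ _ _
    obtain ⟨t, ht⟩ := exists_pinv P hP c (hKP _) (hP (K.iCycles n) (hKP n)) (hKI _) hk
    haveI : Epi c := Preadditive.epi_of_cancel_zero c fun g hg => by
      let hco := K.homologyIsCokernel (n - 1) n (by simp)
      have e := hco.fac (CokernelCofork.ofπ g hg) WalkingParallelPair.one
      refine e.symm.trans ?_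
      rw [((K.exactAt_iff_isZero_homology n).1 (hex n (by omega))).eq_of_src (hco.desc _) 0, comp_zero]
    refine relInj_of_retract P t c ?_ (hKI _)
    rw [← cancel_epi c, ht, Category.comp_id]

variable {D : Type u'} [Category.{v'} D] [Abelian D]

include hP hKP hKI in
/-- A left exact functor commutes with cohomology up to the first non-exact degree. -/
theorem nonempty_homology_map_iso (F : C ⥤ D) [F.Additive] [PreservesFiniteLimits F] (lo m : ℤ)
    [K.IsStrictlyGE lo] (hex : ∀ n, n < m → K.ExactAt n) (n : ℤ) (hn : n ≤ m) :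
    Nonempty (((F.mapHomologicalComplex (ComplexShape.up ℤ)).obj K).homology n ≅ F.obj (K.homology n)) := by
  let c := K.toCycles (n - 1) n
  have hk : RelInj P (kernel c) := by
    refine relInj_of_retract P (kernel.lift (K.d (n - 1) n) (kernel.ι c) ?_ ≫
      (K.cyclesIsKernel (n - 1) n (by simp)).lift (KernelFork.ofι (kernel.ι (K.d (n - 1) n)) (kernel.condition _)))
      (kernel.lift c (K.iCycles (n - 1)) ?_) ?_
      (relInj_cycles P hP K hKP hKI lo m hex (n - 1) (by omega))
    · rw [← K.toCycles_i (n - 1) n, kernel.condition_assoc, zero_comp]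
    · rw [← cancel_mono (K.iCycles n), Category.assoc, K.toCycles_i, K.iCycles_d, zero_comp]
    · apply equalizer.hom_ext
      simp only [Category.id_comp, Category.assoc]
      erw [kernel.lift_ι, Fork.IsLimit.lift_ι (K.cyclesIsKernel (n - 1) n (by simp))]
      exact kernel.lift_ι _ _ _
  obtain ⟨t, ht⟩ := exists_pinv P hP c (hKP _) (hP (K.iCycles n) (hKP n)) (hKI _) hk
  let S := K.sc' (n - 1) n (n + 1)
  -- a left homology data of the image complex
  have hker : IsLimit (KernelFork.ofι (F.map (K.iCycles n))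
      (show F.map (K.iCycles n) ≫ F.map (K.d n (n + 1)) = 0 by rw [← F.map_comp, K.iCycles_d, F.map_zero])) :=
    KernelFork.mapIsLimit _ (K.cyclesIsKernel n (n + 1) (by simp)) F
  have hcπ : c ≫ K.homologyπ n = 0 := K.toCycles_comp_homologyπ _ _
  let hco := K.homologyIsCokernel (n - 1) n (by simp)
  obtain ⟨σ, hσ⟩ : ∃ σ : K.homology n ⟶ K.cycles n, K.homologyπ n ≫ σ = 𝟙 _ - t ≫ c :=
    ⟨hco.desc (CokernelCofork.ofπ (𝟙 (K.cycles n) - t ≫ c) (by
      rw [Preadditive.comp_sub, Category.comp_id]; exact sub_eq_zero.2 ht.symm)),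
      hco.fac _ WalkingParallelPair.one⟩
  have hπσ : σ ≫ K.homologyπ n = 𝟙 _ := by
    rw [← cancel_epi (K.homologyπ n), reassoc_of% hσ, Preadditive.sub_comp, Category.id_comp,
      Category.assoc, hcπ, comp_zero, sub_zero, Category.comp_id]
  have hFπ : F.map (K.toCycles (n - 1) n) ≫ F.map (K.homologyπ n) = 0 := by
    rw [← F.map_comp, hcπ, F.map_zero]
  let L := (F.mapHomologicalComplex (ComplexShape.up ℤ)).obj K
  have hf : hker.lift (KernelFork.ofι (F.map (K.d (n - 1) n))
      (show F.map (K.d (n - 1) n) ≫ F.map (K.d n (n + 1)) = 0 by rw [← F.map_comp, K.d_comp_d, F.map_zero])) =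
      F.map c := by
    apply Fork.IsLimit.hom_ext hker
    rw [Fork.IsLimit.lift_ι]
    show F.map (K.d (n - 1) n) = F.map c ≫ F.map (K.iCycles n)
    rw [← F.map_comp, K.toCycles_i]
  have hfac : ∀ {Z : D} (g : F.obj (K.cycles n) ⟶ Z), F.map c ≫ g = 0 →
      F.map (K.homologyπ n) ≫ F.map σ ≫ g = g := fun g hg => by
    rw [← Category.assoc, ← F.map_comp, hσ, F.map_sub, CategoryTheory.Functor.map_id, F.map_comp,
      Preadditive.sub_comp, Category.id_comp, Category.assoc, hg, comp_zero, sub_zero]
  let h : (L.sc' (n - 1) n (n + 1)).LeftHomologyData :=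
    { K := F.obj (K.cycles n)
      H := F.obj (K.homology n)
      i := F.map (K.iCycles n)
      π := F.map (K.homologyπ n)
      wi := (KernelFork.condition (KernelFork.ofι (F.map (K.iCycles n))
        (show F.map (K.iCycles n) ≫ F.map (K.d n (n + 1)) = 0 by rw [← F.map_comp, K.iCycles_d, F.map_zero])))
      hi := hker
      wπ := (congrArg (· ≫ F.map (K.homologyπ n)) hf).trans hFπ
      hπ := IsColimit.ofIsoColimit (by
        exact (show IsColimit (CokernelCofork.ofπ (f := _) (F.map (K.homologyπ n))
          ((congrArg (· ≫ F.map (K.homologyπ n)) hf).trans hFπ)) from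
          CokernelCofork.IsColimit.ofπ _ _ (fun g _ => F.map σ ≫ g)
            (fun g hg => hfac g ((congrArg (· ≫ g) hf).symm.trans hg))
            (fun g hg m' hm' => by
              rw [← hm', ← Category.assoc, ← F.map_comp, hπσ, CategoryTheory.Functor.map_id, Category.id_comp])))
        (Iso.refl _) }
  exact ⟨ShortComplex.homologyMapIso (L.isoSc' (n - 1) n (n + 1) (by simp) (by simp)) ≪≫ h.homologyIso⟩

end Groth.Agent.RelInjSplit17
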