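import Groth.Prelude.Def_CxOX
import Groth.Agent.DQCoh.RelInjSplit17

/-!
# Sheaves supported off an open immersion, and `Γ_Z` of injective modules
-/

set_option autoImplicit false
set_option backward.isDefEq.respectTransparency false
set_option linter.style.haveILetI false

universe u

open CategoryTheory CategoryTheory.Limits AlgebraicGeometry Opposite TopologicalSpace

noncomputable section

namespace Groth.Agent.GammaZRange17

variable {U X : Scheme.{u}} (j : U ⟶ X) [IsOpenImmersion j]

/-- Restriction followed by direct image. -/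
abbrev RJ : X.Modules ⥤ X.Modules := Scheme.Modules.restrictFunctor j ⋙ Scheme.Modules.pushforward j

/-- The unit of a module vanishes: the module is supported off the image. -/
def Null (M : X.Modules) : Prop := (Scheme.Modules.restrictAdjunction j).unit.app M = 0

theorem null_of_mono ⦃A B : X.Modules⦄ (m : A ⟶ B) [Mono m] (hB : Null j B) : Null j A := by
  haveI : (Scheme.Modules.pushforward j).IsRightAdjoint :=
    (Scheme.Modules.restrictAdjunction j).isRightAdjoint
  haveI : Mono ((RJ j).map m) := (RJ j).map_mono m
  unfold Null at hB ⊢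
  rw [← cancel_mono ((RJ j).map m), zero_comp]
  exact ((Scheme.Modules.restrictAdjunction j).unit.naturality m).symm.trans (by
    rw [hB]; exact comp_zero)

theorem null_gammaZ (M : X.Modules) : Null j ((DCoh.gammaZ j).obj M) := by
  haveI : (Scheme.Modules.pushforward j).IsRightAdjoint :=
    (Scheme.Modules.restrictAdjunction j).isRightAdjoint
  let k : (DCoh.gammaZ j).obj M ⟶ M := kernel.ι ((Scheme.Modules.restrictAdjunction j).unit.app M)
  haveI : Mono k := inferInstanceAs (Mono (kernel.ι _))
  haveI : Mono ((RJ j).map k) := (RJ j).map_mono k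
  unfold Null
  rw [← cancel_mono ((RJ j).map k), zero_comp]
  exact ((Scheme.Modules.restrictAdjunction j).unit.naturality k).symm.trans (kernel.condition _)

theorem relInj_gammaZ (M : X.Modules) [Injective M] :
    RelInjSplit17.RelInj (Null j) ((DCoh.gammaZ j).obj M) := fun A B m _ _ hB f => by
  let η := (Scheme.Modules.restrictAdjunction j).unit
  let g : B ⟶ M := Injective.factorThru (show A ⟶ M from f ≫ kernel.ι (η.app M)) m
  have hg : g ≫ η.app M = 0 := by
    refine (η.naturality g).trans ?_
    rw [show η.app B = 0 from hB]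
    exact zero_comp
  refine ⟨kernel.lift (η.app M) g hg, ?_⟩
  apply equalizer.hom_ext
  exact (Category.assoc _ _ _).trans ((congrArg (m ≫ ·) (kernel.lift_ι _ _ _)).trans
    (@Injective.comp_factorThru _ _ M A B ‹Injective M› (f ≫ kernel.ι (η.app M)) m ‹Mono m›))

variable {T : Scheme.{u}} (j' : T ⟶ X) [IsOpenImmersion j']

theorem unit_app_zero_iff (M : X.Modules) (W : X.Opens) (s : Γ(M, W)) :
    ((Scheme.Modules.restrictAdjunction j).unit.app M).app W s = 0 ↔
      ∀ (V : X.Opens) (h : V ≤ W), V = j ''ᵁ (j ⁻¹ᵁ W) → M.presheaf.map (homOfLE h).op s = 0 := by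
  constructor
  · rintro h V hV rfl
    exact h
  · exact fun h => h _ (j.image_preimage_le W) rfl

theorem ι_unit_eq_zero (h : j.opensRange = j'.opensRange) (M : X.Modules) :
    kernel.ι ((Scheme.Modules.restrictAdjunction j).unit.app M) ≫
      (Scheme.Modules.restrictAdjunction j').unit.app M = 0 := by
  refine Scheme.Modules.hom_ext _ _ fun W => ConcreteCategory.hom_ext _ _ fun a => ?_
  refine (unit_app_zero_iff j' M W _).2 fun V hV hVe => ?_
  have h0 : ((Scheme.Modules.restrictAdjunction j).unit.app M).app W
      ((kernel.ι ((Scheme.Modules.restrictAdjunction j).unit.app M)).app W a) = 0 :=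
    congr($(kernel.condition ((Scheme.Modules.restrictAdjunction j).unit.app M)).app W a)
  refine (unit_app_zero_iff j M W _).1 h0 V hV ?_
  rw [hVe, Scheme.Hom.image_preimage_eq_opensRange_inf, Scheme.Hom.image_preimage_eq_opensRange_inf, h]

/-- `Γ_Z` depends only on the image of the open immersion. -/
def gammaZIsoOfRange (h : j.opensRange = j'.opensRange) : DCoh.gammaZ j ≅ DCoh.gammaZ j' :=
  NatIso.ofComponents
    (fun M =>
      { hom := kernel.lift _ (kernel.ι _) (ι_unit_eq_zero j j' h M)
        inv := kernel.lift _ (kernel.ι _) (ι_unit_eq_zero j' j h.symm M)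
        hom_inv_id := by apply equalizer.hom_ext; simp [DCoh.gammaZ]
        inv_hom_id := by apply equalizer.hom_ext; simp [DCoh.gammaZ] })
    (fun φ => by apply equalizer.hom_ext; simp [DCoh.gammaZ])

end Groth.Agent.GammaZRange17
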