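import Groth.Agent.DQCoh.KoszulPunct17

/-!
# Factoring sections through Koszul complexes of powers
-/

set_option autoImplicit false
set_option backward.isDefEq.respectTransparency false
set_option backward.defeqAttrib.useBackward true
set_option linter.style.haveILetI false
set_option linter.unusedSectionVars false

universe u

open CategoryTheory CategoryTheory.Limits HomologicalComplex CategoryTheory.Pretriangulated

attribute [local instance] HasDerivedCategory.standard

namespace Groth.Agent.DRingLib.KosHom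

variable {A : Type u} [CommRing A]

local notation "𝕥" => (DerivedCategory.TStructure.t : CategoryTheory.Triangulated.TStructure (Dual.D A))

/-- Homology is `f`-power torsion in degrees `-n, …, 0`. -/
def TorsIn (f : A) (n : ℕ) (M : Dual.D A) : Prop :=
  ∀ i : ℤ, -(n : ℤ) ≤ i → i ≤ 0 → ∀ x : (H A i).obj M, ∃ m : ℕ, f ^ m • x = 0

theorem TorsIn.shift {f : A} {n : ℕ} {M : Dual.D A} (h : TorsIn f (n + 1) M) : TorsIn f n (M⟦(-1 : ℤ)⟧) :=
  fun i hi hi' x => by
  let e := ((DerivedCategory.homologyFunctor (ModuleCat.{u} A) 0).shiftIso (-1 : ℤ) i (-1 + i) rfl).app M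
  obtain ⟨m, hm⟩ := h (-1 + i) (by push_cast; omega) (by omega) (e.hom.hom x)
  exact ⟨m, e.toLinearEquiv.injective ((e.toLinearEquiv.map_smul _ x).trans (hm.trans (map_zero _).symm))⟩

/-- Maps out of Koszul objects are torsion when the relevant degrees are. -/
theorem exists_pow_smul_of_torsIn (f : A) : ∀ (l : List A) (M : Dual.D A), TorsIn f l.length M →
    ∀ φ : K l ⟶ M, ∃ m : ℕ, f ^ m • φ = 0
  | [], M, hM, φ => by
    let e := ((DerivedCategory.singleFunctorCompHomologyFunctorIso (ModuleCat.{u} A) 0).app (ModuleCat.of A A))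
    let ψ : ModuleCat.of A A ⟶ (H A 0).obj M := e.inv ≫ (H A 0).map φ
    obtain ⟨m, hm⟩ := hM 0 (by simp) le_rfl (ψ.hom 1)
    refine ⟨m, eq_zero_of_homology _ ?_⟩
    have h0 : f ^ m • ψ = 0 := ModuleCat.hom_ext (LinearMap.ext_ring (by
      simp only [ModuleCat.hom_smul, LinearMap.smul_apply, ModuleCat.hom_zero, LinearMap.zero_apply]
      exact hm))
    simp only [ψ, ← Linear.comp_smul] at h0
    rw [map_smul, ← cancel_epi e.inv, comp_zero]
    exact h0
  | g :: l, M, hM, φ => by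
    obtain ⟨ι, δ, hT⟩ := exists_triangle g l
    obtain ⟨a, ha⟩ := exists_pow_smul_of_torsIn f l M (fun i hi hi' => hM i (by simp; omega) hi') (ι ≫ φ)
    obtain ⟨χ, hχ⟩ := Triangle.yoneda_exact₂ _ (rot_of_distTriang _ hT) (f ^ a • φ) (by
      show ι ≫ (f ^ a • φ) = 0
      rw [Linear.comp_smul, ha])
    let e := shiftFunctorCompIsoId (Dual.D A) (-1 : ℤ) 1 (by omega)
    obtain ⟨y, hy⟩ := (shiftFunctor (Dual.D A) (1 : ℤ)).map_surjective (χ ≫ e.inv.app M)
    obtain ⟨b, hb⟩ := exists_pow_smul_of_torsIn f l _ (TorsIn.shift hM) y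
    refine ⟨b + a, ?_⟩
    rw [pow_add, mul_smul, hχ, ← Linear.comp_smul]
    suffices f ^ b • χ = 0 by rw [this, comp_zero]
    rw [← cancel_mono (e.inv.app M), zero_comp, Linear.smul_comp, ← hy]
    rw [show f ^ b • (shiftFunctor (Dual.D A) (1 : ℤ)).map y = (shiftFunctor (Dual.D A) (1 : ℤ)).map (f ^ b • y) from
      (Functor.map_smul _ _ _).symm, hb, Functor.map_zero]

/-- Sections factor through Koszul complexes of high powers, compatibly. -/
theorem exists_tops : ∀ l : List A, ∃ t : ∀ e : ℕ, K ([] : List A) ⟶ K (l.map (fun a => a ^ e)),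
    (∀ e e' : ℕ, e ≤ e' → ∃ ν : K (l.map (fun a => a ^ e')) ⟶ K (l.map (fun a => a ^ e)), t e' ≫ ν = t e) ∧
    ∀ (M : Dual.D A), (∀ f ∈ l, TorsIn f (l.length - 1) M) → ∀ s : K ([] : List A) ⟶ M,
      ∃ (e : ℕ) (ψ : K (l.map (fun a => a ^ e)) ⟶ M), t e ≫ ψ = s
  | [] => ⟨fun _ => 𝟙 _, fun _ _ _ => ⟨𝟙 _, Category.id_comp _⟩, fun M _ s => ⟨0, s, Category.id_comp _⟩⟩
  | f :: l => by
    obtain ⟨t, hν, hψ⟩ := exists_tops l
    choose ι δ hT using fun e : ℕ => exists_triangle (f ^ e) (l.map (fun a => a ^ e))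
    refine ⟨fun e => t e ≫ ι e, fun e e' h => ?_, fun M hM s => ?_⟩
    · obtain ⟨ν, hνe⟩ := hν e e' h
      obtain ⟨γ, hγ, -⟩ := complete_distinguished_triangle_morphism _ _ (hT e') (hT e) (f ^ (e' - e) • ν) ν (by
        show (f ^ e' • 𝟙 _) ≫ ν = (f ^ (e' - e) • ν) ≫ (f ^ e • 𝟙 _)
        rw [Linear.smul_comp, Linear.smul_comp, Linear.comp_smul, Category.id_comp, Category.comp_id, smul_smul,
          ← pow_add, Nat.sub_add_cancel h])
      refine ⟨γ, ?_⟩
      have hγ' : ι e' ≫ γ = ν ≫ ι e := hγ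
      exact (Category.assoc _ _ _).trans ((congrArg (t e' ≫ ·) hγ').trans
        ((Category.assoc _ _ _).symm.trans (congrArg (· ≫ ι e) hνe)))
    · obtain ⟨e, φ, hφ⟩ := hψ M (fun g hg i hi hi' => hM g (List.mem_cons_of_mem _ hg) i (by simp; omega) hi') s
      obtain ⟨m, hm⟩ := exists_pow_smul_of_torsIn f _ M
        (fun i hi hi' => hM f (List.mem_cons_self ..) i (by simpa using hi) hi') φ
      obtain ⟨ν, hνe⟩ := hν e (max m e) (le_max_right _ _)
      obtain ⟨ψ, hψ'⟩ := Triangle.yoneda_exact₂ _ (hT (max m e)) (ν ≫ φ) (by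
        show (f ^ max m e • 𝟙 _) ≫ ν ≫ φ = 0
        rw [Linear.smul_comp]
        erw [Category.id_comp]
        have hk : f ^ max m e • φ = 0 := by
          rw [show f ^ max m e = f ^ (max m e - m) * f ^ m by rw [← pow_add, Nat.sub_add_cancel (le_max_left m e)],
            mul_smul, hm, smul_zero]
        rw [← Linear.comp_smul, hk, comp_zero])
      refine ⟨max m e, ψ, ?_⟩
      have hψ'' : ν ≫ φ = ι (max m e) ≫ ψ := hψ'
      rw [← hφ, ← hνe]
      simp only [Category.assoc]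
      exact congrArg (t (max m e) ≫ ·) hψ''.symm

end Groth.Agent.DRingLib.KosHom

open AlgebraicGeometry
open Groth.Agent.DCat Groth.Agent.DCat.PerfLocal Groth.Agent.Dual22Lib Groth.Agent.DRingLib

attribute [-instance] Int.instConditionallyCompleteLinearOrder

namespace Groth.Agent.DQCoh.KosPunct

variable {A : Type u} [CommRing A] {fs : List A} [PreservesFiniteLimits (tilde.functor (CommRingCat.of A))]

local notation "T" => DCoh.tildeD (CommRingCat.of A)

theorem torsIn_of_restrict {M : Dual.D A} (n : ℕ)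
    (h : ∀ i : ℤ, -(n : ℤ) ≤ i → i ≤ 0 → IsZero ((DCoh.HD ((T).obj M) i).restrict (U A fs).ι))
    {f : A} (hf : f ∈ fs) : KosHom.TorsIn f n M := fun i hi hi' y => by
  have hr : f ∈ (Ideal.torsionOf A _ y).radical := by
    rw [Ideal.radical_eq_sInf, Ideal.mem_sInf]
    rintro p ⟨hp, hpp⟩
    by_contra hfp
    have hx : (⟨p, hpp⟩ : PrimeSpectrum A) ∈ U A fs := mem_U.2 ⟨f, hf, hfp⟩
    haveI : Subsingleton ((DCoh.HD ((T).obj M) i).presheaf.stalk (⟨p, hpp⟩ : PrimeSpectrum A)) :=
      DCat.SuppOpen.subsingleton_stalk_of_restrict (U A fs).ι _ ⟨_, hx⟩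
        (DCat.SuppOpen.subsingleton_of_isZero_stalkFunctor _ _ ((DerSch.stalkFunctor _ _).map_isZero (h i hi hi')))
    obtain ⟨s, hs, hsy⟩ := (subsingleton_stalk_iff M i ⟨p, hpp⟩).1 ‹_› y
    exact hs (hp ((Ideal.mem_torsionOf_iff y s).2 hsy))
  obtain ⟨m, hm⟩ := hr
  exact ⟨m, (Ideal.mem_torsionOf_iff y _).1 hm⟩

/-- The free module of rank one becomes the structure sheaf. -/
theorem nonempty_inD_structure (R : CommRingCat.{u}) [PreservesFiniteLimits (tilde.functor R)] :
    Nonempty ((DCoh.tildeD R).obj ((DerivedCategory.singleFunctor (ModuleCat.{u} R) 0).obj (ModuleCat.of R R)) ≅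
      DCoh.inD (Spec R) (Coh.structureModule (Spec R))) :=
  haveI := DQCoh.preservesFiniteColimits_tilde R
  ⟨((tilde.functor R).mapDerivedCategorySingleFunctor 0).app _ ≪≫
    (DerivedCategory.singleFunctor _ 0).mapIso tildeSelf⟩

end Groth.Agent.DQCoh.KosPunct
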