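import Groth.Agent.DRingLib.KoszulHom17
import Groth.Agent.DQCoh.HocolimPerf
import Groth.Prelude.Def_Wider

/-!
# Koszul objects and the complement of their support
-/

set_option autoImplicit false
set_option backward.isDefEq.respectTransparency false
set_option backward.defeqAttrib.useBackward true
set_option linter.style.haveILetI false
set_option linter.unusedSectionVars false
set_option synthInstance.maxHeartbeats 100000

universe u

open CategoryTheory CategoryTheory.Limits CategoryTheory.Pretriangulated AlgebraicGeometry Opposite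
open Groth.Agent.DCat Groth.Agent.DCat.PerfLocal Groth.Agent.Dual22Lib Groth.Agent.Dual22Lib.AdjGeom
open Groth.Agent.Dual22Lib.PerfSupp Groth.Agent.DRingLib
open scoped ZeroObject

attribute [local instance] HasDerivedCategory.standard
attribute [-instance] Int.instConditionallyCompleteLinearOrder

namespace Groth.Agent.DQCoh.KosPunct

variable (A : Type u) [CommRing A] (fs : List A)

/-- The punctured spectrum. -/
abbrev U : (Spec (CommRingCat.of A)).Opens := LocCoh.puncturedOpen A (Ideal.span {a | a ∈ fs})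

variable {A fs}

theorem mem_U {x : PrimeSpectrum A} : x ∈ U A fs ↔ ∃ f ∈ fs, f ∉ x.asIdeal := by
  refine (Set.mem_compl_iff (PrimeSpectrum.zeroLocus (R := A) ((Ideal.span {a | a ∈ fs} : Ideal A) : Set A)) x).trans ?_
  rw [PrimeSpectrum.mem_zeroLocus, SetLike.coe_subset_coe, Ideal.span_le, Set.not_subset]
  rfl

theorem isCompact_U : IsCompact (SetLike.coe (U A fs)) := by
  classical
  have h : (SetLike.coe (U A fs)) =
      ⋃ f ∈ fs.toFinset, (PrimeSpectrum.basicOpen f : Set (PrimeSpectrum A)) := by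
    ext x
    refine (mem_U (fs := fs)).trans ?_
    simp only [Set.mem_iUnion, List.mem_toFinset, exists_prop]
    rfl
  rw [h]
  exact fs.toFinset.finite_toSet.isCompact_biUnion fun f _ => PrimeSpectrum.isCompact_basicOpen f

instance quasiCompact_ι : QuasiCompact (U A fs).ι := by
  haveI : CompactSpace ((U A fs : (Spec (CommRingCat.of A)).Opens) : Scheme.{u}) :=
    isCompact_iff_compactSpace.1 isCompact_U
  exact quasiCompact_of_compactSpace _

variable [PreservesFiniteLimits (tilde.functor (CommRingCat.of A))]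

omit [PreservesFiniteLimits (tilde.functor (CommRingCat.of A))] in
theorem tilde_instances (R : CommRingCat.{u}) : (tilde.functor R).Additive ∧ (tilde.functor R).Faithful :=
  ⟨inferInstance, inferInstance⟩

instance additive_tilde : (tilde.functor (CommRingCat.of A)).Additive := (tilde_instances _).1

instance faithful_tilde : (tilde.functor (CommRingCat.of A)).Faithful := (tilde_instances _).2

/-- Stalks of tilde. -/
theorem subsingleton_stalk_tilde (R : CommRingCat.{u}) (N : ModuleCat.{u} R) (x : PrimeSpectrum R) :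
    Subsingleton ((tilde N).presheaf.stalk x) ↔ ∀ y : N, ∃ s : R, s ∉ x.asIdeal ∧ s • y = 0 :=
  IsLocalizedModule.subsingleton_iff x.asIdeal.primeCompl (tilde.toStalk N x).hom

local notation "T" => DCoh.tildeD (CommRingCat.of A)

/-- Stalks of the cohomology of a derived tilde. -/
theorem subsingleton_stalk_iff (M : Dual.D A) (i : ℤ) (x : PrimeSpectrum A) :
    Subsingleton ((DCoh.HD ((T).obj M) i).presheaf.stalk x) ↔
      ∀ y : (KosHom.H A i).obj M, ∃ s : A, s ∉ x.asIdeal ∧ s • y = 0 := by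
  haveI := DQCoh.preservesFiniteColimits_tilde (CommRingCat.of A)
  obtain ⟨η⟩ := DQCoh.nonempty_homology_natIso (tilde.functor (CommRingCat.of A)) i
  let N := (KosHom.H A i).obj M
  have e : (DerSch.stalkFunctor (Spec (CommRingCat.of A)) x).obj (DCoh.HD ((T).obj M) i) ≅
      (DerSch.stalkFunctor (Spec (CommRingCat.of A)) x).obj ((tilde.functor (CommRingCat.of A)).obj N) :=
    (DerSch.stalkFunctor _ x).mapIso (η.app M)
  have h1 : Subsingleton ((DCoh.HD ((T).obj M) i).presheaf.stalk x) ↔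
      Subsingleton ((tilde (R := CommRingCat.of A) N).presheaf.stalk x) := by
    constructor
    · intro h
      exact DCat.SuppOpen.subsingleton_of_isZero_stalkFunctor (tilde (R := CommRingCat.of A) N) x
        ((DCat.SuppOpen.isZero_stalkFunctor (DCoh.HD ((T).obj M) i) x).of_iso e.symm)
    · intro h
      exact DCat.SuppOpen.subsingleton_of_isZero_stalkFunctor (DCoh.HD ((T).obj M) i) x
        ((DCat.SuppOpen.isZero_stalkFunctor (tilde (R := CommRingCat.of A) N) x).of_iso e)
  rw [h1]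
  exact subsingleton_stalk_tilde (CommRingCat.of A) N x

/-- Being killed off `V(fs)` is being torsion at each member. -/
theorem killed_iff_tors (M : Dual.D A) : killed (U A fs).ι ((T).obj M) ↔ ∀ f ∈ fs, KosHom.Tors f M := by
  rw [AdjGeom.killed_iff, Scheme.Opens.opensRange_ι]
  constructor
  · intro h f hf i y
    have hr : f ∈ (Ideal.torsionOf A _ y).radical := by
      rw [Ideal.radical_eq_sInf, Ideal.mem_sInf]
      rintro p ⟨hp, hpp⟩
      by_contra hfp
      obtain ⟨s, hs, hsy⟩ := (subsingleton_stalk_iff M i ⟨p, hpp⟩).1 (h i ⟨p, hpp⟩ (mem_U.2 ⟨f, hf, hfp⟩)) y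
      exact hs (hp ((Ideal.mem_torsionOf_iff y s).2 hsy))
    obtain ⟨m, hm⟩ := hr
    exact ⟨m, (Ideal.mem_torsionOf_iff y _).1 hm⟩
  · intro h i x hx
    obtain ⟨f, hf, hfx⟩ := mem_U.1 hx
    refine (subsingleton_stalk_iff M i x).2 fun y => ?_
    obtain ⟨m, hm⟩ := h f hf i y
    exact ⟨f ^ m, fun hc => hfx (x.isPrime.mem_of_pow_mem m hc), hm⟩

/-- Maps out of a shifted tilde. -/
theorem forall_hom_iff (K M : Dual.D A) (n : ℤ) :
    (∀ φ : ((T).obj K)⟦-n⟧ ⟶ (T).obj M, φ = 0) ↔ ∀ φ : K ⟶ M⟦n⟧, φ = 0 := by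
  obtain ⟨hfull, hfaith, -⟩ := DQCoh.tildeD_main (CommRingCat.of A)
  haveI := hfull
  haveI := hfaith
  let c := ((T).commShiftIso n).app M
  let e := shiftFunctorCompIsoId (DCoh.D (Spec (CommRingCat.of A))) (-n) n (by omega)
  constructor
  · intro h φ
    obtain ⟨ψ, hψ⟩ := (shiftFunctor (DCoh.D (Spec (CommRingCat.of A))) n).map_surjective
      (e.hom.app ((T).obj K) ≫ (T).map φ ≫ c.hom)
    rw [h ψ, Functor.map_zero] at hψ
    refine (T).map_injective ?_
    rw [Functor.map_zero, ← cancel_mono c.hom, zero_comp, ← cancel_epi (e.hom.app ((T).obj K)), comp_zero]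
    exact hψ.symm
  · intro h φ
    apply (shiftFunctor (DCoh.D (Spec (CommRingCat.of A))) n).map_injective
    obtain ⟨ψ, hψ⟩ := (T).map_surjective (e.inv.app ((T).obj K) ≫ φ⟦n⟧' ≫ c.inv)
    rw [h ψ, Functor.map_zero] at hψ
    rw [Functor.map_zero, ← cancel_epi (e.inv.app ((T).obj K)), comp_zero, ← cancel_mono c.inv, zero_comp,
      Category.assoc]
    exact hψ.symm

variable [DCoh.HasRpush (U A fs).ι]

/-- The fibre of the unit, as an object of `D(A)`. -/
theorem exists_fibre (adj : DCoh.restrictD (U A fs).ι ⊣ DCoh.Rpush (U A fs).ι)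
    (E : DCoh.D (Spec (CommRingCat.of A))) (hE : DCoh.IsQCohD E) :
    ∃ (MN ME : Dual.D A) (g : MN ⟶ ME) (eE : (T).obj ME ≅ E)
      (δ : ((DCoh.Rpush (U A fs).ι).obj ((DCoh.restrictD (U A fs).ι).obj E)) ⟶ ((T).obj MN)⟦(1 : ℤ)⟧),
      (∀ f ∈ fs, KosHom.Tors f MN) ∧
      Triangle.mk ((T).map g ≫ eE.hom) (adj.unit.app E) δ ∈ distTriang _ := by
  haveI := PullPerf.preservesFiniteLimits_restrict (U A fs).ι
  obtain ⟨adj₀, hc₀⟩ := AdjGeom.exists_adj (U A fs).ι
  haveI := hc₀
  haveI := (adj₀.fullyFaithfulROfIsIsoCounit).full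
  haveI := (adj₀.fullyFaithfulROfIsIsoCounit).faithful
  obtain ⟨hfull, -, hess⟩ := DQCoh.tildeD_main (CommRingCat.of A)
  haveI := hfull
  obtain ⟨N, a, δ, hT⟩ := distinguished_cocone_triangle₁ (adj.unit.app E)
  have hL : DCoh.IsQCohD ((DCoh.Rpush (U A fs).ι).obj ((DCoh.restrictD (U A fs).ι).obj E)) :=
    DQCoh.isQCohD_Rpush _ _ (AdjGeom.isQCohD_restrictD _ hE)
  have hN : DCoh.IsQCohD N := DQCoh.isQCohD_obj₃ (inv_rot_of_distTriang _ (inv_rot_of_distTriang _ hT))
    (DQCoh.isQCohD_shift hE (-1)) (DQCoh.isQCohD_shift hL (-1))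
  have hk : killed (U A fs).ι N := by
    haveI : IsIso ((DCoh.restrictD (U A fs).ι).map (adj.unit.app E)) := by
      rw [show (DCoh.restrictD (U A fs).ι).map (adj.unit.app E) = inv (adj.counit.app _) from
        IsIso.eq_inv_of_inv_hom_id (adj.left_triangle_components E)]
      infer_instance
    exact (Triangle.isZero₁_iff_isIso₂ _ ((DCoh.restrictD (U A fs).ι).map_distinguished _ hT)).2 ‹_›
  obtain ⟨MN, ⟨eN⟩⟩ := (hess N).1 hN
  obtain ⟨ME, ⟨eE⟩⟩ := (hess E).1 hE
  refine ⟨MN, ME, (T).preimage (eN.hom ≫ a ≫ eE.inv), eE, δ ≫ eN.inv⟦(1 : ℤ)⟧',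
    (killed_iff_tors MN).1 (killed_iso eN.symm hk), isomorphic_distinguished _ hT _
      (Triangle.isoMk _ _ eN (Iso.refl _) (Iso.refl _) ?_ ?_ ?_)⟩
  · simp
  · simp
  · simp [← Functor.map_comp]

/-- Orthogonality to the Koszul object only sees the fibre of the unit. -/
theorem orth_iff (adj : DCoh.restrictD (U A fs).ι ⊣ DCoh.Rpush (U A fs).ι)
    {E : DCoh.D (Spec (CommRingCat.of A))} {MN ME : Dual.D A} {g : MN ⟶ ME} {eE : (T).obj ME ≅ E}
    {δ : ((DCoh.Rpush (U A fs).ι).obj ((DCoh.restrictD (U A fs).ι).obj E)) ⟶ ((T).obj MN)⟦(1 : ℤ)⟧}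
    (hT : Triangle.mk ((T).map g ≫ eE.hom) (adj.unit.app E) δ ∈ distTriang _) (n : ℤ) :
    (∀ φ : ((T).obj (KosHom.K fs))⟦-n⟧ ⟶ E, φ = 0) ↔ ∀ φ : KosHom.K fs ⟶ MN⟦n⟧, φ = 0 := by
  haveI := PullPerf.preservesFiniteLimits_restrict (U A fs).ι
  have hk : killed (U A fs).ι ((T).obj (KosHom.K fs)) := (killed_iff_tors _).2 (KosHom.tors_K fs)
  rw [← forall_hom_iff]
  constructor
  · intro h φ
    obtain ⟨χ, hχ⟩ := Triangle.coyoneda_exact₂ _ (inv_rot_of_distTriang _ hT) φ (h _)
    suffices χ = 0 by rw [hχ, this, zero_comp]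
    apply (shiftFunctor (DCoh.D (Spec (CommRingCat.of A))) (1 : ℤ)).map_injective
    rw [Functor.map_zero, ← cancel_mono ((shiftFunctorCompIsoId (DCoh.D (Spec (CommRingCat.of A))) (-1 : ℤ) 1
      (by omega)).hom.app _), zero_comp]
    exact (adj.homEquiv _ _).symm.injective
      ((killed_shift _ (killed_shift _ hk (-n)) 1).eq_of_src _ _)
  · intro h φ
    obtain ⟨χ, hχ⟩ := Triangle.coyoneda_exact₂ _ hT φ
      ((adj.homEquiv _ _).symm.injective ((killed_shift _ hk (-n)).eq_of_src _ _))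
    rw [hχ, h χ, zero_comp]

omit [DCoh.HasRpush (U A fs).ι] in
theorem isZero_HD_tilde {M : Dual.D A} {i : ℤ} (h : IsZero ((KosHom.H A i).obj M)) :
    IsZero (DCoh.HD ((T).obj M) i) := by
  haveI := DQCoh.preservesFiniteColimits_tilde (CommRingCat.of A)
  obtain ⟨η⟩ := DQCoh.nonempty_homology_natIso (tilde.functor (CommRingCat.of A)) i
  exact ((tilde.functor (CommRingCat.of A)).map_isZero h).of_iso (η.app M)

omit [DCoh.HasRpush (U A fs).ι] in
theorem isZero_H_of_tilde {M : Dual.D A} {i : ℤ} (h : IsZero (DCoh.HD ((T).obj M) i)) :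
    IsZero ((KosHom.H A i).obj M) := by
  haveI := DQCoh.preservesFiniteColimits_tilde (CommRingCat.of A)
  obtain ⟨η⟩ := DQCoh.nonempty_homology_natIso (tilde.functor (CommRingCat.of A)) i
  exact DQCoh.isZero_of_isZero_tilde (h.of_iso (η.app M).symm)

omit [DCoh.HasRpush (U A fs).ι] in
theorem map_H_eq_zero {M M' : Dual.D A} (g : M ⟶ M') {i : ℤ}
    (h : (DerivedCategory.homologyFunctor (Spec (CommRingCat.of A)).Modules i).map ((T).map g) = 0) :
    (KosHom.H A i).map g = 0 := by
  haveI := DQCoh.preservesFiniteColimits_tilde (CommRingCat.of A)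
  obtain ⟨η⟩ := DQCoh.nonempty_homology_natIso (tilde.functor (CommRingCat.of A)) i
  refine (tilde.functor (CommRingCat.of A)).map_injective ?_
  rw [Functor.map_zero, ← cancel_epi (η.hom.app M), comp_zero]
  refine (η.hom.naturality g).symm.trans ?_
  exact (congrArg (· ≫ η.hom.app M') h).trans zero_comp

omit [DCoh.HasRpush (U A fs).ι] in
/-- A degree where the torsion fibre has no cohomology. -/
theorem isZero_H_of_orth {M : Dual.D A} (hM : ∀ f ∈ fs, KosHom.Tors f M) (n : ℤ)
    (h : ∀ φ : KosHom.K fs ⟶ M⟦n⟧, φ = 0) : IsZero ((KosHom.H A n).obj M) :=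
  (KosHom.isZero_homology_of_orth fs _ (fun f hf => (hM f hf).shift n) h).of_iso
    (((DerivedCategory.homologyFunctor (ModuleCat.{u} A) 0).shiftIso n 0 n (by omega)).app M).symm

/-- The unit is invertible in a degree. -/
theorem isIso_unit_of_isZero {E : DCoh.D (Spec (CommRingCat.of A))} {MN ME : Dual.D A} {g : MN ⟶ ME} {eE : (T).obj ME ≅ E}
    {adj : DCoh.restrictD (U A fs).ι ⊣ DCoh.Rpush (U A fs).ι}
    {δ : ((DCoh.Rpush (U A fs).ι).obj ((DCoh.restrictD (U A fs).ι).obj E)) ⟶ ((T).obj MN)⟦(1 : ℤ)⟧}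
    (hT : Triangle.mk ((T).map g ≫ eE.hom) (adj.unit.app E) δ ∈ distTriang _) (i : ℤ)
    (h : IsZero ((KosHom.H A i).obj MN)) (h' : IsZero ((KosHom.H A (i + 1)).obj MN)) :
    IsIso ((DerivedCategory.homologyFunctor (Spec (CommRingCat.of A)).Modules i).map (adj.unit.app E)) := by
  haveI : Mono ((DerivedCategory.homologyFunctor (Spec (CommRingCat.of A)).Modules i).map (adj.unit.app E)) :=
    (DerivedCategory.HomologySequence.mono_homologyMap_mor₂_iff _ hT i).2 ((isZero_HD_tilde h).eq_of_src _ _)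
  haveI : Epi ((DerivedCategory.homologyFunctor (Spec (CommRingCat.of A)).Modules i).map (adj.unit.app E)) :=
    (DerivedCategory.HomologySequence.epi_homologyMap_mor₂_iff _ hT i (i + 1) rfl).2
      ((isZero_HD_tilde h').eq_of_tgt _ _)
  exact isIso_of_mono_of_epi _

/-- The map from the fibre vanishes where the unit is injective. -/
theorem map_g_eq_zero {E : DCoh.D (Spec (CommRingCat.of A))} {MN ME : Dual.D A} {g : MN ⟶ ME} {eE : (T).obj ME ≅ E}
    {adj : DCoh.restrictD (U A fs).ι ⊣ DCoh.Rpush (U A fs).ι}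
    {δ : ((DCoh.Rpush (U A fs).ι).obj ((DCoh.restrictD (U A fs).ι).obj E)) ⟶ ((T).obj MN)⟦(1 : ℤ)⟧}
    (hT : Triangle.mk ((T).map g ≫ eE.hom) (adj.unit.app E) δ ∈ distTriang _) (i : ℤ)
    (h : Mono ((DerivedCategory.homologyFunctor (Spec (CommRingCat.of A)).Modules i).map (adj.unit.app E))) :
    (KosHom.H A i).map g = 0 := by
  refine map_H_eq_zero g ?_
  have h0 : (DerivedCategory.homologyFunctor (Spec (CommRingCat.of A)).Modules i).map ((T).map g ≫ eE.hom) = 0 :=
    (DerivedCategory.HomologySequence.mono_homologyMap_mor₂_iff _ hT i).1 h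
  rw [Functor.map_comp] at h0
  rwa [← cancel_mono ((DerivedCategory.homologyFunctor (Spec (CommRingCat.of A)).Modules i).map eE.hom), zero_comp]

/-- The fibre vanishes where the unit is injective and surjective one degree below. -/
theorem isZero_of_mono_of_epi {E : DCoh.D (Spec (CommRingCat.of A))} {MN ME : Dual.D A} {g : MN ⟶ ME} {eE : (T).obj ME ≅ E}
    {adj : DCoh.restrictD (U A fs).ι ⊣ DCoh.Rpush (U A fs).ι}
    {δ : ((DCoh.Rpush (U A fs).ι).obj ((DCoh.restrictD (U A fs).ι).obj E)) ⟶ ((T).obj MN)⟦(1 : ℤ)⟧}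
    (hT : Triangle.mk ((T).map g ≫ eE.hom) (adj.unit.app E) δ ∈ distTriang _) (i : ℤ)
    (h : Mono ((DerivedCategory.homologyFunctor (Spec (CommRingCat.of A)).Modules i).map (adj.unit.app E)))
    (h' : Epi ((DerivedCategory.homologyFunctor (Spec (CommRingCat.of A)).Modules (i - 1)).map (adj.unit.app E))) :
    IsZero ((KosHom.H A i).obj MN) := by
  refine isZero_H_of_tilde ?_
  have hm : Mono ((DerivedCategory.homologyFunctor (Spec (CommRingCat.of A)).Modules i).map ((T).map g ≫ eE.hom)) :=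
    (DerivedCategory.HomologySequence.mono_homologyMap_mor₁_iff _ hT (i - 1) i (by omega)).2
      ((DerivedCategory.HomologySequence.epi_homologyMap_mor₂_iff _ hT (i - 1) i (by omega)).1 h')
  exact @IsZero.of_mono_eq_zero _ _ _ _ _ _ hm
    ((DerivedCategory.HomologySequence.mono_homologyMap_mor₂_iff _ hT i).1 h)

/-- Orthogonality in one degree, from the vanishing of the composites. -/
theorem orth_of_comp {E : DCoh.D (Spec (CommRingCat.of A))} {MN ME : Dual.D A} {g : MN ⟶ ME} {eE : (T).obj ME ≅ E}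
    {adj : DCoh.restrictD (U A fs).ι ⊣ DCoh.Rpush (U A fs).ι}
    {δ : ((DCoh.Rpush (U A fs).ι).obj ((DCoh.restrictD (U A fs).ι).obj E)) ⟶ ((T).obj MN)⟦(1 : ℤ)⟧}
    (hT : Triangle.mk ((T).map g ≫ eE.hom) (adj.unit.app E) δ ∈ distTriang _) (n : ℤ)
    (h : ∀ φ : KosHom.K fs ⟶ MN⟦n⟧, φ ≫ g⟦n⟧' = 0) :
    ∀ φ : ((T).obj (KosHom.K fs))⟦-n⟧ ⟶ E, φ = 0 := by
  haveI := PullPerf.preservesFiniteLimits_restrict (U A fs).ι
  obtain ⟨hfull, -, -⟩ := DQCoh.tildeD_main (CommRingCat.of A)
  haveI := hfull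
  have hk : killed (U A fs).ι ((T).obj (KosHom.K fs)) := (killed_iff_tors _).2 (KosHom.tors_K fs)
  intro φ
  obtain ⟨χ, hχ⟩ := Triangle.coyoneda_exact₂ _ hT φ
    ((adj.homEquiv _ _).symm.injective ((killed_shift _ hk (-n)).eq_of_src _ _))
  suffices χ ≫ (T).map g = 0 by
    rw [hχ]
    exact (Category.assoc _ _ _).symm.trans ((congrArg (· ≫ eE.hom) this).trans zero_comp)
  let e := shiftFunctorCompIsoId (DCoh.D (Spec (CommRingCat.of A))) (-n) n (by omega)
  apply (shiftFunctor (DCoh.D (Spec (CommRingCat.of A))) n).map_injective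
  obtain ⟨ψ, hψ⟩ := (T).map_surjective (e.inv.app ((T).obj (KosHom.K fs)) ≫ χ⟦n⟧' ≫ (((T).commShiftIso n).app MN).inv)
  have h0 := congrArg (T).map (h ψ)
  have hn := ((T).commShiftIso n).inv.naturality g
  simp only [Functor.comp_map] at hn
  simp only [Iso.app_inv] at hψ
  rw [Functor.map_comp, hψ, Functor.map_zero] at h0
  simp only [Category.assoc] at h0
  rw [← hn] at h0
  rw [Functor.map_comp, Functor.map_zero, ← cancel_epi (e.inv.app ((T).obj (KosHom.K fs))), comp_zero,
    ← cancel_mono (((T).commShiftIso n).inv.app ME), zero_comp, Category.assoc, Category.assoc]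
  exact h0

end Groth.Agent.DQCoh.KosPunct

namespace Groth.Agent.DQCoh.PerfApprox

variable {X : Scheme.{u}}

/-- Maps are invertible after truncation from above iff they are invertible on low cohomology. -/
theorem isIso_truncLE_map_iff {E K : DCoh.D X} (g : E ⟶ K) (c : ℤ) :
    IsIso ((DerivedCategory.TStructure.t.truncLE c).map g) ↔
      ∀ i, i ≤ c → IsIso ((DerivedCategory.homologyFunctor X.Modules i).map g) := by
  let t := DerivedCategory.TStructure.t (C := X.Modules)
  have hπ : ∀ (Y : DCoh.D X) (i : ℤ), i ≤ c →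
      IsIso ((DerivedCategory.homologyFunctor X.Modules i).map ((t.truncLTι (c + 1)).app Y)) := fun Y i hi => by
    have hT := t.triangleLTGE_distinguished (c + 1) Y
    haveI hG : ((t.truncGE (c + 1)).obj Y).IsGE (c + 1) := inferInstance
    haveI : Mono ((DerivedCategory.homologyFunctor X.Modules i).map ((t.triangleLTGE (c + 1)).obj Y).mor₁) :=
      (DerivedCategory.HomologySequence.mono_homologyMap_mor₁_iff _ hT (i - 1) i (by omega)).2
        (((DerivedCategory.isGE_iff _ _).1 hG (i - 1) (by omega)).eq_of_src _ _)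
    haveI : Epi ((DerivedCategory.homologyFunctor X.Modules i).map ((t.triangleLTGE (c + 1)).obj Y).mor₁) :=
      (DerivedCategory.HomologySequence.epi_homologyMap_mor₁_iff _ hT i).2
        (((DerivedCategory.isGE_iff _ _).1 hG i (by omega)).eq_of_tgt _ _)
    exact isIso_of_mono_of_epi ((DerivedCategory.homologyFunctor X.Modules i).map ((t.triangleLTGE (c + 1)).obj Y).mor₁)
  have hn : ∀ i, (DerivedCategory.homologyFunctor X.Modules i).map ((t.truncLTι (c + 1)).app E) ≫
      (DerivedCategory.homologyFunctor X.Modules i).map g =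
      (DerivedCategory.homologyFunctor X.Modules i).map ((t.truncLE c).map g) ≫
        (DerivedCategory.homologyFunctor X.Modules i).map ((t.truncLTι (c + 1)).app K) := fun i => by
    rw [← Functor.map_comp, ← Functor.map_comp]
    exact congrArg _ ((t.truncLTι (c + 1)).naturality g).symm
  constructor
  · intro h i hi
    haveI := h
    haveI := hπ E i hi
    haveI := hπ K i hi
    exact IsIso.of_isIso_fac_left (hn i)
  · intro h
    rw [DerivedCategory.isIso_iff]
    intro i
    by_cases hi : i ≤ c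
    · haveI := h i hi
      haveI := hπ E i hi
      haveI := hπ K i hi
      exact IsIso.of_isIso_fac_right (hn i).symm
    · haveI h₁ : ((t.truncLE c).obj E).IsLE c := inferInstanceAs (t.IsLE ((t.truncLE c).obj E) c)
      haveI h₂ : ((t.truncLE c).obj K).IsLE c := inferInstanceAs (t.IsLE ((t.truncLE c).obj K) c)
      exact ⟨0, ((DerivedCategory.isLE_iff _ _).1 h₁ i (by omega)).eq_of_src _ _,
        ((DerivedCategory.isLE_iff _ _).1 h₂ i (by omega)).eq_of_src _ _⟩

end Groth.Agent.DQCoh.PerfApprox
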