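import Groth.Agent.DCat.DTenMix
import Groth.Agent.DCat.NilpotentBC

/-! `((K ⊗_R A) ⊗_A N)|_R ≅ K ⊗_R N|_R`, naturally; translations of rank one free complexes. -/

set_option autoImplicit false
set_option backward.isDefEq.respectTransparency false
set_option backward.defeqAttrib.useBackward true
set_option linter.style.haveILetI false

universe u

open CategoryTheory CategoryTheory.Limits MonoidalCategory HomologicalComplex
attribute [local instance] HasDerivedCategory.standard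

namespace Groth.Agent.DQCoh

open DCat

variable {R A : Type u} [CommRing R] [CommRing A] (φ : R →+* A)

/-- `(A ⊗_R X) ⊗_A Y`, as a bifunctor. -/
noncomputable abbrev extT : ModuleCat.{u} R ⥤ ModuleCat.{u} A ⥤ ModuleCat.{u} A :=
  ModuleCat.extendScalars.{u, u, u} φ ⋙ modT A

instance additive_extT : (extT φ).Additive := inferInstance

instance additive_extT_obj (X : ModuleCat.{u} R) : ((extT φ).obj X).Additive :=
  inferInstanceAs ((modT A).obj ((ModuleCat.extendScalars.{u, u, u} φ).obj X)).Additive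

/-- The termwise comparison. -/
noncomputable def mixA (X : ModuleCat.{u} R) (Y : ModuleCat.{u} A) :
    (ModuleCat.restrictScalars.{u} φ).obj (((extT φ).obj X).obj Y) ≅
      ((modT R).obj X).obj ((ModuleCat.restrictScalars.{u} φ).obj Y) :=
  (tensorExtIso φ Y).app X

lemma mixA_natural₁ {X X' : ModuleCat.{u} R} (f : X ⟶ X') (Y : ModuleCat.{u} A) :
    (ModuleCat.restrictScalars.{u} φ).map (((extT φ).map f).app Y) ≫ (mixA φ X' Y).hom =
      (mixA φ X Y).hom ≫ ((modT R).map f).app ((ModuleCat.restrictScalars.{u} φ).obj Y) :=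
  (tensorExtIso φ Y).hom.naturality f

lemma mixA_natural₂ (X : ModuleCat.{u} R) {Y Y' : ModuleCat.{u} A} (g : Y ⟶ Y') :
    (ModuleCat.restrictScalars.{u} φ).map (((extT φ).obj X).map g) ≫ (mixA φ X Y').hom =
      (mixA φ X Y).hom ≫ ((modT R).obj X).map ((ModuleCat.restrictScalars.{u} φ).map g) := by
  show (ModuleCat.restrictScalars.{u} φ).map ((ModuleCat.extendScalars.{u, u, u} φ).obj X ◁ g) ≫
      (ModuleCat.restrictScalars.{u} φ).map (β_ ((ModuleCat.extendScalars.{u, u, u} φ).obj X) Y').hom ≫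
        (extCancelIso φ Y' X).hom ≫ (β_ ((ModuleCat.restrictScalars.{u} φ).obj Y') X).hom =
    ((ModuleCat.restrictScalars.{u} φ).map (β_ ((ModuleCat.extendScalars.{u, u, u} φ).obj X) Y).hom ≫
        (extCancelIso φ Y X).hom ≫ (β_ ((ModuleCat.restrictScalars.{u} φ).obj Y) X).hom) ≫
      X ◁ (ModuleCat.restrictScalars.{u} φ).map g
  have h : (ModuleCat.restrictScalars.{u} φ).map (g ▷ (ModuleCat.extendScalars.{u, u, u} φ).obj X) ≫
      (extCancelIso φ Y' X).hom = (extCancelIso φ Y X).hom ≫ (ModuleCat.restrictScalars.{u} φ).map g ▷ X :=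
    extCancelIso_natural₁ φ g X
  rw [← Functor.map_comp_assoc, BraidedCategory.braiding_naturality_right, Functor.map_comp_assoc,
    reassoc_of% h]
  simp only [Category.assoc]
  congr 2
  exact BraidedCategory.braiding_naturality_left ((ModuleCat.restrictScalars.{u} φ).map g) X

/-- The first step. -/
noncomputable def mixIsoA (K : DRing.Cx R) (N : DRing.Cx A) :
    tot (extT φ) K N ≅ tot (modT A) ((DTen.extCx φ).obj K)
      (((𝟭 (ModuleCat.{u} A)).mapHomologicalComplex (ComplexShape.up ℤ)).obj N) :=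
  mapTotIso (extT φ) (modT A) (ModuleCat.extendScalars.{u, u, u} φ) (𝟭 _) (𝟭 _) (fun _ _ => Iso.refl _)
    (fun _ _ => (Category.comp_id _).trans (Category.id_comp _).symm)
    (fun _ _ _ _ => (Category.comp_id _).trans (Category.id_comp _).symm) K N

lemma mixIsoA_natural {K K' : DRing.Cx R} (f : K ⟶ K') {N N' : DRing.Cx A} (g : N ⟶ N') :
    HomologicalComplex.mapBifunctorMap f g (extT φ) (ComplexShape.up ℤ) ≫ (mixIsoA φ K' N').hom =
      (mixIsoA φ K N).hom ≫ HomologicalComplex.mapBifunctorMap ((DTen.extCx φ).map f)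
        (((𝟭 (ModuleCat.{u} A)).mapHomologicalComplex (ComplexShape.up ℤ)).map g) (modT A) (ComplexShape.up ℤ) :=
  mapTotHom_natural (T := extT φ) (T' := modT A) (F := ModuleCat.extendScalars.{u, u, u} φ)
    (H := 𝟭 (ModuleCat.{u} A)) (G := 𝟭 (ModuleCat.{u} A))
    (α := fun X Y => Iso.refl (((extT φ).obj X).obj Y))
    (fun _ _ => (Category.comp_id _).trans (Category.id_comp _).symm)
    (fun _ _ _ _ => (Category.comp_id _).trans (Category.id_comp _).symm) f g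

/-- The second step. -/
noncomputable def mixIsoR (K : DRing.Cx R) (N : DRing.Cx A) :
    (DTen.resCx φ).obj (tot (extT φ) K N) ≅
      tot (modT R) (((𝟭 (ModuleCat.{u} R)).mapHomologicalComplex (ComplexShape.up ℤ)).obj K) ((DTen.resCx φ).obj N) :=
  mapTotIso (extT φ) (modT R) (𝟭 _) (ModuleCat.restrictScalars.{u} φ) (ModuleCat.restrictScalars.{u} φ) (mixA φ)
    (fun f b => mixA_natural₁ φ f b) (fun a _ _ g => mixA_natural₂ φ a g) K N

lemma mixIsoR_natural {K K' : DRing.Cx R} (f : K ⟶ K') {N N' : DRing.Cx A} (g : N ⟶ N') :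
    (DTen.resCx φ).map (HomologicalComplex.mapBifunctorMap f g (extT φ) (ComplexShape.up ℤ)) ≫ (mixIsoR φ K' N').hom =
      (mixIsoR φ K N).hom ≫ HomologicalComplex.mapBifunctorMap
        (((𝟭 (ModuleCat.{u} R)).mapHomologicalComplex (ComplexShape.up ℤ)).map f)
        ((DTen.resCx φ).map g) (modT R) (ComplexShape.up ℤ) :=
  mapTotHom_natural (fun f b => mixA_natural₁ φ f b) (fun a _ _ g => mixA_natural₂ φ a g) f g

/-- `((K ⊗_R A) ⊗_A N)|_R ≅ K ⊗_R N|_R`. -/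
noncomputable def mixIso (K : DRing.Cx R) (N : DRing.Cx A) :
    (DTen.resCx φ).obj ((DTen.extCx φ).obj K ⊗ N) ≅ K ⊗ (DTen.resCx φ).obj N :=
  (DTen.resCx φ).mapIso (mixIsoA φ K N).symm ≪≫ mixIsoR φ K N

lemma mixIso_natural {K K' : DRing.Cx R} (f : K ⟶ K') {N N' : DRing.Cx A} (g : N ⟶ N') :
    (DTen.resCx φ).map ((DTen.extCx φ).map f ⊗ₘ g) ≫ (mixIso φ K' N').hom =
      (mixIso φ K N).hom ≫ (f ⊗ₘ (DTen.resCx φ).map g) := by
  have h1 : ((DTen.extCx φ).map f ⊗ₘ g) ≫ (mixIsoA φ K' N').inv =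
      (mixIsoA φ K N).inv ≫ HomologicalComplex.mapBifunctorMap f g (extT φ) (ComplexShape.up ℤ) :=
    (Iso.comp_inv_eq _).2 ((((Iso.inv_comp_eq _).2 (mixIsoA_natural φ f g))).symm.trans (Category.assoc _ _ _).symm)
  show (DTen.resCx φ).map _ ≫ (DTen.resCx φ).map (mixIsoA φ K' N').inv ≫ (mixIsoR φ K' N').hom =
    ((DTen.resCx φ).map (mixIsoA φ K N).inv ≫ (mixIsoR φ K N).hom) ≫ _
  rw [← Functor.map_comp_assoc]
  erw [h1]
  rw [Functor.map_comp_assoc]
  exact ((congrArg (fun z => _ ≫ z) (mixIsoR_natural φ f g))).trans (Category.assoc _ _ _).symm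

/-- A map of restricted complexes natural for scalar endomorphisms is degreewise linear. -/
lemma linear_of_scalar {P M : DRing.Cx A} (f : (DTen.resCx φ).obj P ⟶ (DTen.resCx φ).obj M)
    (h : ∀ a : A, (DTen.resCx φ).map (a • 𝟙 P) ≫ f = f ≫ (DTen.resCx φ).map (a • 𝟙 M)) (i : ℤ) (a : A)
    (x : P.X i) :
    let g : P.X i → M.X i := fun y => (f.f i).hom y
    g (a • x) = a • g x :=
  ConcreteCategory.congr_hom (HomologicalComplex.congr_hom (h a) i) x

/-- Such an isomorphism comes from one over `A`. -/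
noncomputable def descendIso {P M : DRing.Cx A} (f : (DTen.resCx φ).obj P ≅ (DTen.resCx φ).obj M)
    (h : ∀ a : A, (DTen.resCx φ).map (a • 𝟙 P) ≫ f.hom = f.hom ≫ (DTen.resCx φ).map (a • 𝟙 M)) : P ≅ M :=
  HomologicalComplex.Hom.isoOfComponents
    (fun i => LinearEquiv.toModuleIso
      { ((HomologicalComplex.Hom.isoApp f i).toLinearEquiv.toAddEquiv : P.X i ≃+ M.X i) with
        map_smul' := fun a x => linear_of_scalar φ f.hom h i a x })
    (fun i j _ => (ModuleCat.restrictScalars.{u} φ).map_injective (by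
      refine ModuleCat.hom_ext (LinearMap.ext fun x => ?_)
      exact ConcreteCategory.congr_hom (f.hom.comm i j) x))

lemma map_descendIso {P M : DRing.Cx A} (f : (DTen.resCx φ).obj P ≅ (DTen.resCx φ).obj M)
    (h : ∀ a : A, (DTen.resCx φ).map (a • 𝟙 P) ≫ f.hom = f.hom ≫ (DTen.resCx φ).map (a • 𝟙 M)) :
    (DTen.resCx φ).map (descendIso φ f h).hom = f.hom := by
  ext i x
  rfl

lemma tensorHom_smul (X : DRing.Cx A) (Y : DRing.Cx A) (a : A) : (𝟙 X ⊗ₘ (a • 𝟙 Y)) = a • 𝟙 (X ⊗ Y) := by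
  refine HomologicalComplex.hom_ext _ _ fun n => HomologicalComplex.mapBifunctor.hom_ext fun p q h => ?_
  show HomologicalComplex.ιMapBifunctor X Y (modT A) (ComplexShape.up ℤ) p q n h ≫
    (HomologicalComplex.mapBifunctorMap (𝟙 X) (a • 𝟙 Y) (modT A) (ComplexShape.up ℤ)).f n = _
  rw [HomologicalComplex.ι_mapBifunctorMap]
  show (𝟙 (X.X p)) ▷ (Y.X q) ≫ X.X p ◁ (a • 𝟙 (Y.X q)) ≫ HomologicalComplex.ιMapBifunctor X Y (modT A) (ComplexShape.up ℤ) p q n h =
    HomologicalComplex.ιMapBifunctor X Y (modT A) (ComplexShape.up ℤ) p q n h ≫ (a • 𝟙 ((X ⊗ Y).X n))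
  rw [MonoidalCategory.id_whiskerRight, Category.id_comp, MonoidalLinear.whiskerLeft_smul,
    MonoidalCategory.whiskerLeft_id, Linear.smul_comp, Category.id_comp, Linear.comp_smul]
  exact congrArg (a • ·) (Category.comp_id _).symm

/-- `(R[0]⟦m⟧) ⊗ Y ≅ Y⟦m⟧`. -/
noncomputable def shiftUnit (m : ℤ) (Y : DRing.Cx R) : (𝟙_ (DRing.Cx R))⟦m⟧ ⊗ Y ≅ Y⟦m⟧ :=
  CochainComplex.mapBifunctorShift₁Iso (𝟙_ (DRing.Cx R)) Y (modT R) m ≪≫
    (shiftFunctor (DRing.Cx R) m).mapIso (λ_ Y)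

lemma shiftUnit_natural (m : ℤ) {Y Y' : DRing.Cx R} (g : Y ⟶ Y') :
    ((𝟙_ (DRing.Cx R))⟦m⟧ ◁ g) ≫ (shiftUnit m Y').hom = (shiftUnit m Y).hom ≫ g⟦m⟧' := by
  have h : HomologicalComplex.mapBifunctorMap (𝟙 ((𝟙_ (DRing.Cx R))⟦m⟧)) g (modT R) (ComplexShape.up ℤ) ≫
      (CochainComplex.mapBifunctorShift₁Iso (𝟙_ (DRing.Cx R)) Y' (modT R) m).hom =
      (CochainComplex.mapBifunctorShift₁Iso (𝟙_ (DRing.Cx R)) Y (modT R) m).hom ≫
        (HomologicalComplex.mapBifunctorMap (𝟙 (𝟙_ (DRing.Cx R))) g (modT R) (ComplexShape.up ℤ))⟦m⟧' := by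
    refine HomologicalComplex.hom_ext _ _ fun n => HomologicalComplex.mapBifunctor.hom_ext fun p q hpq => ?_
    simp [CochainComplex.ι_mapBifunctorShift₁Iso_hom_f _ _ _ _ _ _ _ _ (p + m) (n + m) rfl rfl,
      CochainComplex.ι_mapBifunctorShift₁Iso_hom_f_assoc _ _ _ _ _ _ _ _ (p + m) (n + m) rfl rfl]
  have h' : ((𝟙_ (DRing.Cx R))⟦m⟧ ◁ g) ≫ (CochainComplex.mapBifunctorShift₁Iso (𝟙_ (DRing.Cx R)) Y' (modT R) m).hom =
      (CochainComplex.mapBifunctorShift₁Iso (𝟙_ (DRing.Cx R)) Y (modT R) m).hom ≫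
        (𝟙_ (DRing.Cx R) ◁ g)⟦m⟧' := h
  simp only [shiftUnit, Iso.trans_hom, Functor.mapIso_hom, Category.assoc]
  rw [reassoc_of% h', ← Functor.map_comp, MonoidalCategory.leftUnitor_naturality, Functor.map_comp]

/-- `mixIso` at a translate of the unit. -/
noncomputable def resMixShift (m : ℤ) (N : DRing.Cx A) :
    (DTen.resCx φ).obj ((DTen.extCx φ).obj ((𝟙_ (DRing.Cx R))⟦m⟧) ⊗ N) ≅ (DTen.resCx φ).obj (N⟦m⟧) :=
  mixIso φ ((𝟙_ (DRing.Cx R))⟦m⟧) N ≪≫ shiftUnit m _ ≪≫ (((DTen.resCx φ).commShiftIso m).app N).symm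

lemma resMixShift_natural (m : ℤ) {N N' : DRing.Cx A} (g : N ⟶ N') :
    (DTen.resCx φ).map (𝟙 _ ⊗ₘ g) ≫ (resMixShift φ m N').hom =
      (resMixShift φ m N).hom ≫ (DTen.resCx φ).map (g⟦m⟧') := by
  have h := mixIso_natural φ (𝟙 ((𝟙_ (DRing.Cx R))⟦m⟧)) g
  rw [CategoryTheory.Functor.map_id] at h
  simp only [resMixShift, Iso.trans_hom, Iso.symm_hom, Iso.app_inv, Category.assoc]
  rw [reassoc_of% h, MonoidalCategory.id_tensorHom, reassoc_of% shiftUnit_natural]
  exact congrArg (fun z => _ ≫ _ ≫ z) (((DTen.resCx φ).commShiftIso m).inv.naturality g)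

lemma resMixShift_linear (m : ℤ) (N : DRing.Cx A) (a : A) :
    (DTen.resCx φ).map (a • 𝟙 _) ≫ (resMixShift φ m N).hom =
      (resMixShift φ m N).hom ≫ (DTen.resCx φ).map (a • 𝟙 (N⟦m⟧)) := by
  have h := resMixShift_natural φ m (a • 𝟙 N)
  rw [tensorHom_smul] at h
  have e : (a • 𝟙 N)⟦m⟧' = a • 𝟙 (N⟦m⟧) := HomologicalComplex.hom_ext _ _ fun i => rfl
  rw [e] at h
  exact h

/-- `(R[0]⟦m⟧ ⊗_R A) ⊗_A N ≅ N⟦m⟧`. -/
noncomputable def mixShift (m : ℤ) (N : DRing.Cx A) :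
    (DTen.extCx φ).obj ((𝟙_ (DRing.Cx R))⟦m⟧) ⊗ N ≅ N⟦m⟧ :=
  descendIso φ (resMixShift φ m N) (resMixShift_linear φ m N)

lemma map_mixShift (m : ℤ) (N : DRing.Cx A) :
    (DTen.resCx φ).map (mixShift φ m N).hom = (resMixShift φ m N).hom := map_descendIso φ _ _

end Groth.Agent.DQCoh
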