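import Groth.Agent.PCohLib.Cone

/-! Killing a cycle class through a given map to the cycles. -/

set_option autoImplicit false
set_option backward.isDefEq.respectTransparency false
set_option backward.defeqAttrib.useBackward true
set_option linter.style.haveILetI false
set_option linter.unusedSectionVars false

universe w v u

open CategoryTheory CategoryTheory.Limits CategoryTheory.Pretriangulated HomologicalComplex
open CochainComplex CochainComplex.HomComplex
open Groth.Agent.PCohLib

namespace Groth.Agent.DQCoh.ResProp17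

variable {C : Type u} [Category.{v} C] [Abelian C]

lemma exists_modification_of_lift {E F : CochainComplex C ℤ} (u : E ⟶ F)
    (n : ℤ) (hu : NQis u (n + 1)) {G : C} (v : G ⟶ (mappingCone u).cycles n)
    [hv : Epi (v ≫ (mappingCone u).homologyπ n)] :
    ∃ (φ : (CochainComplex.singleFunctor C (n + 1)).obj G ⟶ E)
      (u' : mappingCone φ ⟶ F), mappingCone.inr φ ≫ u' = u ∧ NQis u' n := by
  let ψ : G ⟶ (mappingCone u).X n :=
    v ≫ (mappingCone u).iCycles n
  have hψd : ψ ≫ (mappingCone u).d n (n + 1) = 0 := by simp [ψ]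
  let a : G ⟶ E.X (n + 1) := ψ ≫ (mappingCone.fst u).1.v n (n + 1) rfl
  let b : G ⟶ F.X n := ψ ≫ (mappingCone.snd u).v n n (add_zero n)
  have had : a ≫ E.d (n + 1) (n + 1 + 1) = 0 := by
    have := congrArg (fun f => f ≫ (mappingCone.fst u).1.v (n + 1) (n + 1 + 1) rfl) hψd
    simp only [Category.assoc, zero_comp, mappingCone.d_fst_v u n (n + 1) (n + 1 + 1) rfl rfl,
      Preadditive.neg_comp, Preadditive.comp_neg, neg_eq_zero] at this
    simpa [a] using this
  have hab : a ≫ u.f (n + 1) = -(b ≫ F.d n (n + 1)) := by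
    have := congrArg (fun f => f ≫ (mappingCone.snd u).v (n + 1) (n + 1) (add_zero _)) hψd
    simp only [Category.assoc, zero_comp, mappingCone.d_snd_v u n (n + 1) rfl,
      Preadditive.comp_add] at this
    rw [eq_neg_iff_add_eq_zero]
    simpa [a, b] using this
  let φ : (CochainComplex.singleFunctor C (n + 1)).obj G ⟶ E :=
    HomologicalComplex.mkHomFromSingle a (fun k hk => by
      obtain rfl : n + 1 + 1 = k := hk
      exact had)
  have hφf : φ.f (n + 1) = (singleObjXSelf (.up ℤ) (n + 1) G).hom ≫ a :=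
    HomologicalComplex.mkHomFromSingle_f _ _
  let u' : mappingCone φ ⟶ F := mappingCone.desc φ
    (Cochain.fromSingleMk (-b) (show n + 1 + (-1) = n by omega)) u (by
      rw [Cochain.δ_fromSingleMk _ _ 0 (n + 1) (add_zero _)]
      apply (Cochain.fromSingleEquiv (add_zero (n + 1))).injective
      simp [Cochain.fromSingleEquiv, hφf, hab])
  have hinr : mappingCone.inr φ ≫ u' = u := mappingCone.inr_desc _ _ _ _
  refine ⟨φ, u', hinr, fun i hi => ?_, ?_⟩
  · haveI hepi : Epi (homologyMap u' i) := by
      have : Epi (homologyMap (mappingCone.inr φ) i ≫ homologyMap u' i) := by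
        rw [← homologyMap_comp, hinr]; exact (nQis_mono hu (show n + 1 ≤ i by omega)).2
      exact epi_of_epi (homologyMap (mappingCone.inr φ) i) _
    haveI : Mono (homologyMap u' i) := by
      obtain ⟨j, rfl⟩ : ∃ j, i = j + 1 := ⟨i - 1, by omega⟩
      rw [mono_homologyMap_iff_up_to_refinements _ j (j + 1) (j + 1 + 1) (by simp) (by simp)]
      intro A x hx y hy
      have hX : IsZero (((CochainComplex.singleFunctor C (n + 1)).obj G).X (j + 1 + 1)) :=
        isZero_single_obj_X _ _ _ _ (by omega)
      obtain ⟨z, e, rfl⟩ : ∃ (z : A ⟶ _) (e : A ⟶ E.X (j + 1)),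
          x = z ≫ (mappingCone.inl φ).v (j + 1 + 1) (j + 1) (by omega) + e ≫ (mappingCone.inr φ).f (j + 1) := by
        obtain ⟨p, q, h⟩ := mappingCone.decomp_to φ x (j + 1 + 1) rfl
        exact ⟨p, q, h⟩
      obtain rfl : z = 0 := hX.eq_of_tgt _ _
      simp only [zero_comp, zero_add] at hx hy ⊢
      have he : e ≫ E.d (j + 1) (j + 1 + 1) = 0 := by
        have := hx =≫ (mappingCone.snd φ).v (j + 1 + 1) (j + 1 + 1) (add_zero _)
        simpa using this
      have hy' : e ≫ u.f (j + 1) = y ≫ F.d j (j + 1) := by simpa [u'] using hy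
      rcases lt_or_eq_of_le (show n ≤ j by omega) with hj | hj
      · haveI := hu.1 (j + 1) (by omega)
        obtain ⟨A', π, hπ, e', h⟩ := (mono_homologyMap_iff_up_to_refinements u j (j + 1) (j + 1 + 1)
          (by simp) (by simp)).1 inferInstance e he y hy'
        exact ⟨A', π, hπ, e' ≫ (mappingCone.inr φ).f j, by simp [reassoc_of% h]⟩
      · subst hj
        let c : A ⟶ (mappingCone u).X n :=
          e ≫ (mappingCone.inl u).v (n + 1) n (by omega) - y ≫ (mappingCone.inr u).f n
        have hc : c ≫ (mappingCone u).d n (n + 1) = 0 := by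
          simp [c, mappingCone.inl_v_d u (n + 1) n (n + 1 + 1) (by omega) (by omega),
            reassoc_of% he, reassoc_of% hy']
        obtain ⟨A₁, p₁, hp₁, g, hg⟩ := surjective_up_to_refinements_of_epi
          (v ≫ (mappingCone u).homologyπ n)
          ((mappingCone u).liftCycles c (n + 1) (by simp) hc ≫ (mappingCone u).homologyπ n)
        obtain ⟨A₂, p₂, hp₂, c', hc'⟩ := ((mappingCone u).comp_homologyπ_eq_iff_up_to_refinements
          (n - 1) n (by simp) _ _).1 (((Category.assoc _ _ _).trans hg).trans (Category.assoc _ _ _).symm)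
        have hfst := hc' =≫ ((mappingCone u).iCycles n ≫ (mappingCone.fst u).1.v n (n + 1) rfl)
        simp [mappingCone.d_fst_v u (n - 1) n (n + 1) (by omega) rfl, c] at hfst
        refine ⟨A₂, p₂ ≫ p₁, inferInstance,
          (p₂ ≫ g ≫ (singleObjXSelf (.up ℤ) (n + 1) G).inv) ≫ (mappingCone.inl φ).v (n + 1) n (by omega) -
            (c' ≫ (mappingCone.fst u).1.v (n - 1) n (by omega)) ≫ (mappingCone.inr φ).f n, ?_⟩
        have hd1 : ((CochainComplex.singleFunctor C (n + 1)).obj G).d (n + 1) (n + 1 + 1) = 0 := rfl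
        simp [mappingCone.inl_v_d φ (n + 1) n (n + 1 + 1) (by omega) (by omega), hd1, hφf, a, ψ,
          reassoc_of% hfst, sub_eq_add_neg]
    exact isIso_of_mono_of_epi _
  · rw [epi_homologyMap_iff_up_to_refinements _ (n - 1) n (n + 1) (by simp) (by simp)]
    intro A y hy
    let c : A ⟶ (mappingCone u).X n := y ≫ (mappingCone.inr u).f n
    have hc : c ≫ (mappingCone u).d n (n + 1) = 0 := by simp [c, reassoc_of% hy]
    obtain ⟨A₁, p₁, hp₁, g, hg⟩ := surjective_up_to_refinements_of_epi
      (v ≫ (mappingCone u).homologyπ n)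
      ((mappingCone u).liftCycles c (n + 1) (by simp) hc ≫ (mappingCone u).homologyπ n)
    obtain ⟨A₂, p₂, hp₂, c', hc'⟩ := ((mappingCone u).comp_homologyπ_eq_iff_up_to_refinements
      (n - 1) n (by simp) _ _).1 (((Category.assoc _ _ _).trans hg).trans (Category.assoc _ _ _).symm)
    have hfst := hc' =≫ ((mappingCone u).iCycles n ≫ (mappingCone.fst u).1.v n (n + 1) rfl)
    have hsnd := hc' =≫ ((mappingCone u).iCycles n ≫ (mappingCone.snd u).v n n (add_zero n))
    simp [mappingCone.d_fst_v u (n - 1) n (n + 1) (by omega) rfl, c] at hfst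
    simp [mappingCone.d_snd_v u (n - 1) n (by omega), c] at hsnd
    let e' := c' ≫ (mappingCone.fst u).1.v (n - 1) n (by omega)
    refine ⟨A₂, p₂ ≫ p₁, inferInstance,
      -((p₂ ≫ g ≫ (singleObjXSelf (.up ℤ) (n + 1) G).inv) ≫ (mappingCone.inl φ).v (n + 1) n (by omega)) +
        e' ≫ (mappingCone.inr φ).f n, ?_, c' ≫ (mappingCone.snd u).v (n - 1) (n - 1) (add_zero _), ?_⟩
    · have hd1 : ((CochainComplex.singleFunctor C (n + 1)).obj G).d (n + 1) (n + 1 + 1) = 0 := rfl
      have h0 : (p₂ ≫ g ≫ a) - e' ≫ E.d n (n + 1) = 0 := by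
        simp only [a, ψ, e', Category.assoc, sub_eq_add_neg]
        exact hfst.symm
      have h0' := sub_eq_zero.1 h0
      simp [mappingCone.inl_v_d φ (n + 1) n (n + 1 + 1) (by omega) (by omega), hd1, hφf,
        reassoc_of% h0']
    · simp [u', e', b, ψ, hsnd]
      abel

end Groth.Agent.DQCoh.ResProp17
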