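import Groth.Agent.DQCoh.PerfApproxBase
import Groth.Agent.DQCoh.AffinePush
import Groth.Agent.Dual22Lib.PerfGen

/-!
# Approximation by perfect complexes
-/

set_option autoImplicit false
set_option backward.isDefEq.respectTransparency false
set_option backward.defeqAttrib.useBackward true
set_option linter.style.haveILetI false
set_option linter.unusedSectionVars false
set_option synthInstance.maxHeartbeats 100000

universe u

open CategoryTheory CategoryTheory.Limits CategoryTheory.Pretriangulated AlgebraicGeometry Opposite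
open Groth.Agent.DCat Groth.Agent.DCat.PerfLocal Groth.Agent.Dual22Lib Groth.Agent.Dual22Lib.AdjGeom
open Groth.Agent.Dual22Lib.PerfSupp
open scoped ZeroObject

attribute [local instance] HasDerivedCategory.standard
attribute [-instance] Int.instConditionallyCompleteLinearOrder

namespace Groth.Agent.DQCoh.PerfApprox

variable {X : Scheme.{u}}

/-- Approximation in the top degree, with depth `r`. -/
def Top (X : Scheme.{u}) : Prop :=
  ∀ O : X.Opens, IsCompact (O : Set X) → ∃ r : ℕ, ∀ (b : ℤ) (E : DCoh.D X), DCoh.IsQCohD E → E.IsLE b →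
    DCoh.IsPseudoCoherentD (b - r) E → LEOn O (b - r - 1) E →
    ∃ (P : DCoh.D X) (α : P ⟶ E), DCoh.IsPerfect P ∧ killed O.ι P ∧ PullPerf.Apx b α

/-- From the top degree to every degree. -/
theorem full_of_forall [CompactSpace X] (O : X.Opens) (r r' : ℕ)
    (hr : ∀ (b : ℤ) (E : DCoh.D X), DCoh.IsQCohD E → E.IsLE b →
      DCoh.IsPseudoCoherentD (b - r) E → LEOn O (b - r') E →
      ∃ (P : DCoh.D X) (α : P ⟶ E), DCoh.IsPerfect P ∧ killed O.ι P ∧ PullPerf.Apx b α)
    (m : ℤ) (E : DCoh.D X) (hE : DCoh.IsQCohD E) (hp : DCoh.IsPseudoCoherentD (m - r) E)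
    (hs : LEOn O (m - r') E) :
    ∃ (P : DCoh.D X) (α : P ⟶ E), DCoh.IsPerfect P ∧ killed O.ι P ∧ PullPerf.Apx m α := by
  obtain ⟨b, hb⟩ := DQCoh.exists_isLE_psc hp
  suffices key : ∀ (k : ℕ) (E : DCoh.D X), DCoh.IsQCohD E → DCoh.IsPseudoCoherentD (m - r) E →
      LEOn O (m - r') E → E.IsLE (m - 1 + k) →
      ∃ (P : DCoh.D X) (α : P ⟶ E), DCoh.IsPerfect P ∧ killed O.ι P ∧ PullPerf.Apx m α by
    exact key (b - m + 1).toNat E hE hp hs (DerivedCategory.TStructure.t.isLE_of_le E b _ (by omega))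
  intro k
  induction k with
  | zero =>
    intro E hE _ _ hle
    simp only [Int.natCast_zero, add_zero] at hle
    haveI := PullPerf.preservesFiniteLimits_restrict O.ι
    have hz := (DerivedCategory.isLE_iff _ _).1 hle
    refine ⟨0, 0, PerfLift.isPerfect_isZero (isZero_zero _), (DCoh.restrictD O.ι).map_isZero (isZero_zero _),
      fun i hi => ?_, ?_⟩
    · exact ⟨0, ((DerivedCategory.homologyFunctor X.Modules i).map_isZero (isZero_zero _)).eq_of_src _ _,
        (hz i (by omega)).eq_of_src _ _⟩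
    · exact ⟨fun g h _ => (hz m (by omega)).eq_of_src _ _⟩
  | succ k ih =>
    intro E hE hp hs hle
    obtain ⟨n, hn⟩ : ∃ n, n = m + (k : ℤ) := ⟨_, rfl⟩
    rw [show m - 1 + ((k + 1 : ℕ) : ℤ) = n by push_cast; omega] at hle
    obtain ⟨P₁, α₁, hP₁, hk₁, hα₁⟩ := hr n E hE hle (PCTriangle.psc_mono (by omega) hp)
      (leOn_mono hs le_rfl (by omega))
    obtain ⟨C, v, w, hT⟩ := distinguished_cocone_triangle α₁
    have hC : C.IsLE (n - 1) := (PullPerf.apx_iff_isLE n _ hT).1 hα₁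
    have hCq : DCoh.IsQCohD C := DQCoh.isQCohD_obj₃ hT (PerfLift.isQCohD_perfect hP₁) hE
    have hCp : DCoh.IsPseudoCoherentD (m - r) C :=
      PCTriangle.psc_cone hT (DQCoh.psc_of_perfect hP₁ _) hp
    have hCs : LEOn O (m - r') C := leOn_obj₃ hT (leOn_of_killed _ hk₁) hs
    obtain ⟨P₂, α₂, hP₂, hk₂, hα₂⟩ := ih C hCq hCp hCs
      (DerivedCategory.TStructure.t.isLE_of_le C (n - 1) _ (by omega))
    obtain ⟨C', v', w', hT'⟩ := distinguished_cocone_triangle α₂
    exact exists_fibre_of_comp hT hT' hP₁ hP₂ hk₁ hk₂ ((PullPerf.apx_iff_isLE m _ hT').1 hα₂)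

/-- Approximation in every degree. -/
theorem full_of_top [CompactSpace X] (hX : Top X) (O : X.Opens) (hO : IsCompact (O : Set X)) :
    ∃ r : ℕ, ∀ (m : ℤ) (E : DCoh.D X), DCoh.IsQCohD E → DCoh.IsPseudoCoherentD (m - r) E →
      LEOn O (m - r - 1) E →
      ∃ (P : DCoh.D X) (α : P ⟶ E), DCoh.IsPerfect P ∧ killed O.ι P ∧ PullPerf.Apx m α := by
  obtain ⟨r, hr⟩ := hX O hO
  refine ⟨r, fun m E hE hp hs => full_of_forall O r (r + 1) (fun b E hE hb hp hs => hr b E hE hb hp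
    (leOn_mono hs le_rfl (by omega))) m E hE hp (leOn_mono hs le_rfl (by omega))⟩

/-- No maps to quasi-coherent objects living in degrees `≤ c`. -/
def NoMaps (C : DCoh.D X) (c : ℤ) : Prop :=
  ∀ Y : DCoh.D X, DCoh.IsQCohD Y → Y.IsLE c → ∀ φ : C ⟶ Y, φ = 0

/-- Free covers in the top degree on affine schemes. -/
theorem exists_cover_affine [IsAffine X] (E : DCoh.D X) (b : ℤ) (hE : DCoh.IsQCohD E) (hb : E.IsLE b)
    (hp : DCoh.IsPseudoCoherentD b E) :
    ∃ (F : DCoh.D X) (g : F ⟶ E), DCoh.IsPerfect F ∧ F.IsLE b ∧ PullPerf.Apx b g ∧ NoMaps F (b - 1) := by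
  let A : CommRingCat.{u} := Γ(X, ⊤)
  let k : Spec A ⟶ X := X.isoSpec.inv
  haveI := AffSchLib.preservesFiniteLimits_tilde A
  haveI := DQCoh.preservesFiniteColimits_tilde A
  haveI := PullPerf.preservesFiniteLimits_restrict k
  haveI := DCat.hasRpush k
  obtain ⟨adj, hadj⟩ := exists_adj k
  haveI := hadj
  obtain ⟨hfull, hfaith, hess⟩ := DQCoh.tildeD_main A
  haveI := hfull
  haveI := hfaith
  have hunit : ∀ N : DCoh.D X, IsIso (adj.unit.app N) := fun N => by
    obtain ⟨M, p, q, hM⟩ := distinguished_cocone_triangle (adj.unit.app N)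
    refine (Triangle.isZero₃_iff_isIso₁ _ hM).1 (PerfSupp.isZero_of_killed fun x =>
      ⟨_, k, inferInstance, by rw [Scheme.Hom.opensRange_of_isIso]; exact trivial, ?_⟩)
    haveI : IsIso ((DCoh.restrictD k).map (adj.unit.app N)) := by
      rw [show (DCoh.restrictD k).map (adj.unit.app N) = inv (adj.counit.app _) from
        IsIso.eq_inv_of_inv_hom_id (adj.left_triangle_components N)]
      infer_instance
    exact (Triangle.isZero₃_iff_isIso₁ _ ((DCoh.restrictD k).map_distinguished _ hM)).2 ‹_›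
  have hLE : ∀ (n : ℤ) (N : DCoh.D X), ((rd k).obj N).IsLE n → N.IsLE n := fun n N h => by
    refine isLE_of_cover fun x => ⟨k.opensRange, by rw [Scheme.Hom.opensRange_of_isIso]; exact trivial, ?_⟩
    exact (leOn_iff k n N).1 h
  obtain ⟨M, ⟨e⟩⟩ := (hess ((rd k).obj E)).1 (AdjGeom.isQCohD_restrictD k hE)
  have hMb : M.IsLE b := by
    refine DQCoh.isLE_of_isLE_tildeD ?_
    haveI := PerfLocal.isLE_rd k E b hb
    exact DerivedCategory.TStructure.t.isLE_of_iso e.symm b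
  have hMp := DQCoh.pc_of_psc_tildeD (PCTriangle.psc_iso e.symm (DQCoh.psc_rd k hp))
  haveI := hMb
  obtain ⟨n, T, hT, h₁, h₂, h₃⟩ := DRingLib.exists_cover_cone M b (DRingLib.finite_top hMp)
  subst h₂
  have hfree := DRingLib.freeAt_finiteFree (R := A) b n
  have hproj : ∀ i, Module.Projective A ((DRingLib.freeAt A b n).X i) := DRingLib.projective_of_free hfree.2
  let F₀ := (DCoh.tildeD A).obj T.obj₁
  have hF₀ : DCoh.IsPerfect F₀ := DQCoh.isPerfect_tildeD
    ⟨DRingLib.freeAt A b n, b, b, hfree.1, fun i => ⟨(hfree.2 i).1, hproj i⟩, ⟨eqToIso h₁.symm⟩⟩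
  have hαapx : DRingLib.Apx b T.mor₁ := (DRingLib.apx_iff_isLE b T hT).2 h₃
  let g₀ : F₀ ⟶ (rd k).obj E := (DCoh.tildeD A).map T.mor₁ ≫ e.hom
  have hg₀ : PullPerf.Apx b g₀ := (DQCoh.apx_tildeD _ hαapx).comp (PullPerf.apx_of_isIso b _)
  let F := (DCoh.Rpush k).obj F₀
  haveI := hunit E
  let g : F ⟶ E := (DCoh.Rpush k).map g₀ ≫ inv (adj.unit.app E)
  have hg : (rd k).map g = adj.counit.app F₀ ≫ g₀ := by
    rw [show (rd k).map g = (rd k).map ((DCoh.Rpush k).map g₀) ≫ (rd k).map (inv (adj.unit.app E)) from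
      Functor.map_comp _ _ _, Functor.map_inv]
    rw [show inv ((rd k).map (adj.unit.app E)) = adj.counit.app _ from
      IsIso.inv_eq_of_hom_inv_id (adj.left_triangle_components E)]
    exact adj.counit.naturality g₀
  have hga : PullPerf.Apx b g := by
    obtain ⟨C, v, w, hC⟩ := distinguished_cocone_triangle g
    refine (PullPerf.apx_iff_isLE b _ hC).2 (hLE _ _ ((PullPerf.apx_iff_isLE b _
      ((DCoh.restrictD k).map_distinguished _ hC)).1 ?_))
    show PullPerf.Apx b ((rd k).map g)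
    rw [hg]
    exact (PullPerf.apx_of_isIso b _).comp hg₀
  have hFb : F.IsLE b := by
    refine hLE b F ?_
    haveI : (DerivedCategory.Q.obj (DRingLib.freeAt A b n)).IsLE b := by
      haveI : CochainComplex.IsStrictlyLE (DRingLib.freeAt A b n) b :=
        (CochainComplex.isStrictlyLE_iff _ b).2 fun i hi => hfree.1 i (Or.inr hi)
      exact (DerivedCategory.isLE_Q_obj_iff _ _).2 inferInstance
    haveI : T.obj₁.IsLE b := by rw [h₁]; assumption
    haveI : F₀.IsLE b := by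
      rw [DerivedCategory.isLE_iff]
      intro i hi
      obtain ⟨η⟩ := DQCoh.nonempty_homology_natIso (tilde.functor A) i
      exact ((tilde.functor A).map_isZero (DerivedCategory.isZero_of_isLE T.obj₁ b i hi)).of_iso (η.app _)
    have e' : F₀ ≅ (rd k).obj F := (asIso (adj.counit.app F₀)).symm
    exact DerivedCategory.TStructure.t.isLE_of_iso e' b
  refine ⟨F, g, PerfSupp.isPerfect_rpush k ⊥ (fun x => Or.inl (by rw [Scheme.Hom.opensRange_of_isIso]; exact trivial))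
    hF₀ ((killed_iff _ _).2 fun i x hx => absurd hx (by simp)), hFb, hga, fun Y hY hYb φ => ?_⟩
  haveI := hunit Y
  obtain ⟨N, ⟨eY⟩⟩ := (hess ((rd k).obj Y)).1 (AdjGeom.isQCohD_restrictD k hY)
  haveI : N.IsLE (b - 1) := DQCoh.isLE_of_isLE_tildeD (by
    haveI := PerfLocal.isLE_rd k Y (b - 1) hYb
    exact DerivedCategory.TStructure.t.isLE_of_iso eY.symm (b - 1))
  have h0 : inv (adj.counit.app F₀) ≫ (rd k).map φ = 0 := by
    rw [← cancel_mono eY.inv, zero_comp]
    obtain ⟨z, hz⟩ := (DCoh.tildeD A).map_surjective ((inv (adj.counit.app F₀) ≫ (rd k).map φ) ≫ eY.inv)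
    have : eqToHom h₁.symm ≫ z = 0 := DRingLib.hom_eq_zero_of_isLE hfree.1 hproj (b - 1) (by omega) _
    rw [← hz, show z = 0 from (cancel_epi (eqToHom h₁.symm)).1 (this.trans comp_zero.symm), Functor.map_zero]
  rw [IsIso.inv_comp_eq, comp_zero] at h0
  rw [← cancel_mono (adj.unit.app Y), zero_comp]
  refine (adj.unit.naturality φ).trans ?_
  show _ ≫ (DCoh.Rpush k).map ((rd k).map φ) = 0
  rw [h0]
  haveI : (DCoh.Rpush k).IsRightAdjoint := adj.isRightAdjoint
  simp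

/-- Killing on basic opens, keeping degrees under control. -/
theorem exists_killing_bdd [IsAffine X] (s : Finset Γ(X, ⊤)) {N : DCoh.D X} (hN : DCoh.IsQCohD N)
    (hk : ∀ f ∈ s, killed (X.basicOpen f).ι N) {b c : ℤ} {P : DCoh.D X} (hP : DCoh.IsPerfect P) (hPb : P.IsLE b)
    (hPc : NoMaps P c) (g : P ⟶ N) :
    ∃ (C : DCoh.D X) (u : P ⟶ C) (g' : C ⟶ N), DCoh.IsPerfect C ∧ C.IsLE b ∧ NoMaps C (c - s.card) ∧
      (∀ f ∈ s, killed (X.basicOpen f).ι C) ∧ u ≫ g' = g := by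
  classical
  induction s using Finset.induction_on with
  | empty => exact ⟨P, 𝟙 P, g, hP, hPb, by simpa using hPc, fun f hf => absurd hf (Finset.notMem_empty f),
      Category.id_comp g⟩
  | insert f s hfs ih =>
    obtain ⟨C, u, g', hC, hCb, hCc, hkC, hu⟩ := ih fun f' hf' => hk f' (Finset.mem_insert_of_mem hf')
    let R : CommRingCat.{u} := Γ(X, ⊤)
    letI oX : X.Over (Spec (CommRingCat.of R)) := ⟨X.isoSpec.hom⟩
    obtain ⟨a, ha⟩ := CohAdj.surjective_toGlobal_isoSpec X rfl f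
    have hsupp : ∀ i : ℤ, CohB1.support (DCoh.HD N i) ⊆
        (X.zeroLocus (U := ⊤) {Coh.toGlobal (X ↘ Spec (CommRingCat.of R)) a} : Set X) := fun i x hx => by
      refine (X.mem_zeroLocus_iff _ x).2 fun r hr hxr => ?_
      obtain rfl : r = Coh.toGlobal (X ↘ Spec (CommRingCat.of R)) a := hr
      refine hx ((AdjGeom.killed_iff (X.basicOpen f).ι N).1 (hk f (Finset.mem_insert_self f s)) i x ?_)
      rw [Scheme.Opens.opensRange_ι]
      rwa [← ha]
    obtain ⟨n, hn⟩ := Torsion.exists_pow_smul_eq_zero R a hC hN hsupp g'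
    obtain ⟨C', v, δ, hT⟩ := distinguished_cocone_triangle ((a ^ n) • 𝟙 C)
    obtain ⟨g'', hg''⟩ := Triangle.yoneda_exact₂ _ hT g' (by
      show ((a ^ n) • 𝟙 C) ≫ g' = 0
      rw [Linear.smul_comp, Category.id_comp, hn])
    refine ⟨C', u ≫ v, g'', PCTriangle.perfect_cone hT hC hC, ?_, ?_, fun f' hf' => ?_, by
      rw [Category.assoc, ← hu]
      exact congrArg (u ≫ ·) hg''.symm⟩
    · haveI := hCb
      haveI := DerivedCategory.TStructure.t.isLE_shift C b 1 (b - 1) (by ring)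
      exact isLE_obj₂ (rot_of_distTriang _ hT) hCb
        (DerivedCategory.TStructure.t.isLE_of_le (C⟦(1 : ℤ)⟧) (b - 1) b (by omega))
    · intro Y hY hYc φ
      haveI : Y.IsLE (c - (s.card : ℤ) - 1) := by
        rw [Finset.card_insert_of_notMem hfs] at hYc
        convert hYc using 1
        push_cast; ring
      obtain ⟨χ, hχ⟩ := Triangle.yoneda_exact₂ _ (rot_of_distTriang _ hT) φ
        (hCc Y hY (DerivedCategory.TStructure.t.isLE_of_le Y (c - (s.card : ℤ) - 1) _ (by omega)) _)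
      suffices χ = 0 by rw [hχ, this, comp_zero]
      haveI : (Y⟦(-1 : ℤ)⟧).IsLE (c - (s.card : ℤ)) := by
        exact DerivedCategory.TStructure.t.isLE_shift Y (c - (s.card : ℤ) - 1) (-1) _ (by ring)
      let e := shiftFunctorCompIsoId (DCoh.D X) (-1 : ℤ) 1 (by omega)
      obtain ⟨y, hy⟩ := (shiftFunctor (DCoh.D X) (1 : ℤ)).map_surjective (χ ≫ e.inv.app Y)
      rw [hCc _ (DQCoh.isQCohD_shift hY (-1)) inferInstance y, Functor.map_zero] at hy
      rw [← cancel_mono (e.inv.app Y), zero_comp]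
      exact hy.symm
    rcases Finset.mem_insert.1 hf' with rfl | hf'
    · let W := X.basicOpen f'
      haveI := PullPerf.preservesFiniteLimits_restrict W.ι
      letI : (W : Scheme.{u}).Over (Spec (CommRingCat.of R)) := ⟨W.ι ≫ X ↘ Spec (CommRingCat.of R)⟩
      haveI : W.ι.IsOver (Spec (CommRingCat.of R)) := ⟨rfl⟩
      haveI : IsIso ((DCoh.restrictD W.ι).map ((a ^ n) • 𝟙 C)) := by
        rw [ScalarD.restrictD_map_smul_id]
        refine ScalarD.isIso_smul_id _ _ ?_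
        rw [map_pow]
        refine IsUnit.pow n ?_
        rw [show Coh.toGlobal ((W : Scheme.{u}) ↘ Spec (CommRingCat.of R)) a =
          W.ι.appTop (Coh.toGlobal (X ↘ Spec (CommRingCat.of R)) a) from
            (KLin.toGlobal_comp W.ι (X ↘ Spec (CommRingCat.of R)) a).symm ▸ rfl, ha]
        rw [Scheme.Opens.ι_appTop]
        exact PerfLift.isUnit_map_homOfLE f' (le_of_eq W.ι_image_top) _
      exact (Triangle.isZero₃_iff_isIso₁ _ ((DCoh.restrictD W.ι).map_distinguished _ hT)).2 ‹_›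
    · haveI := PullPerf.preservesFiniteLimits_restrict (X.basicOpen f').ι
      exact Triangle.isZero₃_of_isIso₁ _ ((DCoh.restrictD (X.basicOpen f').ι).map_distinguished _ hT)
        ⟨⟨0, (hkC f' hf').eq_of_src _ _, (hkC f' hf').eq_of_tgt _ _⟩⟩

/-- The affine case, for a set of functions. -/
theorem top_affine_finset [IsAffine X] (s : Finset Γ(X, ⊤)) (O : X.Opens)
    (hs : (O : Set X) = ⋃ f ∈ s, (X.basicOpen f : Set X)) (b : ℤ) (E : DCoh.D X) (hE : DCoh.IsQCohD E)
    (hb : E.IsLE b) (hp : DCoh.IsPseudoCoherentD b E) (hsupp : LEOn O (b - s.card) E) :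
    ∃ (P : DCoh.D X) (α : P ⟶ E), DCoh.IsPerfect P ∧ killed O.ι P ∧ PullPerf.Apx b α := by
  obtain ⟨F, g, hF, hFb, hg, hFc⟩ := exists_cover_affine E b hE hb hp
  obtain ⟨c, hc, hcb, hcs⟩ : ∃ c : ℤ, c ≤ b - s.card + 1 ∧ c ≤ b ∧ (b - s.card + 1 ≤ c ∨ s.card = 0) :=
    ⟨min b (b - s.card + 1), min_le_right _ _, min_le_left _ _, by omega⟩
  let t := DerivedCategory.TStructure.t (C := X.Modules)
  have hT := t.triangleLTGE_distinguished c E
  haveI hL : ((t.truncLT c).obj E).IsLE (c - 1) := t.isLE_truncLT_obj _ _ _ (by omega)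
  haveI hN : ((t.truncGE c).obj E).IsGE c := inferInstance
  have hlow : ∀ i, c ≤ i → IsZero ((DerivedCategory.homologyFunctor X.Modules i).obj ((t.truncLT c).obj E)) :=
    fun i hi => (DerivedCategory.isLE_iff _ _).1 hL i (by omega)
  have hiso : ∀ i, c ≤ i → IsIso ((DerivedCategory.homologyFunctor X.Modules i).map ((t.truncGEπ c).app E)) :=
    fun i hi => by
      haveI : Mono ((DerivedCategory.homologyFunctor X.Modules i).map ((t.triangleLTGE c).obj E).mor₂) :=
        (DerivedCategory.HomologySequence.mono_homologyMap_mor₂_iff _ hT i).2 ((hlow i hi).eq_of_src _ _)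
      haveI : Epi ((DerivedCategory.homologyFunctor X.Modules i).map ((t.triangleLTGE c).obj E).mor₂) :=
        (DerivedCategory.HomologySequence.epi_homologyMap_mor₂_iff _ hT i (i + 1) rfl).2
          ((hlow (i + 1) (by omega)).eq_of_tgt _ _)
      exact isIso_of_mono_of_epi ((DerivedCategory.homologyFunctor X.Modules i).map ((t.triangleLTGE c).obj E).mor₂)
  have hNq : DCoh.IsQCohD ((t.truncGE c).obj E) := fun i => by
    by_cases hi : c ≤ i
    · haveI := hiso i hi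
      exact Coherent.isQCoh_of_iso (asIso ((DerivedCategory.homologyFunctor X.Modules i).map ((t.truncGEπ c).app E)))
        (h := hE i)
    · exact Coherent.isQCoh_of_isZero ((DerivedCategory.isGE_iff _ _).1 hN i (by omega))
  have hNk : killed O.ι ((t.truncGE c).obj E) := (killed_iff _ _).2 fun i x hx => by
    rw [Scheme.Opens.opensRange_ι] at hx
    refine DCat.SuppOpen.subsingleton_of_isZero_stalkFunctor _ x ?_
    by_cases hi : c ≤ i
    · haveI := hiso i hi
      haveI : Subsingleton ((DCoh.HD E i).presheaf.stalk x) := by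
        rcases hcs with hcs | hcs
        · exact hsupp i (by omega) x hx
        · obtain ⟨f, hf, -⟩ := Set.mem_iUnion₂.1 (hs.le hx)
          exact absurd hcs (Finset.card_ne_zero_of_mem hf)
      exact (DCat.SuppOpen.isZero_stalkFunctor (DCoh.HD E i) x).of_iso ((DerSch.stalkFunctor X x).mapIso
        (asIso ((DerivedCategory.homologyFunctor X.Modules i).map ((t.truncGEπ c).app E))).symm)
    · exact (DerSch.stalkFunctor X x).map_isZero ((DerivedCategory.isGE_iff _ _).1 hN i (by omega))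
  obtain ⟨C, u, g', hC, hCb, hCc, hkC, hu⟩ := exists_killing_bdd s hNq (fun f hf => killed_mono O.ι _ (by
    rw [Scheme.Opens.opensRange_ι, Scheme.Opens.opensRange_ι]
    exact fun x hx => hs.ge (Set.mem_iUnion₂.2 ⟨f, hf, hx⟩)) hNk) hF hFb hFc (g ≫ (t.truncGEπ c).app E)
  have hLq : DCoh.IsQCohD ((t.truncLT c).obj E) := DQCoh.isQCohD_obj₃
    (inv_rot_of_distTriang _ (inv_rot_of_distTriang _ hT)) (DQCoh.isQCohD_shift hE (-1))
    (DQCoh.isQCohD_shift hNq (-1))
  obtain ⟨g'', hg''⟩ := Triangle.coyoneda_exact₃ _ hT g' (by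
    refine hCc _ (DQCoh.isQCohD_shift hLq 1) ?_ _
    haveI := DerivedCategory.TStructure.t.isLE_shift ((t.truncLT c).obj E) (c - 1) 1 (c - 2) (by ring)
    exact DerivedCategory.TStructure.t.isLE_of_le _ (c - 2) _ (by omega))
  replace hg'' : g' = g'' ≫ (t.truncGEπ c).app E := hg''
  refine ⟨C, g'', hC, killed_of_cover fun x hx => ?_, fun i hi => ?_, ?_⟩
  · obtain ⟨f, hf, hxf⟩ := Set.mem_iUnion₂.1 (hs.le hx)
    exact ⟨_, (X.basicOpen f).ι, inferInstance, by simpa using hxf, hkC f hf⟩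
  · exact ⟨0, ((DerivedCategory.isLE_iff _ _).1 hCb i hi).eq_of_src _ _,
      ((DerivedCategory.isLE_iff _ _).1 hb i hi).eq_of_src _ _⟩
  · let H := DerivedCategory.homologyFunctor X.Modules b
    haveI := hiso b (by omega)
    haveI := hg.2
    haveI : Epi (H.map (u ≫ g'') ≫ H.map ((t.truncGEπ c).app E)) := by
      rw [← H.map_comp, Category.assoc, ← hg'', hu, H.map_comp]
      infer_instance
    have h2 : H.map u ≫ H.map g'' = H.map g := by
      rw [← cancel_mono (H.map ((t.truncGEπ c).app E)), ← H.map_comp, ← H.map_comp, ← H.map_comp, Category.assoc,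
        ← hg'', hu]
    exact epi_of_epi_fac h2

/-- The affine case. -/
theorem top_affine [IsAffine X] : Top X := by
  intro O hO
  obtain ⟨s, hs⟩ := PerfLift.exists_cover_basic O hO
  exact ⟨s.card, fun b E hE hb hp hsupp => top_affine_finset s O hs b E hE hb
    (PCTriangle.psc_mono (by omega) hp) (leOn_mono hsupp le_rfl (by omega))⟩

/-- The gluing step. -/
theorem exists_step (U V : X.Opens) (hUV : U ⊔ V = ⊤) (hUVc : IsCompact ((U ⊓ V : X.Opens) : Set X))
    (hV : IsAffineOpen V) (O : X.Opens)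
    (hOV : IsCompact ((V.ι ⁻¹ᵁ O : (V : Scheme.{u}).Opens) : Set (V : Scheme.{u}))) (rU : ℕ)
    (hrU : ∀ (m : ℤ) (E : DCoh.D (U : Scheme.{u})), DCoh.IsQCohD E → DCoh.IsPseudoCoherentD (m - rU) E →
      LEOn (U.ι ⁻¹ᵁ O) (m - rU - 1) E →
      ∃ (P : DCoh.D (U : Scheme.{u})) (α : P ⟶ E), DCoh.IsPerfect P ∧ killed (U.ι ⁻¹ᵁ O).ι P ∧ PullPerf.Apx m α) :
    ∃ r : ℕ, ∀ (b : ℤ) (E : DCoh.D X), DCoh.IsQCohD E → E.IsLE b →
      DCoh.IsPseudoCoherentD (b - r) E → LEOn O (b - r - 1) E →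
      ∃ (P : DCoh.D X) (α : P ⟶ E), DCoh.IsPerfect P ∧ killed O.ι P ∧ PullPerf.Apx b α := by
  haveI : IsAffine V := hV
  haveI : CompactSpace (V : Scheme.{u}) := isCompact_iff_compactSpace.1 hV.isCompact
  haveI := PullPerf.preservesFiniteLimits_restrict U.ι
  haveI := PullPerf.preservesFiniteLimits_restrict V.ι
  haveI := PullPerf.preservesFiniteLimits_restrict O.ι
  obtain ⟨rV, hrV⟩ := full_of_top (top_affine (X := (V : Scheme.{u}))) (V.ι ⁻¹ᵁ (U ⊔ O)) (by
    rw [Scheme.Hom.preimage_sup]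
    exact (isCompact_preimage_inf U V hUVc).union hOV)
  refine ⟨rU + rV + 2, fun b E hE hb hp hs => ?_⟩
  push_cast at hp hs
  obtain ⟨m', hm'⟩ : ∃ m' : ℤ, m' = b - rV - 1 := ⟨_, rfl⟩
  -- approximate on `U`
  obtain ⟨PU, α, hPU, hkU, hα⟩ := hrU m' ((rd U.ι).obj E) (AdjGeom.isQCohD_restrictD U.ι hE)
    (PCTriangle.psc_mono (by omega) (DQCoh.psc_rd U.ι hp)) (leOn_mono (leOn_rd U.ι O hs) le_rfl (by omega))
  obtain ⟨F, hF, hkF, ⟨eF⟩⟩ := exists_extend_step' U V hUV hUVc hV O hOV hPU hkU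
  let E₂ := E ⊞ E⟦(1 : ℤ)⟧
  have hbi := binaryBiproductTriangle_distinguished E (E⟦(1 : ℤ)⟧)
  haveI := hb
  haveI hb1 : (E⟦(1 : ℤ)⟧).IsLE (b - 1) := DerivedCategory.TStructure.t.isLE_shift E b 1 (b - 1) (by ring)
  have hE₂ : DCoh.IsQCohD E₂ := (AdjGeom.qcD X).ext_of_isTriangulatedClosed₂ _ hbi hE (DQCoh.isQCohD_shift hE 1)
  have hE₂p : DCoh.IsPseudoCoherentD (b - (rU + rV + 2)) E₂ := PCTriangle.psc_ext hbi hp
    (PCTriangle.psc_mono (by omega) (PCTriangle.psc_shift hp 1 (b - (rU + rV + 2) - 1) (by ring)))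
  have hE₂s : LEOn O (b - (rU + rV + 2) - 1) E₂ := leOn_obj₂ hbi hs
    (leOn_mono (leOn_shift hs 1 (b - (rU + rV + 2) - 2) (by ring)) le_rfl (by omega))
  have hE₂b : E₂.IsLE b := isLE_obj₂ hbi hb (DerivedCategory.TStructure.t.isLE_of_le (E⟦(1 : ℤ)⟧) (b - 1) b (by omega))
  haveI := preservesBinaryBiproducts_of_preservesBiproducts (rd U.ι)
  let e₂ : (rd U.ι).obj E₂ ≅ (rd U.ι).obj E ⊞ ((rd U.ι).obj E)⟦(1 : ℤ)⟧ :=
    (rd U.ι).mapBiprod _ _ ≪≫ biprod.mapIso (Iso.refl _) (((rd U.ι).commShiftIso (1 : ℤ)).app E)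
  let φ : (rd U.ι).obj F ⟶ (rd U.ι).obj E₂ := eF.hom ≫ biprod.map α (α⟦(1 : ℤ)⟧') ≫ e₂.inv
  have hφ : PullPerf.Apx m' φ := by
    have h1 : PullPerf.Apx m' (α⟦(1 : ℤ)⟧') := by
      obtain ⟨D, v, w, hD⟩ := distinguished_cocone_triangle α
      haveI : D.IsLE (m' - 1) := (PullPerf.apx_iff_isLE m' _ hD).1 hα
      have h := (PullPerf.apx_iff_isLE (m' - 1) _ (Triangle.shift_distinguished _ hD 1)).2
        (DerivedCategory.TStructure.t.isLE_shift D (m' - 1) 1 (m' - 1 - 1) (by ring))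
      have h' : PullPerf.Apx (m' - 1) (-(α⟦(1 : ℤ)⟧')) := by simpa [Int.negOnePow_one] using h
      haveI : IsIso (-𝟙 (((rd U.ι).obj E)⟦(1 : ℤ)⟧)) :=
        ⟨-𝟙 _, by simp, by simp⟩
      refine PCTriangle.apx_mono (m := m' - 1) ?_ (by omega)
      rw [show α⟦(1 : ℤ)⟧' = (-(α⟦(1 : ℤ)⟧')) ≫ (-𝟙 _) by simp]
      exact h'.comp (PullPerf.apx_of_isIso _ _)
    exact (PullPerf.apx_of_isIso m' eF.hom).comp ((apx_biprod hα h1).comp (PullPerf.apx_of_isIso m' e₂.inv))
  obtain ⟨R, ι, β, hR, hkR, hι, hβ⟩ := exists_lift_up_to_iso U V hUV hUVc hV O hF hkF hE₂ φ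
  obtain ⟨C, v, w, hT⟩ := distinguished_cocone_triangle β
  have hCq : DCoh.IsQCohD C := DQCoh.isQCohD_obj₃ hT (PerfLift.isQCohD_perfect hR) hE₂
  have hCp : DCoh.IsPseudoCoherentD (b - rV) C :=
    PCTriangle.psc_cone hT (DQCoh.psc_of_perfect hR _) (PCTriangle.psc_mono (by omega) hE₂p)
  have hCU : LEOn U (m' - 1) C := by
    refine (leOn_iff_opens U _ C).1 ((PullPerf.apx_iff_isLE m' _ ((DCoh.restrictD U.ι).map_distinguished _ hT)).1 ?_)
    show PullPerf.Apx m' ((rd U.ι).map β)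
    rw [hβ]
    haveI := hι
    exact (PullPerf.apx_of_isIso m' _).comp hφ
  have hCO : LEOn O (b - rV - 1) C :=
    leOn_obj₃ hT (leOn_of_killed _ hkR) (leOn_mono hE₂s le_rfl (by omega))
  -- approximate on `V`
  obtain ⟨PV, γ, hPV, hkV, hγ⟩ := hrV b ((rd V.ι).obj C) (AdjGeom.isQCohD_restrictD V.ι hCq)
    (DQCoh.psc_rd V.ι hCp) (leOn_rd V.ι _ (leOn_sup (leOn_mono hCU le_rfl (by omega)) hCO))
  haveI := DCat.hasRpush V.ι
  obtain ⟨aV, haV⟩ := AdjGeom.exists_adj V.ι
  haveI := haV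
  have hcov : ∀ x : X, x ∈ V.ι.opensRange ∨ x ∈ U ⊔ O := fun x =>
    ((hUV ▸ trivial : x ∈ U ⊔ V) : x ∈ U ∨ x ∈ V).elim (fun h => Or.inr (Or.inl h)) fun h => Or.inl (by simpa using h)
  let P' := (DCoh.Rpush V.ι).obj PV
  have hP' : DCoh.IsPerfect P' := PerfSupp.isPerfect_rpush V.ι _ hcov hPV hkV
  have hkP' : killed (U ⊔ O).ι P' := killed_rpush V.ι _ hkV
  have hkP'U : killed U.ι P' := killed_mono (U ⊔ O).ι U.ι (by simp) hkP'
  obtain ⟨γ', hγ'⟩ := exists_extend_map U V hUV aV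
    (killed_mono (V.ι ⁻¹ᵁ (U ⊔ O)).ι (V.ι ⁻¹ᵁ U).ι (by
      simpa using Scheme.Hom.preimage_mono V.ι (le_sup_left : U ≤ U ⊔ O)) hkV) γ
  obtain ⟨D, v', w', hT'⟩ := distinguished_cocone_triangle γ'
  have hDV : LEOn V (b - 1) D := by
    refine (leOn_iff_opens V _ D).1 ((PullPerf.apx_iff_isLE b _ ((DCoh.restrictD V.ι).map_distinguished _ hT')).1 ?_)
    show PullPerf.Apx b ((rd V.ι).map γ')
    rw [hγ']
    exact (PullPerf.apx_of_isIso b _).comp hγ
  have hDU : LEOn U (b - 1) D :=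
    leOn_obj₃ hT' (leOn_of_killed _ hkP'U) (leOn_mono hCU le_rfl (by omega))
  have hD : D.IsLE (b - 1) := isLE_of_cover fun x =>
    ((hUV ▸ trivial : x ∈ U ⊔ V) : x ∈ U ∨ x ∈ V).elim (fun h => ⟨U, h, hDU⟩) fun h => ⟨V, h, hDV⟩
  obtain ⟨P, θ, hP, hkP, hθ⟩ := exists_fibre_of_comp hT hT' hR hP' hkR
    (killed_mono (U ⊔ O).ι O.ι (by simp) hkP') hD
  exact ⟨P, θ ≫ biprod.fst, hP, hkP, hθ.comp (apx_fst E _)⟩

theorem top_step [CompactSpace X] [QuasiSeparatedSpace X] (U V : X.Opens) (hUV : U ⊔ V = ⊤)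
    (hU : IsCompact (U : Set X)) (hV : IsAffineOpen V) (hG : Top (U : Scheme.{u})) : Top X := by
  intro O hO
  haveI : IsAffine V := hV
  haveI : CompactSpace (U : Scheme.{u}) := isCompact_iff_compactSpace.1 hU
  haveI : CompactSpace (V : Scheme.{u}) := isCompact_iff_compactSpace.1 hV.isCompact
  obtain ⟨rU, hrU⟩ := full_of_top hG (U.ι ⁻¹ᵁ O) (isCompact_preimage U.ι hO)
  exact exists_step U V hUV (QuasiSeparatedSpace.inter_isCompact _ _ U.2 hU V.2 hV.isCompact) hV O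
    (isCompact_preimage V.ι hO) rU hrU

/-- Approximation in the top degree on quasi-compact quasi-separated schemes. -/
theorem top [CompactSpace X] [QuasiSeparatedSpace X] : Top X := by
  have hat : ∀ O : X.Opens, IsCompact (O : Set X) → OpenInduct.At Top O := fun O hO => by
    refine compact_open_induction_on (P := OpenInduct.At Top) O hO ?_ fun S hS U ih => ?_
    · refine OpenInduct.at_bot fun T hT => ?_
      haveI := hT
      haveI : IsAffine T := inferInstance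
      exact top_affine
    intro T j hj0 hj
    haveI : QuasiSeparatedSpace T := QuasiSeparatedSpace.of_isOpenEmbedding j.isOpenEmbedding
    haveI : CompactSpace T := by
      refine isCompact_univ_iff.1 (j.isOpenEmbedding.isInducing.isCompact_iff.2 ?_)
      rw [Set.image_univ, show Set.range j = ((S ⊔ U.1 : X.Opens) : Set X) from congrArg SetLike.coe hj]
      exact hS.union U.2.isCompact
    have hr : ∀ A : X.Opens, A ≤ S ⊔ U.1 → ((j ⁻¹ᵁ A).ι ≫ j).opensRange = A := fun A hA => by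
      rw [Scheme.Hom.opensRange_comp, Scheme.Opens.opensRange_ι, Scheme.Hom.image_preimage_eq_opensRange_inf, hj]
      exact inf_eq_right.2 hA
    refine top_step (j ⁻¹ᵁ S) (j ⁻¹ᵁ U.1) ?_ (isCompact_preimage j hS) ?_ (ih _ _ (hr _ le_sup_left))
    · rw [← Scheme.Hom.preimage_sup, ← hj, Scheme.Hom.preimage_opensRange]
    · haveI : IsAffine ((j ⁻¹ᵁ U.1).ι ≫ j).opensRange := by rw [hr _ le_sup_right]; exact U.2
      exact IsAffine.of_isIso ((j ⁻¹ᵁ U.1).ι ≫ j).isoOpensRange.hom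
  exact hat ⊤ isCompact_univ X (𝟙 X) (Scheme.Hom.opensRange_of_isIso _)

/-- Approximations on an open containing the support extend. -/
theorem exists_approx_of_open (U O : X.Opens) (hUO : U ⊔ O = ⊤) {E : DCoh.D X} {m : ℤ} (hs : LEOn O (m - 1) E)
    {P : DCoh.D (U : Scheme.{u})} (α : P ⟶ (rd U.ι).obj E) (hP : DCoh.IsPerfect P)
    (hk : killed (U.ι ⁻¹ᵁ O).ι P) (hα : PullPerf.Apx m α) :
    ∃ (P' : DCoh.D X) (β : P' ⟶ E), DCoh.IsPerfect P' ∧ killed O.ι P' ∧ PullPerf.Apx m β := by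
  haveI := DCat.hasRpush U.ι
  haveI := PullPerf.preservesFiniteLimits_restrict U.ι
  obtain ⟨adj, hadj⟩ := AdjGeom.exists_adj U.ι
  haveI := hadj
  have hcov : ∀ x : X, x ∈ U ∨ x ∈ O := fun x => (hUO ▸ trivial : x ∈ U ⊔ O)
  obtain ⟨β, hβ⟩ := exists_extend_map O U (by rw [sup_comm, hUO]) adj hk α
  have hkP : killed O.ι ((DCoh.Rpush U.ι).obj P) := killed_rpush U.ι O hk
  refine ⟨_, β, PerfSupp.isPerfect_rpush U.ι O (fun x => (hcov x).imp_left fun h => by simpa using h) hP hk, hkP, ?_⟩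
  obtain ⟨D, v, w, hT⟩ := distinguished_cocone_triangle β
  refine (PullPerf.apx_iff_isLE m _ hT).2 (isLE_of_cover fun x => ?_)
  rcases hcov x with hx | hx
  · refine ⟨U, hx, (leOn_iff_opens U _ D).1
      ((PullPerf.apx_iff_isLE m _ ((DCoh.restrictD U.ι).map_distinguished _ hT)).1 ?_)⟩
    show PullPerf.Apx m ((rd U.ι).map β)
    rw [hβ]
    exact (PullPerf.apx_of_isIso m _).comp hα
  · exact ⟨O, hx, leOn_obj₃ hT (leOn_of_killed _ hkP) hs⟩

end Groth.Agent.DQCoh.PerfApprox
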