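import Groth.Agent.DQCoh.CechFlat17
import Groth.Agent.DQCoh.ResPropD17
import Groth.Agent.DQCoh.AcyclicPush
import Groth.Agent.DQCoh.AffinePush
import Groth.Agent.PCohLib.Infinite
import Groth.Agent.Dual22Lib.FlatPerfPush
import Groth.Agent.Dual22Lib.GenEnv
import Groth.Agent.Dual22Lib.PerfGen
import Groth.Agent.DCat.PullTensor
import Groth.Agent.Coherent.TensorQcoh

/-!
# Perfect direct images of flat base changes
-/

set_option autoImplicit false
set_option backward.isDefEq.respectTransparency false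
set_option backward.defeqAttrib.useBackward true
set_option linter.style.haveILetI false
set_option linter.unusedSectionVars false
set_option synthInstance.maxHeartbeats 100000
set_option maxHeartbeats 800000

universe u

open CategoryTheory CategoryTheory.Limits CategoryTheory.Pretriangulated AlgebraicGeometry Opposite TopologicalSpace
open Groth.Agent.DCat Groth.Agent.Coherent Groth.Agent.Dual22Lib
open scoped ZeroObject

attribute [local instance] HasDerivedCategory.standard
attribute [-instance] Int.instConditionallyCompleteLinearOrder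

namespace Groth.Agent.DQCoh.PerfFlatBC17

open DQCohEquiv17 ResPropD17

/-- Quasi-coherent flat bounded above representatives. -/
theorem exists_flat_qcoh_rep {X : Scheme.{u}} [CompactSpace X] [X.IsSeparated] (K : DCoh.D X)
    (hK : DCoh.IsQCohD K) (b : ℤ) (hb : ∀ i, b < i → IsZero (DCoh.HD K i)) :
    ∃ (N : CochainComplex X.Modules ℤ) (c : ℤ), (∀ n, c < n → IsZero (N.X n)) ∧ (∀ n, Coh.IsQCoh (N.X n)) ∧
      (∀ n, FlatMod.IsFlat (N.X n)) ∧ Nonempty (DCoh.toD X N ≅ K) := by
  haveI hd : ∀ (U : X.Opens) (hU : IsAffineOpen U), IsAffineHom hU.fromSpec := fun U hU => by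
    haveI : IsAffineHom (pullback.diagonal (terminal.from X)) := inferInstance
    haveI : IsAffineHom (hU.fromSpec ≫ terminal.from X) := isAffineHom_of_isAffine _
    haveI : MorphismProperty.HasOfPostcompProperty @IsAffineHom (MorphismProperty.diagonal @IsAffineHom) :=
      MorphismProperty.hasOfPostcompProperty_iff_le_diagonal.2 le_rfl
    exact MorphismProperty.of_postcomp (W := @IsAffineHom) (W' := MorphismProperty.diagonal @IsAffineHom)
      hU.fromSpec (terminal.from X) ‹_› inferInstance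
  have hdiag : ∀ U V : X.Opens, IsAffineOpen U → IsAffineOpen V → IsAffineOpen (U ⊓ V) := fun U V hU hV => hU.inf hV
  obtain ⟨M, ⟨e⟩⟩ := (isQCohD_iff hdiag K).1 hK
  haveI : M.IsLE b := (DerivedCategory.isLE_iff _ _).2 fun i hi => by
    have h0 : IsZero ((QP X).ι.obj ((DerivedCategory.homologyFunctor _ i).obj M)) :=
      ((hb i hi).of_iso ((DerivedCategory.homologyFunctor _ i).mapIso e)).of_iso
        (SuppOpen.hdMapIso (QP X).ι M i).symm
    exact (IsZero.iff_id_eq_zero _).2 ((QP X).ι.map_injective (h0.eq_of_src _ _))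
  obtain ⟨L, hL, ⟨eL⟩⟩ := DerivedCategory.exists_iso_Q_obj_of_isLE M b
  let P : ObjectProperty (QP X).FullSubcategory := fun F => FlatMod.IsFlat F.obj
  haveI : P.IsClosedUnderIsomorphisms := ⟨fun f h x => FlatQCoh17.isFlatAt_of_iso ((QP X).ι.mapIso f) x (h x)⟩
  have hzero : ∀ F : (QP X).FullSubcategory, IsZero F → P F := fun F hF x => by
    haveI : Subsingleton ((DerSch.stalkFunctor X x).obj F.obj) :=
      ModuleCat.subsingleton_of_isZero ((DerSch.stalkFunctor X x).map_isZero ((QP X).ι.map_isZero hF))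
    exact inferInstanceAs (Module.Flat (X.presheaf.stalk x) ((DerSch.stalkFunctor X x).obj F.obj))
  haveI : P.ContainsZero := ⟨⟨0, isZero_zero _, hzero _ (isZero_zero _)⟩⟩
  have hcov : ∀ F : (QP X).FullSubcategory, PCoh.IsOfFiniteType P F := fun F => by
    haveI : Coh.IsQCoh F.obj := F.property
    obtain ⟨G, p, hp, hG, hGf⟩ := FlatQCoh17.exists_flat_qcoh_cover hd F.obj
    let π : (⟨G, hG⟩ : (QP X).FullSubcategory) ⟶ F := ObjectProperty.homMk p
    haveI : Epi ((QP X).ι.map π) := hp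
    exact ⟨⟨G, hG⟩, π, hGf, (QP X).ι.epi_of_epi_map inferInstance⟩
  have hsum : ∀ F G : (QP X).FullSubcategory, P F → P G → P (F ⨯ G) := fun F G hF hG x => by
    refine FlatQCoh17.isFlatAt_of_iso (((QP X).ι.mapIso (biprod.isoProd F G)).symm.symm) x ?_
    let C := ((ShortComplex.mk (biprod.inl : F ⟶ F ⊞ G) biprod.snd biprod.inl_snd)).map (QP X).ι
    have hC : C.ShortExact := ((ShortComplex.Splitting.ofHasBinaryBiproduct F G).map (QP X).ι).shortExact
    exact (FlatQCoh17.flat_ses hC x (hG x)).1 (hF x)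
  have hql : PCoh.IsQuasiLiftable P := fun E F w hw _ => by
    obtain ⟨G, π, hG, hπ⟩ := hcov E
    exact ⟨G, π, hG, epi_comp π w⟩
  have hac : ∀ i, b + 1 ≤ i → IsZero (L.homology i) := fun i hi =>
    ShortComplex.isZero_homology_of_isZero_X₂ _ (L.isZero_of_isStrictlyLE b i (by omega))
  have hE : PCoh.IsStrictPCAll P (0 : CochainComplex (QP X).FullSubcategory ℤ) := by
    have h0 := fun i => (HomologicalComplex.eval _ (ComplexShape.up ℤ) i).map_isZero
      (isZero_zero (CochainComplex (QP X).FullSubcategory ℤ))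
    exact ⟨⟨0, fun i _ => h0 i⟩, fun i => hzero _ (h0 i)⟩
  obtain ⟨E', v, w, -, hE', hw, -, hiso⟩ := PCohLib.exists_resolution_all hsum hql hE (0 : _ ⟶ L) (b + 1)
    (PCohLib.nQis_zero (isZero_zero _) _ hac) (fun _ _ _ _ _ => hcov _)
  obtain ⟨⟨c, hc⟩, hP⟩ := hE'
  haveI := hw
  refine ⟨((QP X).ι.mapHomologicalComplex (ComplexShape.up ℤ)).obj E', c,
    fun n hn => (QP X).ι.map_isZero (hc n hn), fun n => (E'.X n).property, hP, ⟨?_⟩⟩
  exact ((QP X).ι.mapDerivedCategoryFactors.app E').symm ≪≫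
    (QP X).ι.mapDerivedCategory.mapIso (asIso (DerivedCategory.Q.map w) ≪≫ eL.symm) ≪≫ e

/-- Tensoring a flat module with a module flat over the base gives a module flat over the base. -/
theorem flatOver_tensor {X S : Scheme.{u}} (f : X ⟶ S) (N G : X.Modules) (hN : FlatMod.IsFlat N)
    (hG : FlatMod.IsFlatOver f G) : FlatMod.IsFlatOver f ((DCoh.tensorRightMod G).obj N) := fun x => by
  haveI : Module.Flat (X.presheaf.stalk x) ((DerSch.stalkFunctor X x).obj N) := hN x
  have := FlatPerfPush.flat_restrict_tensor (f.stalkMap x).hom ((DerSch.stalkFunctor X x).obj N)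
    ((DerSch.stalkFunctor X x).obj G) (hG x)
  show Module.Flat (S.presheaf.stalk (f x)) ((ModuleCat.restrictScalars.{u} (f.stalkMap x).hom).obj
    ((DerSch.stalkFunctor X x).obj ((DCoh.tensorRightMod G).obj N)))
  haveI : Module.Flat (S.presheaf.stalk (f x)) ((ModuleCat.restrictScalars.{u} (f.stalkMap x).hom).obj
      ((DerSch.stalkFunctor X x ⋙ MonoidalCategory.tensorRight ((DerSch.stalkFunctor X x).obj G)).obj N)) := this
  exact Module.Flat.of_linearEquiv
    ((ModuleCat.restrictScalars.{u} (f.stalkMap x).hom).mapIso ((stalkTensorRightModIso G x).app N)).toLinearEquiv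

theorem isQCoh_tensor {X : Scheme.{u}} (N G : X.Modules) [Coh.IsQCoh N] [Coh.IsQCoh G] :
    Coh.IsQCoh ((DCoh.tensorRightMod G).obj N) := Coherent.isQCoh_tensorMod N G

/-- Pullback commutes with the tensor product by a module, on complexes. -/
theorem nonempty_pullTensor {X Y : Scheme.{u}} (g : X ⟶ Y) (G : Y.Modules) (N : CochainComplex Y.Modules ℤ) :
    Nonempty (((DCoh.tensorRightMod ((Scheme.Modules.pullback g).obj G)).mapHomologicalComplex (ComplexShape.up ℤ)).obj
        (((Scheme.Modules.pullback g).mapHomologicalComplex (ComplexShape.up ℤ)).obj N) ≅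
      ((Scheme.Modules.pullback g).mapHomologicalComplex (ComplexShape.up ℤ)).obj
        (((DCoh.tensorRightMod G).mapHomologicalComplex (ComplexShape.up ℤ)).obj N)) :=
  ⟨HomologicalComplex.Hom.isoOfComponents (fun n => (DCat.PullTensor.pullTensorIso g (N.X n) G).symm) fun i j _ => by
    have h := DCat.PullTensor.pullTensorHom_nat₁ g (N.d i j) G
    show (DCat.PullTensor.pullTensorIso g (N.X i) G).inv ≫
        (Scheme.Modules.pullback g).map (((DCoh.tensorBi (X := Y)).map (N.d i j)).app G) =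
      ((DCoh.tensorBi (X := X)).map ((Scheme.Modules.pullback g).map (N.d i j))).app
          ((Scheme.Modules.pullback g).obj G) ≫ (DCat.PullTensor.pullTensorIso g (N.X j) G).inv
    rw [Iso.inv_comp_eq, ← Category.assoc, Iso.eq_comp_inv]
    exact h⟩

/-- `Rf_*` on a complex of acyclic quasi-coherent modules. -/
theorem nonempty_rpush_acyclic {X S : Scheme.{u}} (f : X ⟶ S) [QuasiCompact f] [QuasiSeparated f] [DCoh.HasRpush f]
    [HasInjectiveResolutions X.Modules] (K : CochainComplex X.Modules ℤ) (hq : ∀ n, Coh.IsQCoh (K.X n))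
    (hac : ∀ (n : ℤ) (i : ℕ), 0 < i → IsZero ((Coh.Rpush f i).obj (K.X n))) :
    Nonempty ((DCoh.Rpush f).obj (DCoh.toD X K) ≅
      DCoh.toD S (((Scheme.Modules.pushforward f).mapHomologicalComplex (ComplexShape.up ℤ)).obj K)) := by
  let η := (DCoh.pushKh f).totalRightDerivedUnit DerivedCategory.Qh
    (HomotopyCategory.quasiIso X.Modules (ComplexShape.up ℤ))
  haveI : IsIso (η.app ((HomotopyCategory.quotient _ _).obj K)) := DQCoh.isIso_unit_qcoh f K hq hac
  exact ⟨((DCoh.Rpush f).mapIso ((DerivedCategory.quotientCompQhIso _).app K)).symm ≪≫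
    (asIso (η.app ((HomotopyCategory.quotient _ _).obj K))).symm ≪≫ (DerivedCategory.quotientCompQhIso S.Modules).app _⟩

variable {A B : Type u} [CommRing A] [CommRing B] (φ : A →+* B) {Z Z' : Scheme.{u}}
  [Z.Over (Spec (CommRingCat.of A))] [Z'.Over (Spec (CommRingCat.of B))] (g : Z' ⟶ Z)
  (h : IsPullback g (Z' ↘ Spec (CommRingCat.of B)) (Z ↘ Spec (CommRingCat.of A))
    (Spec.map (CommRingCat.ofHom φ)))

include h in
/-- Direct images of base changes of perfect objects tensored with flat coherent modules are perfect. -/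
theorem isPerfect_rpush_pull [IsNoetherianRing A] [IsProper (Z ↘ Spec (CommRingCat.of A))]
    [DCoh.HasLpull g] [DCoh.HasRpush (Z' ↘ Spec (CommRingCat.of B))] (P₀ : DCoh.D Z) (hP₀ : DCoh.IsPerfect P₀)
    (G₀ : Z.Modules) (hG₀ : Coh.IsCoh G₀) (hfl : FlatMod.IsFlatOver (Z ↘ Spec (CommRingCat.of A)) G₀)
    [DCoh.HasLTensorMod ((Scheme.Modules.pullback g).obj G₀)] :
    DCoh.IsPerfect ((DCoh.Rpush (Z' ↘ Spec (CommRingCat.of B))).obj
      ((DCoh.LTensorMod ((Scheme.Modules.pullback g).obj G₀)).obj ((DCoh.Lpull g).obj P₀))) := by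
  let f := Z ↘ Spec (CommRingCat.of A)
  let f' := Z' ↘ Spec (CommRingCat.of B)
  let γ := Spec.map (CommRingCat.ofHom φ)
  haveI : IsNoetherian (Spec (CommRingCat.of A)) := inferInstance
  haveI : CompactSpace Z := QuasiCompact.compactSpace_of_compactSpace f
  haveI : Z.IsSeparated := ⟨by
    rw [show terminal.from Z = f ≫ terminal.from _ from terminal.hom_ext _ _]
    infer_instance⟩
  haveI : IsSeparated f' := MorphismProperty.of_isPullback (P := @IsSeparated) h inferInstance
  haveI : QuasiCompact f' := MorphismProperty.of_isPullback (P := @QuasiCompact) h inferInstance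
  haveI : IsAffineHom g := MorphismProperty.IsStableUnderBaseChange.of_isPullback (P := @IsAffineHom) h.flip inferInstance
  haveI := Coherent.hasInjectiveResolutions_modules Z
  haveI := Coherent.hasInjectiveResolutions_modules Z'
  haveI : Coh.IsQCoh G₀ := hG₀.1
  haveI := DCat.hasRpush f
  haveI := DCat.hasLpull γ
  haveI := DCat.hasLTensorMod G₀
  obtain ⟨b, hb⟩ : ∃ b : ℤ, ∀ i, b < i → IsZero (DCoh.HD P₀ i) := by
    obtain ⟨a, ha⟩ := DQCoh.exists_isLE_perfect P₀ hP₀
    exact ⟨a, fun i hi => (DerivedCategory.isLE_iff _ _).1 ha i hi⟩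
  obtain ⟨N, c, hc, hNq, hNf, ⟨eN⟩⟩ := exists_flat_qcoh_rep P₀ (PerfLift.isQCohD_perfect hP₀) b hb
  have hNk : IsKFlatFor (shT Z) N := isKFlatFor_sheaf_of_flat N c hc hNf
  let F := ((DCoh.tensorRightMod G₀).mapHomologicalComplex (ComplexShape.up ℤ)).obj N
  obtain ⟨C, d, hgood, hCd, ⟨eC⟩, ⟨eC'⟩⟩ := CechFlat17.exists_good_resolution (φ := φ) (g := g) (h := h) F c
    (fun n hn => (DCoh.tensorRightMod G₀).map_isZero (hc n hn))
    (fun n => haveI := hNq n; isQCoh_tensor (N.X n) G₀) (fun n => flatOver_tensor f (N.X n) G₀ (hNf n) hfl)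
  let PG := (Scheme.Modules.pullback g).mapHomologicalComplex (ComplexShape.up ℤ)
  let Pγ := (Scheme.Modules.pullback γ).mapHomologicalComplex (ComplexShape.up ℤ)
  let Ff := (Scheme.Modules.pushforward f).mapHomologicalComplex (ComplexShape.up ℤ)
  let Ff' := (Scheme.Modules.pushforward f').mapHomologicalComplex (ComplexShape.up ℤ)
  obtain ⟨eT⟩ := nonempty_pullTensor g G₀ N
  let u₁ : (DCoh.LTensorMod ((Scheme.Modules.pullback g).obj G₀)).obj ((DCoh.Lpull g).obj P₀) ≅
      DCoh.toD Z' (PG.obj C) :=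
    (DCoh.LTensorMod _).mapIso ((DCoh.Lpull g).mapIso eN.symm ≪≫ PullPerf.lpullIso g hNk) ≪≫
      ltensorModIso _ (PullTot.isKFlatFor_pullback g hNk) ≪≫ DerivedCategory.Q.mapIso eT ≪≫ eC'
  obtain ⟨u₂⟩ := nonempty_rpush_acyclic f' (PG.obj C)
    (fun n => haveI := (hgood n).qcoh; EGA43.InjFibre.isQCoh_pullback g (C.X n)) fun n i hi => (hgood n).acy' i hi
  haveI : ∀ n, IsIso ((BCPush17.bcNat f γ f' g h.w).app (C.X n)) := fun n => (hgood n).bc
  let u₃ : Pγ.obj (Ff.obj C) ≅ Ff'.obj (PG.obj C) :=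
    HomologicalComplex.Hom.isoOfComponents (fun n => asIso ((BCPush17.bcNat f γ f' g h.w).app (C.X n)))
      fun i j _ => ((BCPush17.bcNat f γ f' g h.w).naturality (C.d i j)).symm
  have hk : IsKFlatFor (shT (Spec (CommRingCat.of A))) (Ff.obj C) :=
    isKFlatFor_sheaf_of_flat _ d (fun n hn => (Scheme.Modules.pushforward f).map_isZero (hCd n hn))
      fun n => (hgood n).flatPush
  obtain ⟨u₄⟩ := nonempty_rpush_acyclic f C (fun n => (hgood n).qcoh) fun n i hi => (hgood n).acy i hi
  let w : (DCoh.Rpush f').obj ((DCoh.LTensorMod ((Scheme.Modules.pullback g).obj G₀)).obj ((DCoh.Lpull g).obj P₀)) ≅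
      (DCoh.Lpull γ).obj ((DCoh.Rpush f).obj ((DCoh.LTensorMod G₀).obj P₀)) :=
    (DCoh.Rpush f').mapIso u₁ ≪≫ u₂ ≪≫ DerivedCategory.Q.mapIso u₃.symm ≪≫ (PullPerf.lpullIso γ hk).symm ≪≫
      (DCoh.Lpull γ).mapIso (u₄.symm ≪≫ (DCoh.Rpush f).mapIso (eC.symm ≪≫ (ltensorModIso G₀ hNk).symm ≪≫
        (DCoh.LTensorMod G₀).mapIso eN))
  exact PCTriangle.perfect_iso w.symm (PullPerf.isPerfect_Lpull γ _
    (FlatPerfPush.isPerfect_Rpush_LTensorMod f P₀ hP₀ G₀ hG₀ hfl
      (Et18.IsProperOver.of_subset (by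
          haveI : IsProper (𝟙 Z ≫ f) := by rw [Category.id_comp]; infer_instance
          exact Et18.isProperOver_of_isClosedImmersion f (𝟙 Z))
        (Coherent.isClosed_support _ (Coherent.locallyFinGen_of_isFT _ hG₀.2)) fun x _ => (⟨x, rfl⟩ : x ∈ Set.range (𝟙 Z : Z ⟶ Z)))))

end Groth.Agent.DQCoh.PerfFlatBC17
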