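import Groth.Agent.DQCoh.PscExtend17
import Groth.Agent.DQCoh.PerfectTor
import Groth.Agent.DQCoh.RelTorBC
import Groth.Agent.DQCoh.PerfectHom
import Groth.Agent.DCat.TorSheaf
import Groth.Agent.H8Lim.ModFPDescent
import Groth.Agent.Props12.FinLocFree
import Groth.Agent.Dual22Lib.PushPerf

/-!
# Splitting off a locally free sheaf from a perfect object resolved by a free complex
-/

set_option autoImplicit false
set_option backward.isDefEq.respectTransparency false
set_option backward.defeqAttrib.useBackward true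
set_option linter.style.haveILetI false
set_option linter.unusedSectionVars false
set_option synthInstance.maxHeartbeats 100000

universe u

open CategoryTheory CategoryTheory.Limits CategoryTheory.Pretriangulated AlgebraicGeometry HomologicalComplex
open TopologicalSpace Groth.Agent
open scoped ZeroObject

attribute [local instance] HasDerivedCategory.standard
attribute [-instance] Int.instConditionallyCompleteLinearOrder

namespace Groth.Agent.DQCoh.PerfPlus17

variable {X : Scheme.{u}}

/-- Locally free modules restrict to locally free modules. -/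
theorem isFinLocFree_restrict {W : Scheme.{u}} (k : W ⟶ X) [IsOpenImmersion k] {M : X.Modules}
    (h : FlatMod.IsFinLocFree M) : FlatMod.IsFinLocFree ((Scheme.Modules.restrictFunctor k).obj M) :=
  DCat.PerfTensor.isFinLocFree_of_iso ((Scheme.Modules.restrictFunctorIsoPullback k).app M).symm
    (DCat.PullPerf.isFinLocFree_pullback k h)

/-- Flatness is local. -/
theorem isFlat_cokernel_of_nhd (P : CochainComplex X.Modules ℤ) (n : ℤ)
    (h : ∀ x : X, ∃ (W : Scheme.{u}) (k : W ⟶ X) (_ : IsOpenImmersion k), x ∈ k.opensRange ∧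
      FlatMod.IsFlat ((Scheme.Modules.restrictFunctor k).obj (cokernel (P.d (n - 1) n))) ∧
      CohB1.IsFP ((Scheme.Modules.restrictFunctor k).obj (cokernel (P.d (n - 1) n)))) :
    FlatMod.IsFinLocFree (cokernel (P.d (n - 1) n)) := by
  refine isFinLocFree_of_local _ fun x => ?_
  obtain ⟨W, k, hk, hx, hflat, hfp⟩ := h x
  refine ⟨W, k, hk, hx, ?_⟩
  let M := (Scheme.Modules.restrictFunctor k).obj (cokernel (P.d (n - 1) n))
  haveI hq : Coh.IsQCoh M :=
    haveI : SheafOfModules.IsFinitePresentation.{u} (R := W.ringCatSheaf) M := hfp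
    inferInstanceAs (SheafOfModules.IsQuasicoherent.{u} (R := W.ringCatSheaf) M)
  refine Props12.isFinLocFree_of_isFP_of_free_stalks M hfp fun w => ?_
  haveI : Module.Flat (W.presheaf.stalk w) (M.presheaf.stalk w) := hflat w
  haveI : Module.Finite (W.presheaf.stalk w) (M.presheaf.stalk w) :=
    Props12.finite_stalk_of_isFT M (by
      haveI : SheafOfModules.IsFinitePresentation.{u} (R := W.ringCatSheaf) M := hfp
      exact inferInstanceAs (SheafOfModules.IsFiniteType.{u} (R := W.ringCatSheaf) M)) w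
  exact Module.free_of_flat_of_isLocalRing

/-- Below the amplitude of a perfect object, the cokernels of a locally free representative are locally free. -/
theorem exists_bound [CompactSpace X] (P : CochainComplex X.Modules ℤ) {b : ℤ}
    (hb : ∀ i, b < i → IsZero (P.X i)) (hf : ∀ i, FlatMod.IsFinLocFree (P.X i))
    (hP : DCoh.IsPerfect (DerivedCategory.Q.obj P)) :
    ∃ a : ℤ, ∀ n, n ≤ a → FlatMod.IsFinLocFree (cokernel (P.d (n - 1) n)) := by
  classical
  choose W k hk hx C hC e using (DCat.PerfLocal.isPerfect_iff (DerivedCategory.Q.obj P)).1 hP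
  haveI := hk
  choose a c hac using fun x => (hC x).1
  obtain ⟨t, ht⟩ := isCompact_univ.elim_finite_subcover (fun x => ((k x).opensRange : Set X))
    (fun x => (k x).opensRange.2) (fun x _ => Set.mem_iUnion.2 ⟨x, hx x⟩)
  obtain ⟨A, hA⟩ := (t.image a).finite_toSet.bddBelow
  refine ⟨A, fun n hn => isFlat_cokernel_of_nhd P n fun y => ?_⟩
  obtain ⟨x, hxt, hy⟩ := Set.mem_iUnion₂.1 (ht (Set.mem_univ y))
  refine ⟨W x, k x, hk x, hy, ?_⟩
  haveI := DCat.PullPerf.preservesFiniteLimits_restrict (k x)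
  let R := Scheme.Modules.restrictFunctor (k x)
  haveI : PreservesFiniteColimits R :=
    haveI := (Scheme.Modules.restrictAdjunction (k x)).leftAdjoint_preservesColimits
    inferInstance
  let Pk := (R.mapHomologicalComplex (ComplexShape.up ℤ)).obj P
  have hfk : ∀ i, FlatMod.IsFinLocFree (Pk.X i) := fun i => isFinLocFree_restrict (k x) (hf i)
  have hflat : ∀ i, FlatMod.IsFlat (Pk.X i) := fun i => DCat.PullPerf.isFlat_of_finLocFree (hfk i)
  have hbk : ∀ i, b < i → IsZero (Pk.X i) := fun i hi => R.map_isZero (hb i hi)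
  obtain ⟨eC⟩ := e x
  let ePk : DerivedCategory.Q.obj Pk ≅ DerivedCategory.Q.obj (C x) :=
    (R.mapDerivedCategoryFactors.app P).symm ≪≫ eC
  have hamp : DCoh.HasFlatAmplitudeIn (a x) (c x) (DerivedCategory.Q.obj Pk) :=
    ⟨C x, hac x, fun i => DCat.PullPerf.isFlat_of_finLocFree ((hC x).2 i), ⟨ePk.symm⟩⟩
  have htor := DCat.torAmp_of_flatAmp hamp
  have hax : n ≤ a x := hn.trans (hA (Finset.mem_image_of_mem _ hxt))
  have hfl : FlatMod.IsFlat (cokernel (Pk.d (n - 1) n)) := DCat.isFlat_cokernel_of_exactAt Pk hflat n fun F => by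
    haveI := DCat.hasLTensorMod F
    exact (DCat.isZero_HD_ltensorMod_iff F (DCat.isKFlatFor_sheaf_of_flat Pk b hbk hflat) (Iso.refl _) (n - 1)).1
      (htor F (n - 1) (Or.inl (by omega)))
  let eF : R.obj (cokernel (P.d (n - 1) n)) ≅ cokernel (Pk.d (n - 1) n) := PreservesCokernel.iso R _
  refine ⟨DCat.isFlat_of_iso eF.symm hfl, ?_⟩
  haveI : ∀ i, Coh.IsQCoh (Pk.X i) := fun i => DCat.PullPerf.isQCoh_of_finLocFree (hfk i)
  have hfp : ∀ i, CohB1.IsFP (Pk.X i) := fun i => Props12.isFP_of_isFinLocFree _ (hfk i)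
  refine (SheafOfModules.isFinitePresentation (W x).ringCatSheaf).prop_of_iso eF.symm
    (H8Lim.isFP_cokernel (Pk.d (n - 1) n) ?_ (hfp n))
  haveI : SheafOfModules.IsFinitePresentation.{u} (R := (W x).ringCatSheaf) (Pk.X (n - 1)) := hfp (n - 1)
  exact inferInstanceAs (SheafOfModules.IsFiniteType.{u} (R := (W x).ringCatSheaf) (Pk.X (n - 1)))

/-- The terms in degrees `≥ r`. -/
theorem exists_trunc (G : CochainComplex X.Modules ℤ) {b : ℤ} (hb : ∀ i, b < i → IsZero (G.X i))
    (hf : ∀ i, FlatMod.IsFinLocFree (G.X i)) (r : ℤ) :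
    ∃ (S : CochainComplex X.Modules ℤ) (ι : S ⟶ G), DCoh.IsStrictlyPerfect S ∧ (∀ n, n < r → IsZero (S.X n)) ∧
      ∀ n, r ≤ n → IsIso (ι.f n) := by
  let e := ComplexShape.embeddingUpIntGE r
  let S := G.stupidTrunc e
  have hlt : ∀ n, n < r → IsZero (S.X n) := fun n hn => isZero_stupidTrunc_X G e n fun i hi => by
    simp [e, ComplexShape.embeddingUpIntGE] at hi
    omega
  let ι₀ : ∀ n, S.X n ⟶ G.X n := fun n => if h : r ≤ n then
    (G.stupidTruncXIso e (i := (n - r).toNat) (by simp [e, ComplexShape.embeddingUpIntGE]; omega)).hom else 0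
  let ι : S ⟶ G :=
    { f := ι₀
      comm' := fun p q hpq => by
        simp only [ComplexShape.up_Rel] at hpq
        by_cases hp : r ≤ p
        · have hq : r ≤ q := by omega
          simp only [ι₀, dif_pos hp, dif_pos hq, S, HomologicalComplex.stupidTrunc]
          rw [(G.restriction e).extend_d_eq e (i := (p - r).toNat) (j := (q - r).toNat)
            (by simp [e, ComplexShape.embeddingUpIntGE]; omega) (by simp [e, ComplexShape.embeddingUpIntGE]; omega)]
          simp [stupidTruncXIso]
          exact DCat.PCTriangle.d_eqToHom G (by simp [e, ComplexShape.embeddingUpIntGE]; omega)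
            (by simp [e, ComplexShape.embeddingUpIntGE]; omega) _ _
        · exact (hlt p (by omega)).eq_of_src _ _ }
  have hι : ∀ n, r ≤ n → IsIso (ι.f n) := fun n hn => by
    simp only [ι, ι₀, dif_pos hn]
    infer_instance
  refine ⟨S, ι, ⟨⟨r, b, fun n hn => ?_⟩, fun n => ?_⟩, hlt, hι⟩
  · rcases hn with hn | hn
    · exact hlt n hn
    · by_cases h : r ≤ n
      · haveI := hι n h
        exact (hb n hn).of_iso (asIso (ι.f n))
      · exact hlt n (by omega)
  · by_cases h : r ≤ n
    · haveI := hι n h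
      exact DCat.PerfTensor.isFinLocFree_of_iso (asIso (ι.f n)).symm (hf n)
    · exact DCat.PerfTensor.isFinLocFree_of_isZero (hlt n (by omega))

/-- Restriction of a stupid truncation to an open differs from the restriction by one locally free sheaf. -/
theorem exists_split {W : Scheme.{u}} (k : W ⟶ X) [IsOpenImmersion k] [CompactSpace W] [QuasiSeparatedSpace W]
    (G : CochainComplex X.Modules ℤ) {b : ℤ} (hb : ∀ i, b < i → IsZero (G.X i))
    (hf : ∀ i, FlatMod.IsFinLocFree (G.X i)) (E : DCoh.D W) (hE : DCoh.IsPerfect E)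
    (e : DerivedCategory.Q.obj (((Scheme.Modules.restrictFunctor k).mapHomologicalComplex (ComplexShape.up ℤ)).obj G) ≅ E) :
    ∃ (r : ℤ) (F : W.Modules) (S : CochainComplex X.Modules ℤ), FlatMod.IsFinLocFree F ∧
      DCoh.IsStrictlyPerfect S ∧
      Nonempty (DerivedCategory.Q.obj (((Scheme.Modules.restrictFunctor k).mapHomologicalComplex (ComplexShape.up ℤ)).obj S) ≅
        (DCoh.inD W F)⟦-r⟧ ⊞ E) := by
  haveI := DCat.PullPerf.preservesFiniteLimits_restrict k
  let R := Scheme.Modules.restrictFunctor k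
  let Rc := R.mapHomologicalComplex (ComplexShape.up ℤ)
  let P : CochainComplex W.Modules ℤ := Rc.obj G
  obtain ⟨a₁, ha₁⟩ := exists_bound P (fun i hi => R.map_isZero (hb i hi))
    (fun i => isFinLocFree_restrict k (hf i)) (DCat.PCTriangle.perfect_iso e.symm hE)
  obtain ⟨a₂, ha₂⟩ := Dual22Lib.PushPerf.exists_isGE_perfect hE
  obtain ⟨N, hN⟩ := upperBound_perfect E hE
  obtain ⟨s, hs₁, hs₂, hs₃⟩ : ∃ s : ℤ, s ≤ a₁ ∧ s ≤ a₂ ∧ s + N ≤ 0 :=
    ⟨min (min a₁ a₂) (-N), (min_le_left _ _).trans (min_le_left _ _), (min_le_left _ _).trans (min_le_right _ _),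
      by have := min_le_right (min a₁ a₂) (-N); omega⟩
  let r := s + 1
  obtain ⟨S, ι, hS, hSlt, hι⟩ := exists_trunc G hb hf r
  let F := cokernel (P.d (s - 1) s)
  have hF : FlatMod.IsFinLocFree F := ha₁ s hs₁
  haveI : P.IsGE s := by
    haveI := ha₂
    haveI : (DerivedCategory.Q.obj P).IsGE s := by
      haveI := DerivedCategory.TStructure.t.isGE_of_iso e.symm a₂
      exact DerivedCategory.TStructure.t.isGE_of_ge (DerivedCategory.Q.obj P) s a₂ hs₂
    exact (DerivedCategory.isGE_Q_obj_iff P s).1 ‹_›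
  let π := P.πTruncGE s
  let j : Rc.obj S ⟶ P.truncGE s := Rc.map ι ≫ π
  have hπ : ∀ i, s < i → IsIso (π.f i) := fun i hi => by
    dsimp only [π, CochainComplex.πTruncGE, HomologicalComplex.πTruncGE]
    rw [(ComplexShape.embeddingUpIntGE s).isIso_liftExtend_f_iff _ _ (i := (i - s).toNat)
      (by simp [ComplexShape.embeddingUpIntGE]; omega)]
    refine HomologicalComplex.isIso_restrictionToTruncGE' _ _ _ fun h => ?_
    rw [ComplexShape.boundaryGE_embeddingUpIntGE_iff] at h
    omega
  have hj : ∀ i, r ≤ i → IsIso (j.f i) := fun i hi => by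
    haveI := hι i hi
    haveI := hπ i (by omega)
    haveI : IsIso ((Rc.map ι).f i) := inferInstanceAs (IsIso (R.map (ι.f i)))
    show IsIso ((Rc.map ι).f i ≫ π.f i)
    infer_instance
  haveI : Mono j := mono_of_mono_f _ fun i => by
    by_cases hi : r ≤ i
    · haveI := hj i hi
      infer_instance
    · exact ⟨fun g g' _ => (R.map_isZero (hSlt i (by omega))).eq_of_tgt g g'⟩
  let σ := ShortComplex.mk j (cokernel.π j) (cokernel.condition j)
  have hσ : σ.ShortExact := { exact := ShortComplex.exact_cokernel _ }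
  haveI : CochainComplex.IsStrictlyLE (cokernel j) s := (CochainComplex.isStrictlyLE_iff _ _).2 fun i hi => by
    haveI : IsIso ((HomologicalComplex.eval _ (ComplexShape.up ℤ) i).map j) := hj i (by omega)
    exact IsZero.of_iso (isZero_cokernel_of_epi ((HomologicalComplex.eval _ (ComplexShape.up ℤ) i).map j))
      (PreservesCokernel.iso (HomologicalComplex.eval _ (ComplexShape.up ℤ) i) j)
  haveI : CochainComplex.IsStrictlyGE (cokernel j) s := (CochainComplex.isStrictlyGE_iff _ _).2 fun i hi => by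
    haveI : Epi ((cokernel.π j).f i) := inferInstanceAs (Epi ((HomologicalComplex.eval _ (ComplexShape.up ℤ) i).map (cokernel.π j)))
    exact IsZero.of_epi ((cokernel.π j).f i) (CochainComplex.isZero_of_isStrictlyGE _ s i hi)
  obtain ⟨M, ⟨eM⟩⟩ := CochainComplex.exists_iso_single (cokernel j : CochainComplex W.Modules ℤ) s
  have eMF : M ≅ F := by
    haveI : IsIso ((cokernel.π j).f s) := by
      have hz : (HomologicalComplex.eval _ (ComplexShape.up ℤ) s).map j = 0 :=
        (R.map_isZero (hSlt s (by omega))).eq_of_src _ _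
      haveI : Epi ((cokernel.π j).f s) := inferInstanceAs (Epi ((HomologicalComplex.eval _ (ComplexShape.up ℤ) s).map (cokernel.π j)))
      haveI : Mono ((cokernel.π j).f s) := (hσ.map_of_exact (HomologicalComplex.eval _ (ComplexShape.up ℤ) s)).exact.mono_g hz
      exact isIso_of_mono_of_epi _
    exact (HomologicalComplex.singleObjXSelf (ComplexShape.up ℤ) s M).symm ≪≫
      ((HomologicalComplex.eval _ (ComplexShape.up ℤ) s).mapIso eM).symm ≪≫
      (asIso ((cokernel.π j).f s)).symm ≪≫ CochainComplex.truncGEXIsoOpcycles P s ≪≫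
      IsColimit.coconePointUniqueUpToIso (P.opcyclesIsCokernel (s - 1) s (by simp)) (colimit.isColimit _)
  have hFq : Coh.IsQCoh F := DCat.PullPerf.isQCoh_of_finLocFree hF
  let eT : DerivedCategory.Q.obj σ.X₃ ≅ (DCoh.inD W F)⟦-s⟧ :=
    DerivedCategory.Q.mapIso (eM ≪≫ (single W.Modules (ComplexShape.up ℤ) s).mapIso eMF) ≪≫
      ((DerivedCategory.singleFunctorIsoCompQ W.Modules s).app F).symm ≪≫
      (((DerivedCategory.singleFunctors W.Modules).shiftIso (-s) s 0 (by omega)).app F).symm
  let eP : DerivedCategory.Q.obj σ.X₂ ≅ E := (asIso (DerivedCategory.Q.map π)).symm ≪≫ e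
  let T := DerivedCategory.triangleOfSES hσ
  have hT : T ∈ distinguishedTriangles := DerivedCategory.triangleOfSES_distinguished hσ
  have hz : T.mor₂ = 0 := by
    have key : ∀ ψ : E ⟶ (DCoh.inD W F)⟦-s⟧, ψ = 0 := fun ψ => by
      have hq : DCoh.IsQCohD ((DCoh.inD W F)⟦-s⟧) :=
        isQCohD_shift (isQCohD_of_psc fun m => psc_inD_finLocFree m hF) (-s)
      have hle : ((DCoh.inD W F)⟦-s⟧).IsLE s :=
        DerivedCategory.TStructure.t.isLE_shift (DCoh.inD W F) 0 (-s) s (by omega)
      let z := (shiftFunctorZero' (DCoh.D W) (-(0 : ℤ)) (by omega)).app E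
      rw [← cancel_epi z.hom, comp_zero]
      exact hN _ s hq hle 0 (by omega) _
    rw [← cancel_epi eP.inv, comp_zero, ← cancel_mono eT.hom, zero_comp]
    exact key _
  obtain ⟨eS, -, -⟩ := exists_iso_binaryBiproduct_of_distTriang _ (inv_rot_of_distTriang _ hT) (by
    show T.mor₂ ≫ _ = 0
    rw [hz, zero_comp])
  refine ⟨r, F, S, hF, hS, ⟨eS ≪≫ biprod.mapIso ((shiftFunctor _ (-1 : ℤ)).mapIso eT ≪≫
    ((shiftFunctorAdd' (DCoh.D W) (-s) (-1) (-r) (by omega)).app _).symm) eP⟩⟩

end Groth.Agent.DQCoh.PerfPlus17
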