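import Groth.Agent.DCat.DTenEval
import Groth.Agent.DualLib.InjAmp
import Mathlib.RingTheory.Ideal.AssociatedPrime.Finiteness
import Mathlib.Algebra.Category.ModuleCat.Ext.Finite
import Mathlib.Algebra.Homology.HomotopyCategory.HomComplexCohomology
import Groth.Agent.DCat.RHomCxProj

/-!
# Maps from a closed point into perfect complexes over a Noetherian ring
-/

set_option autoImplicit false
set_option backward.isDefEq.respectTransparency false
set_option backward.defeqAttrib.useBackward true
set_option linter.style.haveILetI false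
set_option linter.unusedSectionVars false

universe u

open CategoryTheory CategoryTheory.Limits CategoryTheory.Pretriangulated DerivedCategory

attribute [local instance] HasDerivedCategory.standard

namespace Groth.Agent.DQCoh.PointAlg17

variable {A : Type u} [CommRing A] [IsNoetherianRing A]

/-- A module in degree zero. -/
noncomputable abbrev mod0 (N : Type u) [AddCommGroup N] [Module A N] : Dual.D A :=
  (singleFunctor (ModuleCat.{u} A) 0).obj (ModuleCat.of A N)

theorem finite_single_single (N L : ModuleCat.{u} A) [Module.Finite A N] [Module.Finite A L] (j : ℤ) :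
    Module.Finite A ((singleFunctor (ModuleCat.{u} A) 0).obj N ⟶ ((singleFunctor (ModuleCat.{u} A) 0).obj L)⟦j⟧) := by
  rcases lt_or_ge j 0 with hj | hj
  · haveI : (((singleFunctor (ModuleCat.{u} A) 0).obj L)⟦j⟧).IsGE (-j) :=
      (TStructure.t).isGE_shift _ 0 j (-j) (by omega)
    haveI : Subsingleton ((singleFunctor (ModuleCat.{u} A) 0).obj N ⟶ ((singleFunctor (ModuleCat.{u} A) 0).obj L)⟦j⟧) :=
      subsingleton_of_forall_eq 0 fun φ => (TStructure.t).zero φ 0 (-j) (by omega)
    infer_instance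
  · obtain ⟨n, rfl⟩ := Int.eq_ofNat_of_zero_le hj
    haveI : HasExt.{u} (ModuleCat.{u} A) := inferInstance
    exact Module.Finite.equiv (Abelian.Ext.homLinearEquiv (R := A) (X := N) (Y := L) (n := n))

/-- Maps from a finite module into a perfect complex form finite modules. -/
theorem finite_hom_perfect (N : ModuleCat.{u} A) [Module.Finite A N] {M : Dual.D A} (hM : DRing.IsPerfect A M)
    (i : ℤ) : Module.Finite A ((singleFunctor (ModuleCat.{u} A) 0).obj N ⟶ M⟦i⟧) := by
  let S := (singleFunctor (ModuleCat.{u} A) 0).obj N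
  suffices h : ∀ {K : Dual.D A}, DRing.IsPerfect A K → ∀ j : ℤ, Module.Finite A (S ⟶ K⟦j⟧) from h hM i
  intro K hK
  refine DCat.devissage (fun K => ∀ j : ℤ, Module.Finite A (S ⟶ K⟦j⟧)) (fun e h j => ?_) (fun T hT _ h₂ h₁' _ j => ?_)
    (fun r h j => ?_) (fun n j => ?_) hK
  · haveI := h j
    exact Module.Finite.equiv (Linear.homCongr A (Iso.refl S) ((shiftFunctor _ j).mapIso e))
  · haveI := h₂ j
    haveI := h₁' j
    have hT' := Triangle.shift_distinguished T hT j
    let T' := (Triangle.shiftFunctor (Dual.D A) j).obj T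
    haveI : Module.Finite A (S ⟶ T'.obj₁⟦(1 : ℤ)⟧) :=
      @Module.Finite.equiv A (S ⟶ (T.obj₁⟦(1 : ℤ)⟧)⟦j⟧) (S ⟶ (T.obj₁⟦j⟧)⟦(1 : ℤ)⟧) _ _ _ _ _ (h₁' j)
        (Linear.homCongr A (Iso.refl S) ((shiftFunctorComm (Dual.D A) 1 j).app T.obj₁))
    haveI : Module.Finite A (S ⟶ T'.obj₂) := ‹Module.Finite A (S ⟶ T.obj₂⟦j⟧)›
    have := DualLib.finite_of_exact (A := A) (Linear.rightComp A S T'.mor₂) (Linear.rightComp A S T'.mor₃)
      (fun φ => ⟨fun h => by
        obtain ⟨ψ, hψ⟩ := Triangle.coyoneda_exact₃ _ hT' φ h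
        exact ⟨ψ, hψ.symm⟩, by
        rintro ⟨ψ, rfl⟩
        show (ψ ≫ T'.mor₂) ≫ T'.mor₃ = 0
        exact (Category.assoc _ _ _).trans ((congrArg (ψ ≫ ·) (comp_distTriang_mor_zero₂₃ _ hT')).trans comp_zero)⟩)
    exact this
  · haveI := h j
    exact Module.Finite.of_surjective (Linear.rightComp A S ((r.map (shiftFunctor (Dual.D A) j)).r))
      fun φ => ⟨φ ≫ (r.map (shiftFunctor (Dual.D A) j)).i, by
        show (φ ≫ _) ≫ _ = φ
        rw [Category.assoc, (r.map (shiftFunctor (Dual.D A) j)).retract, Category.comp_id]⟩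
  · let L : ModuleCat.{u} A := ModuleCat.of A A
    haveI := finite_single_single N L (j - n)
    let e : ((singleFunctor (ModuleCat.{u} A) 0).obj L)⟦j - n⟧ ≅ (DerivedCategory.Q.obj (DCat.unitShift A n))⟦j⟧ :=
      ((singleFunctors (ModuleCat.{u} A)).shiftIso (j - n) (n - j) 0 (by omega)).app L ≪≫
        (((singleFunctors (ModuleCat.{u} A)).shiftIso j (n - j) n (by omega)).app L).symm ≪≫
        (shiftFunctor (Dual.D A) j).mapIso (((SingleFunctors.evaluation _ _ n).mapIso
          (DerivedCategory.singleFunctorsPostcompQIso (ModuleCat.{u} A))).app L)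
    exact Module.Finite.equiv (Linear.homCongr A (Iso.refl S) e)

/-- Killed by elements outside `m`. -/
def Killed (m : Ideal A) (H : Type*) [AddCommGroup H] [Module A H] : Prop := ∀ v : H, ∃ s, s ∉ m ∧ s • v = 0

theorem killed_of_nakayama {m : Ideal A} [m.IsMaximal] (H : Type*) [AddCommGroup H] [Module A H] [Module.Finite A H]
    (x : A) (hx : x ∈ m) (h : ∀ v : H, ∃ s, s ∉ m ∧ ∃ w : H, s • v = x • w) : Killed m H := by
  let S := m.primeCompl
  let Am := Localization S
  let HL := LocalizedModule S H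
  have htop : (⊤ : Submodule Am HL) ≤ IsLocalRing.maximalIdeal (Localization.AtPrime m) • (⊤ : Submodule Am HL) := by
    rintro v -
    induction v using LocalizedModule.induction_on with
    | h v t =>
      obtain ⟨s, hs, w, hw⟩ := h v
      have e : LocalizedModule.mk v t = (algebraMap A (Localization.AtPrime m) x) •
          (LocalizedModule.mk w (t * ⟨s, hs⟩) : HL) := by
        rw [algebraMap_smul, LocalizedModule.smul'_mk, ← hw, LocalizedModule.mk_eq]
        exact ⟨1, by simp [smul_smul, Submonoid.smul_def, mul_comm]⟩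
      rw [e]
      exact Submodule.smul_mem_smul ((IsLocalization.AtPrime.to_map_mem_maximal_iff (Localization.AtPrime m) m x).2 hx) trivial
  haveI : Module.Finite Am HL := Module.Finite.of_isLocalizedModule S (LocalizedModule.mkLinearMap S H)
  have hbot := Submodule.eq_bot_of_le_smul_of_le_jacobson_bot (R := Localization.AtPrime m) _ (⊤ : Submodule Am HL)
    Module.Finite.fg_top htop (IsLocalRing.maximalIdeal_le_jacobson _)
  intro v
  have hv : LocalizedModule.mkLinearMap S H v = 0 := by
    have : LocalizedModule.mkLinearMap S H v ∈ (⊥ : Submodule Am HL) := by rw [← hbot]; trivial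
    exact this
  obtain ⟨c, hc⟩ := (IsLocalizedModule.eq_zero_iff S (LocalizedModule.mkLinearMap S H)).1 hv
  exact ⟨c.1, c.2, hc⟩

variable (M : Dual.D A)

/-- The property of a module that its maps into shifts of `M` vanish at `m`. -/
def Van (m : Ideal A) (N : Type u) [AddCommGroup N] [Module A N] : Prop :=
  ∀ i : ℤ, Killed m (mod0 (A := A) N ⟶ M⟦i⟧)

variable {M} {m : Ideal A}

theorem van_of_equiv {N N' : Type u} [AddCommGroup N] [Module A N] [AddCommGroup N'] [Module A N'] (e : N ≃ₗ[A] N')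
    (h : Van M m N) : Van M m N' := fun i v => by
  let E : mod0 (A := A) N ≅ mod0 (A := A) N' := (singleFunctor (ModuleCat.{u} A) 0).mapIso e.toModuleIso
  obtain ⟨s, hs, hv⟩ := h i (E.hom ≫ v)
  refine ⟨s, hs, ?_⟩
  rw [← cancel_epi E.hom, Linear.comp_smul, hv, comp_zero]

/-- Short exact sequences of modules give distinguished triangles. -/
theorem exists_triangle {N₁ N₂ N₃ : Type u} [AddCommGroup N₁] [Module A N₁] [AddCommGroup N₂] [Module A N₂]
    [AddCommGroup N₃] [Module A N₃] (f : N₁ →ₗ[A] N₂) (g : N₂ →ₗ[A] N₃) (hf : Function.Injective f)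
    (hg : Function.Surjective g) (hfg : Function.Exact f g) :
    ∃ δ : mod0 (A := A) N₃ ⟶ (mod0 (A := A) N₁)⟦(1 : ℤ)⟧,
      Triangle.mk ((singleFunctor (ModuleCat.{u} A) 0).map (ModuleCat.ofHom f))
        ((singleFunctor (ModuleCat.{u} A) 0).map (ModuleCat.ofHom g)) δ ∈ distTriang _ := by
  let S := ShortComplex.mk (ModuleCat.ofHom f) (ModuleCat.ofHom g) (ModuleCat.hom_ext (LinearMap.ext fun x => hfg.apply_apply_eq_zero x))
  have hS : S.ShortExact :=
    { exact := (ShortComplex.ShortExact.moduleCat_exact_iff_function_exact S).2 hfg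
      mono_f := (ModuleCat.mono_iff_injective _).2 hf
      epi_g := (ModuleCat.epi_iff_surjective _).2 hg }
  exact ⟨_, hS.singleTriangle_distinguished⟩

theorem van_ext [m.IsPrime] {N₁ N₂ N₃ : Type u} [AddCommGroup N₁] [Module A N₁] [AddCommGroup N₂] [Module A N₂]
    [AddCommGroup N₃] [Module A N₃] (f : N₁ →ₗ[A] N₂) (g : N₂ →ₗ[A] N₃) (hf : Function.Injective f)
    (hg : Function.Surjective g) (hfg : Function.Exact f g) (h₁ : Van M m N₁) (h₃ : Van M m N₃) : Van M m N₂ := by
  obtain ⟨δ, hT⟩ := exists_triangle f g hf hg hfg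
  intro i v
  obtain ⟨s, hs, hs'⟩ := h₁ i ((singleFunctor (ModuleCat.{u} A) 0).map (ModuleCat.ofHom f) ≫ v)
  obtain ⟨w, hw⟩ := Triangle.yoneda_exact₂ _ hT (s • v) (by
    show (singleFunctor (ModuleCat.{u} A) 0).map (ModuleCat.ofHom f) ≫ (s • v) = 0
    rw [Linear.comp_smul, hs'])
  replace hw : s • v = (singleFunctor (ModuleCat.{u} A) 0).map (ModuleCat.ofHom g) ≫ w := hw
  obtain ⟨t, ht, ht'⟩ := h₃ i w
  refine ⟨t * s, fun h => ((‹m.IsPrime›.mem_or_mem h).elim ht hs), ?_⟩
  rw [mul_smul, hw, ← Linear.comp_smul, ht', comp_zero]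

theorem van_subsingleton [m.IsPrime] (N : Type u) [AddCommGroup N] [Module A N] [Subsingleton N] : Van M m N :=
  fun _ v => ⟨1, fun h => ‹m.IsPrime›.ne_top ((Ideal.eq_top_iff_one m).2 h), by
    rw [one_smul]
    exact ((singleFunctor (ModuleCat.{u} A) 0).map_isZero (ModuleCat.isZero_of_subsingleton (ModuleCat.of A N))).eq_of_src _ _⟩

/-- Scalars act on maps out of a module through the module. -/
theorem map_lsmul_comp {N : Type u} [AddCommGroup N] [Module A N] (x : A) {L : Dual.D A} (v : mod0 (A := A) N ⟶ L) :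
    (singleFunctor (ModuleCat.{u} A) 0).map (ModuleCat.ofHom (LinearMap.lsmul A N x)) ≫ v = x • v := by
  rw [show ModuleCat.ofHom (LinearMap.lsmul A N x) = x • 𝟙 (ModuleCat.of A N) from
      ModuleCat.hom_ext (LinearMap.ext fun _ => rfl), Functor.map_smul, CategoryTheory.Functor.map_id,
    Linear.smul_comp, Category.id_comp]

theorem van_quotient_of_mem (p : Ideal A) {x : A} (hx : x ∈ p) (hxm : x ∉ m) : Van M m (A ⧸ p) := fun i v =>
  ⟨x, hxm, by
    rw [← map_lsmul_comp]
    have : LinearMap.lsmul A (A ⧸ p) x = 0 := LinearMap.ext fun y => by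
      obtain ⟨y, rfl⟩ := Ideal.Quotient.mk_surjective y
      exact Ideal.Quotient.eq_zero_iff_mem.2 (p.mul_mem_right y hx)
    rw [this, ModuleCat.ofHom_zero, Functor.map_zero, zero_comp]⟩

/-- Vanishing of maps from the residue field propagates to all finite modules. -/
theorem van_of_residue [m.IsMaximal] (hM : DRing.IsPerfect A M) (h : Van M m (A ⧸ m)) (N : Type u) [AddCommGroup N]
    [Module A N] [Module.Finite A N] : Van M m N := by
  suffices hp : ∀ I : Ideal A, I.IsPrime → Van M m (A ⧸ I) by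
    refine IsNoetherianRing.induction_on_isQuotientEquivQuotientPrime A (M := N) inferInstance
      (motive := fun N _ _ _ => Van M m N) (fun N _ _ _ _ => van_subsingleton N)
      (fun N _ _ _ p e => van_of_equiv e.symm (hp p.1 p.2))
      (fun _ _ _ _ _ _ _ _ _ _ _ _ f g hf hg hfg h₁ h₃ => van_ext f g hf hg hfg h₁ h₃)
  intro I
  induction I using WellFoundedGT.induction with
  | ind I ih =>
    intro hI
    let p : PrimeSpectrum A := ⟨I, hI⟩
    show Van M m (A ⧸ p.1)
    by_cases hpm : p.1 ≤ m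
    swap
    · obtain ⟨x, hx, hxm⟩ := SetLike.not_le_iff_exists.1 hpm
      exact van_quotient_of_mem p.1 hx hxm
    by_cases hpeq : p.1 = m
    · rw [hpeq]; exact h
    obtain ⟨x, hxm, hxp⟩ := SetLike.exists_of_lt (lt_of_le_of_ne hpm hpeq)
    let J : Ideal A := p.1 ⊔ Ideal.span {x}
    have hbig : ∀ (N : Type u) [AddCommGroup N] [Module A N] [Module.Finite A N],
        J ≤ Module.annihilator A N → Van M m N := by
      intro N _ _ hN
      refine IsNoetherianRing.induction_on_isQuotientEquivQuotientPrime A (M := N) hN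
        (motive := fun N _ _ _ => J ≤ Module.annihilator A N → Van M m N) (fun N _ _ _ _ _ => van_subsingleton N)
        (fun N _ _ _ q e hJ => ?_) (fun N₁ _ _ _ N₂ _ _ _ N₃ _ _ _ f g hf hg hfg h₁ h₃ hJ => ?_)
      · refine van_of_equiv e.symm (ih q.1 ?_ q.2)
        rw [e.annihilator_eq, Ideal.annihilator_quotient] at hJ
        refine lt_of_le_of_ne (le_sup_left.trans hJ) fun hpq => hxp ?_
        have : x ∈ q.1 := hJ (Ideal.mem_sup_right (Ideal.mem_span_singleton_self x))
        exact (show p.1 = q.1 from hpq).symm ▸ this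
      · exact van_ext f g hf hg hfg (h₁ (hJ.trans (f.annihilator_le_of_injective hf)))
          (h₃ (hJ.trans (g.annihilator_le_of_surjective hg)))
    let f : (A ⧸ p.1) →ₗ[A] (A ⧸ p.1) := LinearMap.lsmul A _ x
    haveI : IsDomain (A ⧸ p.1) := inferInstance
    have hf : Function.Injective f := (injective_iff_map_eq_zero f).2 fun y hy => by
      obtain ⟨y, rfl⟩ := Ideal.Quotient.mk_surjective y
      have : x * y ∈ p.1 := Ideal.Quotient.eq_zero_iff_mem.1 hy
      exact Ideal.Quotient.eq_zero_iff_mem.2 ((p.2.mem_or_mem this).resolve_left hxp)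
    let Q := (A ⧸ p.1) ⧸ LinearMap.range f
    have hQ : J ≤ Module.annihilator A Q := by
      refine sup_le (fun a ha => Module.mem_annihilator.2 fun q => ?_) ((Ideal.span_singleton_le_iff_mem _).2
        (Module.mem_annihilator.2 fun q => ?_))
      · obtain ⟨q, rfl⟩ := Submodule.Quotient.mk_surjective _ q
        obtain ⟨b, rfl⟩ := Ideal.Quotient.mk_surjective q
        rw [← Submodule.Quotient.mk_smul]
        have : a • Ideal.Quotient.mk p.1 b = 0 := Ideal.Quotient.eq_zero_iff_mem.2 (p.1.mul_mem_right b ha)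
        rw [this, Submodule.Quotient.mk_zero]
      · obtain ⟨q, rfl⟩ := Submodule.Quotient.mk_surjective _ q
        rw [← Submodule.Quotient.mk_smul, Submodule.Quotient.mk_eq_zero]
        exact ⟨q, rfl⟩
    obtain ⟨δ, hT⟩ := exists_triangle f (Submodule.mkQ (LinearMap.range f)) hf (Submodule.mkQ_surjective _)
      (LinearMap.exact_iff.2 (Submodule.ker_mkQ _))
    intro i
    haveI : Module.Finite A (mod0 (A := A) (A ⧸ p.1) ⟶ M⟦i⟧) := finite_hom_perfect (ModuleCat.of A (A ⧸ p.1)) hM i
    refine killed_of_nakayama _ x hxm fun v => ?_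
    obtain ⟨s, hs, hs'⟩ := hbig Q hQ (i + 1) (δ ≫ v⟦(1 : ℤ)⟧' ≫ ((shiftFunctorAdd' (Dual.D A) i 1 (i + 1) rfl).inv.app M))
    have h0 : δ ≫ (s • v)⟦(1 : ℤ)⟧' = 0 := by
      rw [Functor.map_smul, Linear.comp_smul,
        ← cancel_mono ((shiftFunctorAdd' (Dual.D A) i 1 (i + 1) rfl).inv.app M), zero_comp, Linear.smul_comp,
        Category.assoc]
      exact hs'
    obtain ⟨g, hg⟩ := Triangle.yoneda_exact₂ _ (rot_of_distTriang _ (rot_of_distTriang _ hT)) ((s • v)⟦(1 : ℤ)⟧') h0
    obtain ⟨w', rfl⟩ := (shiftFunctor (Dual.D A) (1 : ℤ)).map_surjective g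
    have hw : s • v = (singleFunctor (ModuleCat.{u} A) 0).map (ModuleCat.ofHom f) ≫ (-w') := by
      apply (shiftFunctor (Dual.D A) (1 : ℤ)).map_injective
      rw [hg, Functor.map_comp, Functor.map_neg]
      exact (Preadditive.neg_comp _ _).trans (Preadditive.comp_neg _ _).symm
    refine ⟨s, hs, -w', ?_⟩
    rw [hw]
    exact map_lsmul_comp x _

/-- The homology is killed at `m` as soon as the maps from `A` in that degree are. -/
theorem killed_homology_of_hom [m.IsPrime] (E : DRing.Cx A) (i : ℤ)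
    (hv : Killed m (mod0 (A := A) A ⟶ (DerivedCategory.Q.obj E)⟦i⟧)) :
    Killed m ((homologyFunctor (ModuleCat.{u} A) i).obj (DerivedCategory.Q.obj E)) := by
  intro y
  obtain ⟨c, rfl⟩ : ∃ c, y = ((homologyFunctorFactors (ModuleCat.{u} A) i).app E).inv c :=
    ⟨((homologyFunctorFactors (ModuleCat.{u} A) i).app E).hom y, (Iso.hom_inv_id_apply _ y).symm⟩
  obtain ⟨z, rfl⟩ := (ModuleCat.epi_iff_surjective (E.homologyπ i)).1 inferInstance c
  let φ : (HomologicalComplex.single (ModuleCat.{u} A) (ComplexShape.up ℤ) i).obj (ModuleCat.of A A) ⟶ E :=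
    HomologicalComplex.mkHomFromSingle (ModuleCat.ofHom (LinearMap.toSpanSingleton A _ z) ≫ E.iCycles i) fun j _ => by
      rw [Category.assoc, HomologicalComplex.iCycles_d, comp_zero]
  let e : (mod0 (A := A) A)⟦-i⟧ ≅ DerivedCategory.Q.obj
      ((HomologicalComplex.single (ModuleCat.{u} A) (ComplexShape.up ℤ) i).obj (ModuleCat.of A A)) :=
    ((singleFunctors (ModuleCat.{u} A)).shiftIso (-i) i 0 (by omega)).app _ ≪≫
      ((SingleFunctors.evaluation _ _ i).mapIso
        (DerivedCategory.singleFunctorsPostcompQIso (ModuleCat.{u} A))).app _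
  obtain ⟨v, hvv⟩ := (shiftFunctor (Dual.D A) (-i)).map_surjective
    ((e.hom ≫ DerivedCategory.Q.map φ) ≫ (shiftFunctorCompIsoId (Dual.D A) i (-i) (by omega)).inv.app _)
  obtain ⟨s, hs, hs'⟩ := hv v
  refine ⟨s, hs, ?_⟩
  have h0 : DerivedCategory.Q.map (s • φ) = 0 := by
    rw [Functor.map_smul, ← cancel_epi e.hom, comp_zero, Linear.comp_smul,
      ← cancel_mono ((shiftFunctorCompIsoId (Dual.D A) i (-i) (by omega)).inv.app _), zero_comp, Linear.smul_comp,
      ← hvv, ← Functor.map_smul, hs', Functor.map_zero]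
  have h1 : HomologicalComplex.homologyMap (s • φ) i = 0 := by
    have := (homologyFunctorFactors (ModuleCat.{u} A) i).hom.naturality (s • φ)
    simp only [Functor.comp_map, h0, Functor.map_zero, zero_comp] at this
    exact (cancel_epi ((homologyFunctorFactors (ModuleCat.{u} A) i).hom.app _)).1 (this.symm.trans comp_zero.symm)
  let S := (HomologicalComplex.single (ModuleCat.{u} A) (ComplexShape.up ℤ) i).obj (ModuleCat.of A A)
  let c₁ : ModuleCat.of A A ⟶ S.cycles i := S.liftCycles (HomologicalComplex.singleObjXSelf (ComplexShape.up ℤ) i _).inv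
    (i + 1) (by simp) (by simp [S])
  have h2 : c₁ ≫ HomologicalComplex.cyclesMap (s • φ) i = s • ModuleCat.ofHom (LinearMap.toSpanSingleton A _ z) := by
    rw [← cancel_mono (E.iCycles i), Category.assoc, HomologicalComplex.cyclesMap_i,
      HomologicalComplex.smul_f_apply, Linear.smul_comp, Linear.comp_smul, Linear.comp_smul, ← Category.assoc]
    simp [φ, S, c₁]
  have h3 : (s • ModuleCat.ofHom (LinearMap.toSpanSingleton A _ z)) ≫ E.homologyπ i = 0 := by
    rw [← h2, Category.assoc, ← HomologicalComplex.homologyπ_naturality, h1, comp_zero, comp_zero]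
  have h4 : (E.homologyπ i).hom (s • z) = 0 := by
    have := ConcreteCategory.congr_hom h3 (1 : A)
    simpa using this
  have h5 : s • (E.homologyπ i).hom z = 0 := (LinearMap.map_smul _ s z).symm.trans h4
  exact (LinearMap.map_smul (((homologyFunctorFactors (ModuleCat.{u} A) i).app E).inv).hom s _).symm.trans
    ((congrArg _ h5).trans (map_zero _))

/-- The homology is killed at `m` if the maps from the residue field vanish. -/
theorem killed_homology [m.IsMaximal] (E : DRing.Cx A) {a b : ℤ} (hE : DRing.VanishesOutside E a b)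
    (hp : DRing.TermwiseFiniteProjective E) (h : Van (DerivedCategory.Q.obj E) m (A ⧸ m)) (i : ℤ) :
    Killed m ((homologyFunctor (ModuleCat.{u} A) i).obj (DerivedCategory.Q.obj E)) :=
  killed_homology_of_hom E i (van_of_residue ⟨E, a, b, hE, hp, ⟨Iso.refl _⟩⟩ h A i)

/-- Maps from a perfect complex into a finite module form finite modules. -/
theorem finite_hom_to_module (N : ModuleCat.{u} A) [Module.Finite A N] {M : Dual.D A} (hM : DRing.IsPerfect A M)
    (i : ℤ) : Module.Finite A (M ⟶ ((singleFunctor (ModuleCat.{u} A) 0).obj N)⟦i⟧) := by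
  let S := (singleFunctor (ModuleCat.{u} A) 0).obj N
  suffices h : ∀ {K : Dual.D A}, DRing.IsPerfect A K → ∀ j : ℤ, Module.Finite A (K ⟶ S⟦j⟧) from h hM i
  intro K hK
  refine DCat.devissage (fun K => ∀ j : ℤ, Module.Finite A (K ⟶ S⟦j⟧)) (fun e h j => ?_) (fun T hT _ h₂ h₁' _ j => ?_)
    (fun r h j => ?_) (fun n j => ?_) hK
  · haveI := h j
    exact Module.Finite.equiv (Linear.homCongr A e (Iso.refl (S⟦j⟧)))
  · haveI : Module.Finite A (T.obj₁⟦(1 : ℤ)⟧ ⟶ S⟦j⟧) := h₁' j
    haveI := h₂ j
    exact DualLib.finite_of_exact (A := A) (Linear.leftComp A (S⟦j⟧) T.mor₃) (Linear.leftComp A (S⟦j⟧) T.mor₂)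
      (fun φ => ⟨fun h => by
        obtain ⟨ψ, hψ⟩ := Triangle.yoneda_exact₃ _ hT φ h
        exact ⟨ψ, hψ.symm⟩, by
        rintro ⟨ψ, rfl⟩
        show T.mor₂ ≫ T.mor₃ ≫ ψ = 0
        rw [← Category.assoc, comp_distTriang_mor_zero₂₃ _ hT, zero_comp]⟩)
  · haveI := h j
    exact Module.Finite.of_surjective (Linear.leftComp A (S⟦j⟧) r.i)
      fun φ => ⟨r.r ≫ φ, by
        show r.i ≫ r.r ≫ φ = φ
        rw [r.retract_assoc]⟩
  · let L : ModuleCat.{u} A := ModuleCat.of A A
    haveI := finite_single_single L N (j + n)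
    let e : DerivedCategory.Q.obj (DCat.unitShift A n) ≅ ((singleFunctor (ModuleCat.{u} A) 0).obj L)⟦-n⟧ :=
      (((SingleFunctors.evaluation _ _ n).mapIso
          (DerivedCategory.singleFunctorsPostcompQIso (ModuleCat.{u} A))).app L).symm ≪≫
        (((singleFunctors (ModuleCat.{u} A)).shiftIso (-n) n 0 (by omega)).app L).symm
    let E : (((singleFunctor (ModuleCat.{u} A) 0).obj L)⟦-n⟧ ⟶ S⟦j⟧) ≃ₗ[A]
        ((singleFunctor (ModuleCat.{u} A) 0).obj L ⟶ S⟦j + n⟧) :=
      (LinearEquiv.ofBijective (Functor.mapLinearMap A (shiftFunctor (Dual.D A) n))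
        ((Functor.FullyFaithful.ofFullyFaithful (shiftFunctor (Dual.D A) n)).map_bijective _ _)).trans
        (Linear.homCongr A ((shiftFunctorCompIsoId (Dual.D A) (-n) n (by omega)).app _)
          ((shiftFunctorAdd (Dual.D A) j n).app S).symm)
    exact Module.Finite.equiv (E.symm.trans (Linear.homCongr A e.symm (Iso.refl _)))

variable (P : Dual.D A)

/-- The property of a module that the maps from `P` into its `i`-th shift vanish at `m`. -/
def CoVan (i : ℤ) (m : Ideal A) (N : Type u) [AddCommGroup N] [Module A N] : Prop :=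
  Killed m (P ⟶ (mod0 (A := A) N)⟦i⟧)

variable {P} {i : ℤ}

theorem coVan_of_equiv {N N' : Type u} [AddCommGroup N] [Module A N] [AddCommGroup N'] [Module A N'] (e : N ≃ₗ[A] N')
    (h : CoVan P i m N) : CoVan P i m N' := fun v => by
  let E : (mod0 (A := A) N)⟦i⟧ ≅ (mod0 (A := A) N')⟦i⟧ :=
    (shiftFunctor (Dual.D A) i).mapIso ((singleFunctor (ModuleCat.{u} A) 0).mapIso e.toModuleIso)
  obtain ⟨s, hs, hv⟩ := h (v ≫ E.inv)
  refine ⟨s, hs, ?_⟩
  rw [← cancel_mono E.inv, Linear.smul_comp, hv, zero_comp]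

theorem coVan_ext [m.IsPrime] {N₁ N₂ N₃ : Type u} [AddCommGroup N₁] [Module A N₁] [AddCommGroup N₂] [Module A N₂]
    [AddCommGroup N₃] [Module A N₃] (f : N₁ →ₗ[A] N₂) (g : N₂ →ₗ[A] N₃) (hf : Function.Injective f)
    (hg : Function.Surjective g) (hfg : Function.Exact f g) (h₁ : CoVan P i m N₁) (h₃ : CoVan P i m N₃) :
    CoVan P i m N₂ := by
  obtain ⟨δ, hT⟩ := exists_triangle f g hf hg hfg
  have hT' := Triangle.shift_distinguished _ hT i
  intro v
  obtain ⟨s, hs, hs'⟩ := h₃ (v ≫ ((singleFunctor (ModuleCat.{u} A) 0).map (ModuleCat.ofHom g))⟦i⟧')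
  obtain ⟨w, hw⟩ := Triangle.coyoneda_exact₂ _ hT' (s • v) (by
    show (s • v) ≫ (i.negOnePow • ((singleFunctor (ModuleCat.{u} A) 0).map (ModuleCat.ofHom g))⟦i⟧') = 0
    rw [Linear.comp_units_smul, Linear.smul_comp, hs', smul_zero])
  replace hw : s • v = w ≫ (i.negOnePow • ((singleFunctor (ModuleCat.{u} A) 0).map (ModuleCat.ofHom f))⟦i⟧') := hw
  obtain ⟨t, ht, ht'⟩ := h₁ w
  refine ⟨t * s, fun h => ((‹m.IsPrime›.mem_or_mem h).elim ht hs), ?_⟩
  rw [mul_smul, hw, ← Linear.smul_comp, ht', zero_comp]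

theorem coVan_subsingleton [m.IsPrime] (N : Type u) [AddCommGroup N] [Module A N] [Subsingleton N] : CoVan P i m N :=
  fun v => ⟨1, fun h => ‹m.IsPrime›.ne_top ((Ideal.eq_top_iff_one m).2 h), by
    rw [one_smul]
    exact ((shiftFunctor (Dual.D A) i).map_isZero ((singleFunctor (ModuleCat.{u} A) 0).map_isZero
      (ModuleCat.isZero_of_subsingleton (ModuleCat.of A N)))).eq_of_tgt _ _⟩

theorem comp_map_lsmul {N : Type u} [AddCommGroup N] [Module A N] (x : A) {L : Dual.D A}
    (v : L ⟶ (mod0 (A := A) N)⟦i⟧) :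
    v ≫ ((singleFunctor (ModuleCat.{u} A) 0).map (ModuleCat.ofHom (LinearMap.lsmul A N x)))⟦i⟧' = x • v := by
  rw [show ModuleCat.ofHom (LinearMap.lsmul A N x) = x • 𝟙 (ModuleCat.of A N) from
      ModuleCat.hom_ext (LinearMap.ext fun _ => rfl), Functor.map_smul, Functor.map_smul, CategoryTheory.Functor.map_id,
    CategoryTheory.Functor.map_id, Linear.comp_smul, Category.comp_id]

theorem coVan_of_residue [m.IsMaximal] (hP : DRing.IsPerfect A P) (h : CoVan P i m (A ⧸ m)) (N : Type u)
    [AddCommGroup N] [Module A N] [Module.Finite A N] : CoVan P i m N := by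
  suffices hp : ∀ I : Ideal A, I.IsPrime → CoVan P i m (A ⧸ I) by
    refine IsNoetherianRing.induction_on_isQuotientEquivQuotientPrime A (M := N) inferInstance
      (motive := fun N _ _ _ => CoVan P i m N) (fun N _ _ _ _ => coVan_subsingleton N)
      (fun N _ _ _ p e => coVan_of_equiv e.symm (hp p.1 p.2))
      (fun _ _ _ _ _ _ _ _ _ _ _ _ f g hf hg hfg h₁ h₃ => coVan_ext f g hf hg hfg h₁ h₃)
  intro I
  induction I using WellFoundedGT.induction with
  | ind I ih =>
    intro hI
    by_cases hpm : I ≤ m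
    swap
    · obtain ⟨x, hx, hxm⟩ := SetLike.not_le_iff_exists.1 hpm
      refine fun v => ⟨x, hxm, ?_⟩
      rw [← comp_map_lsmul]
      have : LinearMap.lsmul A (A ⧸ I) x = 0 := LinearMap.ext fun y => by
        obtain ⟨y, rfl⟩ := Ideal.Quotient.mk_surjective y
        exact Ideal.Quotient.eq_zero_iff_mem.2 (I.mul_mem_right y hx)
      rw [this, ModuleCat.ofHom_zero, Functor.map_zero, Functor.map_zero, comp_zero]
    by_cases hpeq : I = m
    · rw [hpeq]; exact h
    obtain ⟨x, hxm, hxp⟩ := SetLike.exists_of_lt (lt_of_le_of_ne hpm hpeq)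
    let J : Ideal A := I ⊔ Ideal.span {x}
    have hbig : ∀ (N : Type u) [AddCommGroup N] [Module A N] [Module.Finite A N],
        J ≤ Module.annihilator A N → CoVan P i m N := by
      intro N _ _ hN
      refine IsNoetherianRing.induction_on_isQuotientEquivQuotientPrime A (M := N) hN
        (motive := fun N _ _ _ => J ≤ Module.annihilator A N → CoVan P i m N)
        (fun N _ _ _ _ _ => coVan_subsingleton N)
        (fun N _ _ _ q e hJ => ?_) (fun N₁ _ _ _ N₂ _ _ _ N₃ _ _ _ f g hf hg hfg h₁ h₃ hJ => ?_)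
      · refine coVan_of_equiv e.symm (ih q.1 ?_ q.2)
        rw [e.annihilator_eq, Ideal.annihilator_quotient] at hJ
        refine lt_of_le_of_ne (le_sup_left.trans hJ) fun hpq => hxp ?_
        have : x ∈ q.1 := hJ (Ideal.mem_sup_right (Ideal.mem_span_singleton_self x))
        exact hpq.symm ▸ this
      · exact coVan_ext f g hf hg hfg (h₁ (hJ.trans (f.annihilator_le_of_injective hf)))
          (h₃ (hJ.trans (g.annihilator_le_of_surjective hg)))
    let f : (A ⧸ I) →ₗ[A] (A ⧸ I) := LinearMap.lsmul A _ x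
    have hf : Function.Injective f := (injective_iff_map_eq_zero f).2 fun y hy => by
      obtain ⟨y, rfl⟩ := Ideal.Quotient.mk_surjective y
      have : x * y ∈ I := Ideal.Quotient.eq_zero_iff_mem.1 hy
      exact Ideal.Quotient.eq_zero_iff_mem.2 ((hI.mem_or_mem this).resolve_left hxp)
    let Q := (A ⧸ I) ⧸ LinearMap.range f
    have hQ : J ≤ Module.annihilator A Q := by
      refine sup_le (fun a ha => Module.mem_annihilator.2 fun q => ?_) ((Ideal.span_singleton_le_iff_mem _).2
        (Module.mem_annihilator.2 fun q => ?_))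
      · obtain ⟨q, rfl⟩ := Submodule.Quotient.mk_surjective _ q
        obtain ⟨b, rfl⟩ := Ideal.Quotient.mk_surjective q
        rw [← Submodule.Quotient.mk_smul]
        have : a • Ideal.Quotient.mk I b = 0 := Ideal.Quotient.eq_zero_iff_mem.2 (I.mul_mem_right b ha)
        rw [this, Submodule.Quotient.mk_zero]
      · obtain ⟨q, rfl⟩ := Submodule.Quotient.mk_surjective _ q
        rw [← Submodule.Quotient.mk_smul, Submodule.Quotient.mk_eq_zero]
        exact ⟨q, rfl⟩
    obtain ⟨δ, hT⟩ := exists_triangle f (Submodule.mkQ (LinearMap.range f)) hf (Submodule.mkQ_surjective _)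
      (LinearMap.exact_iff.2 (Submodule.ker_mkQ _))
    have hT' := Triangle.shift_distinguished _ hT i
    haveI : Module.Finite A (P ⟶ (mod0 (A := A) (A ⧸ I))⟦i⟧) :=
      finite_hom_to_module (ModuleCat.of A (A ⧸ I)) hP i
    refine killed_of_nakayama _ x hxm fun v => ?_
    obtain ⟨s, hs, hs'⟩ := hbig Q hQ (v ≫ ((singleFunctor (ModuleCat.{u} A) 0).map
      (ModuleCat.ofHom (Submodule.mkQ (LinearMap.range f))))⟦i⟧')
    obtain ⟨w, hw⟩ := Triangle.coyoneda_exact₂ _ hT' (s • v) (by
      show (s • v) ≫ (i.negOnePow • ((singleFunctor (ModuleCat.{u} A) 0).map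
        (ModuleCat.ofHom (Submodule.mkQ (LinearMap.range f))))⟦i⟧') = 0
      rw [Linear.comp_units_smul, Linear.smul_comp, hs', smul_zero])
    replace hw : s • v = w ≫ (i.negOnePow • ((singleFunctor (ModuleCat.{u} A) 0).map (ModuleCat.ofHom f))⟦i⟧') := hw
    refine ⟨s, hs, i.negOnePow • w, ?_⟩
    rw [hw, Linear.comp_units_smul, ← Linear.units_smul_comp]
    exact comp_map_lsmul x _

/-- Cohomology of the dual complex is killed at `m` if the maps to the residue field vanish. -/
theorem killed_homology_dual [m.IsMaximal] (E : DRing.Cx A) {a b : ℤ} (hE : DRing.VanishesOutside E a b)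
    (hp : DRing.TermwiseFiniteProjective E) (i : ℤ) (h : CoVan (DerivedCategory.Q.obj E) i m (A ⧸ m)) :
    Killed m ((DRing.homCx E ((CochainComplex.singleFunctor (ModuleCat.{u} A) 0).obj (ModuleCat.of A A))).homology i) := by
  have hv : CoVan (DerivedCategory.Q.obj E) i m A := coVan_of_residue ⟨E, a, b, hE, hp, ⟨Iso.refl _⟩⟩ h A
  haveI : CochainComplex.IsKProjective E :=
    DCat.isKProjective_of_vanishesAbove E b (fun i hi => hE i (Or.inr hi)) (fun i => (hp i).2)
  let L := (CochainComplex.singleFunctor (ModuleCat.{u} A) 0).obj (ModuleCat.of A A)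
  let H := DRing.homCx E L
  intro y
  obtain ⟨z, rfl⟩ := (ModuleCat.epi_iff_surjective (H.homologyπ i)).1 inferInstance y
  let α : CochainComplex.HomComplex.Cochain E L i := (H.iCycles i).hom z
  have hα : CochainComplex.HomComplex.δ i (i + 1) α = 0 := ConcreteCategory.congr_hom (H.iCycles_d i (i + 1)) z
  let x : CochainComplex.HomComplex.Cocycle E L i := CochainComplex.HomComplex.Cocycle.mk α (i + 1) rfl hα
  let f : E ⟶ L⟦i⟧ := CochainComplex.HomComplex.Cocycle.equivHomShift.symm x
  let c : DerivedCategory.Q.obj (L⟦i⟧) ≅ (mod0 (A := A) A)⟦i⟧ :=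
    (DerivedCategory.Q.commShiftIso i).app L ≪≫ (shiftFunctor (Dual.D A) i).mapIso
      ((DerivedCategory.singleFunctorIsoCompQ (ModuleCat.{u} A) 0).app (ModuleCat.of A A)).symm
  obtain ⟨s, hs, hs'⟩ := hv (DerivedCategory.Q.map f ≫ c.hom)
  refine ⟨s, hs, ?_⟩
  have h0 : DerivedCategory.Q.map (s • f) = 0 := by
    rw [← cancel_mono c.hom, Functor.map_smul, Linear.smul_comp, zero_comp]
    exact hs'
  have h1 : (HomotopyCategory.quotient _ _).map (s • f) = 0 := by
    refine (CochainComplex.IsKProjective.Qh_map_bijective (K := E) ((HomotopyCategory.quotient _ _).obj (L⟦i⟧))).1 ?_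
    rw [Functor.map_zero]
    have := (DerivedCategory.quotientCompQhIso (ModuleCat.{u} A)).hom.naturality (s • f)
    simp only [Functor.comp_map, h0, comp_zero] at this
    exact (cancel_mono ((DerivedCategory.quotientCompQhIso (ModuleCat.{u} A)).hom.app _)).1 (this.trans zero_comp.symm)
  let x' : CochainComplex.HomComplex.Cocycle E L i :=
    CochainComplex.HomComplex.Cocycle.equivHomShift (s • f)
  obtain ⟨n, hn, β, hβ⟩ : x' ∈ CochainComplex.HomComplex.coboundaries E L i := by
    rw [← CochainComplex.HomComplex.CohomologyClass.toHom_mk_eq_zero_iff,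
      CochainComplex.HomComplex.CohomologyClass.toHom_mk, AddEquiv.symm_apply_apply]
    exact h1
  have hx' : (x' : CochainComplex.HomComplex.Cochain E L i) = s • α := by
    have hfx : CochainComplex.HomComplex.Cocycle.equivHomShift f = x := AddEquiv.apply_symm_apply _ _
    have hfα : (CochainComplex.HomComplex.Cochain.ofHom f).rightUnshift i (zero_add i) = α :=
      congrArg Subtype.val hfx
    show (CochainComplex.HomComplex.Cochain.ofHom (s • f)).rightUnshift i (zero_add i) = _
    rw [← hfα, ← CochainComplex.HomComplex.Cochain.rightUnshift_smul]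
    congr 1
    exact CochainComplex.HomComplex.Cochain.ext₀ _ _ fun p => by simp
  have hz : s • z = (H.toCycles n i).hom β := by
    apply (ModuleCat.mono_iff_injective (H.iCycles i)).1 inferInstance
    rw [LinearMap.map_smul]
    exact (hx'.symm.trans hβ.symm).trans (ConcreteCategory.congr_hom (H.toCycles_i n i) β).symm
  refine (LinearMap.map_smul (H.homologyπ i).hom s z).symm.trans ?_
  rw [hz]
  exact ConcreteCategory.congr_hom (H.toCycles_comp_homologyπ n i) β

end Groth.Agent.DQCoh.PointAlg17
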