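import Groth.Agent.DQCoh.PointAlg17
import Groth.Agent.CAlgH3.RegularCore
import Mathlib.RingTheory.Localization.AtPrime.Basic

/-!
# Maps from a regular point into perfect complexes detect one cohomology module
-/

set_option autoImplicit false
set_option backward.isDefEq.respectTransparency false
set_option backward.defeqAttrib.useBackward true
set_option linter.style.haveILetI false
set_option linter.unusedSectionVars false

universe u

open CategoryTheory CategoryTheory.Limits CategoryTheory.Pretriangulated DerivedCategory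

attribute [local instance] HasDerivedCategory.standard

namespace Groth.Agent.DQCoh.PointDepth17

open PointAlg17

variable {A : Type u} [CommRing A] [IsNoetherianRing A] {m : Ideal A}

/-- A finite module killed at `m` is killed by one element outside `m`. -/
theorem exists_uniform [m.IsPrime] (H : Type*) [AddCommGroup H] [Module A H] [Module.Finite A H] (h : Killed m H) :
    ∃ s, s ∉ m ∧ ∀ v : H, s • v = 0 := by
  obtain ⟨n, g, hg⟩ := Module.Finite.exists_fin (R := A) (M := H)
  choose s hs hs' using fun i => h (g i)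
  refine ⟨∏ i, s i, fun hmem => ?_, fun v => ?_⟩
  · obtain ⟨i, -, hi⟩ := ‹m.IsPrime›.prod_mem_iff.1 hmem
    exact hs i hi
  · have hv : v ∈ Submodule.span A (Set.range g) := hg ▸ trivial
    induction hv using Submodule.span_induction with
    | mem x hx =>
      obtain ⟨i, rfl⟩ := hx
      rw [← Finset.prod_erase_mul Finset.univ s (Finset.mem_univ i), mul_smul, hs', smul_zero]
    | zero => exact smul_zero _
    | add x y _ _ hx hy => rw [smul_add, hx, hy, add_zero]
    | smul a x _ hx => rw [smul_comm, hx, smul_zero]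

theorem map_ofHom_comp {N₁ N₂ N₃ : Type u} [AddCommGroup N₁] [Module A N₁] [AddCommGroup N₂] [Module A N₂]
    [AddCommGroup N₃] [Module A N₃] (f : N₁ →ₗ[A] N₂) (g : N₂ →ₗ[A] N₃) :
    (singleFunctor (ModuleCat.{u} A) 0).map (ModuleCat.ofHom f) ≫
        (singleFunctor (ModuleCat.{u} A) 0).map (ModuleCat.ofHom g) =
      (singleFunctor (ModuleCat.{u} A) 0).map (ModuleCat.ofHom (g ∘ₗ f)) :=
  ((singleFunctor (ModuleCat.{u} A) 0).map_comp _ _).symm

variable {M : Dual.D A}

/-- Killed maps pass along maps that are invertible up to an element outside `m`. -/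
theorem killed_of_factor [m.IsPrime] {N N' : Type u} [AddCommGroup N] [Module A N] [AddCommGroup N'] [Module A N']
    (g : N →ₗ[A] N') (h : N' →ₗ[A] N) {s : A} (hs : s ∉ m) (hgh : ∀ v, h (g v) = s • v) (k : ℤ)
    (hk : Killed m (mod0 (A := A) N' ⟶ M⟦k⟧)) : Killed m (mod0 (A := A) N ⟶ M⟦k⟧) := fun v => by
  obtain ⟨t, ht, ht'⟩ := hk ((singleFunctor (ModuleCat.{u} A) 0).map (ModuleCat.ofHom h) ≫ v)
  refine ⟨t * s, fun hm => (‹m.IsPrime›.mem_or_mem hm).elim ht hs, ?_⟩
  rw [mul_smul, ← map_lsmul_comp s v, show LinearMap.lsmul A N s = h ∘ₗ g from LinearMap.ext fun x => (hgh x).symm,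
    ← map_ofHom_comp, Category.assoc, ← Linear.comp_smul, ht', comp_zero]

/-- One step down a regular sequence. -/
theorem killed_step [m.IsMaximal] (hM : DRing.IsPerfect A M) (I : Ideal A) {x : A} (hxm : x ∈ m)
    (hx : ∀ a, x * a ∈ I → ∃ s, s ∉ m ∧ s * a ∈ I) (k : ℤ)
    (h : Killed m (mod0 (A := A) (A ⧸ I ⊔ Ideal.span {x}) ⟶ M⟦k + 1⟧)) :
    Killed m (mod0 (A := A) (A ⧸ I) ⟶ M⟦k⟧) := by
  let N := A ⧸ I
  let f : N →ₗ[A] N := LinearMap.lsmul A N x
  let J : Ideal A := I ⊔ Ideal.span {x}
  let π : N →ₗ[A] A ⧸ J := Submodule.factor (le_sup_left : I ≤ J)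
  have hker : LinearMap.ker π = LinearMap.range f := by
    ext q
    obtain ⟨a, rfl⟩ := Submodule.Quotient.mk_surjective I q
    rw [LinearMap.mem_ker, LinearMap.mem_range]
    constructor
    · intro hq
      have ha : a ∈ J := (Submodule.Quotient.mk_eq_zero J).1 hq
      obtain ⟨i, hi, b, hb, rfl⟩ := Submodule.mem_sup.1 ha
      obtain ⟨c, rfl⟩ := Ideal.mem_span_singleton'.1 hb
      refine ⟨Submodule.Quotient.mk c, ?_⟩
      show x • (Submodule.Quotient.mk c : N) = _
      rw [← Submodule.Quotient.mk_smul, Submodule.Quotient.eq]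
      have : x • c - (i + c * x) = -i := by simp [mul_comm]
      rw [this]
      exact I.neg_mem hi
    · rintro ⟨q, hq⟩
      rw [← hq]
      obtain ⟨c, rfl⟩ := Submodule.Quotient.mk_surjective I q
      show π (x • Submodule.Quotient.mk c) = 0
      rw [← Submodule.Quotient.mk_smul]
      exact (Submodule.Quotient.mk_eq_zero J).2 (Ideal.mem_sup_right (Ideal.mem_span_singleton'.2 ⟨c, mul_comm c x⟩))
  obtain ⟨δ, hT⟩ := exists_triangle (LinearMap.range f).subtype π (Submodule.subtype_injective _)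
    (Submodule.factor_surjective _) (LinearMap.exact_iff.2 (by rw [hker, Submodule.range_subtype]))
  obtain ⟨s, hs, hs'⟩ := exists_uniform (m := m) (LinearMap.ker f) fun v => by
    obtain ⟨a, ha⟩ := Submodule.Quotient.mk_surjective I v.1
    have hv : x • (Submodule.Quotient.mk a : N) = 0 := ha ▸ v.2
    obtain ⟨s, hs, hsa⟩ := hx a ((Submodule.Quotient.mk_eq_zero I).1 ((Submodule.Quotient.mk_smul I x a).trans hv))
    refine ⟨s, hs, Subtype.ext ?_⟩
    show s • v.1 = 0
    rw [← ha, ← Submodule.Quotient.mk_smul]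
    exact (Submodule.Quotient.mk_eq_zero I).2 hsa
  let q : LinearMap.range f →ₗ[A] N :=
    (Submodule.liftQ (LinearMap.ker f) (LinearMap.lsmul A N s) fun v hv => congrArg Subtype.val (hs' ⟨v, hv⟩)) ∘ₗ
      f.quotKerEquivRange.symm.toLinearMap
  have hqp : q ∘ₗ f.rangeRestrict = LinearMap.lsmul A N s := LinearMap.ext fun v => by
    have e : f.quotKerEquivRange.symm (f.rangeRestrict v) = Submodule.Quotient.mk v :=
      f.quotKerEquivRange_symm_apply_image v _
    refine (congrArg (fun y => (Submodule.liftQ (LinearMap.ker f) (LinearMap.lsmul A N s)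
      fun v hv => congrArg Subtype.val (hs' ⟨v, hv⟩)) y) e).trans ?_
    rfl
  haveI : Module.Finite A (mod0 (A := A) N ⟶ M⟦k⟧) := finite_hom_perfect (ModuleCat.of A N) hM k
  refine killed_of_nakayama _ x hxm fun v => ?_
  let w : mod0 (A := A) (LinearMap.range f) ⟶ M⟦k⟧ := (singleFunctor (ModuleCat.{u} A) 0).map (ModuleCat.ofHom q) ≫ v
  have hz : ∀ z : (mod0 (A := A) (A ⧸ J))⟦(-1 : ℤ)⟧ ⟶ M⟦k⟧, ∃ t, t ∉ m ∧ t • z = 0 := fun z => by
    let e := (shiftFunctorCompIsoId (Dual.D A) (-1 : ℤ) 1 (by omega)).app (mod0 (A := A) (A ⧸ J))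
    obtain ⟨t, ht, ht'⟩ := h (e.inv ≫ z⟦(1 : ℤ)⟧' ≫ ((shiftFunctorAdd' (Dual.D A) k 1 (k + 1) rfl).app M).inv)
    refine ⟨t, ht, (shiftFunctor (Dual.D A) (1 : ℤ)).map_injective ?_⟩
    rw [Functor.map_smul, Functor.map_zero, ← cancel_epi e.inv, comp_zero, Linear.comp_smul,
      ← cancel_mono ((shiftFunctorAdd' (Dual.D A) k 1 (k + 1) rfl).app M).inv, zero_comp, Linear.smul_comp, Category.assoc]
    exact ht'
  obtain ⟨t, ht, ht'⟩ := hz ((Triangle.mk ((singleFunctor (ModuleCat.{u} A) 0).map (ModuleCat.ofHom (LinearMap.range f).subtype))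
    ((singleFunctor (ModuleCat.{u} A) 0).map (ModuleCat.ofHom π)) δ).invRotate.mor₁ ≫ w)
  obtain ⟨u, hu⟩ := Triangle.yoneda_exact₂ _ (inv_rot_of_distTriang _ hT) (t • w) (by rw [Linear.comp_smul, ht'])
  replace hu : t • w = (singleFunctor (ModuleCat.{u} A) 0).map (ModuleCat.ofHom (LinearMap.range f).subtype) ≫ u := hu
  refine ⟨t * s, fun hm => ((inferInstance : m.IsPrime).mem_or_mem hm).elim ht hs, u, ?_⟩
  rw [mul_smul, ← map_lsmul_comp s v, ← hqp, ← map_ofHom_comp, Category.assoc, ← Linear.comp_smul, hu,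
    ← Category.assoc, map_ofHom_comp, ← map_lsmul_comp x u]
  rfl

/-- A regular system of parameters of a regular local ring `A_m`, with numerators in `A`. -/
theorem exists_params [m.IsMaximal] [IsRegularLocalRing (Localization.AtPrime m)] {d : ℕ}
    (hd : ringKrullDim (Localization.AtPrime m) = d) :
    ∃ x : Fin d → A, (∀ i, x i ∈ m) ∧
      (∀ i : Fin d, ∀ a, x i * a ∈ Ideal.span (x '' {j | (j : ℕ) < i}) → ∃ s, s ∉ m ∧ s * a ∈ Ideal.span (x '' {j | (j : ℕ) < i})) ∧
      ∀ a ∈ m, ∃ s, s ∉ m ∧ s * a ∈ Ideal.span (Set.range x) := by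
  classical
  let L := Localization.AtPrime m
  let φ := algebraMap A L
  have hfr : (IsLocalRing.maximalIdeal L).spanFinrank = d := by
    have h := IsRegularLocalRing.spanFinrank_maximalIdeal (R := L)
    rw [hd] at h
    exact_mod_cast h
  obtain ⟨rs, hlen, hspan, -⟩ := CAlgH3.exists_isRegular_ofList_eq_maximalIdeal (R := L)
  rw [hfr] at hlen
  subst hlen
  choose p hp using fun i : Fin rs.length => IsLocalization.surj m.primeCompl (rs.get i)
  have hrange : Ideal.span (Set.range fun i => φ (p i).1) = IsLocalRing.maximalIdeal L := by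
    rw [← hspan, Ideal.ofList, ← Set.range_list_get]
    refine le_antisymm (Ideal.span_le.2 ?_) (Ideal.span_le.2 ?_)
    · rintro _ ⟨i, rfl⟩
      show φ (p i).1 ∈ Ideal.span _
      rw [← hp i]
      exact Ideal.mul_mem_right _ _ (Ideal.subset_span ⟨i, rfl⟩)
    · rintro _ ⟨i, rfl⟩
      have hu : IsUnit (φ (p i).2) := IsLocalization.map_units L (p i).2
      refine (Ideal.mul_unit_mem_iff_mem _ hu).1 ?_
      rw [hp i]
      exact Ideal.subset_span ⟨i, rfl⟩
  have hmem : ∀ (s : Set (Fin rs.length)) (a : A), φ a ∈ Ideal.span ((fun i => φ (p i).1) '' s) →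
      ∃ t, t ∉ m ∧ t * a ∈ Ideal.span ((fun i => (p i).1) '' s) := fun s a ha => by
    have ha' : φ a ∈ (Ideal.span ((fun i => (p i).1) '' s)).map φ := by rwa [Ideal.map_span, Set.image_image]
    obtain ⟨t, ht, h⟩ := (IsLocalization.algebraMap_mem_map_algebraMap_iff m.primeCompl L _ _).1 ha'
    exact ⟨t, ht, h⟩
  have hxm : ∀ i, (p i).1 ∈ m := fun i => by
    rw [← IsLocalization.AtPrime.to_map_mem_maximal_iff L m, ← hrange]
    exact Ideal.subset_span ⟨i, rfl⟩
  refine ⟨fun i => (p i).1, hxm, fun i a ha => hmem _ a ?_, fun a ha => ?_⟩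
  · have hreg : RingTheory.Sequence.IsRegular L (List.ofFn fun i => φ (p i).1) :=
      CAlgH3.isRegular_of_ofList_eq_maximalIdeal _ (by rw [Ideal.ofList, ← hrange]; congr 1; ext; simp [List.mem_ofFn])
        (by rw [List.length_ofFn, hfr])
    have hi := hreg.toIsWeaklyRegular.regular_mod_prev i (by rw [List.length_ofFn]; exact i.2)
    simp only [List.getElem_ofFn, Fin.eta] at hi
    have hI : Ideal.ofList ((List.ofFn fun i => φ (p i).1).take i) • (⊤ : Submodule L L) =
        Ideal.span ((fun i => φ (p i).1) '' {j | (j : ℕ) < i}) := by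
      rw [smul_eq_mul, Ideal.mul_top, Ideal.ofList]
      congr 1
      ext y
      simp only [Set.mem_setOf_eq, List.mem_take_iff_getElem, List.length_ofFn, List.getElem_ofFn, Set.mem_image]
      constructor
      · rintro ⟨j, hj, rfl⟩
        exact ⟨⟨j, lt_of_lt_of_le hj (min_le_right _ _)⟩, lt_of_lt_of_le hj (min_le_left _ _), rfl⟩
      · rintro ⟨j, hj, rfl⟩
        exact ⟨j, lt_min hj j.2, rfl⟩
    have h0 : φ (p i).1 • Submodule.Quotient.mk (p := Ideal.ofList ((List.ofFn fun i => φ (p i).1).take i) •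
        (⊤ : Submodule L L)) (φ a) = 0 := by
      rw [← Submodule.Quotient.mk_smul, Submodule.Quotient.mk_eq_zero, hI, smul_eq_mul, ← map_mul]
      have := Ideal.mem_map_of_mem φ ha
      rwa [Ideal.map_span, Set.image_image] at this
    have h1 := hi.right_eq_zero_of_smul h0
    rw [Submodule.Quotient.mk_eq_zero, hI] at h1
    exact h1
  · have ha' : φ a ∈ IsLocalRing.maximalIdeal L := (IsLocalization.AtPrime.to_map_mem_maximal_iff L m a).2 ha
    rw [← hrange, ← Set.image_univ] at ha'
    obtain ⟨t, ht, h⟩ := hmem _ a ha'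
    exact ⟨t, ht, by rwa [Set.image_univ] at h⟩

/-- Vanishing of `Hom(A/m, E⟦i⟧)` at a regular point of dimension `d` kills `H^{i-d}(E)` there. -/
theorem killed_homology_depth [m.IsMaximal] [IsRegularLocalRing (Localization.AtPrime m)] {d : ℕ}
    (hd : ringKrullDim (Localization.AtPrime m) = d) (E : DRing.Cx A) {a b : ℤ} (hE : DRing.VanishesOutside E a b)
    (hp : DRing.TermwiseFiniteProjective E) (i : ℤ)
    (h : Killed m (mod0 (A := A) (A ⧸ m) ⟶ (DerivedCategory.Q.obj E)⟦i⟧)) :
    Killed m ((homologyFunctor (ModuleCat.{u} A) (i - d)).obj (DerivedCategory.Q.obj E)) := by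
  obtain ⟨x, hxm, hreg, hgen⟩ := exists_params (m := m) hd
  let M := DerivedCategory.Q.obj E
  let I : ℕ → Ideal A := fun n => Ideal.span (x '' {j | (j : ℕ) < n})
  have hId : I d = Ideal.span (Set.range x) := by
    show Ideal.span _ = _
    rw [← Set.image_univ]
    congr 2
    ext j
    simp
  have key : ∀ n : ℕ, n ≤ d → Killed m (mod0 (A := A) (A ⧸ I (d - n)) ⟶ M⟦i - n⟧) := by
    intro n
    induction n with
    | zero =>
      intro _
      rw [Nat.sub_zero, hId, Nat.cast_zero, sub_zero]
      let P := Ideal.span (Set.range x)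
      have hle : P ≤ m := Ideal.span_le.2 (Set.range_subset_iff.2 hxm)
      let g : A ⧸ P →ₗ[A] A ⧸ m := Submodule.factor hle
      obtain ⟨s, hs, hs'⟩ := exists_uniform (m := m) (LinearMap.ker g) fun v => by
        obtain ⟨c, hc⟩ := Submodule.Quotient.mk_surjective P v.1
        have hcm : c ∈ m := (Submodule.Quotient.mk_eq_zero m).1 (show g (Submodule.Quotient.mk c) = 0 from hc ▸ v.2)
        obtain ⟨s, hs, hsc⟩ := hgen c hcm
        refine ⟨s, hs, Subtype.ext ?_⟩
        show s • v.1 = 0
        rw [← hc, ← Submodule.Quotient.mk_smul]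
        exact (Submodule.Quotient.mk_eq_zero P).2 hsc
      let h' : A ⧸ m →ₗ[A] A ⧸ P := Submodule.liftQ m (LinearMap.toSpanSingleton A _ (s • Submodule.Quotient.mk 1))
        fun c hc => by
          show c • s • (Submodule.Quotient.mk 1 : A ⧸ P) = 0
          have hk : g (Submodule.Quotient.mk c) = 0 := (Submodule.Quotient.mk_eq_zero m).2 hc
          have := congrArg Subtype.val (hs' ⟨_, hk⟩)
          rw [smul_comm, ← Submodule.Quotient.mk_smul, smul_eq_mul, mul_one]
          exact this
      refine killed_of_factor g h' hs (fun v => ?_) i h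
      obtain ⟨c, rfl⟩ := Submodule.Quotient.mk_surjective P v
      show c • s • (Submodule.Quotient.mk 1 : A ⧸ P) = s • Submodule.Quotient.mk c
      rw [smul_comm, ← Submodule.Quotient.mk_smul, smul_eq_mul, mul_one]
    | succ n ih =>
      intro hn
      let j : Fin d := ⟨d - (n + 1), by omega⟩
      have hset : I (d - n) = I j ⊔ Ideal.span {x j} := by
        show Ideal.span _ = Ideal.span _ ⊔ _
        rw [← Ideal.span_union, Set.union_singleton, ← Set.image_insert_eq]
        congr 2
        ext l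
        simp only [Set.mem_setOf_eq, Set.mem_insert_iff, Fin.ext_iff, j]
        omega
      refine killed_step ⟨E, a, b, hE, hp, ⟨Iso.refl _⟩⟩ (I j) (hxm j) (hreg j) _ ?_
      have := ih (by omega)
      rw [hset] at this
      rwa [show (i - ((n + 1 : ℕ) : ℤ)) + 1 = i - (n : ℤ) by push_cast; ring]
  refine killed_homology_of_hom E (i - d) ?_
  have h0 : I (d - d) = ⊥ := by simp [I]
  have hkey := key d le_rfl
  rw [h0] at hkey
  exact killed_of_factor (m := m) (Submodule.quotEquivOfEqBot (⊥ : Ideal A) rfl).symm.toLinearMap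
    (Submodule.quotEquivOfEqBot (⊥ : Ideal A) rfl).toLinearMap (s := 1)
    (fun h1 => (inferInstance : m.IsPrime).ne_top ((Ideal.eq_top_iff_one _).2 h1))
    (fun v => (LinearEquiv.apply_symm_apply _ v).trans (one_smul A v).symm) _ hkey

end Groth.Agent.DQCoh.PointDepth17
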