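import Groth.Agent.DCat.RHomEvalDual
import Groth.Agent.DCat.TorSheaf
import Groth.Agent.DCat.Amplitude
import Groth.Agent.DCat.OpenDerived
import Groth.Agent.DCat.MVTriangles
import Groth.Agent.Coherent.CohBC.Perf
import Groth.Agent.Coherent.FiniteType
import Groth.Agent.AmpleLib.GenLocus
import Groth.Agent.Coherent.FreeSections
import Groth.Agent.PicLib.Invertible

/-!
# Derived fibres of perfect objects through biduality
-/

set_option autoImplicit false
set_option backward.isDefEq.respectTransparency false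
set_option backward.defeqAttrib.useBackward true
set_option linter.style.haveILetI false

universe u

open CategoryTheory CategoryTheory.Limits CategoryTheory.Pretriangulated AlgebraicGeometry HomologicalComplex Opposite
open Groth.Agent.ModStalk Groth.Agent.DCat Groth.Agent.SiteTen

attribute [local instance] HasDerivedCategory.standard
attribute [-instance] Int.instConditionallyCompleteLinearOrder

namespace Groth.Agent.DQCoh.PointFibre17

variable {X : Scheme.{u}}

/-- Vanishing of `H^i(X, T)` kills the maps from `O[-i]`. -/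
theorem hom_zero_of_gamma [DCoh.HasRΓ X] (T : DCoh.D X) (i : ℤ)
    (h : IsZero ((DerivedCategory.homologyFunctor AddCommGrpCat.{u} i).obj ((DCoh.RΓ X).obj T)))
    (φ : DerivedCategory.Q.obj ((single X.Modules (ComplexShape.up ℤ) i).obj (Coh.structureModule X)) ⟶ T) : φ = 0 := by
  obtain ⟨J, hJ, -, ⟨eJ⟩⟩ := DCat.MV.exists_rep T
  haveI := hJ
  let G := ((DCoh.gammaAb X).mapHomologicalComplex (ComplexShape.up ℤ)).obj J
  let eG : (DCoh.RΓ X).obj T ≅ DerivedCategory.Q.obj G :=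
    (DCoh.RΓ X).mapIso eJ.symm ≪≫ OpenDerived.rfQIso (modules_enoughKInj X) (DCoh.gammaKh X) J ≪≫
      (DerivedCategory.quotientCompQhIso AddCommGrpCat.{u}).app G
  have hex : G.ExactAt i := by
    rw [HomologicalComplex.exactAt_iff_isZero_homology]
    exact h.of_iso (((DerivedCategory.homologyFunctorFactors AddCommGrpCat.{u} i).app G).symm ≪≫
      (DerivedCategory.homologyFunctor AddCommGrpCat.{u} i).mapIso eG.symm)
  rw [← cancel_mono eJ.inv, zero_comp]
  refine (DCat.Amplitude.from_single_iff J (Coh.structureModule X) i).2 (fun f hf => ?_) _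
  have hG := (HomologicalComplex.exactAt_iff' _ (i - 1) i (i + 1) (by simp) (by simp)).1 hex
  rw [ShortComplex.ab_exact_iff] at hG
  obtain ⟨t, ht⟩ := hG (Coherent.unitVal f ⊤) (by
    show Coherent.unitVal (f ≫ J.d i (i + 1)) ⊤ = 0
    rw [hf]
    rfl)
  let g : Coh.structureModule X ⟶ J.X (i - 1) := Coherent.unitDesc _ t
  refine ⟨g, ?_⟩
  rw [← AmpleLib.unitDesc_unitVal f, ← AmpleLib.unitDesc_unitVal (g ≫ J.d _ _)]
  refine congrArg (Coherent.unitDesc _) ?_
  refine Eq.trans ht.symm ?_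
  show _ = (J.d (i - 1) i).app ⊤ (Coherent.unitVal g ⊤)
  rw [Coherent.unitVal_unitDesc, PicLib.resM_self]
  rfl

/-- `K ⊗^L M` for a module `M` is `- ⊗^L E` evaluated at `M[0]`. -/
theorem nonempty_ltensorMod_iso (M : X.Modules) [DCoh.HasLTensorMod M] {E : CochainComplex X.Modules ℤ}
    (hE : IsKFlatFor (shT X) E) [DCoh.HasLTensorCx E] :
    Nonempty ((DCoh.LTensorCx E).obj (DCoh.inD X M) ≅ (DCoh.LTensorMod M).obj (DerivedCategory.Q.obj E)) := by
  let S := (single X.Modules (ComplexShape.up ℤ) 0).obj M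
  let α : (shT X).flip.obj M ≅ DCoh.tensorRightMod M :=
    (NatIso.ofComponents (fun a => (TotSymm.braid M a).symm) fun {a a'} f => by
      rw [Iso.symm_hom, Iso.comp_inv_eq, Iso.symm_hom, Category.assoc, TotSymm.braid_nat₂, Iso.inv_hom_id_assoc]) ≪≫
      (Coherent.CohBC.tensorRightBiIso M).symm
  exact ⟨(DCoh.LTensorCx E).mapIso ((DerivedCategory.singleFunctorIsoCompQ X.Modules 0).app M) ≪≫
    LTensorSheaf.ltensorCxIso' hE S ≪≫
    DerivedCategory.Q.mapIso (TotSymm.symmIso (shT X) TotSymm.braid (fun f b => TotSymm.braid_nat₁ f b)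
        (fun a _ _ g => TotSymm.braid_nat₂ a g) S E ≪≫ (asIso (totSingle (shT X) M E)).symm ≪≫
      (NatIso.mapHomologicalComplex α (ComplexShape.up ℤ)).app E) ≪≫ (ltensorModIso M hE).symm⟩

/-- Vanishing of `H^i(X, K ⊗^L M)` for perfect `K` gives vanishing of `Hom(K^∨, M[i])`. -/
theorem exists_dual_hom_zero [DCoh.HasRΓ X] (M : X.Modules) [DCoh.HasLTensorMod M] (K : DCoh.D X) (hK : DCoh.IsPerfect K)
    (i : ℤ) (h : IsZero ((DerivedCategory.homologyFunctor AddCommGrpCat.{u} i).obj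
      ((DCoh.RΓ X).obj ((DCoh.LTensorMod M).obj K)))) :
    ∃ (D : CochainComplex X.Modules ℤ) (_ : DCoh.HasLTensorCx D) (_ : DCoh.HasRSheafHom D),
      DCoh.IsPerfect (DCoh.toD X D) ∧ (∀ φ : DCoh.toD X D ⟶ (DCoh.inD X M)⟦i⟧, φ = 0) ∧
      Nonempty ((DCoh.RSheafHom D).obj (DCoh.inD X (Coh.structureModule X)) ≅ K) := by
  obtain ⟨E, hE, ⟨eE⟩⟩ := PullPerf.exists_kflat_rep K
  have hEp : DCoh.IsPerfect (DerivedCategory.Q.obj E) := PCTriangle.perfect_iso eE.symm hK
  obtain ⟨D, hD, ⟨eD⟩⟩ := PullPerf.exists_kflat_rep (RHomBidual.dual E)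
  haveI := LTensorSheaf.hasLTensorCx E
  haveI := RHomExist.hasRSheafHom E
  haveI hLD := LTensorSheaf.hasLTensorCx D
  haveI hRD := RHomExist.hasRSheafHom D
  have hp : DCoh.IsPerfect (DerivedCategory.Q.obj D) := PCTriangle.perfect_iso eD.symm (RHomDual.isPerfect_dual E hEp)
  obtain ⟨eK⟩ := RHomBidual.nonempty_bidual hE hEp hD eD
  obtain ⟨a⟩ := RHomDual.nonempty_tensor_dual D hD hp E hE eK (DCoh.inD X M)
  obtain ⟨b⟩ := nonempty_ltensorMod_iso M hE
  let eT : (DCoh.LTensorMod M).obj K ≅ (DCoh.RSheafHom D).obj (DCoh.inD X M) :=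
    (DCoh.LTensorMod M).mapIso eE.symm ≪≫ b.symm ≪≫ a
  refine ⟨D, hLD, hRD, hp, fun v => ?_, ⟨eK.symm ≪≫ eE⟩⟩
  let S₀ := (single X.Modules (ComplexShape.up ℤ) 0).obj (Coh.structureModule X)
  let S := S₀⟦-i⟧
  have hS₀ : IsKFlatFor (shT X) S₀ := RHomLeft.isKFlatFor_structure X
  haveI := LTensorSheaf.hasLTensorCx S₀
  haveI := LTensorSheaf.hasLTensorCx S
  obtain ⟨e₀⟩ := RHomLeft.nonempty_LTensor_structure (X := X)
  obtain ⟨e₁⟩ := RHomLeft.nonempty_LTensor_shift S₀ hS₀ (-i)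
  let c : (DCoh.LTensorCx D).obj (DerivedCategory.Q.obj S) ≅ (DerivedCategory.Q.obj D)⟦-i⟧ :=
    LTensorSheaf.ltensorCxIso' hD S ≪≫
      DerivedCategory.Q.mapIso (TotSymm.symmIso (shT X) TotSymm.braid (fun f b => TotSymm.braid_nat₁ f b)
        (fun a _ _ g => TotSymm.braid_nat₂ a g) S D) ≪≫
      (LTensorSheaf.ltensorCxIso' (hS₀.shift (-i)) D).symm ≪≫ e₁.app _ ≪≫ (shiftFunctor _ (-i)).mapIso (e₀.app _)
  let eS : DerivedCategory.Q.obj S ≅
      DerivedCategory.Q.obj ((single X.Modules (ComplexShape.up ℤ) i).obj (Coh.structureModule X)) :=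
    DerivedCategory.Q.mapIso (((CochainComplex.singleFunctors X.Modules).shiftIso (-i) i 0 (by omega)).app _)
  have hz : ∀ ψ : DerivedCategory.Q.obj S ⟶ (DCoh.RSheafHom D).obj (DCoh.inD X M), ψ = 0 := fun ψ => by
    rw [← cancel_epi eS.inv, comp_zero, ← cancel_mono eT.inv, zero_comp]
    exact hom_zero_of_gamma _ i h _
  let d := (shiftFunctorCompIsoId (DCoh.D X) i (-i) (by omega)).app (DCoh.inD X M)
  apply (shiftFunctor (DCoh.D X) (-i)).map_injective
  rw [Functor.map_zero, ← cancel_mono d.hom, zero_comp, ← cancel_epi c.hom, comp_zero]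
  exact ((DCoh.RSheafHomAdj D).homEquiv _ _).injective ((hz _).trans (hz _).symm)

end Groth.Agent.DQCoh.PointFibre17
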