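import Groth.Agent.DQCoh.AffinePush
import Groth.Agent.DQCoh.PointChart17
import Groth.Agent.DQCoh.PscNoeth
import Groth.Agent.FlatCx12.AmpFibre
import Groth.Agent.DRingLib.KoszulSpread17
import Groth.Agent.EGA43.InjFibre.Scheme
import Groth.Agent.DQCoh.PointFibre17
import Groth.Agent.AssSch12.Primary
import Groth.Agent.AssSch12.PullbackPoint
import Groth.Agent.BCFlat16.TenBC
import Groth.Agent.Coherent.ProperFinite
import Mathlib.RingTheory.Filtration

/-! Detecting cohomology of perfect objects by thickened points pushed to a second factor. -/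

set_option autoImplicit false
set_option backward.isDefEq.respectTransparency false
set_option backward.defeqAttrib.useBackward true
set_option linter.style.haveILetI false
set_option synthInstance.maxHeartbeats 100000

universe u

open CategoryTheory CategoryTheory.Limits DerivedCategory AlgebraicGeometry MonoidalCategory Opposite
open Groth.Agent.DCat Groth.Agent.DQCoh Groth.Agent.ModStalk

attribute [local instance] HasDerivedCategory.standard
attribute [-instance] Int.instConditionallyCompleteLinearOrder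

namespace Groth.Agent.DQCoh.PointDetect17

variable {X Y Z : Scheme.{u}}

/-- An affine morphism detects vanishing of each cohomology sheaf. -/
theorem isZero_HD_of_push (q : X ⟶ Y) [IsAffineHom q] [DCoh.HasRpush q] (G : DCoh.D X) (hG : DCoh.IsQCohD G)
    (i : ℤ) (h : IsZero (DCoh.HD ((DCoh.Rpush q).obj G) i)) : IsZero (DCoh.HD G i) := by
  refine isZero_of_restrict_cover (ι := Y.affineOpens) _ (fun W => q ⁻¹ᵁ W.1) (fun x => ?_) fun W => ?_
  · obtain ⟨W, hW, hx, -⟩ := exists_isAffineOpen_mem_and_subset (x := q.base x) (U := (⊤ : Y.Opens)) trivial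
    exact ⟨⟨W, hW⟩, hx⟩
  haveI : Coh.IsQCoh (DCoh.HD G i) := hG i
  refine isZero_restrict_of_sections _ (W.2.preimage q) fun x => ?_
  let σ := (homologyFunctor X.Modules 0).shiftIso i 0 i (by omega)
  let σ' := (homologyFunctor Y.Modules 0).shiftIso i 0 i (by omega)
  have hqX : DCoh.IsQCohD (G⟦i⟧) := fun j => Coherent.isQCoh_of_iso
    (((homologyFunctor X.Modules 0).shiftIso i j (i + j) rfl).app G).symm (h := hG _)
  have hqY : DCoh.IsQCohD (((DCoh.Rpush q).obj G)⟦i⟧) := fun j => Coherent.isQCoh_of_iso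
    (((homologyFunctor Y.Modules 0).shiftIso i j (i + j) rfl).app _).symm (h := isQCohD_Rpush q G hG _)
  obtain ⟨y, hy⟩ := (bijective_θ (G⟦i⟧) hqX (W.2.preimage q)).2 (x ≫ σ.inv.app G)
  rw [← cancel_mono (σ.inv.app G), zero_comp, ← hy]
  obtain ⟨_, _⟩ := exists_commShift_Rpush q
  let eX := (shiftFunctorZero (DCoh.D X) ℤ).app ((SiteDer16.Sections.pt (sec X)).obj (q ⁻¹ᵁ W.1))
  let eY := (shiftFunctorZero (DCoh.D Y) ℤ).app ((SiteDer16.Sections.pt (sec Y)).obj W.1)
  obtain ⟨b, hb⟩ := exists_homEquiv q W.1 0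
  have hzero : ∀ z : (sec Y).pt.obj W.1 ⟶ ((DCoh.Rpush q).obj G)⟦i⟧, z = 0 := fun z =>
    (bijective_θ _ hqY W.2).1 ((h.of_iso (σ'.app _)).eq_of_tgt _ _)
  have hy0 : y = 0 := by
    rw [← cancel_epi eX.hom, comp_zero]
    refine (b (G⟦i⟧)).symm.injective ?_
    rw [← cancel_mono (((DCoh.Rpush q).commShiftIso i).hom.app G), ← cancel_epi eY.inv]
    exact (hzero _).trans (hzero _).symm
  simp [hy0, SiteDer16.Sections.θ]

/-- The structure stalk. -/
noncomputable def unitStalkIso (x : X) :
    ModuleCat.of (X.presheaf.stalk x) (X.presheaf.stalk x) ≅ (DerSch.stalkFunctor X x).obj (Coh.structureModule X) :=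
  (LinearEquiv.ofBijective
    (LinearMap.toSpanSingleton (X.presheaf.stalk x) ((DerSch.stalkFunctor X x).obj (Coh.structureModule X))
      (AssSch12.unitOne x)) (AssSch12.bijective_smul_unitOne x)).toModuleIso

/-- A coherent module supported at a closed point with prescribed cyclic stalk. -/
theorem exists_thick [IsLocallyNoetherian X] (x : X) (hx : IsClosed ({x} : Set X)) (r : ℕ) :
    ∃ F : X.Modules, Coh.IsCoh F ∧ CohB1.support F ⊆ {x} ∧
      Nonempty ((DerSch.stalkFunctor X x).obj F ≅ ModuleCat.of (X.presheaf.stalk x)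
        (X.presheaf.stalk x ⧸ IsLocalRing.maximalIdeal (X.presheaf.stalk x) ^ r)) := by
  let R := X.presheaf.stalk x
  let A : ModuleCat.{u} R := ModuleCat.of R (R ⧸ IsLocalRing.maximalIdeal R ^ r)
  let F := (ModStalk.sky x).obj A
  let e : (DerSch.stalkFunctor X x).obj F ≅ A := (ModStalk.skyStalkIso x).app A
  have hA : ∀ a ∈ IsLocalRing.maximalIdeal R, ∀ v : A, a ^ r • v = 0 := fun a ha v => by
    obtain ⟨v, rfl⟩ := Submodule.mkQ_surjective _ v
    exact (Submodule.Quotient.mk_eq_zero _).2 (Ideal.mul_mem_right _ _ (Ideal.pow_mem_pow ha r))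
  have hz : ∀ y, y ≠ x → Subsingleton (F.presheaf.stalk y) := fun y hy => subsingleton_of_forall_eq 0 fun v => by
    obtain ⟨V, hzV, s, rfl⟩ := F.presheaf.exists_germ_eq v
    let W : X.Opens := V ⊓ ⟨{x}ᶜ, hx.isOpen_compl⟩
    rw [← TopCat.Presheaf.germ_res_apply F.presheaf (homOfLE (inf_le_left : W ≤ V)) y ⟨hzV, hy⟩]
    exact (congrArg _ (ModStalk.sval_ext (A := A) (U := W) fun h => absurd rfl h.2)).trans (map_zero _)
  let f : (DerSch.stalkFunctor X x).obj (Coh.structureModule X) ⟶ A :=
    (unitStalkIso x).inv ≫ ModuleCat.ofHom (Submodule.mkQ _)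
  let φ : Coh.structureModule X ⟶ F := (ModStalk.stalkAdj x).homEquiv _ _ f
  haveI : Epi φ := by
    refine Preadditive.epi_of_cokernel_zero (IsZero.eq_of_tgt (ModStalk.isZero_of_stalks fun y => ?_) _ _)
    refine IsZero.of_iso ?_ (PreservesCokernel.iso (DerSch.stalkFunctor X y) φ)
    by_cases hy : y = x
    · subst hy
      haveI : Epi f := by
        haveI : Epi (ModuleCat.ofHom (Submodule.mkQ (IsLocalRing.maximalIdeal R ^ r)) : ModuleCat.of R R ⟶ A) :=
          (ModuleCat.epi_iff_surjective _).2 (Submodule.mkQ_surjective _)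
        exact epi_comp _ _
      haveI : IsIso ((ModStalk.stalkAdj y).counit.app A) := by
        haveI := (ModStalk.stalkAdj y).isIso_counit_of_iso (ModStalk.skyStalkIso y)
        infer_instance
      haveI : Epi ((DerSch.stalkFunctor X y).map φ ≫ (ModStalk.stalkAdj y).counit.app A) := by
        rw [show (DerSch.stalkFunctor X y).map φ ≫ (ModStalk.stalkAdj y).counit.app A = f from
          ((ModStalk.stalkAdj y).homEquiv_counit _ _ _).symm.trans (Equiv.symm_apply_apply _ _)]
        infer_instance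
      haveI : Epi ((DerSch.stalkFunctor X y).map φ) := by
        rw [show (DerSch.stalkFunctor X y).map φ = ((DerSch.stalkFunctor X y).map φ ≫
          (ModStalk.stalkAdj y).counit.app A) ≫ inv ((ModStalk.stalkAdj y).counit.app A) by simp]
        exact epi_comp _ _
      exact isZero_cokernel_of_epi _
    · haveI : Subsingleton ((DerSch.stalkFunctor X y).obj F) := hz y hy
      haveI : Epi ((DerSch.stalkFunctor X y).map φ) := (ModuleCat.epi_iff_surjective _).2 fun v => ⟨0, Subsingleton.elim _ _⟩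
      exact isZero_cokernel_of_epi _
  refine ⟨F, AssSch12.isCoh_of_epi _ φ (AssSch12.isQCoh_sky A r hA) (Coherent.locallyFinGen_of_isFT _
    (Coherent.isCoh_structureModule X).2), fun y hy => ?_, ⟨e⟩⟩
  by_contra h
  exact hy (hz y h)

/-- Stalks of a module through an open immersion. -/
noncomputable def stalkRestrictIso {X' : Scheme.{u}} (k : X' ⟶ X) [IsOpenImmersion k] (v : X') :
    DerSch.stalkFunctor X (k v) ≅
      Scheme.Modules.restrictFunctor k ⋙ DerSch.stalkFunctor _ v ⋙ ModuleCat.restrictScalars.{u} (k.stalkMap v).hom :=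
  haveI : (ModuleCat.restrictScalars.{u} (k.stalkMap v).hom).IsEquivalence :=
    (ModuleCat.restrictScalarsEquivalenceOfRingEquiv
      (RingEquiv.ofBijective (k.stalkMap v).hom (ConcreteCategory.bijective_of_isIso (k.stalkMap v)))).isEquivalence_functor
  haveI := (ModuleCat.extendRestrictScalarsAdj.{u, u, u} (k.stalkMap v).hom).isEquivalence_left_of_isEquivalence_right
  haveI := (ModuleCat.extendRestrictScalarsAdj.{u, u, u} (k.stalkMap v).hom).unit_isIso_of_L_fully_faithful
  Functor.isoWhiskerLeft (DerSch.stalkFunctor X (k v))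
      (asIso (ModuleCat.extendRestrictScalarsAdj.{u, u, u} (k.stalkMap v).hom).unit) ≪≫
    Functor.isoWhiskerRight (ModStalk.pullbackStalkIso k v).symm (ModuleCat.restrictScalars.{u} (k.stalkMap v).hom) ≪≫
    Functor.isoWhiskerRight (Scheme.Modules.restrictFunctorIsoPullback k).symm
      (DerSch.stalkFunctor _ v ⋙ ModuleCat.restrictScalars.{u} (k.stalkMap v).hom)

/-- A perfect object has, at each point, a finite free complex computing its stalk. -/
theorem exists_stalk_model (N : CochainComplex X.Modules ℤ) (hN : DCoh.IsPerfect (DCoh.toD X N)) (z : X) :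
    ∃ (Q : DRing.Cx (X.presheaf.stalk z)) (c : ℤ), DRing.VanishesAbove Q c ∧ DRing.TermwiseFiniteFree Q ∧
      Nonempty (DRing.toD Q ≅ DRing.toD ((ModStalk.stalkK z).obj N)) := by
  obtain ⟨B, k, _, P, c, hz, hc, hP, ⟨e⟩⟩ :=
    FlatCx12.AmpFibre.exists_chart (fun m => psc_of_perfect hN m) z
  obtain ⟨v, rfl⟩ := hz
  let φ := (k.stalkMap v).hom
  haveI : (ModuleCat.restrictScalars.{u} φ).IsEquivalence :=
    (ModuleCat.restrictScalarsEquivalenceOfRingEquiv
      (RingEquiv.ofBijective φ (ConcreteCategory.bijective_of_isIso (k.stalkMap v)))).isEquivalence_functor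
  let n : DerSch.stalkFunctor X (k v) ≅
      Scheme.Modules.restrictFunctor k ⋙ DerSch.stalkFunctor _ v ⋙ ModuleCat.restrictScalars.{u} φ :=
    stalkRestrictIso k v
  let σ := DerSch.stalkFunctor (Spec B) v ⋙ ModuleCat.restrictScalars.{u} φ
  haveI : PreservesFiniteLimits σ := inferInstance
  haveI : PreservesFiniteColimits σ := inferInstance
  haveI := DCat.PullPerf.preservesFiniteLimits_restrict k
  let T := (tilde.functor B).mapHomologicalComplex (ComplexShape.up ℤ)
  refine ⟨(σ.mapHomologicalComplex (ComplexShape.up ℤ)).obj (T.obj P), c,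
    fun i hi => σ.map_isZero ((tilde.functor B).map_isZero (hc i hi)), fun i => ?_,
    ⟨(σ.mapDerivedCategoryFactors.app (T.obj P)).symm ≪≫ σ.mapDerivedCategory.mapIso
      (e ≪≫ (Scheme.Modules.restrictFunctor k).mapDerivedCategoryFactors.app N) ≪≫
      σ.mapDerivedCategoryFactors.app _ ≪≫
      DerivedCategory.Q.mapIso ((NatIso.mapHomologicalComplex n (ComplexShape.up ℤ)).app N).symm⟩⟩
  haveI := (hP i).1
  haveI := (hP i).2
  let S := (Spec B).presheaf.stalk v
  let ρ := ((tilde.functor B) ⋙ DerSch.stalkFunctor (Spec B) v)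
  haveI hfree : Module.Free S (ρ.obj (P.X i)) ∧ Module.Finite S (ρ.obj (P.X i)) := by
    letI := (DCat.stalkφ v).toAlgebra
    let e₁ := ((DCat.tildeStalkIso v).app (P.X i)).toLinearEquiv
    haveI : Module.Finite S ((ModuleCat.extendScalars (DCat.stalkφ v)).obj (P.X i)) := Module.Finite.base_change B S (P.X i)
    haveI : Module.Free S ((ModuleCat.extendScalars (DCat.stalkφ v)).obj (P.X i)) :=
      inferInstanceAs (Module.Free S (TensorProduct B S (P.X i)))
    exact ⟨Module.Free.of_equiv e₁, Module.Finite.equiv e₁⟩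
  haveI := hfree.1
  haveI := hfree.2
  haveI : Nontrivial S := inferInstance
  let eφ := RingEquiv.ofBijective φ (ConcreteCategory.bijective_of_isIso (k.stalkMap v))
  letI : Module (X.presheaf.stalk (k v)) (ρ.obj (P.X i)) := Module.compHom _ φ
  let b' := (Module.Free.chooseBasis S (ρ.obj (P.X i))).mapCoeffs eφ.symm fun a m => by
    show φ (eφ.symm a) • m = a • m
    rw [show φ (eφ.symm a) = a from eφ.apply_symm_apply a]
  exact ⟨Module.Finite.of_basis b', Module.Free.of_basis b'⟩

/-- Krull intersection: exactness modulo all powers gives exactness. -/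
theorem exactAt_of_pow {S : Type u} [CommRing S] [IsNoetherianRing S] [IsLocalRing S] (I : Ideal S) (hI : I ≠ ⊤)
    (Q : DRing.Cx S) (i : ℤ) [Module.Finite S (Q.X i)]
    (h : ∀ r : ℕ, (DRing.tensorCx Q (ModuleCat.of S (S ⧸ I ^ r))).ExactAt i) : Q.ExactAt i := by
  rw [HomologicalComplex.exactAt_iff' (i := i - 1) (j := i) (k := i + 1) _ (by simp) (by simp),
    ShortComplex.ShortExact.moduleCat_exact_iff_function_exact]
  intro (x : Q.X i)
  refine ⟨fun hx => ?_, fun ⟨y, hy⟩ => hy ▸ LinearMap.congr_fun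
    (congrArg ModuleCat.Hom.hom (Q.d_comp_d (i - 1) i (i + 1))) y⟩
  let W := LinearMap.range (Q.d (i - 1) i).hom
  suffices hq : W.mkQ x = 0 from (Submodule.Quotient.mk_eq_zero W).1 hq
  rw [← Submodule.mem_bot S, ← Ideal.iInf_pow_smul_eq_bot_of_isLocalRing (M := Q.X i ⧸ W) I hI, Submodule.mem_iInf]
  intro r
  have h1 := h r
  rw [HomologicalComplex.exactAt_iff' (i := i - 1) (j := i) (k := i + 1) _ (by simp) (by simp),
    ShortComplex.ShortExact.moduleCat_exact_iff_function_exact] at h1
  obtain ⟨w, hw⟩ := (h1 (x ⊗ₜ[S] (1 : S ⧸ I ^ r))).1 (by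
    show ((Q.d i (i + 1)).hom x) ⊗ₜ[S] (1 : S ⧸ I ^ r) = 0
    rw [show (Q.d i (i + 1)).hom x = 0 from hx, TensorProduct.zero_tmul])
  obtain ⟨y, rfl⟩ : ∃ y, y ⊗ₜ[S] (1 : S ⧸ I ^ r) = w := by
    obtain ⟨y, hy⟩ := Submodule.Quotient.mk_surjective _ (TensorProduct.tensorQuotEquivQuotSMul (Q.X (i - 1)) (I ^ r) w)
    refine ⟨y, (TensorProduct.tensorQuotEquivQuotSMul (Q.X (i - 1)) (I ^ r)).injective ?_⟩
    rw [← hy, ← (Ideal.Quotient.mk (I ^ r)).map_one, TensorProduct.tensorQuotEquivQuotSMul_tmul_mk, one_smul]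
  have h2 : x - (Q.d (i - 1) i).hom y ∈ I ^ r • (⊤ : Submodule S (Q.X i)) := by
    rw [← Submodule.Quotient.mk_eq_zero, Submodule.Quotient.mk_sub, sub_eq_zero]
    have := congrArg (TensorProduct.tensorQuotEquivQuotSMul (Q.X i) (I ^ r)) (show ((Q.d (i - 1) i).hom y) ⊗ₜ[S] (1 : S ⧸ I ^ r) = x ⊗ₜ[S] (1 : S ⧸ I ^ r) from hw)
    rw [← (Ideal.Quotient.mk (I ^ r)).map_one, TensorProduct.tensorQuotEquivQuotSMul_tmul_mk,
      TensorProduct.tensorQuotEquivQuotSMul_tmul_mk, one_smul, one_smul] at this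
    exact this.symm
  have h3 := Submodule.smul_top_le_comap_smul_top (I ^ r) W.mkQ h2
  rw [Submodule.mem_comap, map_sub, show W.mkQ ((Q.d (i - 1) i).hom y) = 0 from
    (Submodule.Quotient.mk_eq_zero W).2 ⟨y, rfl⟩, sub_zero] at h3
  exact h3

/-- The stalk of the cohomology of a derived tensor product with a module. -/
theorem isZero_stalk_ltensor_iff (M : X.Modules) [DCoh.HasLTensorMod M] (N : CochainComplex X.Modules ℤ)
    (hN : IsKFlatFor (shT X) N) (z : X) (i : ℤ) :
    IsZero ((DerSch.stalkFunctor X z).obj (DCoh.HD ((DCoh.LTensorMod M).obj (DCoh.toD X N)) i)) ↔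
      (((tensorRight ((DerSch.stalkFunctor X z).obj M)).mapHomologicalComplex (ComplexShape.up ℤ)).obj
        ((ModStalk.stalkK z).obj N)).ExactAt i := by
  let C := ((DCoh.tensorRightMod M).mapHomologicalComplex (ComplexShape.up ℤ)).obj N
  let e : (DerSch.stalkFunctor X z).obj (DCoh.HD ((DCoh.LTensorMod M).obj (DCoh.toD X N)) i) ≅
      ((ModStalk.stalkK z).obj C).homology i :=
    (DerSch.stalkFunctor X z).mapIso ((homologyFunctor X.Modules i).mapIso (ltensorModIso M hN) ≪≫
      (homologyFunctorFactors X.Modules i).app C) ≪≫ ((C.sc i).mapHomologyIso (DerSch.stalkFunctor X z)).symm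
  rw [e.isZero_iff, ← HomologicalComplex.exactAt_iff_isZero_homology]
  exact ⟨fun h => h.of_iso (stalkTensorModCxIso M z N), fun h => h.of_iso (stalkTensorModCxIso M z N).symm⟩

/-- A derived tensor product with a module vanishes where the module does. -/
theorem killed_of_stalk (M : X.Modules) [DCoh.HasLTensorMod M] (P : DCoh.D X) (N : CochainComplex X.Modules ℤ)
    (hN : IsKFlatFor (shT X) N) (eN : DCoh.toD X N ≅ P) (O : X.Opens)
    (h : ∀ w ∈ O, Subsingleton ((DerSch.stalkFunctor X w).obj M)) :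
    Dual22Lib.AdjGeom.killed O.ι ((DCoh.LTensorMod M).obj P) := by
  haveI := DCat.PullPerf.preservesFiniteLimits_restrict O.ι
  refine DQCoh.isZero_of_isZero_hd _ fun m => IsZero.of_iso ?_
    (SuppOpen.hdMapIso (Scheme.Modules.restrictFunctor O.ι) _ m)
  refine ModStalk.isZero_of_stalks fun w => ?_
  refine IsZero.of_iso ((ModuleCat.extendScalars (O.ι.stalkMap w).hom).map_isZero ?_)
    ((Functor.isoWhiskerRight (Scheme.Modules.restrictFunctorIsoPullback O.ι) (DerSch.stalkFunctor _ w) ≪≫
      ModStalk.pullbackStalkIso O.ι w).app _)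
  haveI : Subsingleton ((DerSch.stalkFunctor _ (O.ι w)).obj M) := h _ w.2
  refine IsZero.of_iso ((isZero_stalk_ltensor_iff M N hN (O.ι w) m).2 (HomologicalComplex.ExactAt.of_isZero ?_))
    ((DerSch.stalkFunctor _ (O.ι w)).mapIso ((homologyFunctor _ m).mapIso ((DCoh.LTensorMod M).mapIso eN.symm)))
  exact (tensorLeft (((ModStalk.stalkK (O.ι w)).obj N).X m)).map_isZero (ModuleCat.isZero_of_subsingleton ((DerSch.stalkFunctor X (O.ι w)).obj M))

/-- The detection criterion. -/
theorem isZero_HD_of_points {k : Type u} [Field k] (sX : X ⟶ Spec (CommRingCat.of k)) (sY : Y ⟶ Spec (CommRingCat.of k))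
    [LocallyOfFiniteType sX] [LocallyOfFiniteType sY] [CompactSpace X] [CompactSpace Y]
    [∀ F : X.Modules, DCoh.HasLTensorMod ((Scheme.Modules.pullback (pullback.fst sX sY)).obj F)]
    [DCoh.HasRpush (pullback.snd sX sY)] (P : DCoh.D (pullback sX sY)) (hP : DCoh.IsPerfect P) (i : ℤ)
    (h : ∀ F : X.Modules, Coh.IsCoh F → (CohB1.support F).Finite →
      (∀ x ∈ CohB1.support F, IsClosed ({x} : Set X)) →
      IsZero (DCoh.HD ((DCoh.Rpush (pullback.snd sX sY)).obj
        ((DCoh.LTensorMod ((Scheme.Modules.pullback (pullback.fst sX sY)).obj F)).obj P)) i)) :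
    IsZero (DCoh.HD P i) := by
  let p₁ := pullback.fst sX sY
  let p₂ := pullback.snd sX sY
  let s := p₁ ≫ sX
  haveI : LocallyOfFiniteType p₁ := MorphismProperty.pullback_fst _ _ ‹LocallyOfFiniteType sY›
  haveI : LocallyOfFiniteType p₂ := MorphismProperty.pullback_snd _ _ ‹LocallyOfFiniteType sX›
  haveI : LocallyOfFiniteType s := inferInstance
  haveI : JacobsonSpace X := LocallyOfFiniteType.jacobsonSpace sX
  haveI : JacobsonSpace ↥(pullback sX sY) := LocallyOfFiniteType.jacobsonSpace s
  haveI : IsLocallyNoetherian X := LocallyOfFiniteType.isLocallyNoetherian sX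
  haveI : IsLocallyNoetherian (pullback sX sY) := LocallyOfFiniteType.isLocallyNoetherian s
  have hq : DCoh.IsQCohD P := isQCohD_of_psc fun m => psc_of_perfect hP m
  have hcoh : Coh.IsCoh (DCoh.HD P i) := isCoh_HD_of_psc P hq i (psc_of_perfect hP i) i le_rfl
  suffices hpt : ∀ z : ↥(pullback sX sY), IsClosed ({z} : Set ↥(pullback sX sY)) → z ∉ CohB1.support (DCoh.HD P i) by
    refine ModStalk.isZero_of_stalks fun z => ?_
    by_contra hne
    have hcl := Coherent.isClosed_support _ (Coherent.locallyFinGen_of_isFT _ hcoh.2)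
    have hne' : (CohB1.support (DCoh.HD P i)).Nonempty := ⟨z, by
      exact fun hs => hne (@ModuleCat.isZero_of_subsingleton _ _ _ hs)⟩
    obtain ⟨w, hw, hwc⟩ := nonempty_inter_closedPoints hne' hcl.isLocallyClosed
    exact hpt w hwc hw
  intro z hz
  let x := p₁ z
  have hx : IsClosed ({x} : Set X) := p₁.closePoints_subset_preimage_closedPoints hz
  obtain ⟨N, hN, ⟨eN⟩⟩ : ∃ N, IsKFlatFor (shT (pullback sX sY)) N ∧ Nonempty (DCoh.toD _ N ≅ P) := by
    obtain ⟨N, c, hN, -, hc, -⟩ := exists_kflat_sheaf (DerivedCategory.Q.objPreimage P)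
    haveI := hc
    exact ⟨N, hN, ⟨asIso (DerivedCategory.Q.map c) ≪≫ DerivedCategory.Q.objObjPreimageIso P⟩⟩
  obtain ⟨Q, c, hQc, hQf, ⟨eQ⟩⟩ := exists_stalk_model N (DCat.PCTriangle.perfect_iso eN.symm hP) z
  let S := (pullback sX sY).presheaf.stalk z
  let I : Ideal S := (IsLocalRing.maximalIdeal (X.presheaf.stalk x)).map (p₁.stalkMap z).hom
  have hI : I ≠ ⊤ := fun he => (IsLocalRing.maximalIdeal.isMaximal S).ne_top (top_le_iff.1 (he.symm.le.trans
    (((IsLocalRing.local_hom_TFAE (p₁.stalkMap z).hom).out 0 2).1 (inferInstance : IsLocalHom (p₁.stalkMap z).hom))))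
  have hex : Q.ExactAt i := by
    haveI := (hQf i).1
    refine exactAt_of_pow I hI Q i fun r => ?_
    obtain ⟨F, hF, hFs, ⟨eF⟩⟩ := exists_thick x hx r
    let M := (Scheme.Modules.pullback p₁).obj F
    have hh := h F hF ((Set.finite_singleton x).subset hFs) (fun y hy => by rwa [show y = x from hFs hy])
    let T := (DCoh.LTensorMod M).obj P
    haveI := hF.1
    haveI hM : Coh.IsQCoh M := EGA43.InjFibre.isQCoh_pullback p₁ F
    have hT : DCoh.IsQCohD T := by
      haveI := LTensorSheaf.hasLTensorCx N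
      obtain ⟨a⟩ := PointFibre17.nonempty_ltensorMod_iso M hN
      exact isQCohD_of_iso (a ≪≫ (DCoh.LTensorMod M).mapIso eN) (DQCoh.isQCohD_LTensorCx N
        (isQCohD_of_iso eN.symm hq) _ (isQCohD_of_iso ((DerivedCategory.singleFunctorIsoCompQ _ 0).app M).symm
          (BCFlat16.isQCohD_sM hM)))
    let eM : (DerSch.stalkFunctor _ z).obj M ≅ (ModuleCat.extendScalars (p₁.stalkMap z).hom).obj
        ((DerSch.stalkFunctor X x).obj F) := (ModStalk.pullbackStalkIso p₁ z).app F
    have hstalk : ∀ w, p₁ w ≠ x → Subsingleton ((DerSch.stalkFunctor _ w).obj M) := fun w hw => by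
      have h0 : IsZero ((DerSch.stalkFunctor X (p₁ w)).obj F) := @ModuleCat.isZero_of_subsingleton _ _ _
        (not_not.1 fun hn => hw (hFs hn))
      exact ModuleCat.subsingleton_of_isZero
        (((ModuleCat.extendScalars (p₁.stalkMap w).hom).map_isZero h0).of_iso ((ModStalk.pullbackStalkIso p₁ w).app F))
    -- concentrated on an affine neighbourhood of the point
    obtain ⟨U, hU, hxU, -⟩ := exists_isAffineOpen_mem_and_subset (x := x) (U := (⊤ : X.Opens)) trivial
    haveI : IsAffine (U : Scheme.{u}) := hU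
    let j := pullback.snd U.ι p₁
    let O : (pullback sX sY).Opens := p₁ ⁻¹ᵁ ⟨{x}ᶜ, hx.isOpen_compl⟩
    have hkill : Dual22Lib.AdjGeom.killed O.ι T := killed_of_stalk M P N hN eN O fun w hw => hstalk w hw
    haveI := hasRpush j
    obtain ⟨adj, hadj⟩ := Dual22Lib.AdjGeom.exists_adj j
    haveI := hadj
    haveI : IsIso (adj.unit.app T) := PointChart17.isIso_unit_of_killed j O (fun w => by
      by_cases hw : p₁ w = x
      · right
        show w ∈ Set.range j
        rw [Scheme.Pullback.range_snd, Scheme.Opens.range_ι]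
        show p₁ w ∈ U
        rwa [hw]
      · exact Or.inl hw) adj hkill
    let q := j ≫ p₂
    haveI : IsAffineHom q := by
      have e := pullbackRightPullbackFstIso sX sY U.ι
      rw [show q = (pullbackRightPullbackFstIso sX sY U.ι).hom ≫ pullback.snd (U.ι ≫ sX) sY from
        (pullbackRightPullbackFstIso_hom_snd sX sY U.ι).symm]
      haveI : IsAffineHom (pullback.snd (U.ι ≫ sX) sY) :=
        MorphismProperty.pullback_snd _ _ (isAffineHom_of_isAffine _)
      infer_instance
    haveI := hasRpush q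
    obtain ⟨ec⟩ := DCat.nonempty_RpushComp j p₂
    have hzW : IsZero (DCoh.HD ((DCoh.restrictD j).obj T) i) :=
      isZero_HD_of_push q _ (Dual22Lib.AdjGeom.isQCohD_restrictD j hT) i (hh.of_iso ((homologyFunctor _ i).mapIso
        ((ec.app _).symm ≪≫ (DCoh.Rpush p₂).mapIso (asIso (adj.unit.app T)).symm)))
    have hzj : z ∈ Set.range j := by
      rw [Scheme.Pullback.range_snd, Scheme.Opens.range_ι]
      exact hxU
    obtain ⟨w, hw⟩ := hzj
    have hst : IsZero ((DerSch.stalkFunctor _ (j w)).obj (DCoh.HD T i)) := by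
      haveI := DCat.PullPerf.preservesFiniteLimits_restrict j
      have h0 := (DerSch.stalkFunctor _ w).map_isZero (hzW.of_iso (SuppOpen.hdMapIso (Scheme.Modules.restrictFunctor j) T i).symm)
      exact ((ModuleCat.restrictScalars _).map_isZero h0).of_iso ((stalkRestrictIso j w).app _)
    rw [hw] at hst
    have hN1 : (((tensorRight ((DerSch.stalkFunctor _ z).obj M)).mapHomologicalComplex
        (ComplexShape.up ℤ)).obj ((ModStalk.stalkK z).obj N)).ExactAt i := by
      exact (isZero_stalk_ltensor_iff M N hN z i).1 (hst.of_iso ((DerSch.stalkFunctor _ z).mapIso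
        ((homologyFunctor _ i).mapIso ((DCoh.LTensorMod M).mapIso eN))))
    let A := (DerSch.stalkFunctor (pullback sX sY) z).obj M
    haveI := DCat.hasLTensor A
    have hQk : IsKFlatFor (modT S) Q := isKFlatFor_of_vanishesAbove Q c hQc fun n => by
      haveI := (hQf n).2
      exact Module.Flat.of_free
    have hQA : (DRing.tensorCx Q A).ExactAt i := by
      rw [← isZero_ltensor_iff A hQk eQ i, isZero_ltensor_iff A ((isKFlatFor_iff_stalks N).1 hN z) (Iso.refl _) i]
      exact hN1
    obtain ⟨eq⟩ := DRingLib.KS17.nonempty_quot_iso (p₁.stalkMap z).hom (IsLocalRing.maximalIdeal (X.presheaf.stalk x) ^ r)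
    let eA : A ≅ ModuleCat.of S (S ⧸ I ^ r) := eM ≪≫ (ModuleCat.extendScalars _).mapIso eF ≪≫ eq ≪≫
      (Submodule.quotEquivOfEq _ _ (Ideal.map_pow _ _ r)).toModuleIso
    exact hQA.of_iso ((NatIso.mapHomologicalComplex ((tensoringRight (ModuleCat.{u} S)).mapIso eA)
      (ComplexShape.up ℤ)).app Q)
  have hz0 : IsZero ((DerSch.stalkFunctor (pullback sX sY) z).obj (DCoh.HD P i)) := by
    refine IsZero.of_iso ?_ ((DerSch.stalkFunctor _ z).mapIso ((homologyFunctor _ i).mapIso eN.symm ≪≫
      (homologyFunctorFactors _ i).app N) ≪≫ ((N.sc i).mapHomologyIso (DerSch.stalkFunctor _ z)).symm)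
    exact ((isZero_homology_toD_iff Q i).2 hex).of_iso
      (((homologyFunctorFactors (ModuleCat.{u} S) i).app ((ModStalk.stalkK z).obj N)).symm ≪≫
        (homologyFunctor (ModuleCat.{u} S) i).mapIso eQ.symm)
  exact fun hs => hs (ModuleCat.subsingleton_of_isZero hz0)

end Groth.Agent.DQCoh.PointDetect17
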