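import Groth.Prelude.Def_DerCA
import Mathlib.CategoryTheory.Triangulated.Pretriangulated
import Mathlib.CategoryTheory.Triangulated.Triangulated

/-! Pro-isomorphisms of inverse systems: formal properties and triangles. -/

set_option autoImplicit false
set_option backward.isDefEq.respectTransparency false
set_option backward.defeqAttrib.useBackward true

universe v u v' u'

open CategoryTheory CategoryTheory.Limits Opposite CategoryTheory.Pretriangulated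

namespace Groth.Agent.DQCoh.Pro

section Basic

variable {C : Type u} [Category.{v} C]

lemma tr_comp (X : ARSys.PS C) {n m k : ℕ} (h : n ≤ m) (h' : m ≤ k) :
    ARSys.tr X h' ≫ ARSys.tr X h = ARSys.tr X (h.trans h') := by
  rw [← Functor.map_comp, ← op_comp]
  rfl

lemma tr_refl (X : ARSys.PS C) (n : ℕ) : ARSys.tr X (le_refl n) = 𝟙 _ := X.map_id _

lemma nat {X Y : ARSys.PS C} (a : X ⟶ Y) {n m : ℕ} (h : n ≤ m) :
    ARSys.tr X h ≫ a.app (op n) = a.app (op m) ≫ ARSys.tr Y h := a.naturality _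

lemma of_isIso {X Y : ARSys.PS C} (a : X ⟶ Y) [IsIso a] : DerCA.IsProIso a := fun n =>
  ⟨n, le_rfl, inv (a.app (op n)), by simp [tr_refl], by simp [tr_refl]⟩

lemma comp {X Y Z : ARSys.PS C} {a : X ⟶ Y} {b : Y ⟶ Z} (ha : DerCA.IsProIso a) (hb : DerCA.IsProIso b) :
    DerCA.IsProIso (a ≫ b) := fun n => by
  obtain ⟨k, hk, p, p1, p2⟩ := ha n
  obtain ⟨m, hm, q, q1, q2⟩ := hb k
  refine ⟨m, hk.trans hm, q ≫ p, ?_, ?_⟩
  · rw [NatTrans.comp_app, Category.assoc, reassoc_of% q1, ← reassoc_of% (nat a hm), p1, tr_comp]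
  · rw [NatTrans.comp_app, Category.assoc, reassoc_of% p2, nat b hk, reassoc_of% q2, tr_comp]

lemma of_comp_left {X Y Z : ARSys.PS C} {a : X ⟶ Y} {b : Y ⟶ Z} (ha : DerCA.IsProIso a)
    (hab : DerCA.IsProIso (a ≫ b)) : DerCA.IsProIso b := fun n => by
  obtain ⟨k, hk, q, q1, q2⟩ := hab n
  obtain ⟨m, hm, p, p1, p2⟩ := ha k
  refine ⟨m, hk.trans hm, ARSys.tr Z hm ≫ q ≫ a.app (op n), ?_, ?_⟩
  · rw [NatTrans.comp_app, Category.assoc] at q1
    rw [← reassoc_of% nat b hm, ← p2, Category.assoc, reassoc_of% q1, nat a hk, reassoc_of% p2, tr_comp]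
  · rw [NatTrans.comp_app] at q2
    rw [Category.assoc, Category.assoc, q2, tr_comp]

lemma of_comp_right {X Y Z : ARSys.PS C} {a : X ⟶ Y} {b : Y ⟶ Z} (hb : DerCA.IsProIso b)
    (hab : DerCA.IsProIso (a ≫ b)) : DerCA.IsProIso a := fun n => by
  obtain ⟨k, hk, p, p1, p2⟩ := hb n
  obtain ⟨m, hm, q, q1, q2⟩ := hab k
  refine ⟨m, hk.trans hm, b.app (op m) ≫ q ≫ ARSys.tr X hk, ?_, ?_⟩
  · rw [NatTrans.comp_app, Category.assoc] at q1
    rw [reassoc_of% q1, tr_comp]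
  · rw [NatTrans.comp_app] at q2
    rw [Category.assoc, Category.assoc, nat a hk, ← p1]
    rw [reassoc_of% q2, ← reassoc_of% nat b hm, p1, tr_comp]

lemma whisker {D : Type u'} [Category.{v'} D] (F : C ⥤ D) {X Y : ARSys.PS C} {a : X ⟶ Y}
    (ha : DerCA.IsProIso a) : DerCA.IsProIso (Functor.whiskerRight a F) := fun n => by
  obtain ⟨m, hm, b, b1, b2⟩ := ha n
  exact ⟨m, hm, F.map b, (F.map_comp _ _).symm.trans (congrArg F.map b1),
    (F.map_comp _ _).symm.trans (congrArg F.map b2)⟩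

lemma of_reindex_succ {X Y : ARSys.PS C} (a : X ⟶ Y)
    (h : DerCA.IsProIso (Functor.whiskerLeft (Monotone.functor (f := fun n : ℕ => n + 1)
      (fun _ _ h => Nat.add_le_add_right h 1)).op a)) : DerCA.IsProIso a := fun n => by
  obtain ⟨m, hm, b, b1, b2⟩ := h n
  refine ⟨m + 1, by omega, b ≫ ARSys.tr X (Nat.le_succ n), ?_, ?_⟩
  · have b1' : a.app (op (m + 1)) ≫ b = ARSys.tr X (Nat.add_le_add_right hm 1) := b1
    rw [reassoc_of% b1', tr_comp]
  · have b2' : b ≫ a.app (op (n + 1)) = ARSys.tr Y (Nat.add_le_add_right hm 1) := b2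
    rw [Category.assoc, nat a]
    erw [reassoc_of% b2']
    exact tr_comp _ _ _

end Basic

section Zero

variable {C : Type u} [Category.{v} C] [HasZeroMorphisms C]

lemma zero_whisker {D : Type u'} [Category.{v'} D] [HasZeroMorphisms D] (F : C ⥤ D) [F.PreservesZeroMorphisms]
    {X : ARSys.PS C} (h : DerCA.IsProZero X) : DerCA.IsProZero (X ⋙ F) := fun n => by
  obtain ⟨m, hm, h0⟩ := h n
  exact ⟨m, hm, (congrArg F.map h0).trans (F.map_zero _ _)⟩

end Zero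

section Tri

variable {D : Type u} [Category.{v} D] [Preadditive D] [HasZeroObject D] [HasShift D ℤ]
  [∀ n : ℤ, (shiftFunctor D n).Additive] [Pretriangulated D]
  {X Y Z : ARSys.PS D} (f : X ⟶ Y) (g : Y ⟶ Z) (h : Z ⟶ X ⋙ shiftFunctor D (1 : ℤ))
  (hT : ∀ n : ℕ, Triangle.mk (f.app (op n)) (g.app (op n)) (h.app (op n)) ∈ distinguishedTriangles)

include hT in
/-- If the third system is pro-zero, the first map is a pro-isomorphism. -/
theorem of_proZero₃ (hZ : DerCA.IsProZero Z) : DerCA.IsProIso f := fun n => by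
  obtain ⟨k, hk, hk0⟩ := hZ n
  obtain ⟨m, hm, hm0⟩ := hZ k
  have h2 : (ARSys.tr Y hm) ≫ g.app (op k) = 0 := by rw [nat g hm, hm0, comp_zero]
  obtain ⟨b, hb⟩ := Triangle.coyoneda_exact₂ _ (hT k) (ARSys.tr Y hm) h2
  dsimp at b hb
  refine ⟨m, hk.trans hm, b ≫ ARSys.tr X hk, ?_, ?_⟩
  · have hd : (f.app (op m) ≫ b - ARSys.tr X hm) ≫ f.app (op k) = 0 := by
      rw [Preadditive.sub_comp, Category.assoc, ← hb, nat f hm, sub_self]
    obtain ⟨e, he⟩ := Triangle.coyoneda_exact₂ _ (inv_rot_of_distTriang _ (hT k)) _ hd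
    have hkill : (Triangle.mk (f.app (op k)) (g.app (op k)) (h.app (op k))).invRotate.mor₁ ≫ ARSys.tr X hk = 0 := by
      have h5 : (h.app (op k))⟦(-1 : ℤ)⟧' ≫ ((ARSys.tr X hk)⟦(1 : ℤ)⟧')⟦(-1 : ℤ)⟧' = 0 := by
        have h6 : ARSys.tr Z hk ≫ h.app (op n) = h.app (op k) ≫ (ARSys.tr X hk)⟦(1 : ℤ)⟧' := h.naturality _
        rw [← Functor.map_comp, ← h6, hk0, zero_comp, Functor.map_zero]
      have h7 := (shiftFunctorCompIsoId D (1 : ℤ) (-1) (by omega)).hom.naturality (ARSys.tr X hk)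
      dsimp at h7 ⊢
      simp only [Preadditive.neg_comp, Category.assoc]
      rw [← h7, reassoc_of% h5, zero_comp, neg_zero]
    have h8 := congrArg (· ≫ ARSys.tr X hk) he
    simp only [Category.assoc, hkill, comp_zero, Preadditive.sub_comp, tr_comp, sub_eq_zero] at h8
    exact h8
  · rw [Category.assoc, nat f hk, ← reassoc_of% hb, tr_comp]

end Tri

section Five

variable {D : Type u} [Category.{v} D] [Preadditive D] [HasZeroObject D] [HasShift D ℤ]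
  [∀ n : ℤ, (shiftFunctor D n).Additive] [Pretriangulated D]
  {X₁ X₂ X₃ Y₁ Y₂ Y₃ : ARSys.PS D}
  (f : X₁ ⟶ X₂) (g : X₂ ⟶ X₃) (h : X₃ ⟶ X₁ ⋙ shiftFunctor D (1 : ℤ))
  (f' : Y₁ ⟶ Y₂) (g' : Y₂ ⟶ Y₃) (h' : Y₃ ⟶ Y₁ ⋙ shiftFunctor D (1 : ℤ))
  (hT : ∀ n : ℕ, Triangle.mk (f.app (op n)) (g.app (op n)) (h.app (op n)) ∈ distinguishedTriangles)
  (hT' : ∀ n : ℕ, Triangle.mk (f'.app (op n)) (g'.app (op n)) (h'.app (op n)) ∈ distinguishedTriangles)
  (a₁ : X₁ ⟶ Y₁) (a₂ : X₂ ⟶ Y₂) (a₃ : X₃ ⟶ Y₃)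
  (hf : f ≫ a₂ = a₁ ≫ f') (hg : g ≫ a₃ = a₂ ≫ g')
  (hh : h ≫ Functor.whiskerRight a₁ (shiftFunctor D (1 : ℤ)) = a₃ ≫ h')

include hT hT' hf hg hh in
/-- The five lemma for pro-isomorphisms. -/
theorem five (h₁ : DerCA.IsProIso a₁) (h₂ : DerCA.IsProIso a₂) : DerCA.IsProIso a₃ := by
  have ef : ∀ k, f.app (op k) ≫ a₂.app (op k) = a₁.app (op k) ≫ f'.app (op k) :=
    fun k => NatTrans.congr_app hf (op k)
  have eg : ∀ k, g.app (op k) ≫ a₃.app (op k) = a₂.app (op k) ≫ g'.app (op k) :=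
    fun k => NatTrans.congr_app hg (op k)
  have eh : ∀ k, h.app (op k) ≫ (a₁.app (op k))⟦(1 : ℤ)⟧' = a₃.app (op k) ≫ h'.app (op k) :=
    fun k => NatTrans.congr_app hh (op k)
  have nh : ∀ {i j : ℕ} (hij : i ≤ j), ARSys.tr X₃ hij ≫ h.app (op i) =
      h.app (op j) ≫ (ARSys.tr X₁ hij)⟦(1 : ℤ)⟧' := fun _ => h.naturality _
  have nh' : ∀ {i j : ℕ} (hij : i ≤ j), ARSys.tr Y₃ hij ≫ h'.app (op i) =
      h'.app (op j) ≫ (ARSys.tr Y₁ hij)⟦(1 : ℤ)⟧' := fun _ => h'.naturality _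
  have pmono : ∀ n, ∃ (m : ℕ) (hnm : n ≤ m), ∀ (W : D) (x : W ⟶ X₃.obj (op m)),
      x ≫ a₃.app (op m) = 0 → x ≫ ARSys.tr X₃ hnm = 0 := fun n => by
    obtain ⟨i, hi, b₂, b₂l, -⟩ := h₂ n
    obtain ⟨j, hj, b₁, -, b₁r⟩ := h₁ i
    obtain ⟨m, hm, c₁, c₁l, -⟩ := h₁ j
    refine ⟨m, (hi.trans hj).trans hm, fun W x hx => ?_⟩
    have h0 : (x ≫ h.app (op m)) ≫ (a₁.app (op m))⟦(1 : ℤ)⟧' = 0 := by
      rw [Category.assoc, eh, ← Category.assoc, hx, zero_comp]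
    have hxj : (x ≫ ARSys.tr X₃ hm) ≫ h.app (op j) = 0 := by
      rw [Category.assoc, nh, ← c₁l, Functor.map_comp, ← Category.assoc, ← Category.assoc, h0, zero_comp]
    obtain ⟨y, hy⟩ := Triangle.coyoneda_exact₃ _ (hT j) (x ≫ ARSys.tr X₃ hm) hxj
    dsimp at y hy
    have hy0 : (y ≫ a₂.app (op j)) ≫ g'.app (op j) = 0 := by
      rw [Category.assoc, ← eg, ← Category.assoc, ← hy, Category.assoc, nat a₃ hm, ← Category.assoc, hx, zero_comp]
    obtain ⟨z, hz⟩ := Triangle.coyoneda_exact₂ _ (hT' j) _ hy0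
    dsimp at z hz
    have hd : (y ≫ ARSys.tr X₂ hj - (z ≫ b₁) ≫ f.app (op i)) ≫ a₂.app (op i) = 0 := by
      rw [Preadditive.sub_comp, Category.assoc, nat a₂ hj, reassoc_of% hz, Category.assoc, Category.assoc, ef,
        reassoc_of% b₁r, nat f' hj, sub_self]
    have hd' : (y ≫ ARSys.tr X₂ hj - (z ≫ b₁) ≫ f.app (op i)) ≫ ARSys.tr X₂ hi = 0 := by
      rw [← b₂l, ← Category.assoc, hd, zero_comp]
    rw [Preadditive.sub_comp, sub_eq_zero, Category.assoc, tr_comp] at hd'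
    rw [← tr_comp X₃ (hi.trans hj) hm, ← Category.assoc, hy, Category.assoc, ← nat g, reassoc_of% hd', ← reassoc_of% nat f hi]
    have hfg : f.app (op n) ≫ g.app (op n) = 0 := comp_distTriang_mor_zero₁₂ _ (hT n)
    simp [hfg]
  have pepi : ∀ n, ∃ (m : ℕ) (hnm : n ≤ m) (u : Y₃.obj (op m) ⟶ X₃.obj (op n)),
      u ≫ a₃.app (op n) = ARSys.tr Y₃ hnm := fun n => by
    obtain ⟨i, hi, b₂, -, b₂r⟩ := h₂ n
    obtain ⟨j, hj, c₂, c₂l, -⟩ := h₂ i
    obtain ⟨m, hm, b₁, -, b₁r⟩ := h₁ j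
    let u := h'.app (op m) ≫ b₁⟦(1 : ℤ)⟧'
    have hu : u ≫ (a₁.app (op j))⟦(1 : ℤ)⟧' = ARSys.tr Y₃ hm ≫ h'.app (op j) := by
      rw [Category.assoc, ← Functor.map_comp, b₁r, ← nh']
    have hu0 : (u ≫ (f.app (op j))⟦(1 : ℤ)⟧') ≫ (a₂.app (op j))⟦(1 : ℤ)⟧' = 0 := by
      have h31 : h'.app (op j) ≫ (f'.app (op j))⟦(1 : ℤ)⟧' = 0 := comp_distTriang_mor_zero₃₁ _ (hT' j)
      rw [Category.assoc, ← Functor.map_comp, ef, Functor.map_comp, reassoc_of% hu, h31, comp_zero]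
    have hui : (u ≫ (ARSys.tr X₁ hj)⟦(1 : ℤ)⟧') ≫ (f.app (op i))⟦(1 : ℤ)⟧' = 0 := by
      rw [Category.assoc, ← Functor.map_comp, nat f hj, ← c₂l, Functor.map_comp, Functor.map_comp,
        ← Category.assoc, ← Category.assoc, hu0, zero_comp]
    obtain ⟨v, hv⟩ := Triangle.coyoneda_exact₁ _ (hT i) _ hui
    dsimp at v hv
    have hs : (ARSys.tr Y₃ (hj.trans hm) - v ≫ a₃.app (op i)) ≫ h'.app (op i) = 0 := by
      rw [Preadditive.sub_comp, Category.assoc, ← eh, ← reassoc_of% hv, ← Functor.map_comp, nat a₁ hj,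
        Functor.map_comp, reassoc_of% hu, ← nh', ← Category.assoc, tr_comp, sub_self]
    obtain ⟨s, hs'⟩ := Triangle.coyoneda_exact₃ _ (hT' i) _ hs
    dsimp at s hs'
    refine ⟨m, (hi.trans hj).trans hm, v ≫ ARSys.tr X₃ hi + (s ≫ b₂) ≫ g.app (op n), ?_⟩
    rw [Preadditive.add_comp, Category.assoc, nat a₃ hi, Category.assoc, Category.assoc, eg, reassoc_of% b₂r,
      nat g' hi, ← Category.assoc, ← Category.assoc, ← hs', ← Preadditive.add_comp, add_sub_cancel, tr_comp]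
  intro n
  obtain ⟨k, hk, hkill⟩ := pmono n
  obtain ⟨m, hm, u, hu⟩ := pepi k
  refine ⟨m, hk.trans hm, u ≫ ARSys.tr X₃ hk, ?_, ?_⟩
  · have h0 : (a₃.app (op m) ≫ u - ARSys.tr X₃ hm) ≫ a₃.app (op k) = 0 := by
      rw [Preadditive.sub_comp, Category.assoc, hu, nat a₃ hm, sub_self]
    have h9 := hkill _ _ h0
    rw [Preadditive.sub_comp, sub_eq_zero, Category.assoc, tr_comp] at h9
    exact h9
  · rw [Category.assoc, nat a₃ hk, reassoc_of% hu, tr_comp]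

end Five

section Smul

/-- A system with transition maps multiplied by powers of a scalar. -/
@[simps]
def twist {A : Type*} [CommRing A] {C : Type u} [Category.{v} C] [Preadditive C] [Linear A C] (a : A)
    (X : ARSys.PS C) : ARSys.PS C where
  obj n := X.obj n
  map {n m} φ := a ^ (n.unop - m.unop) • X.map φ
  map_id n := by simp
  map_comp {n m k} φ ψ := by
    have h1 : m.unop ≤ n.unop := leOfHom φ.unop
    have h2 : k.unop ≤ m.unop := leOfHom ψ.unop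
    rw [Linear.smul_comp, Linear.comp_smul, smul_smul, ← pow_add, Functor.map_comp]
    congr 2
    omega

/-- Pro-isomorphisms survive the twist. -/
theorem twist_proIso {A : Type*} [CommRing A] {C : Type u} [Category.{v} C] [Preadditive C] [Linear A C] (a : A)
    {X Y : ARSys.PS C} {t : X ⟶ Y} {t' : twist a X ⟶ twist a Y} (ht' : ∀ n, t'.app n = t.app n)
    (ht : DerCA.IsProIso t) : DerCA.IsProIso t' := fun n => by
  obtain ⟨m, hm, b, b1, b2⟩ := ht n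
  refine ⟨m, hm, a ^ (m - n) • b, ?_, ?_⟩
  · rw [ht']
    exact (Linear.comp_smul _ _ _ _ _ _).trans (congrArg (a ^ (m - n) • ·) b1)
  · rw [ht']
    exact (Linear.smul_comp _ _ _ _ _ _).trans (congrArg (a ^ (m - n) • ·) b2)

end Smul

end Groth.Agent.DQCoh.Pro
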