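import Groth.Agent.DQCoh.PscNoeth
import Groth.Agent.DRingLib.PCRes
import Groth.Agent.DRingLib.PCGen
import Groth.Agent.AlgzPiLib.GenCount
import Groth.Agent.Dual22Lib.SchStalk
import Mathlib.Algebra.Category.ModuleCat.Products
import Mathlib.LinearAlgebra.Finsupp.Pi

/-!
# Pseudo-coherent objects on quasi-compact opens of affine schemes extend to free complexes
-/

set_option autoImplicit false
set_option backward.isDefEq.respectTransparency false
set_option backward.defeqAttrib.useBackward true
set_option linter.style.haveILetI false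
set_option linter.unusedSectionVars false
set_option synthInstance.maxHeartbeats 100000

universe u

open CategoryTheory CategoryTheory.Limits CategoryTheory.Pretriangulated AlgebraicGeometry HomologicalComplex
open TopologicalSpace Groth.Agent
open scoped ZeroObject DirectSum

attribute [local instance] HasDerivedCategory.standard
attribute [-instance] Int.instConditionallyCompleteLinearOrder

namespace Groth.Agent.DQCoh.PscExtend17

variable {A : CommRingCat.{u}} [PreservesFiniteLimits (tilde.functor A)] {W : Scheme.{u}} (j : W ⟶ Spec A)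
  [IsOpenImmersion j] [PreservesFiniteLimits (Scheme.Modules.restrictFunctor j)]

/-- The sheaf on `W` of a module. -/
noncomputable abbrev shW : ModuleCat.{u} A ⥤ W.Modules := tilde.functor A ⋙ Scheme.Modules.restrictFunctor j

/-- The object on `W` of a complex of modules. -/
noncomputable abbrev phiW : Dual.D A ⥤ DCoh.D W := DCoh.tildeD A ⋙ DCoh.restrictD j

theorem nonempty_natIso (i : ℤ) :
    Nonempty (phiW j ⋙ DerivedCategory.homologyFunctor W.Modules i ≅
      DerivedCategory.homologyFunctor (ModuleCat.{u} A) i ⋙ shW j) := by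
  haveI := preservesFiniteColimits_tilde A
  haveI : PreservesFiniteColimits (Scheme.Modules.restrictFunctor j) :=
    haveI := (Scheme.Modules.restrictAdjunction j).leftAdjoint_preservesColimits
    inferInstance
  obtain ⟨η⟩ := nonempty_homology_natIso (tilde.functor A) i
  obtain ⟨θ⟩ := nonempty_homology_natIso (Scheme.Modules.restrictFunctor j) i
  exact ⟨Functor.associator _ _ _ ≪≫ Functor.isoWhiskerLeft _ θ ≪≫ (Functor.associator _ _ _).symm ≪≫
    Functor.isoWhiskerRight η _ ≪≫ Functor.associator _ _ _⟩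

theorem preservesEpi_shW : (shW j).PreservesEpimorphisms := by
  haveI := preservesFiniteColimits_tilde A
  haveI : PreservesFiniteColimits (Scheme.Modules.restrictFunctor j) :=
    haveI := (Scheme.Modules.restrictAdjunction j).leftAdjoint_preservesColimits
    inferInstance
  infer_instance

theorem phiW_HD_zero_of_exact (E : DRing.Cx A) {i : ℤ} (h : E.ExactAt i) :
    IsZero (DCoh.HD ((phiW j).obj (DerivedCategory.Q.obj E)) i) := by
  obtain ⟨η⟩ := nonempty_natIso j i
  refine IsZero.of_iso ((shW j).map_isZero ?_) (η.app _)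
  exact ((HomologicalComplex.exactAt_iff_isZero_homology _ _).1 h).of_iso (DRingLib.HQ E i)

/-- Finitely many elements generate a module whose sheaf has finite type on a quasi-compact open. -/
theorem exists_gen [CompactSpace W] (H : ModuleCat.{u} A) (hFT : CohB1.IsFT ((shW j).obj H)) :
    ∃ (r : ℕ) (p : ModuleCat.of A (Fin r → A) ⟶ H), Epi ((shW j).map p) := by
  classical
  have hpt : ∀ w : W, ∃ (V : W.Opens) (s : Finset H), w ∈ V ∧ ∀ v ∈ V,
      AlgzPiLib.GenAt (Submodule.span A (s : Set H)) (j v) := fun w => by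
    obtain ⟨V, I, _, t, hwV, ht⟩ := Coherent.locallyFinGen_of_isFT ((tilde H).restrict j) hFT w
    have hg := Coherent.genOn_of_restrict j (tilde H) ht
    let eI : ULift.{u} (Fin (Fintype.card I)) ≃ I := Equiv.ulift.trans (Fintype.equivFin I).symm
    let t' : ULift.{u} (Fin (Fintype.card I)) → Γ(tilde H, j ''ᵁ V) := fun q => t (eI q)
    have hg' : Coherent.GenOn (tilde H) (j ''ᵁ V) t' := fun W' hW' a y hy => by
      obtain ⟨W'', hle, hy', c, hc⟩ := hg W' hW' a y hy
      exact ⟨W'', hle, hy', fun q => c (eI q), hc.trans (eI.sum_comp (fun q => c q • _)).symm⟩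
    obtain ⟨_, ⟨_, ⟨f, rfl⟩, rfl⟩, hwf, hfV⟩ :=
      PrimeSpectrum.isBasis_basic_opens.exists_subset_of_mem_open
        (show j w ∈ (j ''ᵁ V : Set _) from ⟨w, hwV, rfl⟩) (j ''ᵁ V).2
    obtain ⟨e, μ, -, hμ⟩ := AlgzPiLib.localGen_of_genOn H (j ''ᵁ V) t' hg' {f} fun a ha => by
      rw [Finset.mem_singleton.1 ha]; exact hfV
    refine ⟨V ⊓ j ⁻¹ᵁ (PrimeSpectrum.basicOpen f), Finset.univ.image (μ f), ⟨hwV, hwf⟩, fun v hv => ?_⟩
    refine (hμ f (Finset.mem_singleton_self f) (j v) hv.2).mono ?_
    rw [Finset.coe_image, Finset.coe_univ, Set.image_univ]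
  choose V s hwV hs using hpt
  obtain ⟨T, hT⟩ := isCompact_univ.elim_finite_subcover (fun w => (V w : Set W)) (fun w => (V w).2)
    (fun w _ => Set.mem_iUnion.2 ⟨w, hwV w⟩)
  let S := T.biUnion s
  let μ : Fin S.card → H := fun q => (S.equivFin.symm q).1
  have hall : ∀ v : W, AlgzPiLib.GenAt (Submodule.span A (Set.range μ)) (j v) := fun v => by
    obtain ⟨w, hw, hv⟩ := Set.mem_iUnion₂.1 (hT (Set.mem_univ v))
    refine (hs w v hv).mono (Submodule.span_mono fun y hy => ?_)
    exact ⟨S.equivFin ⟨y, Finset.mem_biUnion.2 ⟨w, hw, hy⟩⟩, by simp [μ]⟩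
  let p : ModuleCat.of A (Fin S.card → A) ⟶ H := ModuleCat.ofHom (Fintype.linearCombination A μ)
  refine ⟨S.card, p, ?_⟩
  haveI := preservesFiniteColimits_tilde A
  haveI : PreservesFiniteColimits (Scheme.Modules.restrictFunctor j) :=
    haveI := (Scheme.Modules.restrictAdjunction j).leftAdjoint_preservesColimits
    inferInstance
  refine Preadditive.epi_of_isZero_cokernel _ (IsZero.of_iso ?_ (PreservesCokernel.iso (shW j) p).symm)
  let C := cokernel p
  refine ModStalk.isZero_of_stalks fun v => ?_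
  have hC : (j v) ∉ Module.support A C := by
    rw [Module.notMem_support_iff']
    intro c
    obtain ⟨h, rfl⟩ := (ModuleCat.epi_iff_surjective (cokernel.π p)).1 inferInstance c
    obtain ⟨g, hg, hg'⟩ := hall v h
    refine ⟨g, hg, ?_⟩
    rw [← Fintype.range_linearCombination] at hg'
    obtain ⟨q, hq⟩ := hg'
    refine (LinearMap.map_smul (cokernel.π p).hom g h).symm.trans ?_
    rw [← hq]
    exact ConcreteCategory.congr_hom (cokernel.condition p) q
  haveI : Subsingleton ((tilde C).presheaf.stalk (j v)) := by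
    by_contra hn
    exact hC ((Dual22Lib.nontrivial_tilde_stalk_iff C (j v)).1 (not_subsingleton_iff_nontrivial.1 hn))
  haveI : Subsingleton ↑((Scheme.Modules.toPresheaf (Spec A) ⋙ TopCat.Presheaf.stalkFunctor Ab.{u} (j v)).obj (tilde C)) :=
    ‹Subsingleton ((tilde C).presheaf.stalk (j v))›
  haveI : Subsingleton (((shW j).obj C).presheaf.stalk v) :=
    (ConcreteCategory.bijective_of_isIso ((Scheme.Modules.restrictStalkNatIso j v).hom.app (tilde C))).1.subsingleton
  exact @ModuleCat.isZero_of_subsingleton _ _ _ (‹Subsingleton (((shW j).obj C).presheaf.stalk v)›)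

/-- Lifting a map from a free module to cohomology. -/
theorem exists_lift (K : Dual.D A) (b : ℤ) (r : ℕ)
    (p : ModuleCat.of A (Fin r → A) ⟶ (DRingLib.HF A b).obj K) :
    ∃ (g : DRing.toD (DRingLib.freeAt A b r) ⟶ K)
      (w : ModuleCat.of A (Fin r → A) ⟶ (DRingLib.HF A b).obj (DRing.toD (DRingLib.freeAt A b r))),
      w ≫ (DRingLib.HF A b).map g = p := by
  obtain ⟨L, ⟨e⟩⟩ : ∃ L, Nonempty (DerivedCategory.Q.obj L ≅ K) := ⟨_, ⟨DerivedCategory.Q.objObjPreimageIso K⟩⟩
  haveI : Projective (ModuleCat.of A (Fin r → A)) := (IsProjective.iff_projective (Fin r → A)).1 inferInstance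
  let z := Projective.factorThru (p ≫ (DRingLib.HF A b).map e.inv ≫ (DRingLib.HQ L b).hom) (L.homologyπ b)
  let f : DRingLib.freeAt A b r ⟶ L := mkHomFromSingle (z ≫ L.iCycles b) fun k _ => by simp
  haveI : IsIso ((DRingLib.freeAt A b r).iCycles b) :=
    (DRingLib.freeAt A b r).isIso_iCycles b (b + 1) (by simp) (single_obj_d _ _ _ _ _)
  have hc : (singleObjXSelf (ComplexShape.up ℤ) b (ModuleCat.of A (Fin r → A))).inv ≫
      inv ((DRingLib.freeAt A b r).iCycles b) ≫ cyclesMap f b = z := by
    rw [← cancel_mono (L.iCycles b)]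
    simp [f]
  refine ⟨DerivedCategory.Q.map f ≫ e.hom, (singleObjXSelf (ComplexShape.up ℤ) b (ModuleCat.of A (Fin r → A))).inv ≫
    inv ((DRingLib.freeAt A b r).iCycles b) ≫ (DRingLib.freeAt A b r).homologyπ b ≫ (DRingLib.HQ _ b).inv, ?_⟩
  have hn := (DerivedCategory.homologyFunctorFactors (ModuleCat.{u} A) b).inv.naturality f
  simp only [HomologicalComplex.homologyFunctor_map, Functor.comp_map] at hn
  simp only [Category.assoc, Functor.map_comp]
  simp only [DRingLib.HQ, DRingLib.HF, Iso.app_inv] at hn ⊢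
  rw [← reassoc_of% hn]
  refine Eq.trans (congrArg (fun t => (singleObjXSelf (ComplexShape.up ℤ) b (ModuleCat.of A (Fin r → A))).inv ≫
    inv ((DRingLib.freeAt A b r).iCycles b) ≫ t) (homologyπ_naturality_assoc f b _)) ?_
  refine ((reassoc_of% hc) _).trans ?_
  refine (Projective.factorThru_comp_assoc _ _ _).trans ?_
  erw [Category.assoc, Category.assoc, Iso.hom_inv_id_assoc, ← Functor.map_comp, Iso.inv_hom_id,
    CategoryTheory.Functor.map_id, Category.comp_id]

/-- A stage of the construction. -/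
structure Stage (L : DRing.Cx A) (b n : ℤ) where
  E : DRing.Cx A
  α : E ⟶ L
  outside : DRing.VanishesOutside E n b
  free : DRing.TermwiseFiniteFree E
  apx : DCat.PullPerf.Apx n ((phiW j).map (DerivedCategory.Q.map α))

theorem psc_of_free {E : DRing.Cx A} {a b : ℤ} (hE : DRing.VanishesOutside E a b) (hf : DRing.TermwiseFiniteFree E)
    (m : ℤ) : DCoh.IsPseudoCoherentD m ((phiW j).obj (DerivedCategory.Q.obj E)) :=
  psc_rd j (psc_tildeD ⟨E, a, b, 𝟙 _, hE, hf, DRingLib.apx_of_isIso m (𝟙 (DerivedCategory.Q.obj E))⟩)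

/-- The next stage. -/
theorem exists_next [CompactSpace W] {L : DRing.Cx A}
    (hL : ∀ m, DCoh.IsPseudoCoherentD m ((phiW j).obj (DerivedCategory.Q.obj L)))
    {b n : ℤ} (hn : n ≤ b + 1) (s : Stage j L b n) :
    ∃ (t : Stage j L b (n - 1)) (i₀ : s.E ⟶ t.E), i₀ ≫ t.α = s.α ∧ ∀ i, n ≤ i → IsIso (i₀.f i) := by
  let Φ := phiW j
  obtain ⟨C, g, w, hT⟩ := distinguished_cocone_triangle (DerivedCategory.Q.map s.α)
  haveI hCle : (Φ.obj C).IsLE (n - 1) := (DCat.PullPerf.apx_iff_isLE n _ (Φ.map_distinguished _ hT)).1 s.apx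
  have hC : DCoh.IsPseudoCoherentD (n - 1) (Φ.obj C) :=
    DCat.PCTriangle.psc_cone (Φ.map_distinguished _ hT) (psc_of_free j s.outside s.free _) (hL _)
  have hT' := inv_rot_of_distTriang _ hT
  let C' : Dual.D A := C⟦(-1 : ℤ)⟧
  let eC : Φ.obj C' ≅ (Φ.obj C)⟦(-1 : ℤ)⟧ := (Φ.commShiftIso (-1 : ℤ)).app C
  haveI hC'le : (Φ.obj C').IsLE n :=
    haveI : ((Φ.obj C)⟦(-1 : ℤ)⟧).IsLE n := DerivedCategory.TStructure.t.isLE_shift (Φ.obj C) (n - 1) (-1) n (by omega)
    DerivedCategory.TStructure.t.isLE_of_iso eC.symm n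
  have hC' : DCoh.IsPseudoCoherentD n (Φ.obj C') :=
    DCat.PCTriangle.psc_iso eC.symm (DCat.PCTriangle.psc_shift hC (-1) n (by omega))
  obtain ⟨η⟩ := nonempty_natIso j n
  have hFT : CohB1.IsFT ((shW j).obj ((DRingLib.HF A n).obj C')) :=
    Coherent.isFT_of_epi (η.app C').hom
      ((top_of_psc n _ hC').1 fun i hi => DerivedCategory.isZero_of_isLE _ n i hi)
  obtain ⟨r, p, hp⟩ := exists_gen j _ hFT
  obtain ⟨c, w₀, hc⟩ := exists_lift C' n r p
  haveI : (DRingLib.freeAt A n r).IsKProjective :=
    DRingLib.isKProjective_of_outside (DRingLib.freeAt_finiteFree n r).1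
      (DRingLib.projective_of_free (DRingLib.freeAt_finiteFree n r).2)
  obtain ⟨ψ, hψ⟩ := DRingLib.exists_Q_map (c ≫ (Triangle.mk (DerivedCategory.Q.map s.α) g w).invRotate.mor₁)
  obtain ⟨Z, gz, wz, hZ⟩ := distinguished_cocone_triangle c
  haveI hZle : (Φ.obj Z).IsLE (n - 1) := by
    refine (DCat.PullPerf.apx_iff_isLE n _ (Φ.map_distinguished _ hZ)).1 ⟨fun i hi => ?_, ?_⟩
    · exact ⟨0, IsZero.eq_of_src (phiW_HD_zero_of_exact j _
        (ExactAt.of_isZero (isZero_single_obj_X _ _ _ _ (by omega)))) _ _,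
        (DerivedCategory.isZero_of_isLE (Φ.obj C') n i hi).eq_of_src _ _⟩
    · haveI : Epi ((shW j).map ((DRingLib.HF A n).map c)) := by
        haveI := hp
        exact epi_of_epi_fac (show (shW j).map w₀ ≫ (shW j).map ((DRingLib.HF A n).map c) = (shW j).map p by
          rw [← Functor.map_comp, hc])
      show Epi ((phiW j ⋙ DerivedCategory.homologyFunctor W.Modules n).map c)
      rw [← NatIso.naturality_2 η c]
      haveI : Epi ((DerivedCategory.homologyFunctor (ModuleCat.{u} A) n ⋙ shW j).map c) :=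
        ‹Epi ((shW j).map ((DRingLib.HF A n).map c))›
      infer_instance
  let O := Triangulated.someOctahedron hψ.symm hZ hT' (DerivedCategory.mappingCone_triangle_distinguished ψ)
  have hu : DCat.PullPerf.Apx (n - 1) (Φ.map O.m₃) := by
    refine (DCat.PullPerf.apx_iff_isLE (n - 1) _ (Φ.map_distinguished _ (rot_of_distTriang _ O.mem))).2 ?_
    haveI : DerivedCategory.TStructure.t.IsLE ((Φ ⋙ shiftFunctor (DCoh.D W) (1 : ℤ)).obj Z) (n - 1 - 1) :=
      DerivedCategory.TStructure.t.isLE_shift (Φ.obj Z) (n - 1) 1 (n - 1 - 1) (by omega)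
    exact DerivedCategory.TStructure.t.isLE_of_iso ((Φ.commShiftIso (1 : ℤ)).app Z).symm _
  obtain ⟨hv, hvf⟩ := DRingLib.finite_free_mappingCone ψ (DRingLib.freeAt_finiteFree n r).1
    (DRingLib.freeAt_finiteFree n r).2 s.outside s.free
  have hv' : DRing.VanishesOutside (CochainComplex.mappingCone ψ) (n - 1) b := fun i hi =>
    hv i (by rcases hi with hi | hi <;> omega)
  haveI := DRingLib.isKProjective_of_outside hv' (DRingLib.projective_of_free hvf)
  obtain ⟨v, hv₀⟩ := DRingLib.exists_Q_map (P := CochainComplex.mappingCone ψ) (L := L) O.m₃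
  haveI := DRingLib.isKProjective_of_outside s.outside (DRingLib.projective_of_free s.free)
  have hq : DerivedCategory.Q.map (CochainComplex.mappingCone.inr ψ ≫ v) = DerivedCategory.Q.map s.α := by
    rw [Functor.map_comp, hv₀]
    exact O.comm₃
  have hh : (HomotopyCategory.quotient _ (ComplexShape.up ℤ)).map (CochainComplex.mappingCone.inr ψ ≫ v) =
      (HomotopyCategory.quotient _ (ComplexShape.up ℤ)).map s.α := by
    apply (CochainComplex.IsKProjective.Qh_map_bijective s.E _).1
    rw [← cancel_mono ((DerivedCategory.quotientCompQhIso (ModuleCat.{u} A)).hom.app L)]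
    refine ((DerivedCategory.quotientCompQhIso (ModuleCat.{u} A)).hom.naturality _).trans
      (Eq.trans ?_ ((DerivedCategory.quotientCompQhIso (ModuleCat.{u} A)).hom.naturality _).symm)
    rw [hq]
  obtain ⟨v', hv'q, hv'α⟩ := DRingLib.exists_strict_ext ψ v s.α (HomotopyCategory.homotopyOfEq _ _ hh)
  refine ⟨⟨_, v', hv', hvf, by rw [hv'q, hv₀]; exact hu⟩, CochainComplex.mappingCone.inr ψ, hv'α, fun i hi => ?_⟩
  have hz : IsZero ((DRingLib.freeAt A n r).X (i + 1)) := isZero_single_obj_X _ _ _ _ (by omega)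
  refine ⟨(CochainComplex.mappingCone.snd ψ).v i i (add_zero i), by simp, ?_⟩
  apply CochainComplex.mappingCone.ext_to _ i (i + 1) rfl
  · exact hz.eq_of_tgt _ _
  · simp

/-- A bounded above complex of finite free modules with given restriction. -/
theorem exists_free_model [CompactSpace W] (L : DRing.Cx A)
    (hL : ∀ m, DCoh.IsPseudoCoherentD m ((phiW j).obj (DerivedCategory.Q.obj L))) :
    ∃ (G : DRing.Cx A) (b : ℤ), DRing.VanishesAbove G b ∧ DRing.TermwiseFiniteFree G ∧
      Nonempty ((phiW j).obj (DerivedCategory.Q.obj G) ≅ (phiW j).obj (DerivedCategory.Q.obj L)) := by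
  obtain ⟨b, hb⟩ := exists_isLE_psc (hL 0)
  haveI := hb
  let s₀ : Stage j L b (b + 1 - ((0 : ℕ) : ℤ)) :=
    { E := 0
      α := 0
      outside := fun i _ => (HomologicalComplex.eval _ _ i).map_isZero (isZero_zero _)
      free := fun i => DRingLib.free_zero ((HomologicalComplex.eval _ _ i).map_isZero (isZero_zero _))
      apx := by
        refine ⟨fun i hi => ⟨0, IsZero.eq_of_src ?_ _ _, ?_⟩, ⟨fun g g' _ => ?_⟩⟩
        · exact Functor.map_isZero _ ((phiW j).map_isZero (DerivedCategory.Q.map_isZero (isZero_zero _)))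
        · exact (DerivedCategory.isZero_of_isLE _ b i (by omega)).eq_of_src _ _
        · exact (DerivedCategory.isZero_of_isLE _ b _ (by omega)).eq_of_src _ _ }
  have hstep : ∀ (k : ℕ) (s : Stage j L b (b + 1 - (k : ℤ))), ∃ (t : Stage j L b (b + 1 - ((k + 1 : ℕ) : ℤ)))
      (j₀ : s.E ⟶ t.E), j₀ ≫ t.α = s.α ∧ ∀ i, b + 1 - (k : ℤ) ≤ i → IsIso (j₀.f i) := fun k s => by
    obtain ⟨t, j₀, h1, h2⟩ := exists_next j hL (by omega) s
    rw [show b + 1 - ((k + 1 : ℕ) : ℤ) = b + 1 - (k : ℤ) - 1 by omega]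
    exact ⟨t, j₀, h1, h2⟩
  choose next i₀ hi₀ hiso using hstep
  let st : ∀ k : ℕ, Stage j L b (b + 1 - (k : ℤ)) := fun k => Nat.rec s₀ next k
  let f : ∀ k, (st k).E ⟶ (st (k + 1)).E := fun k => i₀ k (st k)
  let F : ℕ ⥤ DRing.Cx A := Functor.ofSequence f
  let cl := colimit.cocone F
  let β : cl.pt ⟶ L := colimit.desc F
    { pt := L
      ι := NatTrans.ofSequence (fun k => (st k).α) fun k => by
        dsimp
        rw [Functor.ofSequence_map_homOfLE_succ, Category.comp_id]
        exact hi₀ k (st k) }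
  have hcon : ∀ (i : ℤ) (k : ℕ), b + 1 - (k : ℤ) ≤ i →
      IsIso ((colimit.ι F k).f i) := fun i k hk => by
    have hev : (F ⋙ HomologicalComplex.eval (ModuleCat.{u} A) (ComplexShape.up ℤ) i).IsEventuallyConstantFrom k := by
      intro l φ
      obtain ⟨d, rfl⟩ := Nat.exists_eq_add_of_le (leOfHom φ)
      induction d with
      | zero =>
        rw [show φ = 𝟙 k from Subsingleton.elim _ _, CategoryTheory.Functor.map_id]
        infer_instance
      | succ d ih =>
        rw [show φ = homOfLE (Nat.le_add_right k d) ≫ homOfLE (Nat.le_add_right (k + d) 1) from Subsingleton.elim _ _,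
          Functor.map_comp]
        haveI := ih (homOfLE (Nat.le_add_right k d))
        haveI : IsIso ((F ⋙ HomologicalComplex.eval (ModuleCat.{u} A) (ComplexShape.up ℤ) i).map
            (homOfLE (Nat.le_add_right (k + d) 1))) := by
          simp only [Functor.comp_map, HomologicalComplex.eval_map, F, Functor.ofSequence_map_homOfLE_succ]
          exact hiso (k + d) (st (k + d)) i (by omega)
        infer_instance
    exact hev.isIso_ι_of_isColimit (isColimitOfPreserves (HomologicalComplex.eval _ _ i) (colimit.isColimit F))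
  have hk : ∀ i : ℤ, ∃ k : ℕ, b + 1 - (k : ℤ) ≤ i := fun i => ⟨(b + 1 - i).toNat, by omega⟩
  refine ⟨cl.pt, b, fun i hi => ?_, fun i => ?_, ⟨@asIso _ _ _ _ ((phiW j).map (DerivedCategory.Q.map β)) ?_⟩⟩
  · haveI := hcon i 0 (by omega)
    exact ((st 0).outside i (Or.inr hi)).of_iso (asIso ((colimit.ι F 0).f i)).symm
  · obtain ⟨k, hk⟩ := hk i
    haveI := hcon i k hk
    exact DRingLib.free_of_iso (asIso ((colimit.ι F k).f i)) ((st k).free i)
  · rw [DerivedCategory.isIso_iff]
    intro i
    obtain ⟨k, hk⟩ := hk (i - 1)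
    haveI h1 : QuasiIsoAt ((colimit.ι F k)) i := by
      rw [quasiIsoAt_iff' _ (i - 1) i (i + 1) (by simp) (by simp)]
      haveI := hcon (i - 1) k hk
      haveI := hcon i k (by omega)
      haveI := hcon (i + 1) k (by omega)
      let φ := (shortComplexFunctor' (ModuleCat.{u} A) (ComplexShape.up ℤ) (i - 1) i (i + 1)).map (colimit.ι F k)
      haveI : Epi φ.τ₁ := inferInstanceAs (Epi ((colimit.ι F k).f (i - 1)))
      haveI : IsIso φ.τ₂ := inferInstanceAs (IsIso ((colimit.ι F k).f i))
      haveI : Mono φ.τ₃ := inferInstanceAs (Mono ((colimit.ι F k).f (i + 1)))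
      exact ShortComplex.quasiIso_of_epi_of_isIso_of_mono φ
    obtain ⟨η⟩ := nonempty_natIso j i
    have hm : IsIso ((DerivedCategory.homologyFunctor (ModuleCat.{u} A) i).map
        (DerivedCategory.Q.map (colimit.ι F k))) := by
      rw [quasiIsoAt_iff_isIso_homologyMap] at h1
      exact (NatIso.isIso_map_iff (DerivedCategory.homologyFunctorFactors (ModuleCat.{u} A) i) _).2 h1
    haveI h2 : IsIso ((phiW j ⋙ DerivedCategory.homologyFunctor W.Modules i).map
        (DerivedCategory.Q.map (colimit.ι F k))) := by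
      refine (NatIso.isIso_map_iff η _).2 ?_
      haveI := hm
      exact inferInstanceAs (IsIso ((shW j).map _))
    haveI h3 : IsIso ((phiW j ⋙ DerivedCategory.homologyFunctor W.Modules i).map
        (DerivedCategory.Q.map (colimit.ι F k)) ≫ (DerivedCategory.homologyFunctor W.Modules i).map
          ((phiW j).map (DerivedCategory.Q.map β))) := by
      rw [Functor.comp_map, ← Functor.map_comp, ← Functor.map_comp, ← Functor.map_comp,
        show colimit.ι F k ≫ β = (st k).α by simp [β]]
      exact (st k).apx.1 i (by omega)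
    exact IsIso.of_isIso_comp_left ((phiW j ⋙ DerivedCategory.homologyFunctor W.Modules i).map
        (DerivedCategory.Q.map (colimit.ι F k))) _

/-- Sheaves of finite free modules are free. -/
theorem exists_freeMod_tilde (A : CommRingCat.{u}) (M : ModuleCat.{u} A) (h : Module.Finite A M ∧ Module.Free A M) :
    ∃ r : ℕ, Nonempty ((tilde.functor A).obj M ≅ FlatMod.freeMod (Spec A) r) := by
  haveI := h.1
  haveI := h.2
  haveI := (tilde.adjunction (R := A)).leftAdjoint_preservesColimits
  rcases subsingleton_or_nontrivial A with hA | hA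
  · haveI := Module.subsingleton A M
    refine ⟨0, ⟨((tilde.functor A).map_isZero (ModuleCat.isZero_of_subsingleton M)).iso ?_⟩⟩
    rw [IsZero.iff_id_eq_zero]
    exact Sigma.hom_ext _ _ fun i => i.elim0
  · let r := Module.finrank A M
    let e : M ≅ ∐ fun _ : Fin r => ModuleCat.of A A :=
      ((Module.finBasis A M).equivFun ≪≫ₗ (DirectSum.linearEquivFunOnFintype A (Fin r) fun _ => A).symm).toModuleIso ≪≫
        (ModuleCat.coprodIsoDirectSum fun _ : Fin r => ModuleCat.of A A).symm
    exact ⟨r, ⟨(tilde.functor A).mapIso e ≪≫ PreservesCoproduct.iso (tilde.functor A) _ ≪≫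
      Sigma.mapIso fun _ => tildeSelf⟩⟩

/-- Restriction along open immersions keeps free modules free. -/
theorem nonempty_restrict_freeMod {X Y : Scheme.{u}} (f : X ⟶ Y) [IsOpenImmersion f] (r : ℕ) :
    Nonempty ((Scheme.Modules.restrictFunctor f).obj (FlatMod.freeMod Y r) ≅ FlatMod.freeMod X r) := by
  haveI := (Scheme.Modules.restrictAdjunction f).leftAdjoint_preservesColimits
  exact ⟨PreservesCoproduct.iso (Scheme.Modules.restrictFunctor f) _ ≪≫
    Sigma.mapIso fun _ => Scheme.Modules.restrictUnitIso f⟩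

end Groth.Agent.DQCoh.PscExtend17
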