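import Groth.Agent.DQCoh.PerfProperPush17
import Groth.Agent.DQCoh.PscNoeth
import Groth.Agent.DQCoh.RelTorBC
import Groth.Agent.DQCoh.Bound
import Groth.Agent.DQCoh.RHomQCoh
import Groth.Agent.S1119

/-!
# Pseudo-coherence of `Rf_*(E ⊗^L G)` for complexes of flat modules with proper support
-/

set_option autoImplicit false
set_option backward.isDefEq.respectTransparency false
set_option backward.defeqAttrib.useBackward true
set_option linter.style.haveILetI false
set_option linter.unusedSectionVars false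
set_option synthInstance.maxHeartbeats 100000
set_option maxHeartbeats 800000

universe u

open CategoryTheory CategoryTheory.Limits CategoryTheory.Pretriangulated AlgebraicGeometry Opposite TopologicalSpace
open Groth.Agent.DCat Groth.Agent.DCat.PerfLocal Groth.Agent.Coherent Groth.Agent.Dual22Lib
open scoped ZeroObject

attribute [local instance] HasDerivedCategory.standard
attribute [-instance] Int.instConditionallyCompleteLinearOrder

namespace Groth.Agent.DQCoh.PscProperPush17

variable {X S : Scheme.{u}}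

theorem isQCoh_of_isFP {G : X.Modules} (hG : CohB1.IsFP G) : Coh.IsQCoh G :=
  haveI : SheafOfModules.IsFinitePresentation (R := X.ringCatSheaf) G := hG
  inferInstanceAs (SheafOfModules.IsQuasicoherent.{u} (R := X.ringCatSheaf) G)

/-- Derived tensor products of complexes commute. -/
theorem nonempty_cx_swap (K P : CochainComplex X.Modules ℤ) (hP : IsKFlatFor (shT X) P)
    [DCoh.HasLTensorCx K] [DCoh.HasLTensorCx P] :
    Nonempty ((DCoh.LTensorCx K).obj (DerivedCategory.Q.obj P) ≅ (DCoh.LTensorCx P).obj (DerivedCategory.Q.obj K)) := by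
  obtain ⟨N, q, hN, -, hq, -⟩ := exists_kflat_sheaf K
  haveI := hq
  haveI := LTensorSheaf.hasLTensorCx N
  obtain ⟨a⟩ := TensorCongr.nonempty_congr (E := K) (E' := N) (asIso (DerivedCategory.Q.map q)).symm
  exact ⟨a.app _ ≪≫ LTensorSheaf.ltensorCxIso N hP ≪≫ DerivedCategory.Q.mapIso (ShSymm.symm P N) ≪≫
    (LTensorSheaf.ltensorCxIso P hN).symm ≪≫ (DCoh.LTensorCx P).mapIso (asIso (DerivedCategory.Q.map q))⟩

/-- Affine base. -/
theorem psc_affine {A : Type u} [CommRing A] (π : X ⟶ Spec (CommRingCat.of A)) [LocallyOfFinitePresentation π]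
    [CompactSpace X] [QuasiSeparatedSpace X]
    (E : DCoh.D X) (hE : ∀ m : ℤ, DCoh.IsPseudoCoherentD m E) (G : CochainComplex X.Modules ℤ) (b : ℤ)
    (hGb : ∀ i : ℤ, b < i → IsZero (G.X i)) (hGfp : ∀ i : ℤ, CohB1.IsFP (G.X i))
    (hGflat : ∀ i : ℤ, FlatMod.IsFlatOver π (G.X i))
    (hGsupp : ∀ i : ℤ, ClSub.IsProperOver π (CohB1.support (G.X i)))
    [DCoh.HasLTensorCx G] [DCoh.HasRpush π] (m : ℤ) :
    DCoh.IsPseudoCoherentD m ((DCoh.Rpush π).obj ((DCoh.LTensorCx G).obj E)) := by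
  haveI : QuasiCompact π := quasiCompact_of_compactSpace π
  haveI : QuasiSeparated π := .of_quasiSeparatedSpace π
  have hGq : ∀ n, Coh.IsQCoh (G.X n) := fun n => isQCoh_of_isFP (hGfp n)
  haveI : G.IsStrictlyLE b := (CochainComplex.isStrictlyLE_iff _ _).2 hGb
  haveI : (DCoh.toD X G).IsLE b := (DerivedCategory.isLE_Q_obj_iff _ _).2 inferInstance
  refine Groth.Agent.S1119.result A X π G (DQCoh.isQCohD_Q G hGq) b (fun P' hP' k => ?_) E hE m
  obtain ⟨c, hc⟩ := DQCoh.exists_isLE_perfect P' hP'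
  haveI := hc
  obtain ⟨P₁, hP₁, ⟨e₁⟩⟩ := DerivedCategory.exists_iso_Q_obj_of_isLE P' c
  obtain ⟨P, q, hPk, -, hq, hPb⟩ := exists_kflat_sheaf_le P₁ c fun n hn => CochainComplex.isZero_of_isStrictlyLE P₁ c n hn
  haveI := hq
  haveI := LTensorSheaf.hasLTensorCx P
  let eP : DerivedCategory.Q.obj P ≅ P' := asIso (DerivedCategory.Q.map q) ≪≫ e₁.symm
  have hPp : DCoh.IsPerfect (DerivedCategory.Q.obj P) := PCTriangle.perfect_iso eP.symm hP'
  obtain ⟨sw⟩ := nonempty_cx_swap G P hPk
  refine PCTriangle.psc_iso ((DCoh.Rpush π).mapIso (sw.symm ≪≫ (DCoh.LTensorCx G).mapIso eP)) ?_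
  let F := DCoh.LTensorCx P ⋙ DCoh.Rpush π
  have hF : WeakExact.TriExact F := (TenLocal.triExact_LTensor P).comp (TenLocal.triExact_Rpush π)
  obtain ⟨_, _⟩ := DCat.exists_commShift_Rpush π
  obtain ⟨d, hd⟩ := DQCoh.exists_uniform_bound π
  -- degrees `≥ l` are perfect, those below `l` are negligible
  obtain ⟨l, hl⟩ : ∃ l : ℤ, l = k - c - d := ⟨_, rfl⟩
  obtain ⟨T, ι, _, hTlt, hTge⟩ := DQCoh.exists_stupid G l
  let W := ShortComplex.mk ι (cokernel.π ι) (cokernel.condition ι)
  have hW : W.ShortExact := { exact := W.exact_of_g_is_cokernel (cokernelIsCokernel ι) }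
  have hWn : ∀ n, (W.map (HomologicalComplex.eval _ _ n)).ShortExact := fun n => hW.map_of_exact _
  have hCge : ∀ n, l - 1 < n → IsZero ((cokernel ι).X n) := fun n hn => by
    haveI := hTge n (by omega)
    haveI := (hWn n).epi_g
    refine IsZero.of_epi_eq_zero ((cokernel.π ι).f n) ?_
    rw [← cancel_epi (ι.f n), comp_zero, ← HomologicalComplex.comp_f, cokernel.condition]
    rfl
  have hTq : ∀ n, Coh.IsQCoh (T.X n) := fun n => by
    by_cases hn : l ≤ n
    · haveI := hTge n hn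
      exact isQCoh_of_iso (asIso (ι.f n)).symm (h := hGq n)
    · exact isQCoh_of_isZero (hTlt n (by omega))
  have hCq : ∀ n, Coh.IsQCoh ((cokernel ι).X n) := fun n => by
    haveI : Coh.IsQCoh (W.map (HomologicalComplex.eval _ _ n)).X₁ := hTq n
    haveI : Coh.IsQCoh (W.map (HomologicalComplex.eval _ _ n)).X₂ := hGq n
    exact Coherent.isQCoh_X₃ (hWn n)
  obtain ⟨δ, hδ⟩ := hF _ (DerivedCategory.triangleOfSES_distinguished hW)
  have hperf : DCoh.IsPerfect (F.obj (DerivedCategory.Q.obj T)) := by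
    refine (PerfProperPush17.isDev_inverseImage_perfect hF).bounded T (a := l) (b := b) (fun n hn => ?_) fun n => ?_
    · rcases hn with hn | hn
      · exact hTlt n hn
      · by_cases hn' : l ≤ n
        · haveI := hTge n hn'
          exact (hGb n hn).of_iso (asIso (ι.f n))
        · exact hTlt n (by omega)
    · by_cases hn : l ≤ n
      · haveI := hTge n hn
        haveI := hasLTensorMod (G.X n)
        obtain ⟨mm⟩ := PerfProperPush17.nonempty_mod_cx (G.X n) P hPk
        refine PCTriangle.perfect_iso ((DCoh.Rpush π).mapIso (mm ≪≫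
          (DCoh.LTensorCx P).mapIso ((DerivedCategory.singleFunctor X.Modules 0).mapIso (asIso (ι.f n)).symm))) ?_
        exact PerfProperPush17.isPerfect π _ hPp (G.X n) (hGfp n) (hGflat n) (hGsupp n)
      · exact PerfLift.isPerfect_isZero (hF.map_isZero ((DerivedCategory.singleFunctor X.Modules 0).map_isZero
          (hTlt n (by omega))))
  have hC : (F.obj (DerivedCategory.Q.obj (cokernel ι))).IsLE (k - 1) := by
    haveI : (cokernel ι).IsStrictlyLE (l - 1) := (CochainComplex.isStrictlyLE_iff _ _).2 hCge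
    haveI : (DerivedCategory.Q.obj (cokernel ι)).IsLE (l - 1) := (DerivedCategory.isLE_Q_obj_iff _ _).2 inferInstance
    let H := (DCoh.LTensorCx P).obj (DerivedCategory.Q.obj (cokernel ι))
    haveI : H.IsLE (l - 1 + c) := DQCoh.isLE_LTensor P hPk c hPb _ (l - 1)
    have hHq : DCoh.IsQCohD H :=
      DQCoh.isQCohD_LTensorCx P (DQCoh.isQCohD_of_iso eP.symm (PerfLift.isQCohD_perfect hP')) _
        (DQCoh.isQCohD_Q _ hCq)
    haveI h0 : (H⟦(l - 1 + c)⟧).IsLE 0 := DerivedCategory.TStructure.t.isLE_shift H (l - 1 + c) (l - 1 + c) 0 (by ring)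
    rw [DerivedCategory.isLE_iff]
    intro i hi
    refine (hd (H⟦(l - 1 + c)⟧) (DQCoh.isQCohD_shift hHq _) h0 (i - (l - 1 + c)) (by omega)).of_iso ?_
    exact (((DerivedCategory.homologyFunctor _ 0).shiftIso (l - 1 + c) (i - (l - 1 + c)) i (by ring)).app _).symm ≪≫
      (DerivedCategory.homologyFunctor _ (i - (l - 1 + c))).mapIso (((DCoh.Rpush π).commShiftIso (l - 1 + c)).app H).symm
  exact PCTriangle.psc_ext hδ (DQCoh.psc_of_perfect hperf k)
    (PCTriangle.psc_of_gpsc (PCTriangle.psc_of_isLE (n := k - 1) (by omega) hC))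

/-- The general case. -/
theorem psc (f : X ⟶ S) [LocallyOfFinitePresentation f] [QuasiCompact f] [QuasiSeparated f]
    (E : DCoh.D X) (hE : ∀ m : ℤ, DCoh.IsPseudoCoherentD m E) (G : CochainComplex X.Modules ℤ) (b : ℤ)
    (hGb : ∀ i : ℤ, b < i → IsZero (G.X i)) (hGfp : ∀ i : ℤ, CohB1.IsFP (G.X i))
    (hGflat : ∀ i : ℤ, FlatMod.IsFlatOver f (G.X i))
    (hGsupp : ∀ i : ℤ, ClSub.IsProperOver f (CohB1.support (G.X i)))
    [DCoh.HasLTensorCx G] [DCoh.HasRpush f] (m : ℤ) :
    DCoh.IsPseudoCoherentD m ((DCoh.Rpush f).obj ((DCoh.LTensorCx G).obj E)) := by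
  refine DQCoh.psc_of_local _ fun s => ?_
  obtain ⟨V, hV, hsV, -⟩ := exists_isAffineOpen_mem_and_subset (x := s) (U := (⊤ : S.Opens)) trivial
  let j := hV.fromSpec
  haveI : IsOpenImmersion j := inferInstanceAs (IsOpenImmersion hV.fromSpec)
  let X' := pullback f j
  let j' : X' ⟶ X := pullback.fst f j
  let f' : X' ⟶ Spec Γ(S, V) := pullback.snd f j
  have hsq : IsPullback j' f' f j := IsPullback.of_hasPullback f j
  haveI : LocallyOfFinitePresentation f' := MorphismProperty.pullback_snd (P := @LocallyOfFinitePresentation) _ _ ‹_›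
  haveI : QuasiCompact f' := MorphismProperty.pullback_snd (P := @QuasiCompact) _ _ ‹_›
  haveI : QuasiSeparated f' := MorphismProperty.pullback_snd (P := @QuasiSeparated) _ _ ‹_›
  haveI : CompactSpace X' := QuasiCompact.compactSpace_of_compactSpace f'
  haveI : QuasiSeparatedSpace X' := quasiSeparatedSpace_of_quasiSeparated f'
  refine ⟨_, j, inferInstance, hV.opensRange_fromSpec.ge hsV, ?_⟩
  haveI := DCat.hasRpush j
  haveI := DCat.hasRpush j'
  haveI := DCat.hasRpush f'
  haveI := DCat.hasLpull j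
  haveI := DCat.hasLpull j'
  let T := (DCoh.LTensorCx G).obj E
  have hT : DCoh.IsQCohD T := DQCoh.isQCohD_LTensorCx G (DQCoh.isQCohD_Q G fun n => isQCoh_of_isFP (hGfp n)) _
    (DQCoh.isQCohD_of_psc hE)
  obtain ⟨adj⟩ := DCat.nonempty_pullPushAdj j
  obtain ⟨adj'⟩ := DCat.nonempty_pullPushAdj j'
  obtain ⟨e⟩ := BCSquare.exists_e (f := f) (g := j) (f' := f') (g' := j') hsq.w
  haveI := BCSquare.good_of_open hsq ‹_› ‹_› ‹_› ‹_› ‹_› ‹_› adj adj' e T hT
  obtain ⟨γ⟩ := BCSquare.nonempty_Lpull_rd j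
  obtain ⟨γ'⟩ := BCSquare.nonempty_Lpull_rd j'
  let b' : (rd j).obj ((DCoh.Rpush f).obj T) ≅ (DCoh.Rpush f').obj ((rd j').obj T) :=
    (γ.app _).symm ≪≫ asIso ((BCAlg.bc adj adj' e).app T) ≪≫ (DCoh.Rpush f').mapIso (γ'.app T)
  obtain ⟨M, hM, ⟨eM⟩, hres⟩ := TenLocal.nonempty_rd_LTensor j' G
  haveI := hM
  obtain ⟨res⟩ := hres E
  let G' := ((Scheme.Modules.pullback j').mapHomologicalComplex (ComplexShape.up ℤ)).obj G
  haveI := LTensorSheaf.hasLTensorCx G'
  obtain ⟨cg⟩ := TensorCongr.nonempty_congr (E := M) (E' := G')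
    (eM ≪≫ (Scheme.Modules.restrictFunctor j').mapDerivedCategoryFactors.app G ≪≫
      DerivedCategory.Q.mapIso ((NatIso.mapHomologicalComplex (Scheme.Modules.restrictFunctorIsoPullback j')
        (ComplexShape.up ℤ)).app G))
  refine PCTriangle.psc_iso (b' ≪≫ (DCoh.Rpush f').mapIso (res ≪≫ cg.app _)).symm ?_
  refine psc_affine (A := Γ(S, V)) f' _ (fun n => DQCoh.psc_rd j' (hE n)) G' b
    (fun i hi => (Scheme.Modules.pullback j').map_isZero (hGb i hi))
    (fun i => Desc19b.ModStFib.isFP_pullback j' _ (hGfp i)) (fun i x => ?_) (fun i => ?_) m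
  · refine (DQCoh.isFlatOverAt_comp_iff f' j _ x).1 ?_
    rw [← hsq.w]
    exact (Props12.isFlatOverAt_pullback_iff j' f (G.X i) x
      (RingHom.Flat.of_bijective (ConcreteCategory.bijective_of_isIso (j'.stalkMap x)))).1 (hGflat i _)
  · haveI : SheafOfModules.IsFinitePresentation (R := X.ringCatSheaf) (G.X i) := hGfp i
    show ClSub.IsProperOver f' (CohB1.support ((Scheme.Modules.pullback j').obj (G.X i)))
    rw [support_pullback_qcoh (f := j') (isQCoh_of_isFP (hGfp i))
      (inferInstanceAs (SheafOfModules.IsFiniteType (R := X.ringCatSheaf) (G.X i)))]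
    exact Et18.IsProperOver.preimage (hGsupp i) hsq

end Groth.Agent.DQCoh.PscProperPush17
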