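import Groth.Agent.DQCoh.DQCohNoeth17
import Groth.Agent.DerCompLib.KoszulPush
import Groth.Agent.DCat.RFTri

/-!
# Derived direct images of quasi-coherent modules agree with `Rf_*`
-/

set_option autoImplicit false
set_option backward.isDefEq.respectTransparency false
set_option backward.defeqAttrib.useBackward true
set_option linter.style.haveILetI false
set_option linter.unusedSectionVars false
set_option synthInstance.maxHeartbeats 100000
set_option maxHeartbeats 800000
set_option backward.isDefEq.respectTransparency.types false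

universe u

open CategoryTheory CategoryTheory.Limits CategoryTheory.Pretriangulated DerivedCategory AlgebraicGeometry Opposite TopologicalSpace
open Groth.Agent.DCat Groth.Agent.Coherent Groth.Agent.DCat.PerfLocal

attribute [local instance] HasDerivedCategory.standard
attribute [-instance] Int.instConditionallyCompleteLinearOrder

namespace Groth.Agent.DQCoh.PushCompat17

open DQCohEquiv17 DQCohNoeth17

variable {X : Scheme.{u}}
  [ObjectProperty.ContainsZero (QP X)] [ObjectProperty.IsClosedUnderKernels (QP X)]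
  [ObjectProperty.IsClosedUnderCokernels (QP X)] [ObjectProperty.IsClosedUnderFiniteProducts (QP X)]
  [PreservesFiniteLimits (QP X).ι] [PreservesFiniteColimits (QP X).ι]

/-- An object represented by a K-injective complex with terms in `A`. -/
def Repr (A : ObjectProperty X.Modules) (B : DerivedCategory (QP X).FullSubcategory) : Prop :=
  ∃ L : CochainComplex (QP X).FullSubcategory ℤ, L.IsKInjective ∧ (∀ n, A ((QP X).ι.obj (L.X n))) ∧
    Nonempty (DerivedCategory.Q.obj L ≅ B)

variable {A : ObjectProperty X.Modules}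

theorem Repr.of_iso {B B' : DerivedCategory (QP X).FullSubcategory} (h : Repr A B) (e : B ≅ B') : Repr A B' := by
  obtain ⟨L, h₁, h₂, ⟨e'⟩⟩ := h
  exact ⟨L, h₁, h₂, ⟨e' ≪≫ e⟩⟩

theorem Repr.shift {B : DerivedCategory (QP X).FullSubcategory} (h : Repr A B) (n : ℤ) : Repr A (B⟦n⟧) := by
  obtain ⟨L, h₁, h₂, ⟨e⟩⟩ := h
  haveI := h₁
  exact ⟨L⟦n⟧, inferInstance, fun m => h₂ (m + n),
    ⟨(DerivedCategory.Q.commShiftIso n).app L ≪≫ (shiftFunctor _ n).mapIso e⟩⟩

theorem Repr.fibre (hb : ∀ M N : X.Modules, A M → A N → A (M ⊞ N)) [A.IsClosedUnderIsomorphisms]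
    {T : Triangle (DerivedCategory (QP X).FullSubcategory)} (hT : T ∈ distTriang _)
    (h₂ : Repr A T.obj₂) (h₃ : Repr A T.obj₃) : Repr A T.obj₁ := by
  obtain ⟨L₂, hL₂, hA₂, ⟨e₂⟩⟩ := h₂
  obtain ⟨L₃, hL₃, hA₃, ⟨e₃⟩⟩ := h₃
  haveI := hL₂
  haveI := hL₃
  obtain ⟨φ, hφ⟩ := surj_Q_map L₂ L₃ (e₂.hom ≫ T.mor₂ ≫ e₃.inv)
  let C := CochainComplex.mappingCone φ
  have hC : Repr A (DerivedCategory.Q.obj C) := by
    refine ⟨C, DerCompLib.isKInjective_mappingCone φ, fun m => ?_, ⟨Iso.refl _⟩⟩
    haveI : PreservesBinaryBiproducts (QP X).ι := preservesBinaryBiproducts_of_preservesBiproducts _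
    exact A.prop_of_iso (((QP X).ι.mapBiprod _ _).symm ≪≫
      (QP X).ι.mapIso (HomologicalComplex.homotopyCofiber.XIsoBiprod φ m (m + 1) rfl).symm)
      (hb _ _ (hA₂ _) (hA₃ _))
  refine ((hC.shift (-1)).of_iso ?_)
  let T₁ := DerivedCategory.Q.mapTriangle.obj (CochainComplex.mappingCone.triangle φ)
  have hT₁ : T₁ ∈ distTriang (DerivedCategory (QP X).FullSubcategory) :=
    DerivedCategory.mappingCone_triangle_distinguished φ
  let i₃ : DerivedCategory.Q.obj C ≅ T.obj₁⟦(1 : ℤ)⟧ := Triangle.π₃.mapIso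
    (isoTriangleOfIso₁₂ T₁ T.rotate hT₁ (rot_of_distTriang _ hT) e₂ e₃ (by
      show DerivedCategory.Q.map φ ≫ e₃.hom = e₂.hom ≫ T.mor₂
      rw [hφ]
      simp))
  exact (shiftFunctor _ (-1 : ℤ)).mapIso i₃ ≪≫ (shiftFunctorCompIsoId _ (1 : ℤ) (-1) (by omega)).app _

section Compat

variable {Y : Scheme.{u}} (f : X ⟶ Y)

/-- `Rf_*` is computed by K-injective complexes of quasi-coherent modules with acyclic terms. -/
theorem isIso_unit_of_repr [QuasiCompact f] [QuasiSeparated f] [DCoh.HasRpush f]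
    (hacy : ∀ M, A M → ∀ i : ℕ, 0 < i → IsZero ((Coh.Rpush f i).obj M))
    (hrepr : ∀ B : DerivedCategory (QP X).FullSubcategory, Repr A B)
    (L : CochainComplex (QP X).FullSubcategory ℤ) (hL : L.IsKInjective) :
    IsIso (((DCoh.pushKh f).totalRightDerivedUnit DerivedCategory.Qh
      (HomotopyCategory.quasiIso X.Modules (ComplexShape.up ℤ))).app
        (((QP X).ι.mapHomotopyCategory (ComplexShape.up ℤ)).obj ((HomotopyCategory.quotient _ _).obj L))) := by
  haveI := hL
  haveI := Coherent.hasInjectiveResolutions_modules X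
  obtain ⟨L', hL', hA, ⟨e⟩⟩ := hrepr (DerivedCategory.Q.obj L)
  haveI := hL'
  let η := (DCoh.pushKh f).totalRightDerivedUnit DerivedCategory.Qh
    (HomotopyCategory.quasiIso X.Modules (ComplexShape.up ℤ))
  obtain ⟨φ, hφ⟩ := surj_Q_map L' L e.hom
  haveI : IsIso ((HomotopyCategory.quotient (QP X).FullSubcategory (ComplexShape.up ℤ)).map φ) :=
    kInj_isIso _ hL' hL ((HomotopyCategory.quotient_map_mem_quasiIso_iff φ).2
      ((DerivedCategory.isIso_Q_map_iff_quasiIso _ φ).1 (hφ ▸ inferInstance)))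
  refine (NatTrans.isIso_app_iff_of_iso η (((QP X).ι.mapHomotopyCategory (ComplexShape.up ℤ)).mapIso
    (asIso ((HomotopyCategory.quotient (QP X).FullSubcategory (ComplexShape.up ℤ)).map φ)))).1 ?_
  exact isIso_unit_qcoh f (((QP X).ι.mapHomologicalComplex (ComplexShape.up ℤ)).obj L')
    (fun n => (L'.X n).property) fun n i hi => hacy _ (hA n) i hi

/-- Enough K-injective complexes from representability. -/
theorem enoughKInj_of_repr (hrepr : ∀ B : DerivedCategory (QP X).FullSubcategory, Repr A B) :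
    EnoughKInj (QP X).FullSubcategory := fun K => by
  obtain ⟨L, hL, -, ⟨e⟩⟩ := hrepr (DerivedCategory.Q.obj K)
  haveI := hL
  obtain ⟨f, hf⟩ := surj_Q_map K L e.inv
  exact ⟨L, f, hL, (DerivedCategory.isIso_Q_map_iff_quasiIso _ f).1 (hf ▸ inferInstance)⟩

variable [ObjectProperty.ContainsZero (QP Y)] [ObjectProperty.IsClosedUnderKernels (QP Y)]
  [ObjectProperty.IsClosedUnderCokernels (QP Y)] [ObjectProperty.IsClosedUnderFiniteProducts (QP Y)]
  [PreservesFiniteLimits (QP Y).ι] [PreservesFiniteColimits (QP Y).ι]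

/-- The derived functor of `f_*` on quasi-coherent modules is `Rf_*`. -/
theorem nonempty_compat_of [QuasiCompact f] [QuasiSeparated f] [DCoh.HasRpush f]
    (hacy : ∀ M, A M → ∀ i : ℕ, 0 < i → IsZero ((Coh.Rpush f i).obj M))
    (hrepr : ∀ B : DerivedCategory (QP X).FullSubcategory, Repr A B)
    (F : (QP X).FullSubcategory ⥤ (QP Y).FullSubcategory) [F.Additive]
    (c : F ⋙ (QP Y).ι ≅ (QP X).ι ⋙ Scheme.Modules.pushforward f)
    [(F.mapHomotopyCategory (ComplexShape.up ℤ) ⋙ DerivedCategory.Qh).HasRightDerivedFunctor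
      (HomotopyCategory.quasiIso (QP X).FullSubcategory (ComplexShape.up ℤ))] :
    Nonempty ((F.mapHomotopyCategory (ComplexShape.up ℤ) ⋙ DerivedCategory.Qh).totalRightDerived DerivedCategory.Qh
        (HomotopyCategory.quasiIso (QP X).FullSubcategory (ComplexShape.up ℤ)) ⋙ (QP Y).ι.mapDerivedCategory ≅
      (QP X).ι.mapDerivedCategory ⋙ DCoh.Rpush f) := by
  let h := enoughKInj_of_repr hrepr
  let ιX := (QP X).ι.mapHomotopyCategory (ComplexShape.up ℤ)
  let η := (DCoh.pushKh f).totalRightDerivedUnit DerivedCategory.Qh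
    (HomotopyCategory.quasiIso X.Modules (ComplexShape.up ℤ))
  let α : rho h ⋙ ιX ⋙ DCoh.pushKh f ⟶ rho h ⋙ ιX ⋙ DerivedCategory.Qh ⋙ DCoh.Rpush f :=
    Functor.whiskerLeft (rho h ⋙ ιX) η
  haveI : ∀ B, IsIso (α.app B) := fun B => isIso_unit_of_repr f hacy hrepr (resObj h B) (resObj_isKInjective h B)
  haveI := NatIso.isIso_of_isIso_app α
  refine ⟨?_⟩
  exact Functor.isoWhiskerRight (rfIso h (F.mapHomotopyCategory (ComplexShape.up ℤ) ⋙ DerivedCategory.Qh)) _ ≪≫
    Functor.associator _ _ _ ≪≫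
    Functor.isoWhiskerLeft (rho h) (Functor.associator _ _ _ ≪≫
      Functor.isoWhiskerLeft _ (QP Y).ι.mapDerivedCategoryFactorsh ≪≫
      (Functor.associator _ _ _).symm ≪≫
      Functor.isoWhiskerRight (Functor.mapHomotopyCategoryCompIso c (ComplexShape.up ℤ) ≪≫
        (Functor.mapHomotopyCategoryCompIso (Iso.refl _) (ComplexShape.up ℤ)).symm) DerivedCategory.Qh ≪≫
      Functor.associator _ _ _) ≪≫
    asIso α ≪≫
    Functor.isoWhiskerLeft (rho h) ((Functor.associator _ _ _).symm ≪≫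
      Functor.isoWhiskerRight (QP X).ι.mapDerivedCategoryFactorsh.symm (DCoh.Rpush f) ≪≫
      Functor.associator _ _ _) ≪≫
    (Functor.associator _ _ _).symm ≪≫
    Functor.isoWhiskerRight (asIso (rhoAdj h).counit) _ ≪≫ Functor.leftUnitor _

end Compat

variable [IsNoetherian X]

/-- Injectivity as an object property. -/
abbrev Inj (X : Scheme.{u}) : ObjectProperty X.Modules := fun M => Injective M

instance : (Inj X).IsClosedUnderIsomorphisms := ⟨fun e h => Injective.of_iso e h⟩

theorem exists_model' (V : X.affineOpens) (M : DerivedCategory (ModuleCat.{u} Γ(X, V.1))) :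
    ∃ B : DerivedCategory (QP X).FullSubcategory, Repr (Inj X) B ∧
      (∀ K : DCoh.D X, Function.Bijective (fun h : K ⟶ (QP X).ι.mapDerivedCategory.obj B =>
        (rd V.2.fromSpec).map h)) ∧
      (haveI := AffSchLib.preservesFiniteLimits_tilde Γ(X, V.1)
       Nonempty ((rd V.2.fromSpec).obj ((QP X).ι.mapDerivedCategory.obj B) ≅ (DCoh.tildeD _).obj M) ∧
        ∀ (W : X.Opens) (K : DCoh.D X), Nonempty ((DCoh.tildeD _).obj M ≅ (rd V.2.fromSpec).obj K) →
          IsZero ((rd W.ι).obj K) → IsZero ((rd W.ι).obj ((QP X).ι.mapDerivedCategory.obj B))) := by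
  haveI := AffSchLib.preservesFiniteLimits_tilde Γ(X, V.1)
  haveI : IsNoetherianRing Γ(X, V.1) := IsLocallyNoetherian.component_noetherian V
  let j := V.2.fromSpec
  haveI := DCat.hasRpush j
  obtain ⟨I, f, hI, hf, -, hinj⟩ := DCat.exists_kInj_res (DerivedCategory.Q.objPreimage M)
  haveI := hI
  haveI := hinj
  haveI : IsIso (DerivedCategory.Q.map f) := (DerivedCategory.isIso_Q_map_iff_quasiIso _ f).2 hf
  let eM : DerivedCategory.Q.obj I ≅ M :=
    (asIso (DerivedCategory.Q.map f)).symm ≪≫ DerivedCategory.Q.objObjPreimageIso M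
  obtain ⟨e₀⟩ := nonempty_phi_pushCx j I
  let e := e₀ ≪≫ (DCoh.Rpush j).mapIso ((DCoh.tildeD _).mapIso eM)
  refine ⟨DerivedCategory.Q.obj (pushCx j I), ⟨pushCx j I, inferInstance, fun n => ?_, ⟨Iso.refl _⟩⟩,
    fun K => (bijective_rd_of_iso j K _ e).1,
    (bijective_rd_of_iso j ((QP X).ι.mapDerivedCategory.obj (DerivedCategory.Q.obj (pushCx j I))) _ e).2,
    fun W K ⟨eK⟩ hK => ?_⟩
  · haveI : Module.Injective Γ(X, V.1) (I.X n) :=
      (Module.injective_iff_injective_object Γ(X, V.1) (I.X n)).2 inferInstance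
    haveI : Injective ((tilde.functor Γ(X, V.1)).obj (I.X n)) := InjMod14.injective_tilde (I.X n)
    haveI := PullPerf.preservesFiniteLimits_restrict j
    haveI : (Scheme.Modules.restrictFunctor j).PreservesMonomorphisms := inferInstance
    exact Injective.injective_of_adjoint (Scheme.Modules.restrictAdjunction j) _
  · haveI := PullPerf.preservesFiniteLimits_restrict W.ι
    have h0 := killed_push j W K ((DCoh.tildeD _).obj M) eK hK
    exact IsZero.of_iso h0 ((rd W.ι).mapIso e)

theorem repr_of_list (l : List X.affineOpens) : ∀ B : DerivedCategory (QP X).FullSubcategory,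
    (∀ x : X, (∀ V ∈ l, x ∉ V.1) → ∃ W : X.Opens, x ∈ W ∧
      IsZero ((rd W.ι).obj ((QP X).ι.mapDerivedCategory.obj B))) → Repr (Inj X) B := by
  let Φ := (QP X).ι.mapDerivedCategory
  induction l with
  | nil =>
    intro B hB
    have hz : IsZero (Φ.obj B) := isZero_of_cover _ fun x => hB x fun V hV => (List.not_mem_nil hV).elim
    have hzB : IsZero B := SuppOpen.isZero_of_hd _ fun i => by
      have h1 : IsZero ((QP X).ι.obj ((DerivedCategory.homologyFunctor _ i).obj B)) :=
        ((DerivedCategory.homologyFunctor X.Modules i).map_isZero hz).of_iso (SuppOpen.hdMapIso (QP X).ι B i).symm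
      exact (IsZero.iff_id_eq_zero _).2 ((QP X).ι.map_injective (h1.eq_of_src _ _))
    obtain ⟨Z, hZ⟩ := HasZeroObject.zero (C := CochainComplex (QP X).FullSubcategory ℤ)
    have hZ' : IsZero Z := ⟨hZ.1, hZ.2⟩
    refine ⟨Z, ⟨fun {K} f _ => ⟨Homotopy.ofEq (hZ'.eq_of_tgt _ _)⟩⟩, fun n => ?_,
      ⟨(DerivedCategory.Q.map_isZero hZ').iso hzB⟩⟩
    have hzn : IsZero ((QP X).ι.obj (Z.X n)) :=
      (QP X).ι.map_isZero ((HomologicalComplex.eval (QP X).FullSubcategory (ComplexShape.up ℤ) n).map_isZero hZ')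
    exact ⟨fun f _ _ => ⟨0, hzn.eq_of_tgt _ _⟩⟩
  | cons V l ih =>
    intro B hB
    let j := V.2.fromSpec
    haveI := PullPerf.preservesFiniteLimits_restrict j
    haveI := AffSchLib.preservesFiniteLimits_tilde Γ(X, V.1)
    obtain ⟨M, ⟨e⟩⟩ := ((tildeD_main Γ(X, V.1)).2.2 _).1 (isQCohD_rd j (isQCohD_phi B))
    obtain ⟨N, hN, hbij, ⟨eN⟩, hkill⟩ := exists_model' V M
    obtain ⟨h, hh⟩ := (hbij (Φ.obj B)).2 (e.inv ≫ eN.inv)
    obtain ⟨f, hf⟩ := (DQCohNoeth17.good N B).2 h
    obtain ⟨C, g, k, hT⟩ := distinguished_cocone_triangle f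
    refine Repr.fibre (fun M₁ M₂ h₁ h₂ => ?_) hT hN (ih C fun x hx => ?_)
    · haveI : Injective M₁ := h₁
      haveI : Injective M₂ := h₂
      exact inferInstanceAs (Injective (M₁ ⊞ M₂))
    have hΦ := Φ.map_distinguished _ hT
    by_cases hxV : x ∈ V.1
    · refine ⟨V.1, hxV, isZero_rd_ι_of_fromSpec V.2 ?_⟩
      haveI : IsIso ((rd j).map (Φ.map f)) := by
        rw [show Φ.map f = h from hf, show (rd j).map h = _ from hh]
        infer_instance
      exact (Triangle.isZero₃_iff_isIso₁ _ ((rd j).map_distinguished _ hΦ)).2 ‹_›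
    · obtain ⟨W, hxw, hW⟩ := hB x (fun V' hV' => by
        rcases List.mem_cons.1 hV' with rfl | hV'
        · exact hxV
        · exact hx V' hV')
      haveI := PullPerf.preservesFiniteLimits_restrict W.ι
      exact ⟨W, hxw, Triangle.isZero₃_of_isZero₁₂ _ ((rd W.ι).map_distinguished _ hΦ) hW
        (hkill W (Φ.obj B) ⟨e⟩ hW)⟩

/-- Every object is a K-injective complex with injective underlying modules. -/
theorem repr (B : DerivedCategory (QP X).FullSubcategory) : Repr (Inj X) B := by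
  obtain ⟨l, hl⟩ := exists_cover X
  refine repr_of_list l B fun x hx => ?_
  obtain ⟨V, hV, hxV⟩ := hl x
  exact (hx V hV hxV).elim

/-- Quasi-coherent modules have enough K-injective complexes. -/
theorem enoughKInj : EnoughKInj (QP X).FullSubcategory := fun K => by
  obtain ⟨L, hL, -, ⟨e⟩⟩ := repr (DerivedCategory.Q.obj K)
  haveI := hL
  obtain ⟨f, hf⟩ := surj_Q_map K L e.inv
  exact ⟨L, f, hL, (DerivedCategory.isIso_Q_map_iff_quasiIso _ f).1 (hf ▸ inferInstance)⟩

variable {Y : Scheme.{u}} (f : X ⟶ Y)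
  [ObjectProperty.ContainsZero (QP Y)] [ObjectProperty.IsClosedUnderKernels (QP Y)]
  [ObjectProperty.IsClosedUnderCokernels (QP Y)] [ObjectProperty.IsClosedUnderFiniteProducts (QP Y)]
  [PreservesFiniteLimits (QP Y).ι] [PreservesFiniteColimits (QP Y).ι]

/-- The derived functor of `f_*` on quasi-coherent modules is `Rf_*`. -/
theorem nonempty_compat [QuasiCompact f] [QuasiSeparated f] [DCoh.HasRpush f]
    (F : (QP X).FullSubcategory ⥤ (QP Y).FullSubcategory) [F.Additive]
    (c : F ⋙ (QP Y).ι ≅ (QP X).ι ⋙ Scheme.Modules.pushforward f)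
    [(F.mapHomotopyCategory (ComplexShape.up ℤ) ⋙ DerivedCategory.Qh).HasRightDerivedFunctor
      (HomotopyCategory.quasiIso (QP X).FullSubcategory (ComplexShape.up ℤ))] :
    Nonempty ((F.mapHomotopyCategory (ComplexShape.up ℤ) ⋙ DerivedCategory.Qh).totalRightDerived DerivedCategory.Qh
        (HomotopyCategory.quasiIso (QP X).FullSubcategory (ComplexShape.up ℤ)) ⋙ (QP Y).ι.mapDerivedCategory ≅
      (QP X).ι.mapDerivedCategory ⋙ DCoh.Rpush f) := by
  haveI := Coherent.hasInjectiveResolutions_modules X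
  refine nonempty_compat_of (A := Inj X) f (fun M hM i hi => ?_) repr F c
  obtain ⟨i, rfl⟩ := Nat.exists_eq_succ_of_ne_zero (by omega : i ≠ 0)
  haveI : Injective M := hM
  exact Functor.isZero_rightDerived_obj_injective_succ _ i _

end Groth.Agent.DQCoh.PushCompat17
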