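import Groth.Agent.DQCoh.PushCompat17
import Groth.Agent.Coherent.RpushComp

/-!
# Derived direct images of quasi-coherent modules for affine diagonals
-/

set_option autoImplicit false
set_option backward.isDefEq.respectTransparency false
set_option backward.defeqAttrib.useBackward true
set_option linter.style.haveILetI false
set_option linter.unusedSectionVars false
set_option synthInstance.maxHeartbeats 100000
set_option maxHeartbeats 800000
set_option backward.isDefEq.respectTransparency.types false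

universe u

open CategoryTheory CategoryTheory.Limits CategoryTheory.Pretriangulated DerivedCategory AlgebraicGeometry Opposite TopologicalSpace
open Groth.Agent.DCat Groth.Agent.Coherent Groth.Agent.DCat.PerfLocal

attribute [local instance] HasDerivedCategory.standard
attribute [-instance] Int.instConditionallyCompleteLinearOrder

namespace Groth.Agent.DQCoh.PushCompatDiag17

open DQCohEquiv17 PushCompat17

/-- Maps from affine schemes to schemes with affine diagonal are affine. -/
theorem isAffineHom_of_diag {U Y : Scheme.{u}} [IsAffine U]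
    (hdY : ∀ A B : Y.Opens, IsAffineOpen A → IsAffineOpen B → IsAffineOpen (A ⊓ B)) (g : U ⟶ Y) :
    IsAffineHom g := by
  haveI hd : IsAffineHom (pullback.diagonal (terminal.from Y)) :=
    isAffineHom_diagonal_iff.2 fun _ _ A _ B _ hA hB => hdY A B hA hB
  haveI : IsAffineHom (g ≫ terminal.from Y) := isAffineHom_of_isAffine _
  haveI : MorphismProperty.HasOfPostcompProperty @IsAffineHom (MorphismProperty.diagonal @IsAffineHom) :=
    MorphismProperty.hasOfPostcompProperty_iff_le_diagonal.2 le_rfl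
  exact MorphismProperty.of_postcomp (W := @IsAffineHom) (W' := MorphismProperty.diagonal @IsAffineHom)
    g (terminal.from Y) hd inferInstance

/-- Acyclicity for `f_*`. -/
abbrev Ac {X Y : Scheme.{u}} (f : X ⟶ Y) [HasInjectiveResolutions X.Modules] : ObjectProperty X.Modules :=
  fun M => DCat.Acyclic.Acy (Scheme.Modules.pushforward f) M

variable {X Y : Scheme.{u}} [CompactSpace X]
  [ObjectProperty.ContainsZero (QP X)] [ObjectProperty.IsClosedUnderKernels (QP X)]
  [ObjectProperty.IsClosedUnderCokernels (QP X)] [ObjectProperty.IsClosedUnderFiniteProducts (QP X)]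
  [PreservesFiniteLimits (QP X).ι] [PreservesFiniteColimits (QP X).ι]
  (hdX : ∀ U V : X.Opens, IsAffineOpen U → IsAffineOpen V → IsAffineOpen (U ⊓ V))
  (hdY : ∀ U V : Y.Opens, IsAffineOpen U → IsAffineOpen V → IsAffineOpen (U ⊓ V))
  (f : X ⟶ Y) [HasInjectiveResolutions X.Modules]

instance : (Ac f).IsClosedUnderIsomorphisms := ⟨fun e h => DCat.Acyclic.Acy.of_iso h e⟩

include hdY in
/-- Direct images from affines are acyclic. -/
theorem acy_push {R : CommRingCat.{u}} (j : Spec R ⟶ X) [IsAffineHom j] (N : ModuleCat.{u} R) :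
    Ac f ((Scheme.Modules.pushforward j).obj ((tilde.functor R).obj N)) := fun i hi => by
  haveI := isAffineHom_of_diag hdY (j ≫ f)
  haveI := Coherent.hasInjectiveResolutions_modules (Spec R)
  let T := (tilde.functor R).obj N
  haveI : Coh.IsQCoh T := isQCoh_tilde N
  obtain ⟨e⟩ := nonempty_rpushAb_comp_affine j f T i
  have h' : IsZero ((toAbFunctor Y).obj ((Coh.Rpush f i).obj ((Scheme.Modules.pushforward j).obj T))) :=
    ((isZero_rpushAb_of_isAffineHom (j ≫ f) T i hi).of_iso e).of_iso
      ((toAbRpushNatIso f i).app ((Scheme.Modules.pushforward j).obj T))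
  show IsZero ((Coh.Rpush f i).obj ((Scheme.Modules.pushforward j).obj T))
  rw [IsZero.iff_id_eq_zero] at h' ⊢
  exact (toAbFunctor Y).map_injective (((toAbFunctor Y).map_id _).trans (h'.trans ((toAbFunctor Y).map_zero _ _).symm))

include hdX hdY in
theorem repr_of_list (l : List X.affineOpens) : ∀ B : DerivedCategory (QP X).FullSubcategory,
    (∀ x : X, (∀ V ∈ l, x ∉ V.1) → ∃ (W : Scheme.{u}) (w : W ⟶ X) (_ : IsOpenImmersion w),
      x ∈ w.opensRange ∧ IsZero ((rd w).obj ((QP X).ι.mapDerivedCategory.obj B))) → Repr (Ac f) B := by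
  let Φ := (QP X).ι.mapDerivedCategory
  induction l with
  | nil =>
    intro B hB
    have hz : IsZero (Φ.obj B) := SuppOpen.isZero_of_hd _ fun i => ModStalk.isZero_of_stalks fun x => by
      obtain ⟨W, w, _, ⟨z, rfl⟩, hW⟩ := hB x (fun V hV => (List.not_mem_nil hV).elim)
      have h0 := ((DerivedCategory.homologyFunctor W.Modules i).map_isZero hW).of_iso
        (SuppOpen.hdMapIso (Scheme.Modules.restrictFunctor w) (Φ.obj B) i).symm
      haveI := SuppOpen.subsingleton_stalk_of_restrict w (DCoh.HD (Φ.obj B) i) z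
        (SuppOpen.subsingleton_of_isZero_stalkFunctor _ _ ((DerSch.stalkFunctor W z).map_isZero h0))
      exact SuppOpen.isZero_stalkFunctor _ _
    have hzB : IsZero B := SuppOpen.isZero_of_hd _ fun i => by
      have h1 : IsZero ((QP X).ι.obj ((DerivedCategory.homologyFunctor _ i).obj B)) :=
        ((DerivedCategory.homologyFunctor X.Modules i).map_isZero hz).of_iso (SuppOpen.hdMapIso (QP X).ι B i).symm
      exact (IsZero.iff_id_eq_zero _).2 ((QP X).ι.map_injective (h1.eq_of_src _ _))
    obtain ⟨Z, hZ⟩ := HasZeroObject.zero (C := CochainComplex (QP X).FullSubcategory ℤ)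
    have hZ' : IsZero Z := ⟨hZ.1, hZ.2⟩
    refine ⟨Z, ⟨fun {K} φ _ => ⟨Homotopy.ofEq (hZ'.eq_of_tgt _ _)⟩⟩, fun n => ?_,
      ⟨(DerivedCategory.Q.map_isZero hZ').iso hzB⟩⟩
    have hzn : IsZero ((QP X).ι.obj (Z.X n)) :=
      (QP X).ι.map_isZero ((HomologicalComplex.eval (QP X).FullSubcategory (ComplexShape.up ℤ) n).map_isZero hZ')
    exact fun i _ => ((Scheme.Modules.pushforward f).rightDerived i).map_isZero hzn
  | cons V l ih =>
    intro B hB
    let j := V.2.fromSpec
    haveI := DQCohEquiv17.isAffineHom_fromSpec hdX V.2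
    haveI := PullPerf.preservesFiniteLimits_restrict j
    haveI := AffSchLib.preservesFiniteLimits_tilde Γ(X, V.1)
    obtain ⟨M, ⟨e⟩⟩ := ((tildeD_main Γ(X, V.1)).2.2 _).1 (isQCohD_rd j (isQCohD_phi B))
    obtain ⟨h, hh⟩ := (DQCohEquiv17.bijective_rd j (Φ.obj B) M).2
      (e.inv ≫ (Classical.choice (DQCohEquiv17.good_of_list.nonempty_rd_phi_Rf j M)).inv)
    obtain ⟨g₀, hg₀⟩ := (DQCohEquiv17.bijective_phi j B M).2 h
    obtain ⟨C, g, k, hT⟩ := distinguished_cocone_triangle g₀
    have hN : Repr (Ac f) ((Rf j).mapDerivedCategory.obj M) := by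
      obtain ⟨I, φ, hI, hφ, -, -⟩ := DCat.exists_kInj_res (DerivedCategory.Q.objPreimage M)
      haveI := hI
      haveI : IsIso (DerivedCategory.Q.map φ) := (DerivedCategory.isIso_Q_map_iff_quasiIso _ φ).2 hφ
      refine ⟨DQCohNoeth17.pushCx j I, inferInstance, fun n => acy_push hdY f j (I.X n),
        ⟨((Rf j).mapDerivedCategoryFactors.app I).symm ≪≫ (Rf j).mapDerivedCategory.mapIso
          ((asIso (DerivedCategory.Q.map φ)).symm ≪≫ DerivedCategory.Q.objObjPreimageIso M)⟩⟩
    refine Repr.fibre (fun M₁ M₂ h₁ h₂ => DCat.Acyclic.acy_biprod h₁ h₂) hT hN (ih C fun x hx => ?_)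
    have hΦ := Φ.map_distinguished _ hT
    by_cases hxV : x ∈ V.1
    · refine ⟨_, j, inferInstance, by rwa [V.2.opensRange_fromSpec], ?_⟩
      haveI : IsIso ((rd j).map (Φ.map g₀)) := by
        rw [show Φ.map g₀ = h from hg₀, show (rd j).map h = _ from hh]
        infer_instance
      exact (Triangle.isZero₃_iff_isIso₁ _ ((rd j).map_distinguished _ hΦ)).2 ‹_›
    · obtain ⟨W, w, _, hxw, hW⟩ := hB x (fun V' hV' => by
        rcases List.mem_cons.1 hV' with rfl | hV'
        · exact hxV
        · exact hx V' hV')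
      haveI := PullPerf.preservesFiniteLimits_restrict w
      exact ⟨W, w, inferInstance, hxw, Triangle.isZero₃_of_isZero₁₂ _ ((rd w).map_distinguished _ hΦ) hW
        (DQCohEquiv17.killed_push j w (Φ.obj B) M e hW)⟩

include hdX hdY in
/-- Every object is a K-injective complex with `f_*`-acyclic underlying modules. -/
theorem repr (B : DerivedCategory (QP X).FullSubcategory) : Repr (Ac f) B := by
  obtain ⟨l, hl⟩ := DQCohNoeth17.exists_cover X
  refine repr_of_list hdX hdY f l B fun x hx => ?_
  obtain ⟨V, hV, hxV⟩ := hl x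
  exact (hx V hV hxV).elim

/-- Morphisms from quasi-compact schemes to schemes with affine diagonal are quasi-compact. -/
theorem quasiCompact_of_diag {X Y : Scheme.{u}} [CompactSpace X]
    (hdY : ∀ U V : Y.Opens, IsAffineOpen U → IsAffineOpen V → IsAffineOpen (U ⊓ V)) (f : X ⟶ Y) :
    QuasiCompact f := by
  refine quasiCompact_iff_forall_isAffineOpen.2 fun W hW => ?_
  obtain ⟨l, hl⟩ := DQCohNoeth17.exists_cover X
  have e : ((f ⁻¹ᵁ W : X.Opens) : Set X) =
      ⋃ V ∈ l, (((V : X.Opens).ι ''ᵁ ((V : X.Opens).ι ⁻¹ᵁ (f ⁻¹ᵁ W)) : X.Opens) : Set X) := by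
    ext x
    simp only [Set.mem_iUnion₂]
    refine ⟨fun hx => ?_, fun ⟨V, _, z, hz, e⟩ => e ▸ hz⟩
    obtain ⟨V, hV, hxV⟩ := hl x
    exact ⟨V, hV, ⟨x, hxV⟩, hx, rfl⟩
  rw [e]
  refine l.finite_toSet.isCompact_biUnion fun V _ => ?_
  haveI : IsAffine (V.1 : Scheme.{u}) := V.2
  haveI := isAffineHom_of_diag hdY (V.1.ι ≫ f)
  exact ((IsAffineHom.isAffine_preimage (f := V.1.ι ≫ f) W hW).image_of_isOpenImmersion V.1.ι).isCompact

/-- Affine diagonal gives quasi-separatedness. -/
theorem quasiSeparatedSpace_of_diag {X : Scheme.{u}}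
    (hdX : ∀ U V : X.Opens, IsAffineOpen U → IsAffineOpen V → IsAffineOpen (U ⊓ V)) :
    QuasiSeparatedSpace X :=
  quasiSeparatedSpace_iff_forall_affineOpens.2 fun U V => (hdX _ _ U.2 V.2).isCompact

end Groth.Agent.DQCoh.PushCompatDiag17
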