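import Groth.Agent.DQCoh.RHomInjBound

/-!
# Quasi-coherence of `RHom` into a bounded complex of injectives
-/

set_option autoImplicit false
set_option backward.isDefEq.respectTransparency false
set_option backward.defeqAttrib.useBackward true
set_option linter.style.haveILetI false
set_option linter.unusedVariables false

universe u

open CategoryTheory CategoryTheory.Limits CategoryTheory.Pretriangulated DerivedCategory Opposite AlgebraicGeometry
open HomologicalComplex Groth.Agent.Coherent Groth.Agent.DCat Groth.Agent.DCat.PerfLocal Groth.Agent.DCat.PullPerf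

attribute [local instance] HasDerivedCategory.standard
attribute [-instance] Int.instConditionallyCompleteLinearOrder

namespace Groth.Agent.DQCoh

variable {X : Scheme.{u}}

local notation "t₀" => (DerivedCategory.TStructure.t : CategoryTheory.Triangulated.TStructure (DCoh.D X))

/-- `RHom(C, K)` has quasi-coherent cohomology for any `C` with coherent cohomology and `K` of finite injective
dimension with quasi-coherent cohomology. -/
theorem isQCohD_RHom_inj [IsLocallyNoetherian X] (C : CochainComplex X.Modules ℤ)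
    (hC : DCoh.IsCohD (DerivedCategory.Q.obj C)) [DCoh.HasLTensorCx C] [DCoh.HasRSheafHom C]
    (I : CochainComplex X.Modules ℤ) (hinj : ∀ n, Injective (I.X n)) (a b : ℤ)
    (ha : ∀ n, n < a → IsZero (I.X n)) (hb : ∀ n, b < n → IsZero (I.X n))
    (K : DCoh.D X) (eK : DerivedCategory.Q.obj I ≅ K) (hK : DCoh.IsQCohD K) :
    DCoh.IsQCohD ((DCoh.RSheafHom C).obj K) := fun i => by
  obtain ⟨h0, hk, hc, he⟩ := qc_ops X
  haveI : I.IsStrictlyGE a := (CochainComplex.isStrictlyGE_iff _ _).2 ha
  haveI : K.IsGE a := ⟨((t₀).ge a).prop_of_iso eK (inferInstance : (DerivedCategory.Q.obj I).IsGE a).ge⟩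
  let β := b - i + 1
  refine prop_RHom_middle (qc X) hk hc he C ((t₀).triangleLTGE_distinguished β (DerivedCategory.Q.obj C))
    (Iso.refl _) K i (fun A _ _ eA k _ => ?_) fun A _ _ eA k hk' => ?_
  · haveI := (t₀).isLE_truncLT_obj (DerivedCategory.Q.obj C) β (β - 1) (by omega)
    haveI : (DerivedCategory.Q.obj A).IsLE (β - 1) :=
      ⟨((t₀).le (β - 1)).prop_of_iso eA.symm (inferInstance : (((t₀).truncLT β).obj (DerivedCategory.Q.obj C)).IsLE (β - 1)).le⟩
    haveI : (K⟦k⟧).IsGE (a - k) := (t₀).isGE_shift K a k (a - k) (by omega)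
    have hA : ∀ j, Coh.IsCoh (DCoh.HD (DerivedCategory.Q.obj A) j) := fun j =>
      Coherent.isCoh_iso ((homologyFunctor X.Modules j).mapIso eA).symm (isCohD_truncLT _ hC β j)
    exact isQCoh_HD_RHom_psc A (a - k - i - 1)
      (psc_of_isCoh _ (fun j => (hA j).1) (β - 1) _ fun j _ => hA j) (K⟦k⟧)
      (fun j => isQCoh_of_iso (((homologyFunctor X.Modules 0).shiftIso k j (k + j) rfl).app K).symm (h := hK _))
      (a - k) i (by omega)
  · haveI : (DerivedCategory.Q.obj A).IsGE β :=
      ⟨((t₀).ge β).prop_of_iso eA.symm (inferInstance : (((t₀).truncGE β).obj (DerivedCategory.Q.obj C)).IsGE β).ge⟩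
    obtain ⟨hi', ha', hb', ⟨e'⟩⟩ := shift_rep I hinj a b ha hb K eK k
    exact h0 _ (isLE_RHom A β (I⟦k⟧) hi' (a - k) (b - k) ha' hb' _ e' i (by omega))

end Groth.Agent.DQCoh
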