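import Groth.Agent.DQCoh.RHomPerf
import Groth.Agent.DCat.ProjVanish
import Groth.Agent.DRingLib.PCGen
import Mathlib.Algebra.Homology.DerivedCategory.SingleTriangle
import Mathlib.Algebra.Homology.DerivedCategory.Linear
import Mathlib.RingTheory.PicardGroup

/-! `RHom(A, R) ≅ N[-1]` for a quotient by an invertible ideal. -/

set_option autoImplicit false
set_option backward.isDefEq.respectTransparency false
set_option backward.defeqAttrib.useBackward true
set_option linter.style.haveILetI false

universe u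

open CategoryTheory CategoryTheory.Limits MonoidalCategory HomologicalComplex CategoryTheory.Pretriangulated
open scoped TensorProduct
attribute [local instance] HasDerivedCategory.standard

namespace Groth.Agent.DQCoh

open DCat

section Gen

variable {R : Type u} [CommRing R]

/-- Exactness detected by maps from the rank one free complexes. -/
lemma exactAt_of_hom_zero (L : DRing.Cx R) (n : ℤ)
    (h : ∀ f : DerivedCategory.Q.obj (ringCx R n) ⟶ DerivedCategory.Q.obj L, f = 0) : L.ExactAt n := by
  rw [HomologicalComplex.exactAt_iff' L (n - 1) n (n + 1) (by simp) (by simp), ShortComplex.moduleCat_exact_iff]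
  intro (z : L.X n) (hz : L.d n (n + 1) z = 0)
  let f : ringCx R n ⟶ L := HomologicalComplex.mkHomFromSingle (ModuleCat.ofHom (LinearMap.toSpanSingleton R _ z))
    (fun k hk => by
      simp only [ComplexShape.up_Rel] at hk
      subst hk
      refine ModuleCat.hom_ext (LinearMap.ext_ring ?_)
      change L.d n (n + 1) ((1 : R) • z) = 0
      rw [one_smul, hz])
  have H := HomotopyCategory.homotopyOfEq _ _
    (ProjVanish.quotient_eq_of_Q_eq (ringCx R n) f 0 (by rw [h (DerivedCategory.Q.map f), Functor.map_zero]))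
  have hc := H.comm n
  rw [dNext_eq _ (show (ComplexShape.up ℤ).Rel n (n + 1) by simp),
    prevD_eq _ (show (ComplexShape.up ℤ).Rel (n - 1) n by simp), HomologicalComplex.zero_f, add_zero] at hc
  let one : (ringCx R n).X n := (singleObjXSelf (ComplexShape.up ℤ) n (ModuleCat.of R R)).inv (1 : R)
  have hf : f.f n one = z := by
    simp only [f, one, HomologicalComplex.mkHomFromSingle_f]
    refine (congrArg (fun g => (ConcreteCategory.hom g) (1 : R))
      (Iso.inv_hom_id_assoc (singleObjXSelf (ComplexShape.up ℤ) n (ModuleCat.of R R))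
        (ModuleCat.ofHom (LinearMap.toSpanSingleton R (L.X n) z)))).trans ?_
    exact one_smul R z
  have hd : (ringCx R n).d n (n + 1) = 0 := HomologicalComplex.single_obj_d _ _ _ _ _
  rw [hd, zero_comp, zero_add] at hc
  exact ⟨H.hom n (n - 1) one, (congrArg (fun g => (ConcreteCategory.hom g) one) hc).symm.trans hf⟩

/-- No maps from translates of the ring outside degree `b`: concentrated in degree `b`. -/
lemma concentrated_of_hom_zero (M : Dual.D R) (b : ℤ)
    (h : ∀ n, n ≠ b → ∀ f : (Dual.inD R R)⟦-n⟧ ⟶ M, f = 0) : M.IsGE b ∧ M.IsLE b := by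
  obtain ⟨L, ⟨e⟩⟩ : ∃ L, Nonempty (DerivedCategory.Q.obj L ≅ M) := ⟨_, ⟨DerivedCategory.Q.objObjPreimageIso M⟩⟩
  have hL : ∀ n, n ≠ b → L.ExactAt n := fun n hn => exactAt_of_hom_zero L n fun f => by
    rw [← cancel_epi (DRingLib.singleIso n (ModuleCat.of R R)).hom, ← cancel_mono e.hom, comp_zero, zero_comp]
    exact h n hn _
  haveI : CochainComplex.IsGE L b := (CochainComplex.isGE_iff L b).2 fun i hi => hL i (by omega)
  haveI : CochainComplex.IsLE L b := (CochainComplex.isLE_iff L b).2 fun i hi => hL i (by omega)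
  exact ⟨(DerivedCategory.TStructure.t).isGE_of_iso e b, (DerivedCategory.TStructure.t).isLE_of_iso e b⟩

/-- A projective module has no higher or lower maps to a module. -/
lemma hom_single_shift_zero (P X : ModuleCat.{u} R) [Projective P] (k : ℤ) (hk : k ≠ 0)
    (f : (DerivedCategory.singleFunctor (ModuleCat.{u} R) 0).obj P ⟶
      ((DerivedCategory.singleFunctor (ModuleCat.{u} R) 0).obj X)⟦k⟧) : f = 0 := by
  rcases lt_or_gt_of_ne hk with hk | hk
  · haveI : (((DerivedCategory.singleFunctor (ModuleCat.{u} R) 0).obj X)⟦k⟧).IsGE 1 := by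
      haveI := (DerivedCategory.TStructure.t).isGE_shift ((DerivedCategory.singleFunctor (ModuleCat.{u} R) 0).obj X) 0 k (-k) (by omega)
      exact (DerivedCategory.TStructure.t).isGE_of_ge _ 1 (-k) (by omega)
    exact (DerivedCategory.TStructure.t).zero f 0 1 (by omega)
  · let P0 := (HomologicalComplex.single (ModuleCat.{u} R) (ComplexShape.up ℤ) 0).obj P
    let X0 := (HomologicalComplex.single (ModuleCat.{u} R) (ComplexShape.up ℤ) (-k)).obj X
    haveI : CochainComplex.IsStrictlyLE P0 0 := (CochainComplex.isStrictlyLE_iff _ 0).2 fun i hi => isZero_single_obj_X _ 0 _ i (by omega)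
    haveI : CochainComplex.IsStrictlyGE P0 0 := (CochainComplex.isStrictlyGE_iff _ 0).2 fun i hi => isZero_single_obj_X _ 0 _ i (by omega)
    haveI : ∀ i : ℤ, Projective (P0.X i) := fun i => by
      by_cases hi : i = 0
      · subst hi
        exact Projective.of_iso (singleObjXSelf (ComplexShape.up ℤ) 0 P).symm inferInstance
      · exact Projective.of_iso (isZero_single_obj_X _ 0 _ i hi).isoZero.symm inferInstance
    haveI : CochainComplex.IsKProjective P0 := CochainComplex.isKProjective_of_projective _ 0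
    let eP : DerivedCategory.Q.obj P0 ≅ (DerivedCategory.singleFunctor (ModuleCat.{u} R) 0).obj P :=
      ((DerivedCategory.singleFunctorIsoCompQ (ModuleCat.{u} R) 0).app P).symm
    let eX : DerivedCategory.Q.obj X0 ≅ ((DerivedCategory.singleFunctor (ModuleCat.{u} R) 0).obj X)⟦k⟧ :=
      ((DerivedCategory.singleFunctorIsoCompQ (ModuleCat.{u} R) (-k)).app X).symm ≪≫
        (((DerivedCategory.singleFunctors (ModuleCat.{u} R)).shiftIso k (-k) 0 (by omega)).app X).symm
    rw [← cancel_epi eP.hom, ← cancel_mono eX.inv, comp_zero, zero_comp]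
    refine ProjVanish.hom_eq_zero P0 X0 0 (fun i hi => ?_) _
    exact HomologicalComplex.isZero_single_obj_homology (ComplexShape.up ℤ) (-k) X i (by omega)

/-- The same after a translation of the source. -/
lemma hom_shift_single_zero (P X : ModuleCat.{u} R) [Projective P] (j k : ℤ) (hk : k ≠ j)
    (f : ((DerivedCategory.singleFunctor (ModuleCat.{u} R) 0).obj P)⟦j⟧ ⟶
      ((DerivedCategory.singleFunctor (ModuleCat.{u} R) 0).obj X)⟦k⟧) : f = 0 := by
  let e := (shiftFunctorAdd' (Dual.D R) (k - j) j k (by omega)).app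
    ((DerivedCategory.singleFunctor (ModuleCat.{u} R) 0).obj X)
  obtain ⟨g, hg⟩ := (shiftFunctor (Dual.D R) j).map_surjective (f ≫ e.hom)
  rw [← cancel_mono e.hom, zero_comp, ← hg, hom_single_shift_zero P X (k - j) (by omega) g, Functor.map_zero]

lemma perfect_projective (P : ModuleCat.{u} R) [Module.Finite R P] [Module.Projective R P] :
    DRing.IsPerfect R ((DerivedCategory.singleFunctor (ModuleCat.{u} R) 0).obj P) := by
  refine ⟨(HomologicalComplex.single (ModuleCat.{u} R) (ComplexShape.up ℤ) 0).obj P, 0, 0,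
    fun i hi => isZero_single_obj_X _ _ _ _ (by omega), fun i => ?_,
    ⟨((DerivedCategory.singleFunctorIsoCompQ (ModuleCat.{u} R) 0).app P).symm⟩⟩
  by_cases hi : i = 0
  · subst hi
    exact finite_projective_of_iso (singleObjXSelf (ComplexShape.up ℤ) 0 P).symm
      ⟨inferInstance, inferInstance⟩
  · haveI : Subsingleton (((HomologicalComplex.single (ModuleCat.{u} R) (ComplexShape.up ℤ) 0).obj P).X i) :=
      ModuleCat.subsingleton_of_isZero (isZero_single_obj_X (ComplexShape.up ℤ) 0 P i hi)
    exact ⟨inferInstance, inferInstance⟩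

end Gen

section Alg

variable {R A : Type u} [CommRing R] [CommRing A] [Algebra R A]

/-- Multiples of the inclusion of an ideal. -/
noncomputable def idealMul (I : Ideal R) : R →ₗ[R] Module.Dual R I :=
  LinearMap.toSpanSingleton R (Module.Dual R I) I.subtype

lemma idealMul_apply (I : Ideal R) (r : R) (i : I) : idealMul I r i = r * (i : R) := rfl

/-- An invertible ideal has no annihilator. -/
lemma eq_zero_of_mul_invertible (I : Ideal R) [Module.Invertible R I] {x : R}
    (h : ∀ i : I, (i : R) * x = 0) : x = 0 := by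
  have hmul : ∀ (ψ : Module.Dual R I) (i : I), x * ψ i = 0 := fun ψ i => by
    have hz : x • i = (0 : I) := Subtype.ext (by
      show x * (i : R) = 0
      rw [mul_comm]; exact h i)
    rw [← smul_eq_mul, ← map_smul, hz, map_zero]
  have : ∀ t : Module.Dual R I ⊗[R] I, x * contractLeft R I t = 0 := fun t => by
    induction t using TensorProduct.induction_on with
    | zero => simp
    | tmul ψ i => rw [contractLeft_apply]; exact hmul ψ i
    | add a b ha hb => rw [map_add, mul_add, ha, hb, add_zero]
  obtain ⟨t, ht⟩ := (Module.Invertible.linearEquiv R I).surjective 1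
  have := this t
  rw [show contractLeft R I t = 1 from ht, mul_one] at this
  exact this

/-- A quotient of the dual of an invertible kernel by the multiples of the inclusion is the inverse of
`A ⊗ I`. -/
lemma nonempty_inverse (hφ : Function.Surjective (algebraMap R A))
    [Module.Invertible R (RingHom.ker (algebraMap R A))]
    (N : Type u) [AddCommGroup N] [Module A N]
    (e : (A ⊗[R] (RingHom.ker (algebraMap R A))) ⊗[A] N ≃ₗ[A] A)
    (H : Type u) [AddCommGroup H] [Module A H] [Module R H] [IsScalarTower R A H]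
    (π : Module.Dual R (RingHom.ker (algebraMap R A)) →ₗ[R] H) (hπ : Function.Surjective π)
    (hexact : Function.Exact (idealMul (RingHom.ker (algebraMap R A))) π) : Nonempty (H ≃ₗ[A] N) := by
  let I := RingHom.ker (algebraMap R A)
  let P := A ⊗[R] I
  let c := Module.Invertible.linearEquiv R I
  let u : R →ₗ[R] H ⊗[R] I := π.rTensor I ∘ₗ c.symm.toLinearMap
  have hu : Function.Surjective u :=
    (LinearMap.rTensor_surjective I hπ).comp c.symm.surjective
  have hex := rTensor_exact I hexact hπ
  have hsmall : ∀ t : R ⊗[R] I, c ((idealMul I).rTensor I t) = ((TensorProduct.lid R I t : I) : R) := fun t => by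
    induction t using TensorProduct.induction_on with
    | zero => simp
    | tmul r i =>
      rw [LinearMap.rTensor_tmul, TensorProduct.lid_tmul]
      exact idealMul_apply I r i
    | add a b ha hb => rw [map_add, map_add, map_add, ha, hb]; rfl
  have hker : LinearMap.ker u = LinearMap.ker (Algebra.linearMap R A) := by
    ext x
    rw [LinearMap.mem_ker, LinearMap.mem_ker, Algebra.linearMap_apply]
    constructor
    · intro hx
      obtain ⟨t, ht⟩ := (hex (c.symm x)).1 hx
      have : x = ((TensorProduct.lid R I t : I) : R) := by rw [← hsmall, ht, c.apply_symm_apply]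
      rw [this]
      exact (TensorProduct.lid R I t).2
    · intro hx
      refine (hex (c.symm x)).2 ⟨(1 : R) ⊗ₜ (⟨x, hx⟩ : I), ?_⟩
      apply c.injective
      rw [hsmall, TensorProduct.lid_tmul, one_smul, c.apply_symm_apply]
  let α : (H ⊗[R] I) ≃ₗ[R] A := (u.quotKerEquivOfSurjective hu).symm ≪≫ₗ
    Submodule.quotEquivOfEq _ _ hker ≪≫ₗ (Algebra.linearMap R A).quotKerEquivOfSurjective hφ
  let α' : (H ⊗[R] I) ≃ₗ[A] A :=
    { α.toAddEquiv with
      map_smul' := fun a x => by
        obtain ⟨r, rfl⟩ := hφ a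
        show α (algebraMap R A r • x) = algebraMap R A r • α x
        rw [algebraMap_smul, algebraMap_smul, map_smul] }
  let β : (H ⊗[A] P) ≃ₗ[A] A := TensorProduct.AlgebraTensorModule.cancelBaseChange R A A H I ≪≫ₗ α'
  exact ⟨(TensorProduct.rid A H).symm ≪≫ₗ TensorProduct.congr (LinearEquiv.refl A H) e.symm ≪≫ₗ
    (TensorProduct.assoc A H P N).symm ≪≫ₗ TensorProduct.congr β (LinearEquiv.refl A N) ≪≫ₗ
      TensorProduct.lid A N⟩

end Alg

section Ker

variable {R A : Type u} [CommRing R] [CommRing A] [Algebra R A]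

/-- The sequence `0 → I → R → A → 0`. -/
noncomputable abbrev kerSeq : ShortComplex (ModuleCat.{u} R) :=
  ShortComplex.mk
    (X₁ := ModuleCat.of R (RingHom.ker (algebraMap R A))) (X₂ := ModuleCat.of R R)
    (X₃ := (ModuleCat.restrictScalars.{u} (algebraMap R A)).obj (ModuleCat.of A A))
    (ModuleCat.ofHom (Submodule.subtype (RingHom.ker (algebraMap R A))))
    (ModuleCat.ofHom
      (Y := (ModuleCat.restrictScalars.{u} (algebraMap R A)).obj (ModuleCat.of A A))
      { toFun := fun r => (algebraMap R A r : A)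
        map_add' := map_add _
        map_smul' := fun r s => map_mul (algebraMap R A) r s })
    (ModuleCat.hom_ext (LinearMap.ext fun (x : RingHom.ker (algebraMap R A)) =>
      show algebraMap R A (x : R) = 0 from RingHom.mem_ker.1 x.2))

lemma shortExact_kerSeq (hφ : Function.Surjective (algebraMap R A)) : (kerSeq (R := R) (A := A)).ShortExact where
  exact := (ShortComplex.moduleCat_exact_iff _).2 fun (x : R) (hx : algebraMap R A x = 0) =>
    ⟨(⟨x, RingHom.mem_ker.2 hx⟩ : RingHom.ker (algebraMap R A)), rfl⟩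
  mono_f := (ModuleCat.mono_iff_injective _).2 fun (a b : RingHom.ker (algebraMap R A)) (h : (a : R) = b) => Subtype.ext h
  epi_g := (ModuleCat.epi_iff_surjective _).2 fun (a : A) => hφ a

variable [Module.Invertible R (RingHom.ker (algebraMap R A))]

/-- `A` is perfect over `R`. -/
lemma isPerfect_restrict_unit (hφ : Function.Surjective (algebraMap R A)) :
    DRing.IsPerfect R ((DRing.restrictD (algebraMap R A)).obj (DTen.unit A)) := by
  refine DRingLib.perfect_of_iso ?_ (DRingLib.perfect_cone (shortExact_kerSeq hφ).singleTriangle_distinguished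
    (perfect_projective (ModuleCat.of R (RingHom.ker (algebraMap R A))))
    (perfect_projective (ModuleCat.of R R)))
  exact (((ModuleCat.restrictScalars.{u} (algebraMap R A)).mapDerivedCategorySingleFunctor 0).app (ModuleCat.of A A)).symm ≪≫
    (DRing.restrictD (algebraMap R A)).mapIso ((DerivedCategory.singleFunctorIsoCompQ (ModuleCat.{u} A) 0).app _)

variable [DTen.HasRHomRel (algebraMap R A)]

/-- `RHom(A, R) ≅ N[-1]`. -/
theorem nonempty_RHomRel_unit_iso (hφ : Function.Surjective (algebraMap R A))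
    (N : Type u) [AddCommGroup N] [Module A N]
    (e : (A ⊗[R] (RingHom.ker (algebraMap R A))) ⊗[A] N ≃ₗ[A] A) :
    Nonempty ((DTen.RHomRel (algebraMap R A)).obj (DTen.unit R) ≅ (Dual.inD A N)⟦(-1 : ℤ)⟧) := by
  let φ := algebraMap R A
  let S := kerSeq (R := R) (A := A)
  have hS := shortExact_kerSeq (R := R) (A := A) hφ
  have hT := hS.singleTriangle_distinguished
  let R0 := Dual.inD R R
  let u0 : R0 ≅ DTen.unit R := (DerivedCategory.singleFunctorIsoCompQ (ModuleCat.{u} R) 0).app (ModuleCat.of R R)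
  let G := DTen.RHomRel φ
  let adj := DTen.relAdj φ
  letI := adj.rightAdjointCommShift ℤ
  haveI : adj.CommShift ℤ := adj.commShift_of_leftAdjoint ℤ
  haveI : G.IsTriangulated := adj.isTriangulated_rightAdjoint
  let σ : (DRing.restrictD φ).obj (Dual.inD A A) ≅ (DerivedCategory.singleFunctor (ModuleCat.{u} R) 0).obj S.X₃ :=
    ((ModuleCat.restrictScalars.{u} φ).mapDerivedCategorySingleFunctor 0).app (ModuleCat.of A A)
  haveI : Projective (ModuleCat.of R R) := (IsProjective.iff_projective (R := R) R).1 inferInstance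
  haveI : Projective (ModuleCat.of R (RingHom.ker (algebraMap R A))) :=
    (IsProjective.iff_projective (R := R) (RingHom.ker (algebraMap R A))).1 inferInstance
  have hvanish : ∀ k : ℤ, k ≠ 1 →
      ∀ x : (DerivedCategory.singleFunctor (ModuleCat.{u} R) 0).obj S.X₃ ⟶ R0⟦k⟧, x = 0 := fun k hk x => by
    by_cases hk0 : k = 0
    · subst hk0
      obtain ⟨m, hm⟩ := (DerivedCategory.singleFunctor (ModuleCat.{u} R) 0).map_surjective
        (x ≫ (shiftFunctorZero (Dual.D R) ℤ).hom.app R0)
      rw [← cancel_mono ((shiftFunctorZero (Dual.D R) ℤ).hom.app R0), zero_comp, ← hm]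
      suffices m = 0 by rw [this, Functor.map_zero]
      refine ModuleCat.hom_ext (LinearMap.ext fun (a : A) => ?_)
      refine eq_zero_of_mul_invertible (RingHom.ker (algebraMap R A)) fun i => ?_
      show ((i : R) • m.hom a : R) = 0
      rw [← map_smul]
      show m.hom ((φ i : A) * a : A) = 0
      rw [show φ (i : R) = 0 from RingHom.mem_ker.1 i.2, zero_mul]
      exact map_zero _
    · obtain ⟨z, hz⟩ := Triangle.yoneda_exact₃ _ hT x (hom_single_shift_zero _ _ k hk0 _)
      rw [hz, hom_shift_single_zero _ _ 1 k hk z]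
      exact comp_zero
  have hconc : ∀ n : ℤ, n ≠ 1 → ∀ f : (Dual.inD A A)⟦-n⟧ ⟶ G.obj (DTen.unit R), f = 0 := fun n hn f => by
    apply (adj.homEquiv _ _).symm.injective
    rw [show (adj.homEquiv _ _).symm (0 : (Dual.inD A A)⟦-n⟧ ⟶ G.obj (DTen.unit R)) = 0 by
      rw [Adjunction.homEquiv_counit, Functor.map_zero, zero_comp]]
    let θ : ((DerivedCategory.singleFunctor (ModuleCat.{u} R) 0).obj S.X₃)⟦-n⟧ ≅
        (DRing.restrictD φ).obj ((Dual.inD A A)⟦-n⟧) :=
      (shiftFunctor (Dual.D R) (-n)).mapIso σ.symm ≪≫ (((DRing.restrictD φ).commShiftIso (-n)).app _).symm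
    let w : R0 ≅ (R0⟦n⟧)⟦-n⟧ := ((shiftFunctorCompIsoId (Dual.D R) n (-n) (by omega)).app R0).symm
    obtain ⟨g, hg⟩ := (shiftFunctor (Dual.D R) (-n)).map_surjective
      (θ.hom ≫ (adj.homEquiv _ _).symm f ≫ u0.inv ≫ w.hom)
    rw [← cancel_epi θ.hom, ← cancel_mono (u0.inv ≫ w.hom), comp_zero, zero_comp, Category.assoc, ← hg,
      hvanish n hn g, Functor.map_zero]
  obtain ⟨_, _⟩ := concentrated_of_hom_zero _ 1 hconc
  obtain ⟨H, ⟨eH⟩⟩ := DerivedCategory.exists_iso_singleFunctor_obj_of_isGE_of_isLE (G.obj (DTen.unit R)) 1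
  let w : G.obj (R0⟦(1 : ℤ)⟧) ≅ (DerivedCategory.singleFunctor (ModuleCat.{u} A) 0).obj H :=
    (G.commShiftIso (1 : ℤ)).app R0 ≪≫ (shiftFunctor (Dual.D A) (1 : ℤ)).mapIso (G.mapIso u0 ≪≫ eH) ≪≫
      ((DerivedCategory.singleFunctors (ModuleCat.{u} A)).shiftIso 1 0 1 (by omega)).app H
  let sp : H → (ModuleCat.of A A ⟶ H) := fun h => ModuleCat.ofHom (LinearMap.toSpanSingleton A H h)
  let T : H → ((DerivedCategory.singleFunctor (ModuleCat.{u} R) 0).obj S.X₃ ⟶ R0⟦(1 : ℤ)⟧) := fun h =>
    σ.inv ≫ (adj.homEquiv _ _).symm ((DerivedCategory.singleFunctor (ModuleCat.{u} A) 0).map (sp h) ≫ w.inv)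
  have hTadd : ∀ h h' : H, T (h + h') = T h + T h' := fun h h' => by
    have : sp (h + h') = sp h + sp h' := ModuleCat.hom_ext (LinearMap.ext fun a => smul_add a h h')
    simp only [T, this, Functor.map_add, Preadditive.add_comp, Adjunction.homEquiv_counit, Preadditive.comp_add]
  have hTbij : Function.Bijective T := by
    constructor
    · intro h h' hh
      have h1 := (adj.homEquiv _ _).symm.injective ((cancel_epi σ.inv).1 hh)
      have h2 := (DerivedCategory.singleFunctor (ModuleCat.{u} A) 0).map_injective ((cancel_mono w.inv).1 h1)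
      simpa [sp] using ConcreteCategory.congr_hom h2 (1 : A)
    · intro x
      obtain ⟨g, hg⟩ := (DerivedCategory.singleFunctor (ModuleCat.{u} A) 0).map_surjective
        (adj.homEquiv _ _ (σ.hom ≫ x) ≫ w.hom)
      refine ⟨g.hom (1 : A), ?_⟩
      have : sp (g.hom (1 : A)) = g := ModuleCat.hom_ext (LinearMap.ext_ring (one_smul A _))
      simp only [T, this, hg, Category.assoc, Iso.hom_inv_id, Category.comp_id, Equiv.symm_apply_apply,
        Iso.inv_hom_id_assoc]
  letI : Module R H := Module.compHom H φ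
  haveI : IsScalarTower R A H := ⟨fun r a h => by
    rw [Algebra.smul_def, mul_smul]; rfl⟩
  have hTsmul : ∀ (r : R) (h : H), T (r • h) = r • T h := fun r h => by
    have e1 : sp (r • h) = ModuleCat.ofHom ((φ r) • LinearMap.id) ≫ sp h := ModuleCat.hom_ext (LinearMap.ext fun a => by
      show a • (φ r • h) = (φ r • a : A) • h
      rw [smul_eq_mul, mul_smul, smul_comm])
    have e2 : σ.inv ≫ (DRing.restrictD φ).map ((DerivedCategory.singleFunctor (ModuleCat.{u} A) 0).map
        (ModuleCat.ofHom ((φ r) • LinearMap.id) : ModuleCat.of A A ⟶ ModuleCat.of A A)) =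
        (r • 𝟙 _) ≫ σ.inv := by
      have hn := ((ModuleCat.restrictScalars.{u} φ).mapDerivedCategorySingleFunctor 0).inv.naturality
        (ModuleCat.ofHom ((φ r) • LinearMap.id) : ModuleCat.of A A ⟶ ModuleCat.of A A)
      have he : (ModuleCat.restrictScalars.{u} φ).map
          (ModuleCat.ofHom ((φ r) • LinearMap.id) : ModuleCat.of A A ⟶ ModuleCat.of A A) = r • 𝟙 _ := by
        ext a; rfl
      dsimp at hn
      rw [he, Functor.map_smul, CategoryTheory.Functor.map_id] at hn
      exact hn.symm
    simp only [T, e1, Functor.map_comp, Category.assoc, Adjunction.homEquiv_counit]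
    erw [reassoc_of% e2]
    rw [Linear.smul_comp, Category.id_comp]
  let Te : H ≃ ((DerivedCategory.singleFunctor (ModuleCat.{u} R) 0).obj S.X₃ ⟶ R0⟦(1 : ℤ)⟧) := Equiv.ofBijective T hTbij
  let D : Module.Dual R (RingHom.ker (algebraMap R A)) →
      ((DerivedCategory.singleFunctor (ModuleCat.{u} R) 0).obj S.X₃ ⟶ R0⟦(1 : ℤ)⟧) := fun ψ =>
    hS.singleδ ≫ ((DerivedCategory.singleFunctor (ModuleCat.{u} R) 0).map
      (ModuleCat.ofHom ψ : S.X₁ ⟶ ModuleCat.of R R))⟦(1 : ℤ)⟧'
  have hDadd : ∀ ψ ψ', D (ψ + ψ') = D ψ + D ψ' := fun ψ ψ' => by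
    simp only [D, ModuleCat.ofHom_add, Functor.map_add, Preadditive.comp_add]
  have hDsmul : ∀ (r : R) ψ, D (r • ψ) = r • D ψ := fun r ψ => by
    have : (ModuleCat.ofHom (r • ψ) : S.X₁ ⟶ ModuleCat.of R R) = r • ModuleCat.ofHom ψ := rfl
    simp only [D, this, Functor.map_smul, Linear.comp_smul]
  let π : Module.Dual R (RingHom.ker (algebraMap R A)) →ₗ[R] H :=
    { toFun := fun ψ => Te.symm (D ψ)
      map_add' := fun ψ ψ' => by
        apply hTbij.1
        rw [hTadd]
        show Te (Te.symm _) = Te (Te.symm _) + Te (Te.symm _)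
        simp only [Equiv.apply_symm_apply, hDadd]
      map_smul' := fun r ψ => by
        apply hTbij.1
        rw [RingHom.id_apply, hTsmul]
        show Te (Te.symm _) = r • Te (Te.symm _)
        simp only [Equiv.apply_symm_apply, hDsmul] }
  have hT0 : T 0 = 0 := by simpa using hTadd 0 0
  have hπ : Function.Surjective π := fun h => by
    obtain ⟨z, hz⟩ := Triangle.yoneda_exact₃ _ hT (T h) (hom_single_shift_zero _ _ 1 one_ne_zero _)
    obtain ⟨z', rfl⟩ := (shiftFunctor (Dual.D R) (1 : ℤ)).map_surjective z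
    obtain ⟨m, rfl⟩ := (DerivedCategory.singleFunctor (ModuleCat.{u} R) 0).map_surjective z'
    refine ⟨m.hom, hTbij.1 ?_⟩
    show Te (Te.symm (D m.hom)) = T h
    rw [Equiv.apply_symm_apply, hz]
    rfl
  have hexact : Function.Exact (idealMul (RingHom.ker (algebraMap R A))) π := fun ψ => by
    have hiff : π ψ = 0 ↔ D ψ = 0 := by
      refine ⟨fun h => ?_, fun h => hTbij.1 ?_⟩
      · have h' : Te (Te.symm (D ψ)) = Te 0 := congrArg Te h
        rw [Equiv.apply_symm_apply] at h'
        exact h'.trans hT0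
      · show Te (Te.symm (D ψ)) = T 0
        rw [Equiv.apply_symm_apply, h, hT0]
    rw [hiff]
    constructor
    · intro h
      obtain ⟨y, hy⟩ := Triangle.yoneda_exact₃ _ (rot_of_distTriang _ hT)
        (((DerivedCategory.singleFunctor (ModuleCat.{u} R) 0).map
          (ModuleCat.ofHom ψ : S.X₁ ⟶ ModuleCat.of R R))⟦(1 : ℤ)⟧') h
      obtain ⟨y', rfl⟩ := (shiftFunctor (Dual.D R) (1 : ℤ)).map_surjective y
      obtain ⟨m, rfl⟩ := (DerivedCategory.singleFunctor (ModuleCat.{u} R) 0).map_surjective y'
      have hy' : (ModuleCat.ofHom ψ : S.X₁ ⟶ ModuleCat.of R R) = -(S.f ≫ m) := by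
        apply (DerivedCategory.singleFunctor (ModuleCat.{u} R) 0).map_injective
        apply (shiftFunctor (Dual.D R) (1 : ℤ)).map_injective
        rw [hy]
        simp [S]
      refine ⟨-(m.hom (1 : R)), LinearMap.ext fun i => ?_⟩
      rw [idealMul_apply]
      have h2 : ψ i = -(m.hom (i : R)) := ConcreteCategory.congr_hom hy' i
      have h3 : m.hom ((i : R) • (1 : R)) = (i : R) • m.hom (1 : R) := map_smul m.hom (i : R) (1 : R)
      rw [smul_eq_mul, mul_one] at h3
      refine Eq.trans ?_ h2.symm
      rw [h3]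
      show -(m.hom (1 : R) : R) * (i : R) = -((i : R) * (m.hom (1 : R) : R))
      ring
    · rintro ⟨r, rfl⟩
      have hr : (ModuleCat.ofHom (idealMul (RingHom.ker (algebraMap R A)) r) : S.X₁ ⟶ ModuleCat.of R R) =
          S.f ≫ ModuleCat.ofHom (r • LinearMap.id) := ModuleCat.hom_ext (LinearMap.ext fun i => rfl)
      show hS.singleδ ≫ _ = 0
      rw [hr, Functor.map_comp, Functor.map_comp]
      have h31 := comp_distTriang_mor_zero₃₁ _ hT
      dsimp at h31
      rw [← Category.assoc]
      erw [h31]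
      exact zero_comp
  obtain ⟨eN⟩ := nonempty_inverse hφ N e H π hπ hexact
  exact ⟨eH ≪≫ (((DerivedCategory.singleFunctors (ModuleCat.{u} A)).shiftIso (-1) 1 0 (by omega)).app H).symm ≪≫
    (shiftFunctor (Dual.D A) (-1 : ℤ)).mapIso
      ((DerivedCategory.singleFunctor (ModuleCat.{u} A) 0).mapIso eN.toModuleIso)⟩

/-- `RHom(A, -) ≅ - ⊗^L_R N[-1]`. -/
theorem nonempty_RHomRel_iso_invertible [DTen.HasLTenMix (algebraMap R A)]
    (hφ : Function.Surjective (algebraMap R A))
    (N : Type u) [AddCommGroup N] [Module A N]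
    (e : (A ⊗[R] (RingHom.ker (algebraMap R A))) ⊗[A] N ≃ₗ[A] A) :
    Nonempty (DTen.RHomRel (algebraMap R A) ≅
      (Functor.curry.obj (DTen.LTenMix (algebraMap R A))).flip.obj ((Dual.inD A N)⟦(-1 : ℤ)⟧)) := by
  obtain ⟨i⟩ := nonempty_RHomRel_iso (algebraMap R A) (isPerfect_restrict_unit hφ)
  obtain ⟨j⟩ := nonempty_RHomRel_unit_iso hφ N e
  exact ⟨i ≪≫ (Functor.curry.obj (DTen.LTenMix (algebraMap R A))).flip.mapIso j⟩

end Ker

end Groth.Agent.DQCoh
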