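import Groth.Agent.DQCoh.MixIso
import Groth.Agent.DCat.DTenHom
import Groth.Agent.DCat.DTenEval
import Groth.Agent.DCat.CompactStd
import Groth.Agent.DCat.RHomExist
import Groth.Agent.DRingLib.PCRestrict

/-! `RHom(A, -) ≅ - ⊗^L_R RHom(A, R)` for `A` perfect over `R`. -/

set_option autoImplicit false
set_option backward.isDefEq.respectTransparency false
set_option backward.defeqAttrib.useBackward true
set_option linter.style.haveILetI false

universe u

open CategoryTheory CategoryTheory.Limits MonoidalCategory HomologicalComplex CategoryTheory.Pretriangulated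
attribute [local instance] HasDerivedCategory.standard

namespace Groth.Agent.DQCoh

open DCat

variable {R A : Type u} [CommRing R] [CommRing A] (φ : R →+* A) [DTen.HasLTenMix φ]

/-- `- ⊗^L_R Q N`. -/
noncomputable abbrev mixF (N : DRing.Cx A) : Dual.D R ⥤ Dual.D A :=
  (Functor.curry.obj (DTen.LTenMix φ)).flip.obj (DerivedCategory.Q.obj N)

/-- The counit of `LTensorCx`. -/
noncomputable abbrev lcounit (E : DRing.Cx R) [DRing.HasLTensorCx R E] :
    DerivedCategory.Q ⋙ DRing.LTensorCx R E ⟶ DRing.tensorCxQ R E :=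
  (DRing.tensorCxQ R E).totalLeftDerivedCounit DerivedCategory.Q
    (HomologicalComplex.quasiIso (ModuleCat.{u} R) (ComplexShape.up ℤ))

/-- `(Q K ⊗^L_R Q N)|_R ⟶ Q (K ⊗ E)` along `N|_R ⟶ E`. -/
noncomputable def mixToTensor (N : DRing.Cx A) {E : DRing.Cx R} (v : (DTen.resCx φ).obj N ⟶ E) :
    DerivedCategory.Q ⋙ (mixF φ N ⋙ DRing.restrictD φ) ⟶ DRing.tensorCxQ R E where
  app K := (DRing.restrictD φ).map ((DTen.εMix φ).app (K, N)) ≫
    (DTen.resFactors φ).hom.app ((DTen.extCx φ).obj K ⊗ N) ≫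
      DerivedCategory.Q.map ((mixIso φ K N).hom ≫ (K ◁ v))
  naturality K K' f := by
    have e1 := (DTen.εMix φ).naturality (Prod.mkHom f (𝟙 N) : (K, N) ⟶ (K', N))
    have e2 := (DTen.resFactors φ).hom.naturality ((DTen.extCx φ).map f ⊗ₘ 𝟙 N)
    have e3 := mixIso_natural φ f (𝟙 N)
    dsimp at e1 e2 ⊢
    simp only [CategoryTheory.Functor.map_id, MonoidalCategory.tensorHom_id, MonoidalCategory.whiskerLeft_id,
      Category.comp_id] at e1 e2 e3
    rw [← Category.assoc, ← Functor.map_comp]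
    erw [e1]
    rw [Functor.map_comp]
    simp only [Category.assoc]
    erw [reassoc_of% e2]
    congr 2
    rw [← Functor.map_comp, ← Functor.map_comp, reassoc_of% e3, ← MonoidalCategory.whisker_exchange]
    simp only [Category.assoc]

/-- The comparison with `- ⊗^L E`. -/
noncomputable def mixLift (N : DRing.Cx A) {E : DRing.Cx R} [DRing.HasLTensorCx R E]
    (v : (DTen.resCx φ).obj N ⟶ E) : mixF φ N ⋙ DRing.restrictD φ ⟶ DRing.LTensorCx R E :=
  (DRing.LTensorCx R E).leftDerivedLift (lcounit E)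
    (HomologicalComplex.quasiIso (ModuleCat.{u} R) (ComplexShape.up ℤ)) _ (mixToTensor φ N v)

lemma mixLift_fac (N : DRing.Cx A) {E : DRing.Cx R} [DRing.HasLTensorCx R E]
    (v : (DTen.resCx φ).obj N ⟶ E) (K : DRing.Cx R) :
    (mixLift φ N v).app (DerivedCategory.Q.obj K) ≫ (lcounit E).app K = (mixToTensor φ N v).app K :=
  (DRing.LTensorCx R E).leftDerived_fac_app (lcounit E) _ _ (mixToTensor φ N v) K

/-- A comparison iso on K-flat complexes is an iso. -/
lemma isIso_of_isIso_kflat {F G : Dual.D R ⥤ Dual.D R} (τ : F ⟶ G)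
    (h : ∀ K : DRing.Cx R, IsKFlatFor (modT R) K → IsIso (τ.app (DerivedCategory.Q.obj K))) : IsIso τ := by
  haveI : ∀ X, IsIso (τ.app X) := fun X => by
    obtain ⟨K, hK, ⟨e⟩⟩ := exists_kflat_obj X
    exact (NatTrans.isIso_app_iff_of_iso τ e).1 (h K hK)
  exact NatIso.isIso_of_isIso_app _

lemma isIso_mixLift {N : DRing.Cx A} (hN : IsKFlatFor (modT A) N) {E : DRing.Cx R} [DRing.HasLTensorCx R E]
    (v : (DTen.resCx φ).obj N ⟶ E) (hv : ∀ K : DRing.Cx R, IsKFlatFor (modT R) K → IsIso (DerivedCategory.Q.map (K ◁ v))) :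
    IsIso (mixLift φ N v) := by
  refine isIso_of_isIso_kflat _ fun K hK => ?_
  haveI := isIso_ltensorCx_counit E hK
  haveI := hv K hK
  haveI := isIso_εMix_of_kflat φ hK hN
  haveI : IsIso ((mixToTensor φ N v).app K) := by
    show IsIso ((DRing.restrictD φ).map ((DTen.εMix φ).app (K, N)) ≫
      (DTen.resFactors φ).hom.app ((DTen.extCx φ).obj K ⊗ N) ≫
        DerivedCategory.Q.map ((mixIso φ K N).hom ≫ (K ◁ v)))
    rw [Functor.map_comp]
    infer_instance
  exact IsIso.of_isIso_fac_right (mixLift_fac φ N v K)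

lemma isIso_Q_whisker_kflat {K X Y : DRing.Cx R} (hK : IsKFlatFor (modT R) K) (f : X ⟶ Y) [QuasiIso f] :
    IsIso (DerivedCategory.Q.map (K ◁ f)) := by
  haveI := DCat.hasLTen R
  haveI := quasiIso_whiskerRight hK f
  exact isIso_Q_whiskerLeft_of_iso (K := K) f (isIso_Q_map_of_qis (f ▷ K))

/-- `Q K ⟶ Q (K ⊗ I)` along `R[0] ⟶ I`. -/
noncomputable def unitToTensor {I : DRing.Cx R} (ι : 𝟙_ (DRing.Cx R) ⟶ I) :
    DerivedCategory.Q ⋙ 𝟭 (Dual.D R) ⟶ DRing.tensorCxQ R I where
  app K := DerivedCategory.Q.map ((ρ_ K).inv ≫ (K ◁ ι))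
  naturality K K' f := by
    dsimp
    rw [← Functor.map_comp, ← Functor.map_comp]
    congr 1
    rw [MonoidalCategory.rightUnitor_inv_naturality_assoc, ← MonoidalCategory.whisker_exchange, Category.assoc]

/-- The comparison `𝟭 ⟶ - ⊗^L I`. -/
noncomputable def unitLift {I : DRing.Cx R} [DRing.HasLTensorCx R I] (ι : 𝟙_ (DRing.Cx R) ⟶ I) :
    𝟭 (Dual.D R) ⟶ DRing.LTensorCx R I :=
  (DRing.LTensorCx R I).leftDerivedLift (lcounit I)
    (HomologicalComplex.quasiIso (ModuleCat.{u} R) (ComplexShape.up ℤ)) _ (unitToTensor ι)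

lemma unitLift_fac {I : DRing.Cx R} [DRing.HasLTensorCx R I] (ι : 𝟙_ (DRing.Cx R) ⟶ I) (K : DRing.Cx R) :
    (unitLift ι).app (DerivedCategory.Q.obj K) ≫ (lcounit I).app K = (unitToTensor ι).app K :=
  (DRing.LTensorCx R I).leftDerived_fac_app (lcounit I) _ _ (unitToTensor ι) K

lemma isIso_unitLift {I : DRing.Cx R} [DRing.HasLTensorCx R I] (ι : 𝟙_ (DRing.Cx R) ⟶ I) [QuasiIso ι] :
    IsIso (unitLift ι) := by
  refine isIso_of_isIso_kflat _ fun K hK => ?_
  haveI := isIso_ltensorCx_counit I hK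
  haveI := isIso_Q_whisker_kflat hK ι
  haveI : IsIso ((unitToTensor ι).app K) := by
    show IsIso (DerivedCategory.Q.map ((ρ_ K).inv ≫ (K ◁ ι)))
    rw [Functor.map_comp]
    infer_instance
  exact IsIso.of_isIso_fac_right (unitLift_fac ι K)

lemma isKFlat_unit_shift (m : ℤ) : IsKFlatFor (modT R) ((𝟙_ (DRing.Cx R))⟦m⟧) :=
  haveI := DCat.hasLTen R
  (isKFlatFor_unitShift (A := R) 0).shift m

/-- The evaluation map at a translate of `R[0]`, computed. -/
lemma theta_shift_fac [DTen.HasRHomRel φ] {N : DRing.Cx A} (m : ℤ)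
    {I : DRing.Cx R} (ι : 𝟙_ (DRing.Cx R) ⟶ I) (v : (DTen.resCx φ).obj N ⟶ I)
    (e : DerivedCategory.Q.obj N ≅ (DTen.RHomRel φ).obj (DTen.unit R))
    (hv : DerivedCategory.Q.map v = (DTen.resFactors φ).inv.app N ≫ (DRing.restrictD φ).map e.hom ≫
      DTen.relEv φ (DTen.unit R) ≫ DerivedCategory.Q.map ι) :
    (DRing.restrictD φ).map ((DTen.εMix φ).app ((𝟙_ (DRing.Cx R))⟦m⟧, N) ≫
        DerivedCategory.Q.map (mixShift φ m N).hom ≫ (DerivedCategory.Q.commShiftIso m).hom.app N ≫ e.hom⟦m⟧') ≫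
      ((DRing.restrictD φ).commShiftIso m).hom.app _ ≫ (DTen.relEv φ (DTen.unit R))⟦m⟧' ≫
        (DerivedCategory.Q.commShiftIso m).inv.app (𝟙_ (DRing.Cx R)) ≫
          DerivedCategory.Q.map ((shiftUnit m (𝟙_ (DRing.Cx R))).inv ≫ (ρ_ _).hom) ≫
            (unitToTensor ι).app ((𝟙_ (DRing.Cx R))⟦m⟧) =
      (mixToTensor φ N v).app ((𝟙_ (DRing.Cx R))⟦m⟧) := by
  dsimp only [unitToTensor, mixToTensor]
  simp only [Functor.map_comp, Category.assoc]
  congr 1
  have hσι : ((𝟙_ (DRing.Cx R))⟦m⟧ ◁ ι) = (shiftUnit m (𝟙_ (DRing.Cx R))).hom ≫ ι⟦m⟧' ≫ (shiftUnit m I).inv := by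
    rw [← Category.assoc, ← shiftUnit_natural m ι, Category.assoc, Iso.hom_inv_id, Category.comp_id]
  have hσv : ((𝟙_ (DRing.Cx R))⟦m⟧ ◁ v) = (shiftUnit m ((DTen.resCx φ).obj N)).hom ≫ v⟦m⟧' ≫ (shiftUnit m I).inv := by
    rw [← Category.assoc, ← shiftUnit_natural m v, Category.assoc, Iso.hom_inv_id, Category.comp_id]
  have hmix : (mixIso φ ((𝟙_ (DRing.Cx R))⟦m⟧) N).hom ≫ (shiftUnit m ((DTen.resCx φ).obj N)).hom =
      (DTen.resCx φ).map (mixShift φ m N).hom ≫ ((DTen.resCx φ).commShiftIso m).hom.app N := by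
    rw [map_mixShift]
    simp only [resMixShift, Iso.trans_hom, Iso.symm_hom, Iso.app_inv, Category.assoc, Iso.inv_hom_id_app]
    exact congrArg (_ ≫ ·) (Category.comp_id _).symm
  have hshift : (DerivedCategory.Q.map v)⟦m⟧' =
      ((DTen.resFactors φ).inv.app N)⟦m⟧' ≫ ((DRing.restrictD φ).map e.hom)⟦m⟧' ≫
        (DTen.relEv φ (DTen.unit R))⟦m⟧' ≫ (DerivedCategory.Q.map ι)⟦m⟧' := by
    rw [hv]
    simp only [Functor.map_comp]
  have hfac : (DRing.restrictD φ).map ((DerivedCategory.Q.commShiftIso m).hom.app N) ≫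
      ((DRing.restrictD φ).commShiftIso m).hom.app (DerivedCategory.Q.obj N) ≫ ((DTen.resFactors φ).hom.app N)⟦m⟧' =
      (DTen.resFactors φ).hom.app (N⟦m⟧) ≫ DerivedCategory.Q.map (((DTen.resCx φ).commShiftIso m).hom.app N) ≫
        (DerivedCategory.Q.commShiftIso m).hom.app ((DTen.resCx φ).obj N) := by
    have h := NatTrans.shift_app_comm (DTen.resFactors φ).hom m N
    simp only [Functor.commShiftIso_comp_hom_app, Category.assoc] at h
    exact h
  have key : ((DRing.restrictD φ).commShiftIso m).hom.app (DerivedCategory.Q.obj N) ≫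
      ((DTen.resFactors φ).hom.app N)⟦m⟧' ≫ (DerivedCategory.Q.map v)⟦m⟧' =
      (DRing.restrictD φ).map (e.hom⟦m⟧') ≫ ((DRing.restrictD φ).commShiftIso m).hom.app _ ≫
        (DTen.relEv φ (DTen.unit R))⟦m⟧' ≫ (DerivedCategory.Q.map ι)⟦m⟧' := by
    rw [hshift, ← (shiftFunctor (Dual.D R) m).map_comp_assoc, Iso.hom_inv_id_app]
    erw [CategoryTheory.Functor.map_id]
    rw [Category.id_comp]
    exact ((reassoc_of% ((DRing.restrictD φ).commShiftIso m).hom.naturality e.hom) _).symm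
  have hnatι : (DerivedCategory.Q.commShiftIso m).inv.app (𝟙_ (DRing.Cx R)) ≫ DerivedCategory.Q.map (ι⟦m⟧') =
      (DerivedCategory.Q.map ι)⟦m⟧' ≫ (DerivedCategory.Q.commShiftIso m).inv.app I :=
    ((DerivedCategory.Q.commShiftIso m).inv.naturality ι).symm
  have hnatv : (DerivedCategory.Q.commShiftIso m).hom.app ((DTen.resCx φ).obj N) ≫ (DerivedCategory.Q.map v)⟦m⟧' ≫
      (DerivedCategory.Q.commShiftIso m).inv.app I = DerivedCategory.Q.map (v⟦m⟧') := by
    have h := (DerivedCategory.Q.commShiftIso m).hom.naturality v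
    dsimp at h
    rw [← reassoc_of% h, Iso.hom_inv_id_app]
    exact Category.comp_id _
  have hfacnat := (DTen.resFactors φ).hom.naturality (mixShift φ m N).hom
  dsimp at hfacnat
  have hQ : DerivedCategory.Q.map ((shiftUnit m (𝟙_ (DRing.Cx R))).inv) ≫
      DerivedCategory.Q.map ((ρ_ ((𝟙_ (DRing.Cx R))⟦m⟧)).hom) ≫
      DerivedCategory.Q.map ((ρ_ ((𝟙_ (DRing.Cx R))⟦m⟧)).inv) ≫
      DerivedCategory.Q.map ((𝟙_ (DRing.Cx R))⟦m⟧ ◁ ι) =
      DerivedCategory.Q.map (ι⟦m⟧') ≫ DerivedCategory.Q.map (shiftUnit m I).inv := by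
    simp only [← Functor.map_comp, hσι, Iso.hom_inv_id_assoc, Iso.inv_hom_id_assoc]
  erw [hQ]
  rw [reassoc_of% hnatι, ← reassoc_of% key, reassoc_of% hfac, reassoc_of% hnatv]
  erw [reassoc_of% hfacnat]
  congr 1
  rw [hσv]
  simp only [← Functor.map_comp, Category.assoc]
  rw [reassoc_of% hmix]

/-- An object of `D(A)` without maps from the translates of `A` is zero. -/
lemma isZero_of_gen (Z : Dual.D A) (h : ∀ (n : ℤ) (f : DerivedCategory.Q.obj (ringCx A n) ⟶ Z), f = 0) :
    IsZero Z := by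
  haveI := isEquivalence_cmpD A
  refine IsZero.of_iso ((cmpD A).map_isZero ?_) ((cmpD A).objObjPreimageIso Z).symm
  refine @isZero_of_forall_ringCx A _ (smallD A) _ fun n f => (cmpD A).map_injective ?_
  rw [Functor.map_zero, ← cancel_epi ((cmpDIso A).inv.app (ringCx A n)),
    ← cancel_mono ((cmpD A).objObjPreimageIso Z).hom, comp_zero, zero_comp]
  exact h n _

/-- Restriction reflects isomorphisms. -/
lemma isIso_of_restrict {X Y : Dual.D A} (f : X ⟶ Y) (hf : IsIso ((DRing.restrictD φ).map f)) : IsIso f := by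
  obtain ⟨Z, g, h, hT⟩ := Pretriangulated.distinguished_cocone_triangle f
  refine (Triangle.isZero₃_iff_isIso₁ _ hT).1 ?_
  have hZ : IsZero ((DRing.restrictD φ).obj Z) :=
    (Triangle.isZero₃_iff_isIso₁ _ ((DRing.restrictD φ).map_distinguished _ hT)).2 hf
  have hH : ∀ i, IsZero ((DRingLib.HF A i).obj Z) := fun i => by
    have := ((DRingLib.HF R i).map_isZero hZ).of_iso (DRingLib.hfRestrictIso φ Z i).symm
    haveI := ModuleCat.subsingleton_of_isZero this
    exact @ModuleCat.isZero_of_subsingleton A _ ((DRingLib.HF A i).obj Z) (inferInstanceAs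
      (Subsingleton ((ModuleCat.restrictScalars.{u} φ).obj ((DRingLib.HF A i).obj Z))))
  haveI : Z.IsLE 0 := (DerivedCategory.isLE_iff Z 0).2 fun i _ => hH i
  haveI : Z.IsGE 1 := (DerivedCategory.isGE_iff Z 1).2 fun i _ => hH i
  exact (DerivedCategory.TStructure.t).isZero Z 0 1 (by omega)

section Main

variable [DTen.HasRHomRel φ]

/-- Adjuncts of an evaluation map, as a natural transformation. -/
noncomputable def adjunctT {F : Dual.D R ⥤ Dual.D A} (θ : F ⋙ DRing.restrictD φ ⟶ 𝟭 (Dual.D R)) :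
    F ⟶ DTen.RHomRel φ where
  app M := DTen.relCoev φ (F.obj M) ≫ (DTen.RHomRel φ).map (θ.app M)
  naturality M M' f := by
    have h1 := (DTen.relAdj φ).unit.naturality (F.map f)
    have h2 := θ.naturality f
    dsimp at h1 h2 ⊢
    rw [reassoc_of% h1, ← Functor.map_comp, h2, Functor.map_comp, Category.assoc]

lemma adjunctT_eq {F : Dual.D R ⥤ Dual.D A} (θ : F ⋙ DRing.restrictD φ ⟶ 𝟭 (Dual.D R)) {M : Dual.D R}
    {X : Dual.D R} (g : F.obj M ⟶ (DTen.RHomRel φ).obj X) (w : X ⟶ M)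
    (h : θ.app M = (DRing.restrictD φ).map g ≫ DTen.relEv φ X ≫ w) :
    (adjunctT φ θ).app M = g ≫ (DTen.RHomRel φ).map w := by
  show DTen.relCoev φ (F.obj M) ≫ (DTen.RHomRel φ).map (θ.app M) = _
  rw [h]
  have h1 := (DTen.relAdj φ).unit.naturality g
  have h2 := (DTen.relAdj φ).right_triangle_components X
  dsimp at h1 h2 ⊢
  rw [Functor.map_comp, Functor.map_comp, ← reassoc_of% h1, reassoc_of% h2]

/-- Restriction of the free rank one complexes is perfect. -/
lemma cpt_restrict_gen (hA : DRing.IsPerfect R ((DRing.restrictD φ).obj (DTen.unit A))) (n : ℤ) :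
    Cpt ((DRing.restrictD φ).obj (DerivedCategory.Q.obj (ringCx A n))) := by
  refine cpt_of_perfect (DRingLib.perfect_of_iso ?_ (DRingLib.perfect_shift hA (-n)))
  exact (((DRing.restrictD φ).commShiftIso (-n)).app (DTen.unit A)).symm ≪≫
    (DRing.restrictD φ).mapIso (((DerivedCategory.Q.commShiftIso (-n)).app (𝟙_ (DRing.Cx A))).symm ≪≫
      DerivedCategory.Q.mapIso (((CochainComplex.singleFunctors (ModuleCat.{u} A)).shiftIso (-n) n 0 (by omega)).app
        (ModuleCat.of A A)))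

/-- `RHom(A, -)` preserves direct sums. -/
theorem preservesCoproducts_RHomRel (hA : DRing.IsPerfect R ((DRing.restrictD φ).obj (DTen.unit A))) (J : Type u) :
    PreservesColimitsOfShape (Discrete J) (DTen.RHomRel φ) := by
  classical
  haveI := (DTen.relAdj φ).rightAdjoint_preservesLimits
  haveI : HasCoproducts.{u} (Dual.D A) := fun T => hasCoproductsOfShape_derived enoughKInj_of_isGrothendieckAbelian T
  haveI : HasCoproducts.{u} (Dual.D R) := fun T => hasCoproductsOfShape_derived enoughKInj_of_isGrothendieckAbelian T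
  letI := (DTen.relAdj φ).rightAdjointCommShift ℤ
  haveI : (DTen.relAdj φ).CommShift ℤ := (DTen.relAdj φ).commShift_of_leftAdjoint ℤ
  haveI : (DTen.RHomRel φ).IsTriangulated := (DTen.relAdj φ).isTriangulated_rightAdjoint
  haveI : (DTen.RHomRel φ).Additive := inferInstance
  refine ⟨fun {D} => ?_⟩
  let X : J → Dual.D R := fun j => D.obj ⟨j⟩
  let u := sigmaComparison (DTen.RHomRel φ) X
  have hsurj : ∀ (n : ℤ) (x : DerivedCategory.Q.obj (ringCx A n) ⟶ (DTen.RHomRel φ).obj (∐ X)),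
      ∃ y, y ≫ u = x := fun n x => by
    obtain ⟨s, y, hy⟩ := cpt_restrict_gen φ hA n J X _ (coproductIsCoproduct X)
      (((DTen.relAdj φ).homEquiv _ _).symm x)
    refine ⟨∑ i ∈ s, (DTen.relAdj φ).homEquiv _ _ (y i) ≫ Sigma.ι (fun j => (DTen.RHomRel φ).obj (X j)) i, ?_⟩
    have hy' : ((DTen.relAdj φ).homEquiv (DerivedCategory.Q.obj (ringCx A n)) (∐ X)).symm x =
        ∑ i ∈ s, y i ≫ Sigma.ι X i := hy
    rw [← ((DTen.relAdj φ).homEquiv _ _).apply_symm_apply x, hy', Adjunction.homEquiv_unit, Functor.map_sum,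
      Preadditive.sum_comp, Preadditive.comp_sum]
    refine Finset.sum_congr rfl fun i _ => ?_
    rw [Category.assoc, ι_comp_sigmaComparison, Adjunction.homEquiv_unit, Category.assoc, ← Functor.map_comp]
  have hinj : ∀ (n : ℤ) (y : DerivedCategory.Q.obj (ringCx A n) ⟶ ∐ fun j => (DTen.RHomRel φ).obj (X j)),
      y ≫ u = 0 → y = 0 := fun n x hx => by
    obtain ⟨s, y, hy⟩ := cpt_gen (R := A) n J _ _ (coproductIsCoproduct (fun j => (DTen.RHomRel φ).obj (X j))) x
    rw [hy, Preadditive.sum_comp] at hx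
    have h0 : ∑ i ∈ s, (((DTen.relAdj φ).homEquiv _ _).symm (y i)) ≫ Sigma.ι X i = 0 := by
      have h1 := congrArg (fun z => (DRing.restrictD φ).map z ≫ DTen.relEv φ (∐ X)) hx
      simp only [Functor.map_sum, Functor.map_zero, zero_comp, Preadditive.sum_comp] at h1
      refine (Finset.sum_congr rfl fun i _ => ?_).trans h1
      rw [Category.assoc]
      erw [ι_comp_sigmaComparison, Functor.map_comp, Category.assoc, Category.assoc]
      exact congrArg (_ ≫ ·) ((DTen.relAdj φ).counit_naturality (Sigma.ι X i)).symm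
    rw [hy]
    refine Finset.sum_eq_zero fun i hi => ?_
    have h2 := eq_zero_of_sum (coproductIsCoproduct X) s _ h0 hi
    rw [show y i = 0 from ((DTen.relAdj φ).homEquiv _ _).symm.injective (h2.trans (by
      rw [Adjunction.homEquiv_counit, Functor.map_zero, zero_comp]))]
    exact zero_comp
  haveI : IsIso u := by
    obtain ⟨Z, g, h, hT⟩ := Pretriangulated.distinguished_cocone_triangle u
    refine (Triangle.isZero₃_iff_isIso₁ _ hT).1 (isZero_of_gen Z fun n f => ?_)
    have hsh : ∀ z : DerivedCategory.Q.obj (ringCx A n) ⟶ (∐ fun j => (DTen.RHomRel φ).obj (X j))⟦(1 : ℤ)⟧,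
        z ≫ u⟦(1 : ℤ)⟧' = 0 → z = 0 := fun z hz => by
      let ε : (DerivedCategory.Q.obj (ringCx A (n + 1)))⟦(1 : ℤ)⟧ ≅ DerivedCategory.Q.obj (ringCx A n) :=
        ((DerivedCategory.Q.commShiftIso (1 : ℤ)).app _).symm ≪≫ DerivedCategory.Q.mapIso
          (((CochainComplex.singleFunctors (ModuleCat.{u} A)).shiftIso 1 n (n + 1) (by omega)).app (ModuleCat.of A A))
      obtain ⟨z', hz'⟩ := (shiftFunctor (Dual.D A) (1 : ℤ)).map_surjective (ε.hom ≫ z)
      have : z' = 0 := hinj (n + 1) z' ((shiftFunctor (Dual.D A) (1 : ℤ)).map_injective (by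
        rw [Functor.map_comp, hz', Category.assoc, hz, comp_zero, Functor.map_zero]))
      rw [← cancel_epi ε.hom, comp_zero, ← hz', this, Functor.map_zero]
    have hf : f ≫ h = 0 := hsh _ (by
      rw [Category.assoc]
      have := comp_distTriang_mor_zero₃₁ _ hT
      dsimp at this
      rw [this, comp_zero])
    obtain ⟨x, hx⟩ := Triangle.coyoneda_exact₃ _ hT f hf
    obtain ⟨y, hy⟩ := hsurj n x
    have hug : u ≫ g = 0 := comp_distTriang_mor_zero₁₂ _ hT
    rw [hx, ← hy]
    simp [hug]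
  haveI : PreservesColimit (Discrete.functor X) (DTen.RHomRel φ) :=
    PreservesCoproduct.of_iso_comparison (DTen.RHomRel φ) X
  exact preservesColimit_of_iso_diagram _ (Discrete.natIso fun _ => Iso.refl _ : Discrete.functor X ≅ D)

/-- `RHom(A, -) ≅ - ⊗^L_R RHom(A, R)`. -/
theorem nonempty_RHomRel_iso (hA : DRing.IsPerfect R ((DRing.restrictD φ).obj (DTen.unit A))) :
    Nonempty (DTen.RHomRel φ ≅
      (Functor.curry.obj (DTen.LTenMix φ)).flip.obj ((DTen.RHomRel φ).obj (DTen.unit R))) := by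
  obtain ⟨N, hN, ⟨e⟩⟩ := exists_kflat_obj ((DTen.RHomRel φ).obj (DTen.unit R))
  obtain ⟨I, hI, ⟨eI⟩⟩ := exists_kInj_obj (DTen.unit R)
  haveI := hI
  obtain ⟨ι, hι⟩ := Q_map_surjective (X := 𝟙_ (DRing.Cx R)) (I := I) eI.inv
  obtain ⟨v, hv'⟩ := Q_map_surjective (X := (DTen.resCx φ).obj N) (I := I)
    ((DTen.resFactors φ).inv.app N ≫ (DRing.restrictD φ).map e.hom ≫ DTen.relEv φ (DTen.unit R) ≫
      DerivedCategory.Q.map ι)
  haveI : IsIso (DerivedCategory.Q.map ι) := by rw [hι]; infer_instance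
  haveI : QuasiIso ι := (DerivedCategory.isIso_Q_map_iff_quasiIso (C := ModuleCat.{u} R) ι).1 inferInstance
  haveI : ∀ E : DRing.Cx R, DRing.HasLTensorCx R E := hasLTensorCx
  haveI := isIso_unitLift ι
  let θ : mixF φ N ⋙ DRing.restrictD φ ⟶ 𝟭 (Dual.D R) := mixLift φ N v ≫ inv (unitLift ι)
  let t := adjunctT φ θ
  letI := (DTen.relAdj φ).rightAdjointCommShift ℤ
  haveI : (DTen.relAdj φ).CommShift ℤ := (DTen.relAdj φ).commShift_of_leftAdjoint ℤ
  haveI : (DTen.RHomRel φ).IsTriangulated := (DTen.relAdj φ).isTriangulated_rightAdjoint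
  have base : ∀ m : ℤ, IsIso (t.app (DerivedCategory.Q.obj ((𝟙_ (DRing.Cx R))⟦m⟧))) := fun m => by
    have hK := isKFlat_unit_shift (R := R) m
    haveI := isIso_εMix_of_kflat φ hK hN
    let g := (DTen.εMix φ).app ((𝟙_ (DRing.Cx R))⟦m⟧, N) ≫
      DerivedCategory.Q.map (mixShift φ m N).hom ≫ (DerivedCategory.Q.commShiftIso m).hom.app N ≫ e.hom⟦m⟧'
    let w := (DerivedCategory.Q.commShiftIso m).inv.app (𝟙_ (DRing.Cx R)) ≫
      DerivedCategory.Q.map ((shiftUnit m (𝟙_ (DRing.Cx R))).inv ≫ (ρ_ _).hom)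
    have h : θ.app (DerivedCategory.Q.obj ((𝟙_ (DRing.Cx R))⟦m⟧)) =
        (DRing.restrictD φ).map (g ≫ ((DTen.RHomRel φ).commShiftIso m).inv.app (DTen.unit R)) ≫
          DTen.relEv φ ((DTen.unit R)⟦m⟧) ≫ w := by
      have hs := (DTen.relAdj φ).shift_counit_app m (DTen.unit R)
      have hs' : (DRing.restrictD φ).map (((DTen.RHomRel φ).commShiftIso m).inv.app (DTen.unit R)) ≫
          DTen.relEv φ ((DTen.unit R)⟦m⟧) =
          ((DRing.restrictD φ).commShiftIso m).hom.app _ ≫ (DTen.relEv φ (DTen.unit R))⟦m⟧' := by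
        rw [hs, Iso.hom_inv_id_app_assoc]
      rw [Functor.map_comp, Category.assoc, reassoc_of% hs']
      haveI := isIso_ltensorCx_counit I hK
      refine (cancel_mono ((unitLift ι).app _ ≫ (lcounit I).app _)).1 ?_
      have hl : θ.app (DerivedCategory.Q.obj ((𝟙_ (DRing.Cx R))⟦m⟧)) ≫
          (unitLift ι).app _ ≫ (lcounit I).app _ = (mixToTensor φ N v).app ((𝟙_ (DRing.Cx R))⟦m⟧) := by
        rw [← mixLift_fac φ N v, ← Category.assoc]
        congr 1
        show (mixLift φ N v ≫ inv (unitLift ι)).app _ ≫ _ = _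
        rw [NatTrans.comp_app, Category.assoc, ← NatTrans.comp_app, IsIso.inv_hom_id]
        exact Category.comp_id _
      rw [hl, unitLift_fac]
      simp only [Category.assoc]
      simp only [g, w, Category.assoc]
      exact (theta_shift_fac φ m ι v e hv').symm
    rw [adjunctT_eq φ θ _ _ h]
    haveI : IsIso g := inferInstance
    infer_instance
  let L := mixF φ N ⋙ DRing.restrictD φ
  let G := DTen.RHomRel φ ⋙ DRing.restrictD φ
  haveI : ∀ J : Type u, PreservesColimitsOfShape (Discrete J) (DTen.RHomRel φ) := preservesCoproducts_RHomRel φ hA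
  haveI := (DTen.relAdj φ).leftAdjoint_preservesColimits
  have hG : MapsTri G := fun T hT => isDistPair_of_mem (G.map_distinguished T hT)
  obtain ⟨P, c, hP, -, hc, -⟩ := exists_kflat ((DTen.resCx φ).obj N)
  haveI := hc
  haveI hθ' : IsIso (mixLift φ N (𝟙 ((DTen.resCx φ).obj N))) := isIso_mixLift φ hN _ fun K _ => by
    rw [MonoidalCategory.whiskerLeft_id]; infer_instance
  let γ : DRing.LTensorCx R P ⟶ DRing.LTensorCx R ((DTen.resCx φ).obj N) :=
    (DRing.LTensorCx R _).leftDerivedLift (lcounit _) (HomologicalComplex.quasiIso (ModuleCat.{u} R) (ComplexShape.up ℤ))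
      _ (lcounit P ≫ Functor.whiskerRight ((tensoringRight (DRing.Cx R)).map c) DerivedCategory.Q)
  haveI : IsIso γ := isIso_of_isIso_kflat _ fun K hK => by
    haveI := isIso_ltensorCx_counit P hK
    haveI := isIso_ltensorCx_counit ((DTen.resCx φ).obj N) hK
    haveI := isIso_Q_whisker_kflat hK c
    haveI : IsIso ((lcounit P ≫ Functor.whiskerRight ((tensoringRight (DRing.Cx R)).map c) DerivedCategory.Q).app K) :=
      inferInstanceAs (IsIso ((lcounit P).app K ≫ DerivedCategory.Q.map (K ◁ c)))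
    exact IsIso.of_isIso_fac_right ((DRing.LTensorCx R _).leftDerived_fac_app (lcounit _) _ _
      (lcounit P ≫ Functor.whiskerRight ((tensoringRight (DRing.Cx R)).map c) DerivedCategory.Q) K)
  haveI : ∀ K, IsIso ((lcounit P).app K) := fun K => by
    obtain ⟨K', d, hK', -, hd, -⟩ := exists_kflat K
    haveI := hd
    haveI := isIso_ltensorCx_counit P hK'
    haveI := quasiIso_whiskerRight hP d
    haveI : IsIso ((DRing.tensorCxQ R P).map d) := isIso_Q_map_of_qis (d ▷ P)
    haveI := isIso_Q_map_of_qis d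
    haveI : IsIso ((DerivedCategory.Q ⋙ DRing.LTensorCx R P).map d) :=
      Functor.map_isIso (DRing.LTensorCx R P) (DerivedCategory.Q.map d)
    exact IsIso.of_isIso_fac_left ((lcounit P).naturality d)
  haveI : IsIso (lcounit P) := NatIso.isIso_of_isIso_app _
  haveI : (tensorRight P).PreservesZeroMorphisms :=
    inferInstanceAs ((modT R).map₂CochainComplex.flip.obj P).PreservesZeroMorphisms
  let eF : DerivedCategory.Q ⋙ L ≅ tensorRight P ⋙ DerivedCategory.Q :=
    Functor.isoWhiskerLeft DerivedCategory.Q (asIso (mixLift φ N (𝟙 _)) ≪≫ (asIso γ).symm) ≪≫ asIso (lcounit P)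
  have hL : MapsTri L := fun T hT =>
    RHomExist.exists_triangle (tensorRight P) (fun S hS => shortExact_tot₁_of_split (modT R) S hS P) eF hT
  haveI : ∀ J : Type u, PreservesColimitsOfShape (Discrete J) L := fun J => by
    haveI : PreservesColimitsOfShape (Discrete J) (tensorRight P) :=
      RHomExist.TotColim.preservesColimitsOfShape_tot₁ (modT R) P
        (fun q => by
          haveI : PreservesColimitsOfShape (Discrete J) (tensorLeft (P.X q)) :=
            (ihom.adjunction (P.X q)).leftAdjoint_preservesColimits.preservesColimitsOfShape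
          exact preservesColimitsOfShape_of_natIso (BraidedCategory.tensorLeftIsoTensorRight (P.X q)))
    haveI := RHomExist.preservesCoproducts_Q (A := ModuleCat.{u} R) J
    haveI : PreservesColimitsOfShape (Discrete J) (DerivedCategory.Q ⋙ L) :=
      preservesColimitsOfShape_of_natIso eF.symm
    exact RHomExist.preservesCoproducts_of_fac L J
  let η : ∀ M, L.obj M ⟶ G.obj M := fun M => (DRing.restrictD φ).map (t.app M)
  let τ : L ⟶ G := Functor.whiskerRight t (DRing.restrictD φ)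
  have all : ∀ K : Dual.D R, ∀ m : ℤ, IsIso (η (K⟦m⟧)) := fun K => by
    refine localizing_induction (fun K => ∀ m : ℤ, IsIso (η (K⟦m⟧))) ?_ ?_ ?_ ?_ K
    · intro K L' i h m
      exact (NatTrans.isIso_app_iff_of_iso τ ((shiftFunctor (Dual.D R) m).mapIso i)).1 (h m)
    · intro T hT h₁ h₂ m
      have hT' := Triangle.shift_distinguished _ hT m
      refine isIso_app_obj₃ hL hG η (fun f => τ.naturality f) hT' (h₁ m) (h₂ m) ?_ ?_
      · exact (NatTrans.isIso_app_iff_of_iso τ ((shiftFunctorAdd (Dual.D R) m 1).app T.obj₁)).1 (h₁ (m + 1))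
      · exact (NatTrans.isIso_app_iff_of_iso τ ((shiftFunctorAdd (Dual.D R) m 1).app T.obj₂)).1 (h₂ (m + 1))
    · intro κ X c hc h m
      let c' := Cofan.mk (c.pt⟦m⟧) fun k => (c.inj k)⟦m⟧'
      have hc' : IsColimit c' := isColimitCofanMkObjOfIsColimit (shiftFunctor (Dual.D R) m) _ _ hc
      have h1 : IsColimit (Cofan.mk (L.obj c'.pt) fun k => L.map (c'.inj k)) :=
        isColimitCofanMkObjOfIsColimit L _ _ hc'
      have h2 : IsColimit (Cofan.mk (G.obj c'.pt) fun k => G.map (c'.inj k)) :=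
        isColimitCofanMkObjOfIsColimit G _ _ hc'
      haveI : ∀ k, IsIso (τ.app ((X k)⟦m⟧)) := fun k => h k m
      refine ⟨Cofan.IsColimit.desc h2 (fun k => inv (τ.app ((X k)⟦m⟧)) ≫ L.map (c'.inj k)), ?_, ?_⟩
      · refine Cofan.IsColimit.hom_ext h1 _ _ fun k => ?_
        show L.map (c'.inj k) ≫ τ.app c'.pt ≫ _ = L.map (c'.inj k) ≫ 𝟙 _
        rw [NatTrans.naturality_assoc, Category.comp_id]
        erw [Cofan.IsColimit.fac h2]
        exact IsIso.hom_inv_id_assoc _ _
      · refine Cofan.IsColimit.hom_ext h2 _ _ fun k => ?_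
        show G.map (c'.inj k) ≫ _ ≫ τ.app c'.pt = G.map (c'.inj k) ≫ 𝟙 _
        rw [← Category.assoc]
        erw [Cofan.IsColimit.fac h2]
        rw [Category.assoc]
        erw [τ.naturality]
        rw [Category.comp_id]
        exact IsIso.inv_hom_id_assoc _ _
    · intro n m
      haveI := base (-n + m)
      haveI : IsIso (τ.app (DerivedCategory.Q.obj ((𝟙_ (DRing.Cx R))⟦-n + m⟧))) :=
        Functor.map_isIso (DRing.restrictD φ) _
      exact (NatTrans.isIso_app_iff_of_iso τ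
        ((DerivedCategory.Q.mapIso ((shiftFunctorAdd (DRing.Cx R) (-n) m).app _ ≪≫
            (shiftFunctor (DRing.Cx R) m).mapIso
              (((CochainComplex.singleFunctors (ModuleCat.{u} R)).shiftIso (-n) n 0 (by omega)).app
                (ModuleCat.of R R)))) ≪≫ (DerivedCategory.Q.commShiftIso m).app (ringCx R n))).1 ‹_›
  haveI : ∀ K, IsIso (t.app K) := fun K => by
    haveI : IsIso (τ.app K) := (NatTrans.isIso_app_iff_of_iso τ ((shiftFunctorZero (Dual.D R) ℤ).app K)).1 (all K 0)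
    exact isIso_of_restrict φ (t.app K) ‹IsIso (τ.app K)›
  haveI : IsIso t := NatIso.isIso_of_isIso_app _
  exact ⟨(asIso t).symm ≪≫ (Functor.curry.obj (DTen.LTenMix φ)).flip.mapIso e⟩

end Main

end Groth.Agent.DQCoh
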