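import Groth.Agent.DCat.ShriekTensor
import Groth.Agent.Coherent.TensorSections
import Groth.Agent.DCat.TildeStalk
import Groth.Agent.DCat.DTenCore
import Groth.Agent.DQCoh.Tilde

set_option autoImplicit false
set_option backward.isDefEq.respectTransparency false
set_option backward.defeqAttrib.useBackward true
universe u
open CategoryTheory CategoryTheory.Limits AlgebraicGeometry Opposite
open scoped TensorProduct
open Groth.Agent.DCat Groth.Agent.Coherent Groth.Agent.PicLib Groth.Agent.AmpleLib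
attribute [local instance] HasDerivedCategory.standard

namespace Groth.Agent.DQCoh.RHomTilde

variable {R : CommRingCat.{u}}

noncomputable abbrev shTil (R : CommRingCat.{u}) : (Spec R).Modules ⥤ ModuleCat.{u} R ⥤ (Spec R).Modules :=
  shT (Spec R) ⋙ (Functor.whiskeringLeft _ _ _).obj (tilde.functor R)

theorem hom_nat {P Q P' Q' : ModuleCat.{u} R} (φ : ModuleCat.of R (P ⊗[R] Q) ⟶ ModuleCat.of R (P' ⊗[R] Q'))
    (f : P → P') (g : Q → Q') (hφ : ∀ p q, φ.hom (p ⊗ₜ[R] q) = f p ⊗ₜ[R] g q)
    (ψ : ((shT (Spec R)).obj (tilde P)).obj (tilde Q) ⟶ ((shT (Spec R)).obj (tilde P')).obj (tilde Q'))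
    (hψ : ∀ p q, ψ.app ⊤ (tmul (tsec P p) (tsec Q q)) = tmul (tsec P' (f p)) (tsec Q' (g q))) :
    tilde.map φ ≫ (tildeTensorIso P' Q').hom = (tildeTensorIso P Q).hom ≫ ψ := by
  let M := ModuleCat.of R (P ⊗[R] Q)
  let M' := ModuleCat.of R (P' ⊗[R] Q')
  let l₁ : (P ⊗[R] Q) →+ Γ(CohB1.tensorMod (tilde P') (tilde Q'), ⊤) :=
    AddMonoidHom.mk' (fun z => (tildeTensorHom P' Q').app ⊤ (tsec M' (φ.hom z))) fun a b => by
      rw [map_add φ.hom, tsec_add M', map_add]
  let l₂ : (P ⊗[R] Q) →+ Γ(CohB1.tensorMod (tilde P') (tilde Q'), ⊤) :=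
    AddMonoidHom.mk' (fun z => ψ.app ⊤ ((tildeTensorHom P Q).app ⊤ (tsec M z))) fun a b => by
      rw [tsec_add M, map_add, map_add]
  refine tilde_hom_ext fun z => ?_
  show (tildeTensorHom P' Q').app ⊤ ((tilde.map φ).app ⊤ (tsec M z)) = l₂ z
  rw [map_tsec]
  show l₁ z = l₂ z
  induction z using TensorProduct.induction_on with
  | zero => rw [map_zero, map_zero]
  | add a b ha hb => rw [map_add, map_add, ha, hb]
  | tmul p q =>
    show (tildeTensorHom P' Q').app ⊤ (tsec M' (φ.hom (p ⊗ₜ[R] q))) = ψ.app ⊤ ((tildeTensorHom P Q).app ⊤ (tsec M (p ⊗ₜ[R] q)))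
    rw [hφ, tildeTensorHom_tsec, tildeTensorHom_tsec, hψ]

/-- The isomorphism with the objects in tensor-bifunctor form. -/
noncomputable def α (P Q : ModuleCat.{u} R) :
    (tilde.functor R).obj (((modT R).obj P).obj Q) ≅ ((shTil R).obj ((tilde.functor R).obj P)).obj Q :=
  tildeTensorIso P Q

theorem hom_nat₁ {P P' : ModuleCat.{u} R} (f : P ⟶ P') (Q : ModuleCat.{u} R) :
    (tilde.functor R).map (((modT R).map f).app Q) ≫ (α P' Q).hom =
      (α P Q).hom ≫ ((shTil R).map ((tilde.functor R).map f)).app Q :=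
  hom_nat (P := P) (Q := Q) (P' := P') (Q' := Q) (((modT R).map f).app Q) (fun p => f p) id (fun p q => rfl)
    (((shT (Spec R)).map (tilde.map f)).app (tilde Q))
    fun p q => (DCat.PullTensor.tensorBi_map_tmul (tilde.map f) ⊤ (tsec P p) (tsec Q q)).trans
      (congrArg (fun a => tmul a (tsec Q q)) (map_tsec f p))

theorem shTil_map (A : (Spec R).Modules) {Q Q' : ModuleCat.{u} R} (g : Q ⟶ Q') :
    ((shTil R).obj A).map g = ((shT (Spec R)).obj A).map ((tilde.functor R).map g) :=
  Functor.comp_map (tilde.functor R) ((shT (Spec R)).obj A) g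

theorem map_tensor_tsec (P : ModuleCat.{u} R) {Q Q' : ModuleCat.{u} R} (g : Q ⟶ Q') (p : P) (q : Q) :
    Scheme.Modules.Hom.app (((shT (Spec R)).obj (tilde P)).map (tilde.map g)) ⊤ (tmul (tsec P p) (tsec Q q)) =
      tmul (tsec P p) (tsec Q' (g q)) := by
  refine (DCat.PullTensor.tensorBi_obj_map_tmul (M := tilde P) (N := tilde Q) (N' := tilde Q') (tilde.map g) ⊤ (tsec P p) (tsec Q q)).trans ?_
  exact congrArg (fun a => tmul (tsec P p) a) (map_tsec g q)

theorem hom_nat₂ (P : ModuleCat.{u} R) {Q Q' : ModuleCat.{u} R} (g : Q ⟶ Q') :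
    (tilde.functor R).map (((modT R).obj P).map g) ≫ (α P Q').hom =
      (α P Q).hom ≫ ((shT (Spec R)).obj ((tilde.functor R).obj P)).map ((tilde.functor R).map g) := by
  refine hom_nat (P := P) (Q := Q) (P' := P) (Q' := Q') (((modT R).obj P).map g) id (fun q => g q) ?_ _ ?_
  · exact fun p q => ModuleCat.MonoidalCategory.whiskerLeft_apply P g p q
  · exact fun p q => map_tensor_tsec P g p q

instance (X₁ : (Spec R).Modules) : ((shTil R).obj X₁).Additive :=
  inferInstanceAs ((tilde.functor R ⋙ (shT (Spec R)).obj X₁).Additive)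

instance : (shTil R).Additive where
  map_add {F G f g} := by
    refine NatTrans.ext (funext fun Q => ?_)
    exact congrArg (fun τ => NatTrans.app τ ((tilde.functor R).obj Q)) ((shT (Spec R)).map_add (f := f) (g := g))

theorem additive_tilde_functor : (tilde.functor R).Additive := inferInstance

instance : Functor.Additive (C := ModuleCat.{u} R) (D := (Spec R).Modules) (tilde.functor R) :=
  additive_tilde_functor

instance (n : ℤ) : PreservesColimitsOfShape (Discrete (TotIdx n)) (tilde.functor R) :=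
  haveI := (tilde.adjunction (R := R)).leftAdjoint_preservesColimits
  inferInstance

instance (n : ℤ) : PreservesColimitsOfShape (Discrete (TotIdx n)) (𝟭 (Spec R).Modules) := inferInstance

/-- `(M ⊗ K~) = (M ⊗ K)` with the second variable pulled back along tilde. -/
noncomputable def totTil (K : DRing.Cx R) :
    TotProj.cxQ (shT (Spec R)) (((tilde.functor R).mapHomologicalComplex (ComplexShape.up ℤ)).obj K) ≅
      TotProj.cxQ (shTil R) K :=
  Functor.isoWhiskerRight
    ((Functor.rightUnitor _).symm ≪≫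
      Functor.isoWhiskerLeft _ (Functor.mapHomologicalComplexIdIso (Spec R).Modules (ComplexShape.up ℤ)).symm ≪≫
      TotProj.projTotNatIso (shT (Spec R)) (shTil R) (𝟭 _) (tilde.functor R) (𝟭 _)
        (fun a b => Iso.refl (((shT (Spec R)).obj a).obj ((tilde.functor R).obj b)))
        (fun f b => (Category.comp_id _).trans (Category.id_comp _).symm)
        (fun a {_ _} g => (Category.comp_id _).trans ((shTil_map a g).symm.trans (Category.id_comp _).symm)) K ≪≫
      Functor.isoWhiskerRight (Functor.mapHomologicalComplexIdIso (Spec R).Modules (ComplexShape.up ℤ)) _ ≪≫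
      Functor.leftUnitor _) DerivedCategory.Q

/-- `(Y ⊗^L K)~ ≅ Y~ ⊗^L K~`, naturally in `Y`, for K-flat `K`. -/
theorem nonempty_tilde_tensor [PreservesFiniteLimits (tilde.functor R)] [DTen.HasLTen R] (K : DRing.Cx R)
    (hK : IsKFlatFor (modT R) K)
    [DCoh.HasLTensorCx (((tilde.functor R).mapHomologicalComplex (ComplexShape.up ℤ)).obj K)] :
    Nonempty ((DTen.LTen R).flip.obj (DerivedCategory.Q.obj K) ⋙ DCoh.tildeD R ≅
      DCoh.tildeD R ⋙ DCoh.LTensorCx (((tilde.functor R).mapHomologicalComplex (ComplexShape.up ℤ)).obj K)) := by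
  haveI : PreservesFiniteColimits (tilde.functor R) :=
    haveI := (tilde.adjunction (R := R)).leftAdjoint_preservesColimits
    inferInstance
  haveI : IsIso (DTen.εRight R K) := by
    haveI : ∀ M, IsIso ((DTen.εRight R K).app M) := fun M => Groth.Agent.DCat.isIso_ε_of_right hK
    exact NatIso.isIso_of_isIso_app _
  refine TotProj.nonempty_derived (modT R) (shTil R) (tilde.functor R) (𝟭 _) α hom_nat₁
    (fun P {_ _} g => (hom_nat₂ P g).trans (congrArg (fun τ => (α P _).hom ≫ τ) (shTil_map _ g).symm)) K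
    _ ?_ _ (TensorCongr.fac (isKFlat_tilde K hK) ≪≫ eqToIso (ShriekTensor.tensorCxQ_eq _) ≪≫ totTil K)
  refine asIso (DTen.εRight R K) ≪≫ NatIso.ofComponents (fun M => Iso.refl _) ?_
  intro M N f
  exact (Category.comp_id _).trans (Category.id_comp _).symm

end Groth.Agent.DQCoh.RHomTilde
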