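import Groth.Agent.DQCoh.RelTorBC

/-!
# Relative perfectness on an affine scheme over an affine base
-/

set_option autoImplicit false
set_option backward.isDefEq.respectTransparency false
set_option backward.defeqAttrib.useBackward true
set_option linter.style.haveILetI false
set_option synthInstance.maxHeartbeats 100000
set_option linter.unusedVariables false
set_option backward.isDefEq.respectTransparency.types false

universe u

open CategoryTheory CategoryTheory.Limits CategoryTheory.Pretriangulated DerivedCategory Opposite TopologicalSpace AlgebraicGeometry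
open Groth.Agent.SiteDer16 Groth.Agent.DCat Groth.Agent.Coherent

namespace Groth.Agent.DQCoh

attribute [local instance] HasDerivedCategory.standard
attribute [-instance] Int.instConditionallyCompleteLinearOrder

variable {A B : CommRingCat.{u}} (φ : A ⟶ B) [PreservesFiniteLimits (tilde.functor B)]

set_option maxHeartbeats 800000 in
/-- Local finite relative tor dimension on an affine chart is global, for bounded-above complexes flat over the base. -/
theorem exists_truncation_of_locRel (P : DRing.Cx B) (c : ℤ) (hP : DRing.VanishesAbove P c)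
    (hPf : ∀ i, Module.Flat A ((ModuleCat.restrictScalars φ.hom).obj (P.X i)))
    (h : DCoh.LocHasFiniteRelTorDim (Spec.map φ) ((DCoh.tildeD B).obj (DRing.toD P))) :
    ∃ a : ℤ, QuasiIso (P.πTruncGE a) ∧ DRing.VanishesOutside (P.truncGE a) a (max a c) ∧
      ∀ i, Module.Flat A ((ModuleCat.restrictScalars φ.hom).obj ((P.truncGE a).X i)) := by
  classical
  haveI := preservesFiniteColimits_tilde B
  let T := tilde.functor B
  choose W k hk a b hx hrel using (locRel_iff _ _).1 h
  haveI := hk
  obtain ⟨t, ht⟩ := isCompact_univ.elim_finite_subcover (fun x : Spec B => ((k x).opensRange : Set (Spec B)))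
    (fun x => (k x).opensRange.2) (fun x _ => Set.mem_iUnion.2 ⟨x, hx x⟩)
  obtain ⟨a₀, ha₀⟩ := (t.image a).finite_toSet.bddBelow
  refine ⟨a₀, ?_⟩
  let C : CochainComplex (Spec B).Modules ℤ := (T.mapHomologicalComplex (ComplexShape.up ℤ)).obj P
  refine flat_truncation_of φ P c hP hPf (fun i hi => ModStalk.isZero_of_stalks fun y => ?_) fun y => ?_
  all_goals obtain ⟨x, hxt, z, hz⟩ := Set.mem_iUnion₂.1 (ht (Set.mem_univ y))
  all_goals obtain ⟨E, hE, hEf, ⟨eE⟩⟩ := hrel x
  all_goals have hax : a₀ ≤ a x := ha₀ (Finset.mem_image_of_mem _ hxt)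
  · subst hz
    let K : DCoh.D (Spec B) := (DCoh.tildeD B).obj (DRing.toD P)
    have hE0 : IsZero (DCoh.HD (DCoh.toD (W x) E) i) :=
      (ShortComplex.isZero_homology_of_isZero_X₂ _ (hE i (Or.inl (lt_of_lt_of_le hi hax)))).of_iso
        ((homologyFunctorFactors (W x).Modules i).app E)
    have hK0 : IsZero (DCoh.HD ((PerfLocal.rd (k x)).obj K) i) :=
      hE0.of_iso ((homologyFunctor (W x).Modules i).mapIso eE.symm)
    have hzero : IsZero ((Scheme.Modules.restrictFunctor (k x)).obj (DCoh.HD K i)) :=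
      hK0.of_iso (SuppOpen.hdMapIso (Scheme.Modules.restrictFunctor (k x)) K i).symm
    haveI := SuppOpen.subsingleton_stalk_of_restrict (k x) _ z
      (SuppOpen.subsingleton_of_isZero_stalkFunctor _ z ((DerSch.stalkFunctor (W x) z).map_isZero hzero))
    exact SuppOpen.isZero_stalkFunctor _ _
  · subst hz
    let G := Scheme.Modules.restrictFunctor (k x)
    let C' : CochainComplex (W x).Modules ℤ := (G.mapHomologicalComplex (ComplexShape.up ℤ)).obj C
    have hz' : ∀ i, c < i → IsZero (C'.X i) := fun i hi => G.map_isZero (T.map_isZero (hP i hi))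
    have hf' : ∀ i, FlatMod.IsFlatOver (k x ≫ Spec.map φ) (C'.X i) := fun i =>
      isFlatOver_restrict (k x) (Spec.map φ) (M := T.obj (P.X i))
        (FlatMor12.ApproxModule.isFlatOver_tilde φ (P.X i) (hPf i))
    let eC : (PerfLocal.rd (k x)).obj ((DCoh.tildeD B).obj (DRing.toD P)) ≅ DerivedCategory.Q.obj C' :=
      (PerfLocal.rd (k x)).mapIso (T.mapDerivedCategoryFactors.app P) ≪≫ G.mapDerivedCategoryFactors.app C
    have hco : FlatMod.IsFlatOver (k x ≫ Spec.map φ) (cokernel (C'.d (a₀ - 1) a₀)) :=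
      isFlatOver_cokernel (k x ≫ Spec.map φ) C' c hz' hf'
        (b := b x) ⟨E, fun i hi => hE i (hi.imp_left fun hi => lt_of_lt_of_le hi hax), hEf, ⟨eE ≪≫ eC⟩⟩
    refine (Props12.isFlatOverAt_pullback_iff (k x) (Spec.map φ) _ z (RingHom.Flat.of_bijective
      (ConcreteCategory.bijective_of_isIso ((k x).stalkMap z)))).2 ?_
    exact EGA43.DvrCrit.isFlatOverAt_of_iso _ ((PreservesCokernel.iso G (C.d (a₀ - 1) a₀)).symm ≪≫
      (Scheme.Modules.restrictFunctorIsoPullback (k x)).app _) z (hco z)

/-- The two notions of relative perfectness. -/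
theorem relPerfect_affine_iff (hφ : φ.hom.Flat) (M : Dual.D B) :
    ((∀ m : ℤ, DCoh.IsPseudoCoherentD m ((DCoh.tildeD B).obj M)) ∧
      DCoh.LocHasFiniteRelTorDim (Spec.map φ) ((DCoh.tildeD B).obj M)) ↔
    DRing.IsPseudoCoherent' B M ∧ DRing.HasFiniteTorDimCx A ((DRing.restrictD φ.hom).obj M) := by
  let rA := ModuleCat.restrictScalars.{u} φ.hom
  have hflat : ∀ {P : DRing.Cx B}, DRing.TermwiseFiniteFree P → ∀ i, Module.Flat A (rA.obj (P.X i)) := by
    intro P hPf i
    letI := φ.hom.toAlgebra
    haveI : Module.Flat A B := hφ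
    haveI := (hPf i).2
    letI : Module A (P.X i) := Module.compHom _ φ.hom
    haveI : IsScalarTower A B (P.X i) := IsScalarTower.of_algebraMap_smul fun _ _ => rfl
    exact Module.Flat.trans A B (P.X i)
  constructor
  · rintro ⟨hp, ht⟩
    have hpc := DRingLib.pc'_of_forall fun m => pc_of_psc_tildeD (hp m)
    refine ⟨hpc, ?_⟩
    obtain ⟨P, c, hP, hPf, ⟨e⟩⟩ := hpc
    have ht' : DCoh.LocHasFiniteRelTorDim (Spec.map φ) ((DCoh.tildeD B).obj (DRing.toD P)) := fun x => by
      obtain ⟨V, a, b, hx, hV⟩ := ht x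
      exact ⟨V, a, b, hx, fun F' ⟨eF⟩ => hV F' ⟨eF ≪≫ (DCoh.tildeD B).mapIso e⟩⟩
    obtain ⟨a, hqis, hout, hf⟩ := exists_truncation_of_locRel φ P c hP (hflat hPf) ht'
    haveI := hqis
    exact ⟨a, max a c, (rA.mapHomologicalComplex (ComplexShape.up ℤ)).obj (P.truncGE a),
      fun i hi => rA.map_isZero (hout i hi), hf,
      ⟨(rA.mapDerivedCategoryFactors.app _).symm ≪≫
        (DRing.restrictD φ.hom).mapIso ((asIso (DerivedCategory.Q.map (P.πTruncGE a))).symm ≪≫ e)⟩⟩
  · rintro ⟨⟨P, c, hP, hPf, ⟨e⟩⟩, a, b, hT⟩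
    refine ⟨fun m => psc_tildeD (DRingLib.pc_of_pc' ⟨P, c, hP, hPf, ⟨e⟩⟩ m), (locRel_iff _ _).2 fun x => ?_⟩
    haveI : ∀ N : ModuleCat.{u} A, DRing.HasLTensor A N := fun N => DCat.hasLTensor N
    haveI := preservesFiniteColimits_tilde B
    let P₀ : DRing.Cx A := (rA.mapHomologicalComplex (ComplexShape.up ℤ)).obj P
    let e₀ : DRing.toD P₀ ≅ (DRing.restrictD φ.hom).obj M :=
      (rA.mapDerivedCategoryFactors.app P).symm ≪≫ (DRing.restrictD φ.hom).mapIso e
    have hk : IsKFlatFor (modT A) P₀ := isKFlatFor_of_flat P₀ c (fun i hi => rA.map_isZero (hP i hi)) (hflat hPf)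
    have hQ : Module.Flat A (rA.obj (cokernel (P.d (a - 1) a))) :=
      flat_of_iso (PreservesCokernel.iso rA (P.d (a - 1) a)).symm
        (DCat.flat_cokernel_cat P₀ hk (hflat hPf) a e₀ fun N => DCat.vanish_of_flatAmp hT N (Or.inl (by omega)))
    haveI : P.IsGE a := by
      rw [CochainComplex.isGE_iff]
      intro i hi
      have h₀ : P₀.ExactAt i := by
        rw [← isZero_homology_toD_iff]
        exact (DCat.exactAt_of_vanish (DCat.vanish_of_flatAmp hT _ (Or.inl hi))).of_iso
          ((homologyFunctor _ i).mapIso e₀)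
      exact (ShortComplex.exact_map_iff_of_faithful _ rA).1 h₀
    have hout : DRing.VanishesOutside (P.truncGE a) a (max a c) := fun i hi => by
      rcases hi with hi | hi
      · exact CochainComplex.isZero_of_isStrictlyGE _ a i hi
      · exact (hP i (lt_of_le_of_lt (le_max_right _ _) hi)).of_iso
          (P.truncGEXIso a i (lt_of_le_of_lt (le_max_left _ _) hi))
    refine ⟨_, 𝟙 _, inferInstance, a, max a c, ⟨x, rfl⟩, ?_⟩
    refine relAmp_rd (𝟙 _) (relAmp_iso ((DCoh.tildeD B).mapIso ((asIso (DerivedCategory.Q.map (P.πTruncGE a))).symm ≪≫ e))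
      (relAmp_congr (Category.comp_id _) (relAmp_tildeD φ (𝟙 _) (P.truncGE a) hout fun i => ?_)))
    rcases lt_trichotomy i a with hi | rfl | hi
    · haveI : Subsingleton (rA.obj ((P.truncGE a).X i)) :=
        ModuleCat.subsingleton_of_isZero (rA.map_isZero (CochainComplex.isZero_of_isStrictlyGE _ a i hi))
      infer_instance
    · let ec : cokernel (P.d (i - 1) i) ≅ (P.truncGE i).X i :=
        IsColimit.coconePointUniqueUpToIso (colimit.isColimit _) (P.opcyclesIsCokernel (i - 1) i (by simp)) ≪≫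
          (P.truncGEXIsoOpcycles i).symm
      exact flat_of_iso (rA.mapIso ec) hQ
    · exact flat_of_iso (rA.mapIso (P.truncGEXIso a i hi).symm) (hflat hPf i)

end Groth.Agent.DQCoh
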