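import Groth.Agent.DQCoh.CosectionLocus17
import Groth.Agent.Coherent.SupportPullback
import Groth.Agent.H8Lim.AmpleStage
import Groth.Agent.H8Lim.ApproxFP
import Groth.Agent.Clifford24.SmoothFamily
import Groth.Agent.DCat.PerfTensor
import Groth.Agent.CAlgH3.LocFreeFactor
import Groth.Prelude.Def_PerfAux

/-!
# A criterion for the resolution property

A qcqs scheme covered by finitely many affine opens, each the complement of the zero locus of a
cosection of a finite locally free module, has the resolution property.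
-/

set_option autoImplicit false
set_option backward.isDefEq.respectTransparency false
set_option backward.isDefEq.respectTransparency.types false
set_option linter.style.haveILetI false
set_option maxHeartbeats 800000

universe u

open CategoryTheory CategoryTheory.Limits AlgebraicGeometry Opposite TopologicalSpace
open Groth.Agent.Coherent Groth.Agent.PicLib Groth.Agent.AmpleLib

noncomputable section

namespace Groth.Agent.ResPropCrit17

variable {X : Scheme.{u}}

theorem support_iso {M N : X.Modules} (e : M ≅ N) : CohB1.support M = CohB1.support N := by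
  ext x
  exact not_congr (Equiv.subsingleton_congr (((DerSch.stalkFunctor X x).mapIso e).toLinearEquiv.toEquiv))

theorem isFinLocFree_tensorPow {E : X.Modules} (hE : FlatMod.IsFinLocFree E) :
    ∀ n, FlatMod.IsFinLocFree (CohB1.tensorPow E n)
  | 0 => CohBC.isFinLocFree_structureModule X
  | n + 1 => DCat.PerfTensor.isFinLocFree_tensor (isFinLocFree_tensorPow hE n) hE

/-- A section over the non-vanishing locus is locally hit by a tensor power of the bundle. -/
theorem exists_locFree_hom {X₀ : Scheme.{u}} [IsNoetherian X₀] (a : X ⟶ X₀) [IsAffineHom a]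
    (E₀ : X₀.Modules) (hE₀ : Coh.IsCoh E₀) (p₀ : E₀ ⟶ Coh.structureModule X₀)
    (hlf : FlatMod.IsFinLocFree ((Scheme.Modules.pullback a).obj E₀)) (M : X.Modules) [Coh.IsQCoh M]
    (V : X₀.Opens) (hV : (V : Set X₀) = (CohB1.support (cokernel p₀))ᶜ) (s : Γ(M, a ⁻¹ᵁ V)) :
    ∃ (F : X.Modules) (θ : F ⟶ M), FlatMod.IsFinLocFree F ∧
      ∀ x ∈ a ⁻¹ᵁ V, ∃ (W : X.Opens) (hW : W ≤ a ⁻¹ᵁ V), x ∈ W ∧
        ∃ z, θ.app W z = resM M hW s := by
  haveI := hE₀.1
  let I₀ := CosecLocus17.imageIdeal p₀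
  have hI₀ : Coh.IsCoh (ClSub.idealMod I₀) := by
    refine AmpleLib.isCoh_idealMod I₀ fun U => ?_
    have : IsNoetherianRing Γ(X₀, U.1) := IsLocallyNoetherian.component_noetherian U
    exact IsNoetherian.noetherian _
  have hsupp : (V : Set X₀) = (I₀.support : Set X₀)ᶜ := by
    rw [hV, CosecLocus17.support_imageIdeal]
  obtain ⟨q, hq⟩ := CosecLocus17.exists_toIdealMod p₀
  obtain ⟨V', rfl⟩ : ∃ V' : X₀.Opens, V' = V := ⟨V, rfl⟩
  have hVeq : V' = ⟨(I₀.support : Set X₀)ᶜ, I₀.support.2.isOpen_compl⟩ := Opens.ext hsupp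
  obtain ⟨k, hk⟩ : ∃ k : Γ(ClSub.idealMod I₀, V'), (ClSub.idealModι I₀).app V' k =
      (show Γ(Coh.structureModule X₀, V') from (1 : Γ(X₀, V'))) := by
    rw [hVeq]
    exact AmpleLib.exists_idealModι_eq_one I₀
  have hN : Coh.IsQCoh ((Scheme.Modules.pushforward a).obj M) := isQCoh_push a M
  obtain ⟨n, hn⟩ := TPowGen8.exists_powHom I₀ hI₀ ((Scheme.Modules.pushforward a).obj M) V' hsupp k hk s
  obtain ⟨χ, hχ⟩ := hn n le_rfl
  let adj := Scheme.Modules.pullbackPushforwardAdjunction a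
  obtain ⟨e⟩ := Clifford24.nonempty_pullback_tensorPow a E₀ n
  refine ⟨CohB1.tensorPow ((Scheme.Modules.pullback a).obj E₀) n,
    e.inv ≫ (adj.homEquiv _ _).symm (TPowGen8.powMap q n ≫ χ),
    isFinLocFree_tensorPow hlf n, fun x hx => ?_⟩
  obtain ⟨W, hWaff, hxW, hWV⟩ := Opens.isBasis_iff_nbhd.1 X₀.isBasis_affineOpens
    (show a.base x ∈ V' from hx)
  obtain ⟨e₀, he₀⟩ := CosecLocus17.exists_eq_one p₀ ⟨W, hWaff⟩ fun y hy => by
    exact (Set.ext_iff.1 hV y).1 (hWV hy)
  have hq' : q.app W e₀ = resM (ClSub.idealMod I₀) hWV k := by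
    have := AmpleLib.mono_idealModι I₀
    refine app_injective_of_mono (ClSub.idealModι I₀) W ?_
    refine (congr($(hq).app W e₀)).trans (he₀.trans ?_)
    rw [app_resM, hk]
    exact (map_one (X₀.presheaf.map (homOfLE hWV).op).hom).symm
  have hres : ∀ m : ℕ, TPowGen8.powS (resM (ClSub.idealMod I₀) hWV k) m =
      resM (CohB1.tensorPow (ClSub.idealMod I₀) m) hWV (TPowGen8.powS k m) := fun m => by
    induction m with
    | zero => exact (map_one (X₀.presheaf.map (homOfLE hWV).op).hom).symm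
    | succ m ih =>
      show tmul (TPowGen8.powS _ m) _ = resM (CohB1.tensorMod _ _) hWV (tmul _ k)
      rw [ih, AmpleLib.resM_tmul]
  refine ⟨a ⁻¹ᵁ W, fun y hy => hWV hy, hxW,
    e.hom.app _ (PicLib.pullSec a (TPowGen8.powS e₀ n)), ?_⟩
  refine (congrArg (fun v => ((adj.homEquiv _ _).symm (TPowGen8.powMap q n ≫ χ)).app (a ⁻¹ᵁ W) v)
      (show e.inv.app _ (e.hom.app _ _) = _ from congr($(e.hom_inv_id).app _ _))).trans ?_
  refine (PicLib.homEquiv_symm_app_pullSec a _ _).trans ?_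
  show χ.app W ((TPowGen8.powMap q n).app W _) = _
  rw [TPowGen8.powMap_powS, hq', hres n, app_resM, hχ]
  rfl

/-- The criterion, with a Noetherian model for every chart. -/
theorem hasResolutionProperty_of_models {ι : Type} [Finite ι]
    (X₀ : ι → Scheme.{u}) [∀ j, IsNoetherian (X₀ j)] (a : ∀ j, X ⟶ X₀ j) [∀ j, IsAffineHom (a j)]
    (E₀ : ∀ j, (X₀ j).Modules) (hE₀ : ∀ j, Coh.IsCoh (E₀ j))
    (p₀ : ∀ j, E₀ j ⟶ Coh.structureModule (X₀ j))
    (hlf : ∀ j, FlatMod.IsFinLocFree ((Scheme.Modules.pullback (a j)).obj (E₀ j)))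
    (V : ∀ j, (X₀ j).Opens) (hV : ∀ j, (V j : Set (X₀ j)) = (CohB1.support (cokernel (p₀ j)))ᶜ)
    (haff : ∀ j, IsAffineOpen (a j ⁻¹ᵁ V j)) (hcov : ∀ x : X, ∃ j, x ∈ a j ⁻¹ᵁ V j) :
    PerfAux.HasResolutionProperty X := by
  classical
  intro M hM hft
  haveI := hM
  have hgen : ∀ j, ∃ S : Finset Γ(M, a j ⁻¹ᵁ V j),
      Submodule.span Γ(X, a j ⁻¹ᵁ V j) (S : Set Γ(M, a j ⁻¹ᵁ V j)) = ⊤ := fun j =>
    (H8Lim.finite_sections_of_isFT hft (haff j)).fg_top
  choose S hS using hgen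
  choose F θ hF hθ using fun c : (Σ j, ↥(S j)) =>
    exists_locFree_hom (a c.1) (E₀ c.1) (hE₀ c.1) (p₀ c.1) (hlf c.1) M (V c.1) (hV c.1) c.2.1
  haveI : HasFiniteBiproducts X.Modules := HasFiniteBiproducts.of_hasFiniteProducts
  haveI : Fintype ι := Fintype.ofFinite ι
  let ε := Fintype.equivFin (Σ j, ↥(S j))
  refine ⟨∐ fun c : Fin (Fintype.card (Σ j, ↥(S j))) => F (ε.symm c), Sigma.desc fun c => θ (ε.symm c),
    DCat.PerfTensor.isFinLocFree_sigma _ fun c => hF _, ⟨fun {N} u v huv => ?_⟩⟩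
  have hcomp : ∀ c, θ c ≫ u = θ c ≫ v := fun c => by
    have := Sigma.ι (fun c => F (ε.symm c)) (ε c) ≫= huv
    rw [Sigma.ι_desc_assoc, Sigma.ι_desc_assoc, Equiv.symm_apply_apply] at this
    exact this
  have hloc : H8Lim.homLocTop u = H8Lim.homLocTop v := by
    refine H8Lim.locHom_ext_cover (fun j => a j ⁻¹ᵁ V j) haff (fun _ => le_top)
      (fun x _ => hcov x) (fun j => (S j : Set Γ(M, a j ⁻¹ᵁ V j))) hS fun j s hs => ?_
    refine H8Lim.sections_eq_of_locally fun x hx => ?_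
    obtain ⟨W, hW, hxW, z, hz⟩ := hθ ⟨j, s, hs⟩ x hx
    refine ⟨W, hW, hxW, ?_⟩
    show resM N hW (u.app _ s) = resM N hW (v.app _ s)
    rw [← app_resM u hW s, ← app_resM v hW s, ← hz]
    exact congr($(hcomp ⟨j, s, hs⟩).app W z)
  refine Scheme.Modules.hom_ext _ _ fun U => ConcreteCategory.hom_ext _ _ fun m => ?_
  exact congrArg (fun φ : Coherent.locHom M N ⊤ => Coherent.ev φ U le_top m) hloc

/-- A cosection comes from a Noetherian model. -/
theorem exists_model [CompactSpace X] [QuasiSeparatedSpace X] (E : X.Modules)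
    (hE : FlatMod.IsFinLocFree E) (p : E ⟶ Coh.structureModule X) :
    ∃ (X₀ : Scheme.{u}) (_ : IsNoetherian X₀) (a : X ⟶ X₀) (_ : IsAffineHom a) (E₀ : X₀.Modules)
      (_ : Coh.IsCoh E₀) (p₀ : E₀ ⟶ Coh.structureModule X₀),
      FlatMod.IsFinLocFree ((Scheme.Modules.pullback a).obj E₀) ∧
      CohB1.support (cokernel p) = a.base ⁻¹' CohB1.support (cokernel p₀) := by
  haveI := CAlgH3.LocFreeFactor.isQCoh_of_finLocFree hE
  have hEfp := Props12.isFP_of_isFinLocFree E hE
  haveI := H8Lim.isLocallyNoetherian_specULiftZ.{u}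
  obtain ⟨I, _, _, _, D, c, hc, hD, htr, hqcqs, ⟨eX⟩⟩ :=
    H8Lim.exists_limit_finitePresentation (specULiftZIsTerminal.from X)
  let F := D ⋙ Over.forget (Spec (CommRingCat.of (ULift.{u} ℤ)))
  have : IsConnected Iᵒᵖ := IsCofiltered.isConnected _
  let cF : Cone F := (Over.forget _).mapCone c
  have hF : IsLimit cF := isLimitOfPreserves (Over.forget _) hc
  haveI : ∀ {i j : Iᵒᵖ} (g : i ⟶ j), IsAffineHom (F.map g) := fun g ↦ htr _ _ g
  haveI : ∀ i, CompactSpace (F.obj i) := fun i ↦ (hqcqs i).1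
  haveI : ∀ i, QuasiSeparatedSpace (F.obj i) := fun i ↦ (hqcqs i).2
  haveI : ∀ i, IsNoetherian (F.obj i) := fun i => by
    haveI : LocallyOfFinitePresentation (D.obj i).hom := (hD i).1
    haveI : IsLocallyNoetherian (F.obj i) := LocallyOfFiniteType.isLocallyNoetherian (D.obj i).hom
    exact ⟨⟩
  let ι₀ : X ⟶ cF.pt := eX.inv.left
  haveI : IsIso ι₀ := inferInstanceAs (IsIso ((Over.forget _).map eX.inv))
  haveI : CompactSpace cF.pt := ι₀.homeomorph.compactSpace
  obtain ⟨i₀⟩ := IsCofiltered.nonempty (C := Iᵒᵖ)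
  -- transport to the limit
  let c' : Cone F :=
    { pt := X
      π := { app := fun i => ι₀ ≫ cF.π.app i
             naturality := fun i j g => by
               exact (Category.id_comp _).trans
                 ((congrArg (ι₀ ≫ ·) (cF.w g).symm).trans (Category.assoc _ _ _).symm) } }
  have hc' : IsLimit c' := hF.ofIsoLimit (Cone.ext (asIso ι₀).symm (fun i => by
    show cF.π.app i = inv ι₀ ≫ ι₀ ≫ cF.π.app i
    rw [IsIso.inv_hom_id_assoc]))
  obtain ⟨j, -, Ej, hEjq, hEjfp, ⟨e⟩⟩ :=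
    H8Lim.exists_stage_fpModule hc' (i := i₀) E hEfp
  haveI := hEjq
  haveI : Coh.IsQCoh (Coh.structureModule (F.obj j)) := isQCoh_structureModule (X := F.obj j)
  obtain ⟨uX⟩ := AmpleLib.exists_pullStructureIso (c'.π.app j)
  obtain ⟨l, φ, hl, hhl⟩ := H8Lim.exists_stage_modHom hc' (i := j) Ej (Coh.structureModule (F.obj j))
    hEjfp (e.hom ≫ p ≫ uX.inv)
  obtain ⟨uφ⟩ := AmpleLib.exists_pullStructureIso (F.map φ)
  haveI := isAffineHom_π_app F c' hc' l
  let E₀ := (Scheme.Modules.pullback (F.map φ)).obj Ej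
  haveI : Coh.IsQCoh E₀ := EGA43.InjFibre.isQCoh_pullback (F.map φ) Ej
  have hE₀ : Coh.IsCoh E₀ := (isCoh_iff_isFP E₀).2 (Desc19b.ModStFib.isFP_pullback (F.map φ) Ej hEjfp)
  let p₀ : E₀ ⟶ Coh.structureModule (F.obj l) := hl ≫ uφ.hom
  let eE : (Scheme.Modules.pullback (c'.π.app l)).obj E₀ ≅ E := (H8Lim.pullStageIso c' φ).app Ej ≪≫ e
  refine ⟨F.obj l, inferInstance, c'.π.app l, inferInstance, E₀, hE₀, p₀,
    DCat.PerfTensor.isFinLocFree_of_iso eE.symm hE, ?_⟩
  let T := Scheme.Modules.pullback (c'.π.app l)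
  haveI : PreservesColimitsOfSize.{0, 0} T :=
    (Scheme.Modules.pullbackPushforwardAdjunction (c'.π.app l)).leftAdjoint_preservesColimits
  haveI := CosecLocus17.isQCoh_coker p₀
  refine Eq.trans ?_ (support_pullback_qcoh (f := c'.π.app l) (CosecLocus17.isQCoh_coker p₀) (CosecLocus17.isFT_coker p₀))
  refine (support_iso (PreservesCokernel.iso T p₀ ≪≫ cokernel.mapIso (T.map p₀) p eE
    (T.mapIso uφ.symm ≪≫ (H8Lim.pullStageIso c' φ).app _ ≪≫ uX) ?_)).symm
  have h2 : (H8Lim.pullStageIso c' φ).inv.app Ej ≫ T.map hl ≫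
      (H8Lim.pullStageIso c' φ).hom.app (Coh.structureModule (F.obj j)) = e.hom ≫ p ≫ uX.inv := hhl
  simp only [eE, p₀, Iso.trans_hom, Functor.mapIso_hom, Iso.symm_hom, CategoryTheory.Functor.map_comp,
    Category.assoc, Iso.app_hom]
  rw [← CategoryTheory.Functor.map_comp_assoc T uφ.hom, Iso.hom_inv_id,
    CategoryTheory.Functor.map_id, Category.id_comp]
  rw [← cancel_epi ((H8Lim.pullStageIso c' φ).inv.app Ej), reassoc_of% h2, Iso.inv_hom_id,
    Category.comp_id, Iso.inv_hom_id_app_assoc]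

/-- The criterion. -/
theorem hasResolutionProperty_of_cosections [CompactSpace X] [QuasiSeparatedSpace X] {ι : Type}
    [Finite ι] (U : ι → X.Opens) (hUaff : ∀ j, IsAffineOpen (U j)) (hcov : ∀ x : X, ∃ j, x ∈ U j)
    (E : ι → X.Modules) (hE : ∀ j, FlatMod.IsFinLocFree (E j))
    (p : ∀ j, E j ⟶ Coh.structureModule X)
    (hp : ∀ j, CohB1.support (cokernel (p j)) = (U j : Set X)ᶜ) : PerfAux.HasResolutionProperty X := by
  choose X₀ hX₀ a ha E₀ hE₀ p₀ hlf hs using fun j => exists_model (E j) (hE j) (p j)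
  haveI := hX₀
  haveI := ha
  have hq : ∀ j, Coh.IsQCoh (E₀ j) := fun j => (hE₀ j).1
  have hV : ∀ j, IsClosed (CohB1.support (cokernel (p₀ j))) := fun j => by
    haveI := hq j
    rw [← CosecLocus17.support_imageIdeal]
    exact (CosecLocus17.imageIdeal (p₀ j)).support.2
  let V : ∀ j, (X₀ j).Opens := fun j => ⟨_, (hV j).isOpen_compl⟩
  have hUV : ∀ j, a j ⁻¹ᵁ V j = U j := fun j => Opens.ext (by
    show (a j).base ⁻¹' (CohB1.support (cokernel (p₀ j)))ᶜ = _
    rw [Set.preimage_compl, ← hs j, hp j, compl_compl])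
  exact hasResolutionProperty_of_models X₀ a E₀ hE₀ p₀ hlf V (fun _ => rfl)
    (fun j => (hUV j).symm ▸ hUaff j) fun x => (hcov x).imp fun j hj => by rw [hUV j]; exact hj

end Groth.Agent.ResPropCrit17
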