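import Groth.Agent.DQCoh.ResPropD17
import Groth.Agent.DCat.PCTriangle

/-!
# Calculus of fractions for strictly perfect complexes on schemes with the resolution property
-/

set_option autoImplicit false
set_option backward.isDefEq.respectTransparency false
set_option backward.defeqAttrib.useBackward true
set_option linter.style.haveILetI false
set_option linter.unusedSectionVars false
set_option synthInstance.maxHeartbeats 100000
set_option backward.isDefEq.respectTransparency.types false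

universe u

open CategoryTheory CategoryTheory.Limits CategoryTheory.Pretriangulated DerivedCategory AlgebraicGeometry TopologicalSpace
open Groth.Agent.DCat Groth.Agent.Coherent
open Groth.Agent.DQCoh.DQCohEquiv17 Groth.Agent.DQCoh.ResPropD17

namespace Groth.Agent.DQCoh.ResPropFrac17

attribute [local instance] HasDerivedCategory.standard
attribute [-instance] Int.instConditionallyCompleteLinearOrder

variable {X : Scheme.{u}}

/-- A complex of quasi-coherent modules as a complex in the subcategory. -/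
noncomputable def lift (E : CochainComplex X.Modules ℤ) (hE : ∀ n, Coh.IsQCoh (E.X n)) :
    CochainComplex (QP X).FullSubcategory ℤ where
  X n := ⟨E.X n, hE n⟩
  d i j := (QP X).homMk (E.d i j)
  shape i j h := ObjectProperty.hom_ext _ (E.shape i j h)
  d_comp_d' i j k _ _ := ObjectProperty.hom_ext _ (E.d_comp_d i j k)

/-- Its image is the complex. -/
noncomputable def liftIso (E : CochainComplex X.Modules ℤ) (hE : ∀ n, Coh.IsQCoh (E.X n)) :
    ((QP X).ι.mapHomologicalComplex (ComplexShape.up ℤ)).obj (lift E hE) ≅ E :=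
  HomologicalComplex.Hom.isoOfComponents (fun _ => Iso.refl _) (fun i j _ => by simp [lift])

theorem perfect_of_iso {K L : DCoh.D X} (e : K ≅ L) (hK : DCoh.IsPerfect K) : DCoh.IsPerfect L :=
  (PerfLocal.isPerfect_iff _).2 fun x => by
    obtain ⟨W, k, hk, hx, hP⟩ := (PerfLocal.isPerfect_iff _).1 hK x
    exact ⟨W, k, hk, hx, hP.of_iso e⟩

theorem perfect_of_strictlyPerfect {E : CochainComplex X.Modules ℤ} (hE : DCoh.IsStrictlyPerfect E) :
    DCoh.IsPerfect (DerivedCategory.Q.obj E) :=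
  (PerfLocal.isPerfect_iff _).2 fun x => ⟨X, 𝟙 X, inferInstance, by simp, _, PerfLocal.strictlyPerfect_restrict (𝟙 X) hE,
    ⟨(Scheme.Modules.restrictFunctor (𝟙 X)).mapDerivedCategoryFactors.app E⟩⟩

/-- **Roofs.** -/
theorem exists_roof [CompactSpace X] [QuasiSeparatedSpace X] (hX : PerfAux.HasResolutionProperty X)
    {E F : CochainComplex X.Modules ℤ} (hE : DCoh.IsStrictlyPerfect E) (hF : DCoh.IsStrictlyPerfect F)
    (α : DerivedCategory.Q.obj E ⟶ DerivedCategory.Q.obj F) :
    ∃ (G : CochainComplex X.Modules ℤ) (g : G ⟶ E) (h : G ⟶ F), DCoh.IsStrictlyPerfect G ∧ QuasiIso g ∧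
      DerivedCategory.Q.map g ≫ α = DerivedCategory.Q.map h := by
  have hdiag : ∀ U V : X.Opens, IsAffineOpen U → IsAffineOpen V → IsAffineOpen (U ⊓ V) := fun U V hU hV =>
    Desc19b.isAffineOpen_inf_of_resolution hX hU hV
  obtain ⟨hfull, -⟩ := full_faithful hdiag
  haveI := hfull
  have hqE : ∀ n, Coh.IsQCoh (E.X n) := fun n => PullPerf.isQCoh_of_finLocFree (hE.2 n)
  have hqF : ∀ n, Coh.IsQCoh (F.X n) := fun n => PullPerf.isQCoh_of_finLocFree (hF.2 n)
  obtain ⟨a₁, b₁, hab₁⟩ := hE.1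
  obtain ⟨a₂, b₂, hab₂⟩ := hF.1
  obtain ⟨a, ha₁, ha₂⟩ : ∃ a : ℤ, a ≤ a₁ ∧ a ≤ a₂ := ⟨min a₁ a₂, min_le_left _ _, min_le_right _ _⟩
  let E₀ := lift E hqE
  let F₀ := lift F hqF
  haveI : E₀.IsStrictlyGE a := (CochainComplex.isStrictlyGE_iff _ _).2 fun i hi =>
    (IsZero.iff_id_eq_zero _).2 (ObjectProperty.hom_ext _ ((hab₁ i (Or.inl (by omega))).eq_of_src _ _))
  haveI : E₀.IsStrictlyLE b₁ := (CochainComplex.isStrictlyLE_iff _ _).2 fun i hi =>
    (IsZero.iff_id_eq_zero _).2 (ObjectProperty.hom_ext _ ((hab₁ i (Or.inr (by omega))).eq_of_src _ _))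
  haveI : F₀.IsStrictlyGE a := (CochainComplex.isStrictlyGE_iff _ _).2 fun i hi =>
    (IsZero.iff_id_eq_zero _).2 (ObjectProperty.hom_ext _ ((hab₂ i (Or.inl (by omega))).eq_of_src _ _))
  let Φ := (QP X).ι.mapDerivedCategory
  let T := (QP X).ι.mapHomologicalComplex (ComplexShape.up ℤ)
  let eE : Φ.obj (DerivedCategory.Q.obj E₀) ≅ DerivedCategory.Q.obj E :=
    (QP X).ι.mapDerivedCategoryFactors.app E₀ ≪≫ DerivedCategory.Q.mapIso (liftIso E hqE)
  let eF : Φ.obj (DerivedCategory.Q.obj F₀) ≅ DerivedCategory.Q.obj F :=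
    (QP X).ι.mapDerivedCategoryFactors.app F₀ ≪≫ DerivedCategory.Q.mapIso (liftIso F hqF)
  obtain ⟨β, hβ⟩ := Φ.map_surjective (eE.hom ≫ α ≫ eF.inv)
  obtain ⟨N, hNa, -, s, hs, f, hfac⟩ := DerivedCategory.right_fac_of_isStrictlyLE_of_isStrictlyGE a b₁ β
  have hsf : DerivedCategory.Q.map s ≫ β = DerivedCategory.Q.map f := by
    rw [hfac, IsIso.hom_inv_id_assoc]
  haveI : IsIso (DerivedCategory.Q.map (T.map s)) :=
    (NatIso.isIso_map_iff (QP X).ι.mapDerivedCategoryFactors s).1 (inferInstanceAs (IsIso (Φ.map (DerivedCategory.Q.map s))))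
  haveI : IsIso (DerivedCategory.Q.map (T.map s ≫ (liftIso E hqE).hom)) := by
    rw [Functor.map_comp]
    infer_instance
  obtain ⟨G, φ, hG, hφ⟩ := ResProp17.exists_resolution hX (T.obj N)
    ⟨a, fun n hn => (QP X).ι.map_isZero (N.isZero_of_isStrictlyGE a n hn)⟩ (fun n => (N.X n).property)
    (perfect_of_iso (asIso (DerivedCategory.Q.map (T.map s ≫ (liftIso E hqE).hom))).symm (perfect_of_strictlyPerfect hE))
  haveI : QuasiIso (T.map s ≫ (liftIso E hqE).hom) := (DerivedCategory.isIso_Q_map_iff_quasiIso _ _).1 inferInstance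
  refine ⟨G, φ ≫ T.map s ≫ (liftIso E hqE).hom, φ ≫ T.map f ≫ (liftIso F hqF).hom, hG, inferInstance, ?_⟩
  have key := congrArg Φ.map hsf
  rw [Φ.map_comp, hβ] at key
  have hn₁ := (QP X).ι.mapDerivedCategoryFactors.hom.naturality s
  have hn₂ := (QP X).ι.mapDerivedCategoryFactors.hom.naturality f
  simp only [Functor.comp_map] at hn₁ hn₂
  rw [Functor.map_comp, Functor.map_comp, Functor.map_comp, Functor.map_comp, Category.assoc, Category.assoc]
  congr 1
  rw [← cancel_epi ((QP X).ι.mapDerivedCategoryFactors.hom.app N)]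
  simp only [← Category.assoc]
  rw [← hn₁, ← hn₂]
  have key' : Φ.map (DerivedCategory.Q.map s) ≫ eE.hom ≫ α = Φ.map (DerivedCategory.Q.map f) ≫ eF.hom := by
    rw [← key]
    simp [Category.assoc]
  simpa [Category.assoc, eE, eF] using key'

/-- **Homotopy after a quasi-isomorphism.** -/
theorem exists_homotopy [CompactSpace X] [QuasiSeparatedSpace X] (hX : PerfAux.HasResolutionProperty X)
    {E F : CochainComplex X.Modules ℤ} (hE : DCoh.IsStrictlyPerfect E) (hF : DCoh.IsStrictlyPerfect F)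
    (α β : E ⟶ F) (h : DerivedCategory.Q.map α = DerivedCategory.Q.map β) :
    ∃ (G : CochainComplex X.Modules ℤ) (γ : G ⟶ E), DCoh.IsStrictlyPerfect G ∧ QuasiIso γ ∧
      Nonempty (Homotopy (γ ≫ α) (γ ≫ β)) := by
  let δ := α - β
  let H := HomotopyCategory.quotient X.Modules (ComplexShape.up ℤ)
  let T := (CochainComplex.mappingCone.triangleh δ).invRotate
  have hT : T ∈ distTriang _ := inv_rot_of_distTriang _ (HomotopyCategory.mappingCone_triangleh_distinguished δ)
  let C := (CochainComplex.mappingCone δ)⟦(-1 : ℤ)⟧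
  have hC : DCoh.IsStrictlyPerfect C :=
    PCTriangle.strictlyPerfect_shift (PCTriangle.strictlyPerfect_mappingCone δ hE hF) _
  let eC : H.obj C ≅ T.obj₁ := (H.commShiftIso (-1 : ℤ)).app (CochainComplex.mappingCone δ)
  obtain ⟨p, hp⟩ := H.map_surjective (X := C) (Y := E) (eC.hom ≫ T.mor₁)
  have hpδ : H.map (p ≫ δ) = 0 := by
    rw [H.map_comp, hp, Category.assoc]
    exact (congrArg (eC.hom ≫ ·) (comp_distTriang_mor_zero₁₂ _ hT)).trans comp_zero
  have hQδ : DerivedCategory.Q.map δ = 0 := by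
    rw [Functor.map_sub, h, sub_self]
  let L := DerivedCategory.Qh (C := X.Modules)
  have hz : L.map T.mor₂ = 0 := by
    show L.map (H.map δ) = 0
    have hn := (DerivedCategory.quotientCompQhIso X.Modules).hom.naturality δ
    simp only [Functor.comp_map, hQδ, comp_zero] at hn
    exact (cancel_mono ((DerivedCategory.quotientCompQhIso X.Modules).hom.app F)).1 (hn.trans zero_comp.symm)
  obtain ⟨σ, hσ⟩ := Triangle.coyoneda_exact₂ _ (L.map_distinguished _ hT) (𝟙 _)
    ((Category.id_comp _).trans hz)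
  let u : ∀ K, L.obj (H.obj K) ≅ DerivedCategory.Q.obj K := fun K => (DerivedCategory.quotientCompQhIso X.Modules).app K
  let σ' : DerivedCategory.Q.obj E ⟶ DerivedCategory.Q.obj C :=
    (u E).inv ≫ σ ≫ L.map eC.inv ≫ (u C).hom
  have hσp : σ' ≫ DerivedCategory.Q.map p = 𝟙 _ := by
    have hn := (DerivedCategory.quotientCompQhIso X.Modules).hom.naturality p
    simp only [Functor.comp_map] at hn
    simp only [σ', Category.assoc]
    erw [← hn]
    rw [hp, L.map_comp, Category.assoc, ← L.map_comp_assoc, Iso.inv_hom_id, L.map_id, Category.id_comp]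
    refine Eq.trans ?_ (u E).inv_hom_id
    congr 1
    rw [← Category.assoc]
    exact (congrArg (· ≫ (u E).hom) hσ.symm).trans (Category.id_comp _)
  obtain ⟨G, g, k, hG, hg, hgk⟩ := exists_roof hX hE hC σ'
  have hQ : DerivedCategory.Q.map (k ≫ p) = DerivedCategory.Q.map g := by
    rw [Functor.map_comp, ← hgk, Category.assoc, hσp, Category.comp_id]
  haveI : IsIso (DerivedCategory.Q.map g) := (DerivedCategory.isIso_Q_map_iff_quasiIso _ _).2 hg
  refine ⟨G, k ≫ p, hG, (DerivedCategory.isIso_Q_map_iff_quasiIso _ _).1 (hQ ▸ inferInstance), ⟨?_⟩⟩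
  refine HomotopyCategory.homotopyOfEq _ _ (sub_eq_zero.1 ?_)
  show H.map ((k ≫ p) ≫ α) - H.map ((k ≫ p) ≫ β) = 0
  rw [← Functor.map_sub, ← Preadditive.comp_sub, Category.assoc, H.map_comp]
  exact (congrArg (H.map k ≫ ·) hpδ).trans comp_zero

end Groth.Agent.DQCoh.ResPropFrac17
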