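import Groth.Agent.DQCoh.ResPropCrit17
import Groth.Agent.H8Lim.ModLocFree
import Groth.Agent.Desc19b.ResPropRel

/-!
# The resolution property of a limit is attained at a stage
-/

set_option autoImplicit false
set_option backward.isDefEq.respectTransparency false
set_option backward.isDefEq.respectTransparency.types false
set_option linter.style.haveILetI false
set_option maxHeartbeats 800000

universe u

open CategoryTheory CategoryTheory.Limits AlgebraicGeometry Opposite TopologicalSpace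
open Groth.Agent.Coherent Groth.Agent.AmpleLib

noncomputable section

namespace Groth.Agent.ResPropLimit17

variable {X Y : Scheme.{u}}

/-- Cosections pull back, with their loci. -/
theorem exists_pullback_cosection (g : Y ⟶ X) (E : X.Modules) (hE : FlatMod.IsFinLocFree E)
    (p : E ⟶ Coh.structureModule X) :
    ∃ (E' : Y.Modules) (p' : E' ⟶ Coh.structureModule Y), FlatMod.IsFinLocFree E' ∧
      CohB1.support (cokernel p') = g.base ⁻¹' CohB1.support (cokernel p) := by
  haveI := CAlgH3.LocFreeFactor.isQCoh_of_finLocFree hE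
  obtain ⟨u⟩ := AmpleLib.exists_pullStructureIso g
  let T := Scheme.Modules.pullback g
  haveI : PreservesColimitsOfSize.{0, 0} T :=
    (Scheme.Modules.pullbackPushforwardAdjunction g).leftAdjoint_preservesColimits
  refine ⟨T.obj E, T.map p ≫ u.hom, DCat.PullPerf.isFinLocFree_pullback g hE, ?_⟩
  refine Eq.trans ?_ (support_pullback_qcoh (f := g) (CosecLocus17.isQCoh_coker p) (CosecLocus17.isFT_coker p))
  exact (ResPropCrit17.support_iso (PreservesCokernel.iso T p ≪≫ cokernel.mapIso (T.map p)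
    (T.map p ≫ u.hom) (Iso.refl _) u (by simp))).symm

/-- The non-vanishing locus of a cosection, as a quasi-compact open. -/
theorem exists_locus [CompactSpace X] (E : X.Modules) (hE : FlatMod.IsFinLocFree E)
    (p : E ⟶ Coh.structureModule X) :
    ∃ V : X.Opens, IsCompact (V : Set X) ∧ (V : Set X) = (CohB1.support (cokernel p))ᶜ := by
  haveI := CAlgH3.LocFreeFactor.isQCoh_of_finLocFree hE
  have hft : CohB1.IsFT E := haveI := Props12.isFP_of_isFinLocFree E hE; inferInstance
  let I := CosecLocus17.imageIdeal p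
  refine ⟨⟨_, I.support.2.isOpen_compl⟩, ?_,
    congrArg compl (CosecLocus17.support_imageIdeal p)⟩
  have hFG : ∀ A : X.affineOpens, (I.ideal A).FG := fun A => by
    haveI := H8Lim.finite_sections_of_isFT hft A.2
    have hrange : LinearMap.range (appLin p A.1) = I.ideal A := by
      ext f
      rw [CosecLocus17.mem_imageIdeal, LinearMap.mem_range]
      rfl
    rw [← hrange, LinearMap.range_eq_map]
    exact Module.Finite.fg_top.map _
  obtain ⟨t, ht, hcov⟩ := isCompact_iff_finite_and_eq_biUnion_affineOpens.1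
    (show IsCompact ((⊤ : X.Opens) : Set X) from isCompact_univ)
  have hcpt : ∀ A : X.affineOpens, IsCompact ((A.1 : Set X) ∩ (I.support : Set X)ᶜ) := fun A => by
    obtain ⟨s, hs⟩ := hFG A
    have hz : (A.1 : Set X) ∩ (I.support : Set X)ᶜ = ⋃ f ∈ s, (X.basicOpen f : Set X) := by
      ext x
      simp only [Set.mem_inter_iff, Set.mem_compl_iff, Set.mem_iUnion, SetLike.mem_coe, exists_prop]
      constructor
      · rintro ⟨hxA, hx⟩
        rw [Scheme.IdealSheafData.mem_support_iff_of_mem hxA, ← hs,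
          Ideal.span, ← Ideal.span, Scheme.zeroLocus_span, Scheme.mem_zeroLocus_iff] at hx
        simpa using hx
      · rintro ⟨f, hf, hxf⟩
        have hxA : x ∈ A.1 := X.basicOpen_le f hxf
        refine ⟨hxA, fun hx => ?_⟩
        rw [Scheme.IdealSheafData.mem_support_iff_of_mem hxA, Scheme.mem_zeroLocus_iff] at hx
        exact hx f (hs ▸ Ideal.subset_span hf) hxf
    rw [hz]
    exact s.isCompact_biUnion fun f _ => (A.2.basicOpen f).isCompact
  rw [show ((⟨_, I.support.2.isOpen_compl⟩ : X.Opens) : Set X) =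
      ⋃ A ∈ t, ((A.1 : Set X) ∩ (I.support : Set X)ᶜ) from Set.ext fun x =>
    ⟨fun hx => by
      have hx' : x ∈ (⊤ : X.Opens) := trivial
      rw [hcov] at hx'
      simp only [Opens.mem_iSup] at hx'
      obtain ⟨A, hA, hxA⟩ := hx'
      exact Set.mem_iUnion₂.2 ⟨A, hA, hxA, hx⟩,
    fun hx => by obtain ⟨A, -, -, h⟩ := Set.mem_iUnion₂.1 hx; exact h⟩]
  exact ht.isCompact_biUnion fun A _ => hcpt A

variable {I : Type u} [SmallCategory I] [IsCofiltered I] {D : I ⥤ Scheme.{u}} {c : Cone D}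
  [∀ {i j : I} (f : i ⟶ j), IsAffineHom (D.map f)] (hc : IsLimit c)
  [∀ i, CompactSpace (D.obj i)] [∀ i, QuasiSeparatedSpace (D.obj i)]

include hc in
/-- An affine non-vanishing locus of a cosection comes from a stage. -/
theorem exists_stage_cosection (E : c.pt.Modules) (hE : FlatMod.IsFinLocFree E)
    (p : E ⟶ Coh.structureModule c.pt) (U : c.pt.Opens) (hU : IsAffineOpen U)
    (hp : CohB1.support (cokernel p) = (U : Set c.pt)ᶜ) :
    ∃ (i : I) (Ei : (D.obj i).Modules) (pi : Ei ⟶ Coh.structureModule (D.obj i))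
      (Vi : (D.obj i).Opens), FlatMod.IsFinLocFree Ei ∧ IsAffineOpen Vi ∧
      (Vi : Set (D.obj i)) = (CohB1.support (cokernel pi))ᶜ ∧ c.π.app i ⁻¹ᵁ Vi = U := by
  obtain ⟨i₀⟩ := IsCofiltered.nonempty (C := I)
  haveI := CAlgH3.LocFreeFactor.isQCoh_of_finLocFree hE
  obtain ⟨j, -, Ej, hEjq, hEjfp, ⟨e⟩⟩ := H8Lim.exists_stage_fpModule hc (i := i₀) E
    (Props12.isFP_of_isFinLocFree E hE)
  haveI := hEjq
  obtain ⟨j', ψ, hlf⟩ := (H8Lim.isFinLocFree_iff_eventually hc Ej hEjfp).1
    (DCat.PerfTensor.isFinLocFree_of_iso e.symm hE)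
  let Ek := (Scheme.Modules.pullback (D.map ψ)).obj Ej
  haveI : Coh.IsQCoh Ek := EGA43.InjFibre.isQCoh_pullback (D.map ψ) Ej
  haveI : Coh.IsQCoh (Coh.structureModule (D.obj j')) := isQCoh_structureModule (X := D.obj j')
  let ek : (Scheme.Modules.pullback (c.π.app j')).obj Ek ≅ E := (H8Lim.pullStageIso c ψ).app Ej ≪≫ e
  obtain ⟨uX⟩ := AmpleLib.exists_pullStructureIso (c.π.app j')
  obtain ⟨l, φ, hl, hhl⟩ := H8Lim.exists_stage_modHom hc (i := j') Ek (Coh.structureModule (D.obj j'))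
    (Props12.isFP_of_isFinLocFree Ek hlf) (ek.hom ≫ p ≫ uX.inv)
  obtain ⟨uφ⟩ := AmpleLib.exists_pullStructureIso (D.map φ)
  let El := (Scheme.Modules.pullback (D.map φ)).obj Ek
  have hElf : FlatMod.IsFinLocFree El := DCat.PullPerf.isFinLocFree_pullback (D.map φ) hlf
  haveI := CAlgH3.LocFreeFactor.isQCoh_of_finLocFree hElf
  let pl : El ⟶ Coh.structureModule (D.obj l) := hl ≫ uφ.hom
  let T := Scheme.Modules.pullback (c.π.app l)
  haveI : PreservesColimitsOfSize.{0, 0} T :=
    (Scheme.Modules.pullbackPushforwardAdjunction (c.π.app l)).leftAdjoint_preservesColimits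
  have hs : CohB1.support (cokernel p) = (c.π.app l).base ⁻¹' CohB1.support (cokernel pl) := by
    refine Eq.trans ?_ (support_pullback_qcoh (f := c.π.app l) (CosecLocus17.isQCoh_coker pl)
      (CosecLocus17.isFT_coker pl))
    refine (ResPropCrit17.support_iso (PreservesCokernel.iso T pl ≪≫ cokernel.mapIso (T.map pl) p
      ((H8Lim.pullStageIso c φ).app Ek ≪≫ ek)
      (T.mapIso uφ.symm ≪≫ (H8Lim.pullStageIso c φ).app _ ≪≫ uX) ?_)).symm
    have h2 : (H8Lim.pullStageIso c φ).inv.app Ek ≫ T.map hl ≫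
        (H8Lim.pullStageIso c φ).hom.app (Coh.structureModule (D.obj j')) = ek.hom ≫ p ≫ uX.inv := hhl
    simp only [pl, Iso.trans_hom, Functor.mapIso_hom, Iso.symm_hom, CategoryTheory.Functor.map_comp,
      Category.assoc, Iso.app_hom]
    rw [← CategoryTheory.Functor.map_comp_assoc T uφ.hom, Iso.hom_inv_id,
      CategoryTheory.Functor.map_id, Category.id_comp]
    simp only [ek, Iso.trans_hom, Category.assoc, Iso.app_hom] at h2 ⊢
    rw [← cancel_epi ((H8Lim.pullStageIso c φ).inv.app Ek), reassoc_of% h2, Iso.inv_hom_id,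
      Category.comp_id, Iso.inv_hom_id_app_assoc]
  obtain ⟨W, hWc, hW⟩ := exists_locus El hElf pl
  have hpre : c.π.app l ⁻¹ᵁ W = U := Opens.ext (by
    show (c.π.app l).base ⁻¹' (W : Set (D.obj l)) = _
    rw [hW, Set.preimage_compl, ← hs, hp, compl_compl])
  obtain ⟨q, V, hV, hVU⟩ := exists_isAffineOpen_preimage_eq D c hc U hU
  obtain ⟨m, hml, hmq, -⟩ := IsCofilteredOrEmpty.cone_objs l q
  obtain ⟨n, hnm, hn⟩ := exists_map_preimage_eq_map_preimage D c hc
    (U := D.map hml ⁻¹ᵁ W) (V := D.map hmq ⁻¹ᵁ V)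
    (QuasiCompact.isCompact_preimage (f := D.map hml) _ W.2 hWc)
    (hV.preimage _).isCompact
    (by rw [← Scheme.Hom.comp_preimage, ← Scheme.Hom.comp_preimage, c.w, c.w, hpre, hVU])
  obtain ⟨En, pn, hEn, hsn⟩ := exists_pullback_cosection (D.map (hnm ≫ hml)) El hElf pl
  refine ⟨n, En, pn, D.map hnm ⁻¹ᵁ (D.map hml ⁻¹ᵁ W), hEn, hn ▸ (hV.preimage _).preimage _, ?_, ?_⟩
  · rw [hsn, ← Set.preimage_compl, ← hW, D.map_comp]
    rfl
  · rw [← Scheme.Hom.comp_preimage, ← Scheme.Hom.comp_preimage, c.w, c.w, hpre]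

include hc in
/-- The resolution property descends to a stage. -/
theorem exists_stage_hasResolutionProperty (h : PerfAux.HasResolutionProperty c.pt) :
    ∃ i : I, PerfAux.HasResolutionProperty (D.obj i) := by
  classical
  obtain ⟨i₀⟩ := IsCofiltered.nonempty (C := I)
  haveI := isAffineHom_π_app D c hc i₀
  haveI : CompactSpace c.pt := QuasiCompact.compactSpace_of_compactSpace (c.π.app i₀)
  haveI : QuasiSeparatedSpace c.pt := quasiSeparatedSpace_of_quasiSeparated (c.π.app i₀)
  obtain ⟨N, U, hUaff, hcov⟩ : ∃ (N : ℕ) (U : Fin N → c.pt.Opens),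
      (∀ k, IsAffineOpen (U k)) ∧ ∀ x, ∃ k, x ∈ U k := by
    obtain ⟨T, hT⟩ := isCompact_univ.elim_finite_subcover
      (fun V : c.pt.affineOpens => ((V.1 : c.pt.Opens) : Set c.pt)) (fun V => V.1.2) fun x _ => by
        obtain ⟨V, hV, hxV, -⟩ := exists_isAffineOpen_mem_and_subset (x := x) (U := ⊤) trivial
        exact Set.mem_iUnion.2 ⟨⟨V, hV⟩, hxV⟩
    refine ⟨T.card, fun k => (T.equivFin.symm k).1.1, fun k => (T.equivFin.symm k).1.2, fun x => ?_⟩
    obtain ⟨V, hV, hx⟩ := Set.mem_iUnion₂.1 (hT (Set.mem_univ x))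
    exact ⟨T.equivFin ⟨V, hV⟩, by simpa using hx⟩
  choose J _ hJ hJU using fun k => AmpleLib.exists_idealMod_compl (hUaff k)
  choose E π hE hπ using fun k => h _ (hJ k).1 (hJ k).2
  haveI := hπ
  haveI := fun k => CAlgH3.LocFreeFactor.isQCoh_of_finLocFree (hE k)
  have hsupp : ∀ k, CohB1.support (cokernel (π k ≫ ClSub.idealModι (J k))) = (U k : Set c.pt)ᶜ := fun k => by
    rw [CosecLocus17.support_coker_of_epi (J k) (π k), ← hJU k, Opens.coe_mk, compl_compl]
  choose i Ei pi Vi hEi hVi hVs hVU using fun k =>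
    exists_stage_cosection hc (E k) (hE k) (π k ≫ ClSub.idealModι (J k)) (U k) (hUaff k) (hsupp k)
  obtain ⟨m, hm⟩ := IsCofiltered.inf_objs_exists (Finset.univ.image i)
  have gm : ∀ k, m ⟶ i k := fun k => (hm (Finset.mem_image_of_mem i (Finset.mem_univ k))).some
  obtain ⟨n, gn, hn⟩ := exists_map_eq_top D c hc (⨆ k, D.map (gm k) ⁻¹ᵁ Vi k) (by
    simp_rw [Scheme.Hom.preimage_iSup, ← Scheme.Hom.comp_preimage, c.w, hVU]
    exact eq_top_iff.2 fun x _ => Opens.mem_iSup.2 (hcov x))
  refine ⟨n, ?_⟩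
  choose En pn hEn hsn using fun k =>
    exists_pullback_cosection (D.map (gn ≫ gm k)) (Ei k) (hEi k) (pi k)
  refine ResPropCrit17.hasResolutionProperty_of_cosections (fun k => D.map (gn ≫ gm k) ⁻¹ᵁ Vi k)
    (fun k => (hVi k).preimage _) (fun x => ?_) En hEn pn fun k => ?_
  · have hx : x ∈ D.map gn ⁻¹ᵁ (⨆ k, D.map (gm k) ⁻¹ᵁ Vi k) := hn.ge (Opens.mem_top x)
    rw [Scheme.Hom.preimage_iSup] at hx
    obtain ⟨k, hk⟩ := Opens.mem_iSup.1 hx
    refine ⟨k, ?_⟩
    rw [D.map_comp, Scheme.Hom.comp_preimage]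
    exact hk
  · rw [hsn]
    show _ = ((D.map (gn ≫ gm k)).base ⁻¹' (Vi k : Set (D.obj (i k))))ᶜ
    rw [hVs, Set.preimage_compl, compl_compl]

end Groth.Agent.ResPropLimit17
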