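import Groth.Agent.DQCoh.ResPropFrac17

/-!
# Perfect objects as a localization of strictly perfect complexes
-/

set_option autoImplicit false
set_option backward.isDefEq.respectTransparency false
set_option backward.defeqAttrib.useBackward true
set_option linter.style.haveILetI false
set_option linter.unusedSectionVars false
set_option synthInstance.maxHeartbeats 100000
set_option backward.isDefEq.respectTransparency.types false

universe u

open CategoryTheory CategoryTheory.Limits DerivedCategory AlgebraicGeometry HomologicalComplex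
open Groth.Agent.DCat Groth.Agent.Coherent

namespace Groth.Agent.DQCoh.ResPropLoc17

attribute [local instance] HasDerivedCategory.standard
attribute [-instance] Int.instConditionallyCompleteLinearOrder

variable {X : Scheme.{u}}

/-- Strictly perfect complexes. -/
abbrev SP (X : Scheme.{u}) : ObjectProperty (CochainComplex X.Modules ℤ) := fun E => DCoh.IsStrictlyPerfect E

/-- Their quasi-isomorphisms. -/
abbrev W (X : Scheme.{u}) : MorphismProperty (SP X).FullSubcategory :=
  (HomologicalComplex.quasiIso X.Modules (ComplexShape.up ℤ)).inverseImage (SP X).ι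

theorem w_iff {A B : (SP X).FullSubcategory} (g : A ⟶ B) : W X g ↔ QuasiIso g.hom := Iff.rfl

theorem w_comp {A B C : (SP X).FullSubcategory} {g : A ⟶ B} {h : B ⟶ C} (hg : W X g) (hh : W X h) :
    W X (g ≫ h) :=
  haveI : QuasiIso g.hom := hg
  haveI : QuasiIso h.hom := hh
  (inferInstance : QuasiIso (g.hom ≫ h.hom))

/-- Homotopic maps agree in the localization. -/
theorem map_eq_of_homotopy {A B : (SP X).FullSubcategory} (f g : A ⟶ B) (h : Homotopy f.hom g.hom) :
    (W X).Q.map f = (W X).Q.map g := by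
  have hK : DCoh.IsStrictlyPerfect A.obj.cylinder := by
    refine PCTriangle.strictlyPerfect_mappingCone _ A.property ?_
    obtain ⟨⟨a, b, hab⟩, hf⟩ := A.property
    let e : ∀ i, (A.obj ⊞ A.obj).X i ≅ A.obj.X i ⊞ A.obj.X i := fun i =>
      (HomologicalComplex.eval X.Modules (ComplexShape.up ℤ) i).mapBiprod A.obj A.obj
    refine ⟨⟨a, b, fun i hi => IsZero.of_iso ?_ (e i)⟩, fun i => ?_⟩
    · rw [biprod_isZero_iff]
      exact ⟨hab i hi, hab i hi⟩
    · exact PerfTensor.isFinLocFree_of_iso (e i ≪≫ biprod.isoCoprod _ _).symm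
        (show FlatMod.IsFinLocFree (A.obj.X i ⨿ A.obj.X i) from
          PerfTensor.isFinLocFree_of_iso (HasColimit.isoOfNatIso (Discrete.natIso fun j => by
              rcases j with ⟨_ | _⟩ <;> exact Iso.refl _))
            (PerfTensor.isFinLocFree_sigma (fun j : WalkingPair => (pair (A.obj.X i) (A.obj.X i)).obj ⟨j⟩)
              fun j => by cases j; exacts [hf i, hf i]))
  let K : (SP X).FullSubcategory := ⟨A.obj.cylinder, hK⟩
  let i₀ : A ⟶ K := (SP X).homMk (cylinder.ι₀ A.obj)
  let i₁ : A ⟶ K := (SP X).homMk (cylinder.ι₁ A.obj)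
  let p : K ⟶ A := (SP X).homMk (cylinder.π A.obj)
  let d : K ⟶ B := (SP X).homMk (cylinder.desc f.hom g.hom h)
  have hp : W X p := by
    show QuasiIso (cylinder.π A.obj)
    exact (inferInstance : QuasiIso (cylinder.homotopyEquiv A.obj (fun j => ⟨j - 1, by simp⟩)).hom)
  haveI : IsIso ((W X).Q.map p) := (W X).Q_inverts p hp
  have h₀₁ : (W X).Q.map i₀ = (W X).Q.map i₁ := by
    rw [← cancel_mono ((W X).Q.map p), ← Functor.map_comp, ← Functor.map_comp]
    congr 1
    exact ObjectProperty.hom_ext _ ((cylinder.ι₀_π A.obj).trans (cylinder.ι₁_π A.obj).symm)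
  have hf : f = i₀ ≫ d := ObjectProperty.hom_ext _ (cylinder.ι₀_desc f.hom g.hom h).symm
  have hg : g = i₁ ≫ d := ObjectProperty.hom_ext _ (cylinder.ι₁_desc f.hom g.hom h).symm
  rw [hf, hg, Functor.map_comp, Functor.map_comp, h₀₁]

variable [CompactSpace X] [QuasiSeparatedSpace X] (hX : PerfAux.HasResolutionProperty X)

include hX in
/-- Two composites equal in `D(X)` agree in the localization after a quasi-isomorphism. -/
theorem exists_equalizer {A B : (SP X).FullSubcategory} (f g : A ⟶ B)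
    (h : DerivedCategory.Q.map f.hom = DerivedCategory.Q.map g.hom) :
    ∃ (G : (SP X).FullSubcategory) (γ : G ⟶ A), W X γ ∧ (W X).Q.map (γ ≫ f) = (W X).Q.map (γ ≫ g) := by
  obtain ⟨G, γ, hG, hγ, ⟨H⟩⟩ := ResPropFrac17.exists_homotopy hX A.property B.property f.hom g.hom h
  exact ⟨⟨G, hG⟩, (SP X).homMk γ, hγ, map_eq_of_homotopy _ _ H⟩

include hX in
/-- Completing a cospan. -/
theorem exists_square {G₁ G₂ B : (SP X).FullSubcategory} (h₁ : G₁ ⟶ B) (g₂ : G₂ ⟶ B) (hg₂ : W X g₂) :
    ∃ (G : (SP X).FullSubcategory) (a : G ⟶ G₁) (b : G ⟶ G₂), W X a ∧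
      (W X).Q.map (a ≫ h₁) = (W X).Q.map (b ≫ g₂) := by
  haveI : IsIso (DerivedCategory.Q.map g₂.hom) := (DerivedCategory.isIso_Q_map_iff_quasiIso _ _).2 hg₂
  obtain ⟨G, a, b, hG, ha, hab⟩ := ResPropFrac17.exists_roof hX G₁.property G₂.property
    (DerivedCategory.Q.map h₁.hom ≫ inv (DerivedCategory.Q.map g₂.hom))
  let K : (SP X).FullSubcategory := ⟨G, hG⟩
  let a' : K ⟶ G₁ := (SP X).homMk a
  let b' : K ⟶ G₂ := (SP X).homMk b
  obtain ⟨G', γ, hγ, e⟩ := exists_equalizer hX (a' ≫ h₁) (b' ≫ g₂) (by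
    show DerivedCategory.Q.map (a ≫ h₁.hom) = DerivedCategory.Q.map (b ≫ g₂.hom)
    rw [Functor.map_comp, Functor.map_comp, ← hab]
    simp)
  exact ⟨G', γ ≫ a', γ ≫ b', w_comp hγ ha, by simpa [Category.assoc] using e⟩

/-- Morphisms given by roofs. -/
def roofs : MorphismProperty (W X).Localization := fun A B f =>
  ∃ (G : (SP X).FullSubcategory) (g : G ⟶ A.as.obj) (h : G ⟶ B.as.obj), W X g ∧ (W X).Q.map g ≫ f = (W X).Q.map h

include hX in
theorem roofs_eq_top : roofs (X := X) = ⊤ := by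
  haveI : (roofs (X := X)).IsStableUnderComposition := ⟨fun {A B C} f₁ f₂ ⟨G₁, g₁, h₁, hg₁, e₁⟩ ⟨G₂, g₂, h₂, hg₂, e₂⟩ => by
    obtain ⟨G, a, b, ha, e⟩ := exists_square hX h₁ g₂ hg₂
    refine ⟨G, a ≫ g₁, b ≫ h₂, w_comp ha hg₁, ?_⟩
    simp only [Functor.map_comp, Category.assoc] at e ⊢
    rw [reassoc_of% e₁, reassoc_of% e, e₂]⟩
  refine Localization.Construction.morphismProperty_eq_top _ (fun A B f => ?_) (fun A B w hw => ?_)
  · refine ⟨A, 𝟙 _, f, (inferInstance : QuasiIso (𝟙 A.obj)), ?_⟩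
    rw [CategoryTheory.Functor.map_id]
    exact Category.id_comp _
  · refine ⟨A, w, 𝟙 _, hw, ?_⟩
    rw [CategoryTheory.Functor.map_id]
    exact (Localization.Construction.wIso w hw).hom_inv_id

include hX in
theorem isLocalization
    (h : ∀ E : (SP X).FullSubcategory, DCoh.IsPerfect (((SP X).ι ⋙ DerivedCategory.Q).obj E)) :
    (ObjectProperty.lift (fun K : DCoh.D X => DCoh.IsPerfect K) ((SP X).ι ⋙ DerivedCategory.Q) h).IsLocalization
      (W X) := by
  let P : ObjectProperty (DCoh.D X) := fun K => DCoh.IsPerfect K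
  let L := ObjectProperty.lift P ((SP X).ι ⋙ DerivedCategory.Q) h
  have hL : (W X).IsInvertedBy L := fun A B f hf => by
    haveI : IsIso (DerivedCategory.Q.map f.hom) := (DerivedCategory.isIso_Q_map_iff_quasiIso _ _).2 hf
    haveI : IsIso (P.ι.map (L.map f)) := ‹_›
    exact isIso_of_fully_faithful P.ι _
  refine ⟨hL, ?_⟩
  let Φ := Localization.Construction.lift L hL
  have hΦ : ∀ {A B : (SP X).FullSubcategory} (f : A ⟶ B), (Φ.map ((W X).Q.map f)).hom = DerivedCategory.Q.map f.hom := by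
    intro A B f
    have := Functor.congr_hom (Localization.Construction.fac L hL) f
    simp at this
    exact congrArg (fun t => t.hom) this
  have hrel : ∀ {A B : (W X).Localization} {G : (SP X).FullSubcategory} (g : G ⟶ A.as.obj) (k : G ⟶ B.as.obj)
      (f : A ⟶ B), (W X).Q.map g ≫ f = (W X).Q.map k →
      DerivedCategory.Q.map g.hom ≫ (Φ.map f).hom = DerivedCategory.Q.map k.hom := by
    intro A B G g k f e
    have e' := congrArg (fun t => (Φ.map t).hom) e
    simp only [Functor.map_comp] at e'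
    rw [← hΦ g, ← hΦ k]
    exact e'
  have top : ∀ {A B : (W X).Localization} (f : A ⟶ B), roofs f := fun f => by rw [roofs_eq_top hX]; trivial
  haveI : Φ.Full := ⟨fun {A B} α => by
    obtain ⟨G, g, k, hG, hg, e⟩ := ResPropFrac17.exists_roof hX A.as.obj.property B.as.obj.property α.hom
    let K : (SP X).FullSubcategory := ⟨G, hG⟩
    let g' : K ⟶ A.as.obj := (SP X).homMk g
    let k' : K ⟶ B.as.obj := (SP X).homMk k
    have hg' : W X g' := hg
    let i := Localization.Construction.wIso g' hg'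
    refine ⟨i.inv ≫ (W X).Q.map k', ObjectProperty.hom_ext _ ?_⟩
    haveI : IsIso (DerivedCategory.Q.map g) := (DerivedCategory.isIso_Q_map_iff_quasiIso _ _).2 hg
    exact (cancel_epi (DerivedCategory.Q.map g)).1 ((hrel g' k' _ (i.hom_inv_id_assoc _)).trans e.symm)⟩
  haveI : Φ.Faithful := ⟨fun {A B f f'} e => by
    obtain ⟨G, g, k, hg, hk⟩ := top f
    obtain ⟨G', g', k', hg', hk'⟩ := top f'
    obtain ⟨K, a, b, ha, hab⟩ := exists_square hX g g' hg'
    have h1 : (W X).Q.map (a ≫ g) ≫ f = (W X).Q.map (a ≫ k) := by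
      rw [Functor.map_comp, Category.assoc, hk, ← Functor.map_comp]
    have h2 : (W X).Q.map (a ≫ g) ≫ f' = (W X).Q.map (b ≫ k') := by
      rw [hab, Functor.map_comp, Category.assoc, hk', ← Functor.map_comp]
    obtain ⟨K', γ, hγ, eγ⟩ := exists_equalizer hX (a ≫ k) (b ≫ k')
      ((hrel _ _ _ h1).symm.trans ((congrArg (fun t => DerivedCategory.Q.map (a ≫ g).hom ≫ t.hom) e).trans (hrel _ _ _ h2)))
    haveI : IsIso ((W X).Q.map (γ ≫ a ≫ g)) := (W X).Q_inverts _ (w_comp hγ (w_comp ha hg))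
    rw [← cancel_epi ((W X).Q.map (γ ≫ a ≫ g)), Functor.map_comp (W X).Q γ, Category.assoc, Category.assoc, h1, h2,
      ← Functor.map_comp, eγ, Functor.map_comp]⟩
  haveI : Φ.EssSurj := ⟨fun K => by
    obtain ⟨E, hE, ⟨e⟩⟩ := ResPropD17.exists_strictlyPerfect hX K.property
    exact ⟨(W X).Q.obj ⟨E, hE⟩, ⟨P.isoMk e⟩⟩⟩
  exact { }

end Groth.Agent.DQCoh.ResPropLoc17
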