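import Groth.Agent.Coherent.CohBC.EulerLC

/-!
# Upper semicontinuity of fibre cohomology over an arbitrary base
-/

set_option autoImplicit false
set_option backward.isDefEq.respectTransparency false
set_option linter.style.haveILetI false

universe u

open CategoryTheory CategoryTheory.Limits AlgebraicGeometry TensorProduct TopologicalSpace
open Groth.Agent.Coherent Groth.Agent.FlatCxLib

namespace Groth.Agent.DQCoh.SemiCont17

theorem upperSemicontinuous_dRank_free {A : Type u} [CommRing A] (P : ChainComplex (ModuleCat.{u} A) ℤ)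
    (hP : ∀ i, Module.Finite A (P.X i) ∧ Module.Free A (P.X i)) (p : ℤ) :
    UpperSemicontinuous (CohIII.dRank P p) := by
  have hP' : ∀ i, Module.Finite A (P.X i) ∧ Module.Flat A (P.X i) := fun i =>
    ⟨(hP i).1, have := (hP i).2; inferInstance⟩
  intro x n hn
  have := (hP p).1
  have := (hP (p - 1)).1
  have := (hP (p - 1)).2
  have : Module.FinitePresentation A (P.X (p - 1)) := Module.finitePresentation_of_projective A _
  have h1 := upperSemicontinuous_fibreRank (A := A) (P.X p ⧸ LinearMap.range (P.d (p + 1) p).hom) x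
    _ (Nat.lt_succ_self _)
  have h2 := upperSemicontinuous_fibreRank (A := A) (P.X (p - 1) ⧸ LinearMap.range (P.d p (p - 1)).hom) x
    _ (Nat.lt_succ_self _)
  have h3 := (Module.isLocallyConstant_rankAtStalk (R := A) (M := P.X (p - 1))).eventually_eq x
  filter_upwards [h1, h2, h3] with y hy1 hy2 hy3
  have ex := dRank_add P hP' (p + 1) p (p - 1) rfl (by omega) x
  have ey := dRank_add P hP' (p + 1) p (p - 1) rfl (by omega) y
  omega

/-- Fibre cohomology of a proper flat family of finite presentation is upper semicontinuous. -/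
theorem isOpen_betti_lt {X S : Scheme.{u}} (f : X ⟶ S) [IsProper f] [LocallyOfFinitePresentation f]
    {F : X.Modules} [Coh.IsQCoh F] (hfp : CohB1.IsFP F) (hfl : FlatMod.IsFlatOver f F) (i n : ℕ) :
    IsOpen {s : S | PerfAux.betti f F s i < n} := by
  rw [isOpen_iff_forall_mem_open]
  intro y hy
  obtain ⟨C, hyC, -⟩ := CohExch.exists_chart hfp hfl (V := (⊤ : S.Opens)) (s := y) trivial
  let _ := CohExch.overSections f C.hU
  have hb : ∀ (z : S) (hw : z ∈ C.U), PerfAux.betti f F z i = CohIII.dRank C.P (-(i : ℤ)) (C.pt hw) :=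
    fun z hw => (show PerfAux.betti f F z i = CohIII.fiberRank f F i z from rfl).trans (C.fiberRank_eq hfl hw i)
  have ho : IsOpen {z | CohIII.dRank C.P (-(i : ℤ)) z < n} := by
    rw [isOpen_iff_mem_nhds]
    exact fun z hz => upperSemicontinuous_dRank_free C.P C.finite_free _ z n hz
  refine ⟨C.hU.fromSpec '' {z | CohIII.dRank C.P (-(i : ℤ)) z < n}, ?_,
    C.hU.fromSpec.isOpenEmbedding.isOpenMap _ ho, ⟨C.pt hyC, ?_, C.hU.fromSpec_primeIdealOf _⟩⟩
  · rintro _ ⟨z, hz, rfl⟩
    have hzV : C.hU.fromSpec z ∈ C.U := C.hU.range_fromSpec.le ⟨z, rfl⟩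
    show PerfAux.betti f F (C.hU.fromSpec z) i < n
    rw [hb _ hzV, show C.pt hzV = z from
      C.hU.fromSpec.isOpenEmbedding.injective (C.hU.fromSpec_primeIdealOf _)]
    exact hz
  · show CohIII.dRank C.P (-(i : ℤ)) (C.pt hyC) < n
    rw [← hb]
    exact hy

end Groth.Agent.DQCoh.SemiCont17
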