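import Groth.Agent.FlatBC14.Main
import Groth.Agent.CohExch.ChartMain
import Groth.Agent.CohExch.ChartApps
import Groth.Agent.FlatCx12.BC
import Groth.Agent.FlatCxLib.Homology
import Groth.Agent.DQCoh.SemiCont17
import Groth.Agent.DCat.ProjPerfFree
import Groth.Agent.DCat.WayOut
import Groth.Agent.Desc19b.FlatOverBC

/-!
# Where the direct image of a flat family is locally free in one degree
-/

set_option autoImplicit false
set_option backward.isDefEq.respectTransparency false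
set_option linter.style.haveILetI false
set_option maxHeartbeats 1000000

universe u

open CategoryTheory CategoryTheory.Limits AlgebraicGeometry Opposite TopologicalSpace
open Groth.Agent.Coherent Groth.Agent.Coherent.CohBC Groth.Agent.CohExch Groth.Agent.FlatCxLib
open CohPull CohCmp

attribute [local instance] HasDerivedCategory.standard
attribute [-instance] Int.instConditionallyCompleteLinearOrder

namespace Groth.Agent.DQCoh.RpushDegree17

variable {X S : Scheme.{u}} {f : X ⟶ S} {F : X.Modules}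

/-- With a flat cokernel out of degree `p` the fibre dimension is the rank of the higher direct image. -/
theorem fiberRank_eq_of_free_rpush [IsSeparated f] [QuasiCompact f]
    [HasInjectiveResolutions X.Modules] [Coh.IsQCoh F] (hfl : FlatMod.IsFlatOver f F) (C : Chart f F) (p : ℕ)
    (h : C.Flat p) {s : S} (hs : s ∈ C.U) {W : S.Opens} {n : ℕ} (hsW : s ∈ W)
    (e : ((Coh.Rpush f p).obj F).restrict W.ι ≅ FlatMod.freeMod W.toScheme n) :
    CohIII.fiberRank f F p s = n := by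
  obtain ⟨a, haW, hsa⟩ := C.hU.exists_basicOpen_le (V := W) ⟨s, hsW⟩ hs
  obtain ⟨C', hU', hflat, -⟩ := C.exists_away hfl a
  have h' := hflat _ h
  have hs' : s ∈ C'.U := hU' ▸ hsa
  have hle : C'.U ≤ W := hU' ▸ haW
  haveI := isQCoh_rpush f F p
  obtain ⟨b⟩ := Props12.exists_basis_sections e hle
  obtain ⟨eH⟩ := C'.nonempty_sectionsEquiv p
  have : Nontrivial Γ(S, C'.U) := (C'.pt hs').nontrivial
  let bH := b.map eH
  have : Module.Free Γ(S, C'.U) (C'.P.homology (-(p : ℤ))) := Module.Free.of_basis bH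
  have : Module.Finite Γ(S, C'.U) (C'.P.homology (-(p : ℤ))) := Module.Finite.of_basis bH
  have hP : ∀ i, Module.Flat Γ(S, C'.U) (C'.P.X i) := fun i => by
    have := (C'.finite_free i).2
    infer_instance
  have : Module.Flat Γ(S, C'.U)
      (C'.P.X (-(p : ℤ) - 1) ⧸ LinearMap.range (C'.P.d (-(p : ℤ)) (-(p : ℤ) - 1)).hom) := h'
  rw [C'.fiberRank_eq hfl hs' p,
    FlatCx12.dRank_eq_fibreRank hP (-(p : ℤ) + 1) _ (-(p : ℤ) - 1) rfl (by omega),
    fibreRank, (LinearEquiv.baseChange Γ(S, C'.U) (C'.pt hs').asIdeal.ResidueField _ _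
      (homologyQuotEquiv C'.P (-(p : ℤ) + 1) _ (-(p : ℤ) - 1) rfl (by omega))).finrank_eq,
    Module.finrank_baseChange, Module.finrank_eq_card_basis bH, Fintype.card_fin]


/-- Fibre cohomology of rank `r` in degree `i` and none elsewhere. -/
def Good (f : X ⟶ S) (F : X.Modules) (i : ℤ) (r : ℕ) (s : S) : Prop :=
  (i < 0 → r = 0) ∧ ∀ p : ℕ, CohIII.fiberRank f F p s = if (p : ℤ) = i then r else 0

/-- The fibre cohomology over a chart vanishes in large degrees. -/
theorem exists_fiberRank_large [IsSeparated f] [QuasiCompact f] [Coh.IsQCoh F]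
    (hfl : FlatMod.IsFlatOver f F) (C : Chart f F) :
    ∃ N : ℕ, ∀ p : ℕ, N ≤ p → C.Flat p ∧ ∀ s ∈ C.U, CohIII.fiberRank f F p s = 0 := by
  obtain ⟨N, hN⟩ := C.exists_flat_large
  let _ := overSections f C.hU
  have : IsSeparated ((f ⁻¹ᵁ C.U).toScheme ↘ Spec (CommRingCat.of Γ(S, C.U))) :=
    MorphismProperty.of_isPullback (P := @IsSeparated) (isPullback_toSpecSections f C.hU) inferInstance
  have := C.data.finite
  have := C.data.isQCoh
  refine ⟨max N (Nat.card C.data.ι), fun p hp => ⟨hN p (le_of_max_le_left hp), fun s hs => ?_⟩⟩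
  rw [C.fiberRank_eq hfl hs p]
  let φ := algebraMap Γ(S, C.U) (C.pt hs).asIdeal.ResidueField
  have hs' : Subsingleton ((CohIII.bcCx φ C.P).homology (-(p : ℤ))) :=
    subsingleton_homology_bc C.P _ φ (ModuleCat.subsingleton_of_isZero
      ((isZero_T_cxA C.data.W _ C.data.hW C.data.hcov p (le_of_max_le_right hp) _).of_iso
        ((C.data.tIso p).app _).symm))
  exact Module.finrank_zero_of_subsingleton

section

variable [IsProper f] [LocallyOfFinitePresentation f] [Coh.IsQCoh F]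
  (hfp : CohB1.IsFP F) (hfl : FlatMod.IsFlatOver f F)

include hfp hfl

/-- The locus of points with fibre cohomology concentrated in one degree is open. -/
theorem isOpen_good (i : ℤ) (r : ℕ) : IsOpen {s : S | Good f F i r s} := by
  refine isOpen_iff_forall_mem_open.2 fun s hs => ?_
  obtain ⟨C, hsC, -⟩ := exists_chart hfp hfl (V := (⊤ : S.Opens)) (s := s) trivial
  have hz : ∀ p : ℕ, (p : ℤ) ≠ i → Subsingleton (CohIII.fiberH f F s p) := fun p hp =>
    (subsingleton_fiberH_iff_rank hfp s p).2 (by rw [hs.2 p, if_neg hp])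
  -- the degree `i` part is locally constant
  have hdeg : ∀ k : ℕ, (k : ℤ) = i →
      ∃ W : Set S, IsOpen W ∧ s ∈ W ∧ ∀ t ∈ W, CohIII.fiberRank f F k t = r := by
    intro k hk
    obtain ⟨C₁, hs₁, -, h1, hk1, -, -⟩ := C.exists_zero_of_fibre hfp hfl hsC (k + 1) (hz (k + 1) (by omega))
    have hk1' : C₁.Flat (k : ℤ) := by simpa using hk1
    obtain ⟨C₂, hs₂, h2, h3⟩ : ∃ C₂ : Chart f F, s ∈ C₂.U ∧ C₂.Flat (k : ℤ) ∧ C₂.Flat ((k : ℤ) - 1) := by
      rcases k with _ | j
      · exact ⟨C₁, hs₁, hk1', by simpa using C₁.flat_neg_one⟩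
      · obtain ⟨C₂, hs₂, -, hj, -, -, hm⟩ := C₁.exists_zero_of_fibre hfp hfl hs₁ j (hz j (by omega))
        exact ⟨C₂, hs₂, hm _ hk1', by simpa using hj⟩
    have hlc := C₂.isLocallyConstant_fiberRank hfl k h2 h3
    refine ⟨Subtype.val '' {v : C₂.U | CohIII.fiberRank f F k v.1 = CohIII.fiberRank f F k s},
      C₂.U.2.isOpenMap_subtype_val _ (hlc.isOpen_fiber _), ⟨⟨s, hs₂⟩, rfl, rfl⟩, ?_⟩
    rintro _ ⟨v, hv, rfl⟩
    have hsk : CohIII.fiberRank f F k s = r := by rw [hs.2 k, if_pos hk]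
    exact hv.trans hsk
  obtain ⟨N, hN⟩ := exists_fiberRank_large hfl C
  choose W hWo hsW hW using hdeg
  refine ⟨(C.U : Set S) ∩ ⋂ p : Fin N,
    (if h : ((p : ℕ) : ℤ) = i then W p h else {t | PerfAux.betti f F t (p : ℕ) < 1}) ∩
    ⋂ (k : ℕ) (h : (k : ℤ) = i), W k h, ?_, ?_, ⟨hsC, ?_⟩⟩
  rotate_left
  · refine C.U.2.inter (isOpen_iInter_of_finite fun p => IsOpen.inter ?_ ?_)
    · split_ifs with h
      · exact hWo _ h
      · exact SemiCont17.isOpen_betti_lt f hfp hfl _ 1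
    · by_cases hi : 0 ≤ i
      · obtain ⟨k, rfl⟩ := Int.eq_ofNat_of_zero_le hi
        convert hWo k rfl using 1
        ext t
        simp only [Set.mem_iInter]
        exact ⟨fun h => h k rfl, fun h k' hk' => by obtain rfl := Int.ofNat.inj hk'; exact h⟩
      · convert isOpen_univ
        ext t
        simp only [Set.mem_iInter, Set.mem_univ, iff_true]
        intro k hk
        omega
  · refine Set.mem_iInter.2 fun p => ⟨?_, Set.mem_iInter₂.2 fun k h => hsW k h⟩
    split_ifs with h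
    · exact hsW _ h
    · show CohIII.fiberRank f F (p : ℕ) s < 1
      rw [hs.2, if_neg h]
      exact one_pos
  · rintro t ⟨htC, ht⟩
    rw [Set.mem_iInter] at ht
    refine ⟨hs.1, fun p => ?_⟩
    by_cases hp : p < N
    · have h := (ht ⟨p, hp⟩).1
      split_ifs at h ⊢ with hpi
      · exact hW _ _ t h
      · exact Nat.lt_one_iff.1 h
    · rw [(hN p (not_lt.1 hp)).2 t htC]
      split_ifs with hpi
      · have h2 := hs.2 p
        rw [(hN p (not_lt.1 hp)).2 s hsC, if_pos hpi] at h2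
        exact h2
      · rfl

variable [HasInjectiveResolutions X.Modules]

/-- Good fibres make the higher direct images free in degree `i` and zero elsewhere. -/
theorem rpush_of_good (i : ℤ) (r : ℕ) (h : ∀ s : S, Good f F i r s) :
    (∀ p : ℕ, (p : ℤ) ≠ i → IsZero ((Coh.Rpush f p).obj F)) ∧
      ∀ p : ℕ, (p : ℤ) = i → FlatMod.IsFinLocFreeOfRank r ((Coh.Rpush f p).obj F) := by
  refine ⟨fun p hp => isZero_rpush_of_fibres hfp hfl p fun s =>
    (subsingleton_fiberH_iff_rank hfp s p).2 (by rw [(h s).2 p, if_neg hp]), fun p hp s => ?_⟩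
  have hz : ∀ q : ℕ, (q : ℤ) ≠ i → Subsingleton (CohIII.fiberH f F s q) := fun q hq =>
    (subsingleton_fiberH_iff_rank hfp s q).2 (by rw [(h s).2 q, if_neg hq])
  obtain ⟨C, hsC, -⟩ := exists_chart hfp hfl (V := (⊤ : S.Opens)) (s := s) trivial
  obtain ⟨C₁, hs₁, -, h1, hk1, -, -⟩ := C.exists_zero_of_fibre hfp hfl hsC (p + 1) (hz (p + 1) (by omega))
  have hk1' : C₁.Flat (p : ℤ) := by simpa using hk1
  obtain ⟨C₂, hs₂, h2, h3⟩ : ∃ C₂ : Chart f F, s ∈ C₂.U ∧ C₂.Flat (p : ℤ) ∧ C₂.Flat ((p : ℤ) - 1) := by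
    rcases p with _ | j
    · exact ⟨C₁, hs₁, hk1', by simpa using C₁.flat_neg_one⟩
    · obtain ⟨C₂, hs₂, -, hj, -, -, hm⟩ := C₁.exists_zero_of_fibre hfp hfl hs₁ j (hz j (by omega))
      exact ⟨C₂, hs₂, hm _ hk1', by simpa using hj⟩
  obtain ⟨W, n, hsW, ⟨e⟩⟩ := C₂.exists_trivial_nhd p h2 h3 hs₂
  have hn := fiberRank_eq_of_free_rpush hfl C₂ p h2 hs₂ hsW e
  rw [(h s).2 p, if_pos hp] at hn
  exact ⟨W, hsW, ⟨hn ▸ e⟩⟩

/-- Free higher direct images in degree `i` and none elsewhere make the fibres good. -/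
theorem fiberRank_of_rpush (i : ℤ) (r : ℕ)
    (h0 : ∀ p : ℕ, (p : ℤ) ≠ i → IsZero ((Coh.Rpush f p).obj F))
    (hr : ∀ p : ℕ, (p : ℤ) = i → FlatMod.IsFinLocFreeOfRank r ((Coh.Rpush f p).obj F)) (s : S) (p : ℕ) :
    CohIII.fiberRank f F p s = if (p : ℤ) = i then r else 0 := by
  have hloc : ∀ q : ℕ, ∃ W : S.Opens, s ∈ W ∧ Nonempty (((Coh.Rpush f q).obj F).restrict W.ι ≅
      FlatMod.freeMod W.toScheme (if (q : ℤ) = i then r else 0)) := by
    intro q
    split_ifs with hq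
    · exact hr q hq s
    · exact ⟨⊤, trivial, ⟨((Scheme.Modules.restrictFunctor (⊤ : S.Opens).ι).map_isZero (h0 q hq)).iso
        DCat.ProjPerf.isZero_freeMod_zero⟩⟩
  obtain ⟨C, hsC, -⟩ := exists_chart hfp hfl (V := (⊤ : S.Opens)) (s := s) trivial
  obtain ⟨N, hN⟩ := C.exists_flat_large
  have key : ∀ k q : ℕ, N ≤ q + k → ∃ C' : Chart f F, s ∈ C'.U ∧ C'.Flat (q : ℤ) := by
    intro k
    induction k with
    | zero => exact fun q hq => ⟨C, hsC, hN q hq⟩
    | succ k ih =>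
      intro q hq
      obtain ⟨C', hs', h'⟩ := ih (q + 1) (by omega)
      obtain ⟨W, hsW, ⟨e⟩⟩ := hloc (q + 1)
      have hV : FlatMod.IsFinLocFree (((Coh.Rpush f (q + 1)).obj F).restrict W.ι) := fun x =>
        ⟨⊤, _, trivial, ⟨(Scheme.Modules.restrictFunctor (⊤ : W.toScheme.Opens).ι).mapIso e ≪≫
          freeModRestrictIso _ _⟩⟩
      obtain ⟨C'', hs'', -, hflat, -⟩ := C'.exists_flat_pred hfl (q + 1) hV hsW hs' h'
      exact ⟨C'', hs'', by simpa using hflat⟩
  obtain ⟨C', hs', h'⟩ := key N p (by omega)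
  obtain ⟨W, hsW, ⟨e⟩⟩ := hloc p
  exact fiberRank_eq_of_free_rpush hfl C' p h' hs' hsW e

end

/-- An object with cohomology in one degree is a shifted module. -/
theorem nonempty_iso_shift (E : DCoh.D S) (i : ℤ) (h : ∀ q : ℤ, q ≠ i → IsZero (DCoh.HD E q)) :
    Nonempty (E ≅ (DCoh.inD S (DCoh.HD E i))⟦-i⟧) := by
  haveI : E.IsGE i := (DerivedCategory.isGE_iff E i).2 fun q hq => h q (by omega)
  haveI : E.IsLE i := (DerivedCategory.isLE_iff E i).2 fun q hq => h q (by omega)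
  obtain ⟨M, ⟨eM⟩⟩ := DerivedCategory.exists_iso_singleFunctor_obj_of_isGE_of_isLE E i
  let e : DCoh.HD E i ≅ M := (DerivedCategory.homologyFunctor S.Modules i).mapIso eM ≪≫
    (DerivedCategory.singleFunctorCompHomologyFunctorIso S.Modules i).app M
  exact ⟨eM ≪≫ DCat.WayOut.singleIso M i ≪≫
    (shiftFunctor _ (-i)).mapIso ((DerivedCategory.singleFunctor S.Modules 0).mapIso e.symm)⟩

/-- The cohomology of a shifted module. -/
theorem homology_shift (V : S.Modules) (i q : ℤ) :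
    (q = i → Nonempty (DCoh.HD ((DCoh.inD S V)⟦-i⟧) q ≅ V)) ∧
      (q ≠ i → IsZero (DCoh.HD ((DCoh.inD S V)⟦-i⟧) q)) := by
  let e := ((DerivedCategory.homologyFunctor S.Modules 0).shiftIso (-i) q (q - i) (by omega)).app (DCoh.inD S V)
  refine ⟨?_, fun hq => ?_⟩
  · rintro rfl
    exact ⟨((DerivedCategory.homologyFunctor S.Modules 0).shiftIso (-q) q 0 (by omega)).app (DCoh.inD S V) ≪≫
      ((DerivedCategory.homologyFunctor S.Modules 0).isoShiftZero ℤ).app (DCoh.inD S V) ≪≫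
      (DerivedCategory.singleFunctorCompHomologyFunctorIso S.Modules 0).app V⟩
  · refine IsZero.of_iso ?_ e
    rcases lt_or_gt_of_ne (sub_ne_zero.2 hq) with h | h
    · exact DerivedCategory.isZero_of_isGE _ 0 _ h
    · exact DerivedCategory.isZero_of_isLE _ 0 _ h

theorem isFinLocFreeOfRank_of_iso {M N : S.Modules} (e : M ≅ N) {r : ℕ}
    (h : FlatMod.IsFinLocFreeOfRank r M) : FlatMod.IsFinLocFreeOfRank r N := fun x => by
  obtain ⟨U, hx, ⟨e'⟩⟩ := h x
  exact ⟨U, hx, ⟨(Scheme.Modules.restrictFunctor U.ι).mapIso e.symm ≪≫ e'⟩⟩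

theorem rank_eq_zero_of_isZero {V : S.Modules} [Coh.IsQCoh V] (hV : IsZero V) {r : ℕ}
    (h : FlatMod.IsFinLocFreeOfRank r V) (s : S) : r = 0 := by
  obtain ⟨U, hx, ⟨e⟩⟩ := h s
  have h0 := CohBC.finrank_stalk_of_free V (U := ⊤) (y := s) trivial
    (((Scheme.Modules.restrictFunctor (⊤ : S.Opens).ι).map_isZero hV).iso DCat.ProjPerf.isZero_freeMod_zero)
  rw [finrank_stalk_of_free V hx e] at h0
  exact h0

variable [IsProper f] [LocallyOfFinitePresentation f]

/-- Fibrewise criterion for the direct image to be locally free of rank `r` in degree `i`. -/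
theorem good_iff [DCoh.HasRpush f] (hfp : CohB1.IsFP F) (hfl : FlatMod.IsFlatOver f F) (i : ℤ) (r : ℕ) :
    (∀ s : S, Good f F i r s) ↔ ∃ V : S.Modules, FlatMod.IsFinLocFreeOfRank r V ∧
      Nonempty ((DCoh.Rpush f).obj (DCoh.inD X F) ≅ (DCoh.inD S V)⟦-i⟧) := by
  haveI : Coh.IsQCoh F := ConsPropLib.isQCoh_of_isFP hfp
  haveI := hasInjectiveResolutions_modules X
  haveI : EnoughInjectives X.Modules :=
    have : IsGrothendieckAbelian.{u} X.Modules := DCat.schemeModules_isGrothendieckAbelian X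
    inferInstance
  have hneg : ∀ q : ℤ, q < 0 → IsZero (DCoh.HD ((DCoh.Rpush f).obj (DCoh.inD X F)) q) := fun q hq =>
    DerivedCategory.isZero_of_isGE _ 0 q hq
      (hX := SiteDer16.isGE_totalRightDerived (DCat.modules_enoughKInj X) (Scheme.Modules.pushforward f) _ 0)
  constructor
  · intro h
    obtain ⟨h0, hr⟩ := rpush_of_good hfp hfl i r h
    obtain ⟨e⟩ := nonempty_iso_shift ((DCoh.Rpush f).obj (DCoh.inD X F)) i fun q hq => by
      rcases lt_or_ge q 0 with hq0 | hq0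
      · exact hneg q hq0
      · obtain ⟨p, rfl⟩ := Int.eq_ofNat_of_zero_le hq0
        obtain ⟨e⟩ := FlatBC14.nonempty_homology_Rpush f F p
        exact (h0 p hq).of_iso e
    refine ⟨_, ?_, ⟨e⟩⟩
    rcases lt_or_ge i 0 with hi | hi
    · intro s
      obtain rfl := (h s).1 hi
      exact ⟨⊤, trivial, ⟨((Scheme.Modules.restrictFunctor (⊤ : S.Opens).ι).map_isZero (hneg i hi)).iso
        DCat.ProjPerf.isZero_freeMod_zero⟩⟩
    · obtain ⟨p, rfl⟩ := Int.eq_ofNat_of_zero_le hi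
      obtain ⟨e'⟩ := FlatBC14.nonempty_homology_Rpush f F p
      exact isFinLocFreeOfRank_of_iso e'.symm (hr p rfl)
  · rintro ⟨V, hV, ⟨e⟩⟩ s
    have hH : ∀ q : ℤ, Nonempty (DCoh.HD ((DCoh.Rpush f).obj (DCoh.inD X F)) q ≅
        DCoh.HD ((DCoh.inD S V)⟦-i⟧) q) := fun q =>
      ⟨(DerivedCategory.homologyFunctor S.Modules q).mapIso e⟩
    refine ⟨fun hi => ?_, fiberRank_of_rpush hfp hfl i r (fun p hp => ?_) (fun p hp => ?_) s⟩
    · obtain ⟨a⟩ := hH i
      obtain ⟨b⟩ := (homology_shift V i i).1 rfl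
      have hz : IsZero V := (hneg i hi).of_iso (a ≪≫ b).symm
      haveI : Coh.IsQCoh V := Coherent.isQCoh_of_isZero hz
      exact rank_eq_zero_of_isZero hz hV s
    · obtain ⟨a⟩ := hH p
      obtain ⟨e'⟩ := FlatBC14.nonempty_homology_Rpush f F p
      exact ((homology_shift V i p).2 hp).of_iso (e'.symm ≪≫ a)
    · obtain ⟨a⟩ := hH p
      obtain ⟨b⟩ := (homology_shift V i p).1 hp
      obtain ⟨e'⟩ := FlatBC14.nonempty_homology_Rpush f F p
      exact isFinLocFreeOfRank_of_iso ((a ≪≫ b).symm ≪≫ e') hV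

end Groth.Agent.DQCoh.RpushDegree17
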