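import Groth.Agent.DQCoh.GammaZRange17
import Groth.Agent.DQCoh.RelInjSplit17
import Groth.Agent.DCat.RFBasic
import Groth.Agent.DCat.Amplitude
import Groth.Agent.DCat.ModulesGrothendieck
import Groth.Agent.DCat.PullPush
import Groth.Agent.ExtSS.SupportBridge
import Groth.Agent.CAlgH3.SupportDepth
import Groth.Agent.CAlgH3.Depth
import Groth.Agent.Props12.FinLocFree
import Groth.Agent.CAlgH3.LocFreeFactor
import Mathlib.CategoryTheory.Abelian.Injective.Extend
import Mathlib.Algebra.Homology.DerivedCategory.SingleTriangle
import Mathlib.CategoryTheory.Limits.FunctorCategory.Finite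

/-!
# `RΓ_Z` of complexes of bundles under a depth hypothesis
-/

set_option autoImplicit false
set_option backward.isDefEq.respectTransparency false
set_option backward.defeqAttrib.useBackward true
set_option linter.style.haveILetI false
set_option linter.unusedSectionVars false
set_option maxHeartbeats 1000000

universe u

open CategoryTheory CategoryTheory.Limits CategoryTheory.Pretriangulated AlgebraicGeometry Opposite TopologicalSpace

attribute [local instance] HasDerivedCategory.standard

noncomputable section

namespace Groth.Agent.SuppVanish17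

/-- An additive functor commutes with extension by zero to `ℤ`. -/
def mapExtendIso {C D : Type*} [Category C] [Category D] [Abelian C] [Abelian D] (F : C ⥤ D) [F.Additive]
    (K : CochainComplex C ℕ) :
    (F.mapHomologicalComplex (ComplexShape.up ℤ)).obj (K.extend ComplexShape.embeddingUpNat) ≅
      ((F.mapHomologicalComplex (ComplexShape.up ℕ)).obj K).extend ComplexShape.embeddingUpNat :=
  HomologicalComplex.Hom.isoOfComponents
    (fun n => match n with
      | Int.ofNat k => F.mapIso (HomologicalComplex.extendXIso K ComplexShape.embeddingUpNat (i := k) rfl) ≪≫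
          (HomologicalComplex.extendXIso ((F.mapHomologicalComplex (ComplexShape.up ℕ)).obj K)
            ComplexShape.embeddingUpNat (i := k) rfl).symm
      | Int.negSucc k => IsZero.iso
          (F.map_isZero (HomologicalComplex.isZero_extend_X K _ _ (fun i => by simp)))
          (HomologicalComplex.isZero_extend_X _ _ _ (fun i => by simp)))
    (fun a b hab => by
      rcases a with a | a
      · rcases b with b | b
        · dsimp
          have e1 : (K.extend ComplexShape.embeddingUpNat).d (a : ℤ) (b : ℤ) = _ :=
            HomologicalComplex.extend_d_eq K ComplexShape.embeddingUpNat (i := a) (j := b) rfl rfl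
          have e2 : (((F.mapHomologicalComplex (ComplexShape.up ℕ)).obj K).extend
              ComplexShape.embeddingUpNat).d (a : ℤ) (b : ℤ) = _ :=
            HomologicalComplex.extend_d_eq ((F.mapHomologicalComplex (ComplexShape.up ℕ)).obj K)
              ComplexShape.embeddingUpNat (i := a) (j := b) rfl rfl
          rw [e1, e2]
          simp only [Category.assoc, Iso.inv_hom_id_assoc, CategoryTheory.Functor.map_comp,
            Functor.mapHomologicalComplex_obj_d]
          rw [← CategoryTheory.Functor.map_comp_assoc F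
              (HomologicalComplex.extendXIso K ComplexShape.embeddingUpNat (i := b) (i' := (b : ℤ)) rfl).inv,
            Iso.inv_hom_id, CategoryTheory.Functor.map_id, Category.id_comp]
        · exact (HomologicalComplex.isZero_extend_X _ _ _ (fun i => by simp)).eq_of_tgt _ _
      · exact (F.map_isZero (HomologicalComplex.isZero_extend_X K _ _ (fun i => by simp))).eq_of_src _ _)

variable {U X : Scheme.{u}} (j : U ⟶ X) [IsOpenImmersion j]

/-- The model of `RΓ_Z`. -/
abbrev Om : DCoh.D X ⥤ DCoh.D X :=
  DCat.rho (DCat.modules_enoughKInj X) ⋙ CxOX.gammaZKh j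

variable [HasInjectiveResolutions X.Modules]

/-- A module with vanishing local cohomology sheaves below `d` has `RΓ_Z` in degrees `≥ d`. -/
theorem isGE_single (M : X.Modules) (d : ℕ)
    (hM : ∀ q : ℕ, q < d → IsZero (((DCoh.gammaZ j).rightDerived q).obj M)) :
    ((Om j).obj ((DerivedCategory.singleFunctor X.Modules 0).obj M)).IsGE (d : ℤ) := by
  let R := injectiveResolution M
  let F := DCoh.gammaZ j
  let e : DerivedCategory.Q.obj R.cochainComplex ≅ (DerivedCategory.singleFunctor X.Modules 0).obj M :=
    (asIso (DerivedCategory.Q.map R.ι')).symm ≪≫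
      ((DerivedCategory.singleFunctorIsoCompQ X.Modules 0).app M).symm
  let i := DCat.rfObjIso (DCat.modules_enoughKInj X) F R.cochainComplex e
  refine (DerivedCategory.isGE_iff _ _).2 fun n hn => ?_
  refine IsZero.of_iso ?_ ((DerivedCategory.homologyFunctor X.Modules n).mapIso i ≪≫
    (DerivedCategory.homologyFunctorFactors X.Modules n).app _ ≪≫
    (HomologicalComplex.homologyFunctor X.Modules (ComplexShape.up ℤ) n).mapIso
      (mapExtendIso F R.cocomplex))
  rcases n with q | q
  · refine IsZero.of_iso (hM q (by simpa using hn)) ?_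
    exact ((F.mapHomologicalComplex (ComplexShape.up ℕ)).obj R.cocomplex).extendHomologyIso
      ComplexShape.embeddingUpNat (j := q) rfl ≪≫ (R.isoRightDerivedObj F q).symm
  · exact (HomologicalComplex.exactAt_iff_isZero_homology _ _).1
      (HomologicalComplex.extend_exactAt _ _ _ fun i => by simp)

/-- A complex with such terms, zero below `m`, has `RΓ_Z` in degrees `≥ m + d`. -/
theorem isGE_complex (d k : ℕ) (hk : k ≤ d) : ∀ (L : CochainComplex X.Modules ℤ) (m : ℤ),
    (∀ i, i < m → IsZero (L.X i)) →
    (∀ i (q : ℕ), q < d → IsZero (((DCoh.gammaZ j).rightDerived q).obj (L.X i))) →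
    ((Om j).obj (DerivedCategory.Q.obj L)).IsGE (m + k) := by
  induction k with
  | zero =>
    intro L m hL _
    haveI : L.IsStrictlyGE m := (CochainComplex.isStrictlyGE_iff L m).2 fun i hi => hL i hi
    haveI : (DerivedCategory.Q.obj L).IsGE m := inferInstance
    have h := DCat.isGE_rf (DCat.modules_enoughKInj X) (DCoh.gammaZ j) (DerivedCategory.Q.obj L) m
    simpa using h
  | succ k ih =>
    intro L m hL hT
    let π : L ⟶ (HomologicalComplex.single X.Modules (ComplexShape.up ℤ) m).obj (L.X m) :=
      HomologicalComplex.mkHomToSingle (𝟙 _) fun i hi => by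
        refine (hL i ?_).eq_of_src _ _
        simp only [ComplexShape.up_Rel] at hi
        omega
    have hπ : ∀ n, Epi (π.f n) := fun n => by
      by_cases h : n = m
      · subst h
        simp only [π, HomologicalComplex.mkHomToSingle_f]
        infer_instance
      · exact ⟨fun g h' _ => (HomologicalComplex.isZero_single_obj_X _ _ _ _ h).eq_of_src g h'⟩
    let S : ShortComplex (CochainComplex X.Modules ℤ) := ShortComplex.mk (kernel.ι π) π (kernel.condition π)
    haveI : Epi π := HomologicalComplex.epi_of_epi_f π hπ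
    haveI : Mono S.f := inferInstanceAs (Mono (kernel.ι π))
    haveI : Epi S.g := inferInstanceAs (Epi π)
    have hS : S.ShortExact :=
      { exact := ShortComplex.exact_of_f_is_kernel _ (kernelIsKernel π) }
    have hSn : ∀ n, (S.map (HomologicalComplex.eval X.Modules (ComplexShape.up ℤ) n)).ShortExact :=
      fun n => hS.map_of_exact (HomologicalComplex.eval X.Modules (ComplexShape.up ℤ) n)
    have hlow : ∀ i, i < m + 1 → IsZero ((kernel π).X i) := fun i hi => by
      by_cases h : i = m
      · subst h
        haveI : Mono (π.f i) := by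
          simp only [π, HomologicalComplex.mkHomToSingle_f]
          infer_instance
        haveI := (hSn i).mono_f
        exact IsZero.of_mono_eq_zero ((kernel.ι π).f i) (by
          rw [← cancel_mono (π.f i), ← HomologicalComplex.comp_f, kernel.condition, zero_comp]
          rfl)
      · exact IsZero.of_mono ((kernel.ι π).f i) (hL i (by omega))
    have hterms : ∀ i (q : ℕ), q < d → IsZero (((DCoh.gammaZ j).rightDerived q).obj ((kernel π).X i)) :=
      fun i q hq => by
        by_cases h : i < m + 1
        · exact IsZero.of_iso (hT (m - 1) q hq)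
            (((DCoh.gammaZ j).rightDerived q).mapIso (IsZero.iso (hlow i h) (hL (m - 1) (by omega))))
        · haveI : IsIso ((kernel.ι π).f i) :=
            (hSn i).isIso_f_iff.2 (HomologicalComplex.isZero_single_obj_X (ComplexShape.up ℤ) m (L.X m) i (by omega))
          exact IsZero.of_iso (hT i q hq)
            (((DCoh.gammaZ j).rightDerived q).mapIso (asIso ((kernel.ι π).f i)))
    have h1 : ((Om j).obj (DerivedCategory.Q.obj (kernel π))).IsGE (m + (k + 1 : ℕ)) := by
      have := ih (by omega) (kernel π) (m + 1) hlow hterms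
      exact (DerivedCategory.TStructure.t (C := X.Modules)).isGE_of_ge _ _ (m + 1 + (k : ℕ)) (by push_cast; omega)
    have h3 : ((Om j).obj (DerivedCategory.Q.obj
        ((HomologicalComplex.single X.Modules (ComplexShape.up ℤ) m).obj (L.X m)))).IsGE (m + (k + 1 : ℕ)) := by
      have h0 : ((Om j).obj ((DerivedCategory.singleFunctor X.Modules 0).obj (L.X m))).IsGE ((k + 1 : ℕ) : ℤ) := by
        haveI := isGE_single j (L.X m) d fun q hq => hT m q hq
        exact (DerivedCategory.TStructure.t (C := X.Modules)).isGE_of_ge _ _ (d : ℤ) (by push_cast; omega)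
      have h2 : (((Om j).obj ((DerivedCategory.singleFunctor X.Modules 0).obj (L.X m)))⟦-m⟧).IsGE
          (m + (k + 1 : ℕ)) :=
        (DerivedCategory.TStructure.t (C := X.Modules)).isGE_shift _ ((k + 1 : ℕ) : ℤ) (-m) _ (by omega)
      haveI := h2
      let e : ((Om j).obj ((DerivedCategory.singleFunctor X.Modules 0).obj (L.X m)))⟦-m⟧ ≅
          (Om j).obj (DerivedCategory.Q.obj
            ((HomologicalComplex.single X.Modules (ComplexShape.up ℤ) m).obj (L.X m))) :=
        (((Om j).commShiftIso (-m)).app _).symm ≪≫ (Om j).mapIso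
          ((((DerivedCategory.singleFunctors X.Modules).shiftIso (-m) m 0 (by omega)).app (L.X m)) ≪≫
            (DerivedCategory.singleFunctorIsoCompQ X.Modules m).app (L.X m))
      exact (DerivedCategory.TStructure.t (C := X.Modules)).isGE_of_iso e _
    exact (DerivedCategory.TStructure.t (C := X.Modules)).isGE₂
      ((Om j).mapTriangle.obj (DerivedCategory.triangleOfSES hS))
      ((Om j).map_distinguished _ (DerivedCategory.triangleOfSES_distinguished hS)) _ h1 h3

/-- Local cohomology sheaves of a bundle vanish below the depth. -/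
theorem isZero_rightDerived_of_locFree [IsLocallyNoetherian X] (d : ℕ)
    (hdepth : ∀ y : ↥X, y ∉ Set.range j.base →
      (d : ℕ∞) ≤ LocCoh.depth ↑(X.presheaf.stalk y) ↑(X.presheaf.stalk y))
    (M : X.Modules) (hM : FlatMod.IsFinLocFree M) (q : ℕ) (hq : q < d) :
    IsZero (((DCoh.gammaZ j).rightDerived q).obj M) := by
  haveI := CAlgH3.LocFreeFactor.isQCoh_of_finLocFree hM
  have hfp := Props12.isFP_of_isFinLocFree M hM
  have hcoh : Coh.IsCoh M := (Coherent.isCoh_iff_isFP M).2 hfp
  have h : ∀ x : X, x ∉ (j.opensRange : Set X) →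
      (d : ℕ∞) ≤ LocCoh.depth (X.presheaf.stalk x) (M.presheaf.stalk x) := fun x hx => by
    haveI := Props12.free_stalk_of_isFinLocFree M hM x
    haveI := Props12.finite_stalk_of_isFT M (haveI := hfp; inferInstance) x
    rcases subsingleton_or_nontrivial (M.presheaf.stalk x) with h | h
    · rw [CAlgH3.depth_eq_top_of_subsingleton]
      exact le_top
    · rw [CAlgH3.depth_free]
      exact hdepth x hx
  have h1 := ExtSS.isZero_HZshM j.opensRange M q
    ((CAlgH3.SupportDepth.isZero_iff_depth X j.opensRange M hcoh d).2 h q hq)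
  let e := GammaZRange17.gammaZIsoOfRange j j.opensRange.ι (Scheme.Opens.opensRange_ι _).symm
  exact IsZero.of_iso h1
    { hom := (NatTrans.rightDerived e.hom q).app M
      inv := (NatTrans.rightDerived e.inv q).app M
      hom_inv_id := by
        rw [← NatTrans.comp_app, ← NatTrans.rightDerived_comp, Iso.hom_inv_id, NatTrans.rightDerived_id]
        rfl
      inv_hom_id := by
        rw [← NatTrans.comp_app, ← NatTrans.rightDerived_comp, Iso.inv_hom_id, NatTrans.rightDerived_id]
        rfl }

/-- A bounded below injective representative with `Γ_Z` exact below `2 d`. -/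
theorem exists_rep [IsLocallyNoetherian X] [CxOX.HasRgammaZ j] (d : ℕ)
    (hdepth : ∀ y : ↥X, y ∉ Set.range j.base →
      (d : ℕ∞) ≤ LocCoh.depth ↑(X.presheaf.stalk y) ↑(X.presheaf.stalk y))
    (K : CochainComplex X.Modules ℤ) (hK : ∀ i : ℤ, i < (d : ℤ) → IsZero (K.X i))
    (hKlf : ∀ i : ℤ, FlatMod.IsFinLocFree (K.X i)) :
    ∃ J : CochainComplex X.Modules ℤ, J.IsStrictlyGE d ∧ J.IsKInjective ∧ (∀ n, Injective (J.X n)) ∧
      Nonempty (DerivedCategory.Q.obj J ≅ DCoh.toD X K) ∧
      ∀ n, n < 2 * (d : ℤ) → (((DCoh.gammaZ j).mapHomologicalComplex (ComplexShape.up ℤ)).obj J).ExactAt n := by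
  haveI : K.IsStrictlyGE d := (CochainComplex.isStrictlyGE_iff K d).2 fun i hi => hK i hi
  haveI : (DCoh.toD X K).IsGE (d : ℤ) := inferInstanceAs ((DerivedCategory.Q.obj K).IsGE (d : ℤ))
  obtain ⟨J, hJd, hJK, hJi, ⟨e⟩⟩ := DCat.Amplitude.exists_kInjective_rep (DCoh.toD X K) (d : ℤ)
  haveI := hJK
  refine ⟨J, hJd, hJK, hJi, ⟨e⟩, fun n hn => ?_⟩
  have h := isGE_complex j d d le_rfl K (d : ℤ) hK
    fun i q hq => isZero_rightDerived_of_locFree j d hdepth (K.X i) (hKlf i) q hq
  rw [HomologicalComplex.exactAt_iff_isZero_homology]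
  refine IsZero.of_iso ((DerivedCategory.isGE_iff _ _).1 h n (by push_cast; omega))
    (((DerivedCategory.homologyFunctorFactors X.Modules n).app _).symm ≪≫
      (DerivedCategory.homologyFunctor X.Modules n).mapIso
        (DCat.rfObjIso (DCat.modules_enoughKInj X) (DCoh.gammaZ j) J e).symm)

instance preservesFiniteLimits_gammaAb : PreservesFiniteLimits (DCoh.gammaAb X) := by
  haveI : HasFiniteLimits AddCommGrpCat.{u} := inferInstance
  haveI : PreservesFiniteLimits (Scheme.Modules.toPresheaf X) :=
    inferInstanceAs (PreservesFiniteLimits (SheafOfModules.toSheaf X.ringCatSheaf ⋙ sheafToPresheaf _ _))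
  haveI : PreservesFiniteLimits ((evaluation (Opens X.carrier)ᵒᵖ AddCommGrpCat.{u}).obj (op ⊤)) :=
    ⟨fun J _ _ => evaluation_preservesLimitsOfShape _⟩
  exact comp_preservesFiniteLimits _ _

/-- Cohomology of `Γ(X, Γ_Z J)` up to degree `2 d`. -/
theorem nonempty_iso (J : CochainComplex X.Modules ℤ) (lo m : ℤ) [J.IsStrictlyGE lo]
    (hJi : ∀ n, Injective (J.X n))
    (hex : ∀ n, n < m → (((DCoh.gammaZ j).mapHomologicalComplex (ComplexShape.up ℤ)).obj J).ExactAt n)
    (n : ℤ) (hn : n ≤ m) :
    Nonempty ((((CxOX.sectZAb j).mapHomologicalComplex (ComplexShape.up ℤ)).obj J).homology n ≅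
      (DCoh.gammaAb X).obj
        ((((DCoh.gammaZ j).mapHomologicalComplex (ComplexShape.up ℤ)).obj J).homology n)) := by
  haveI : CochainComplex.IsStrictlyGE (((DCoh.gammaZ j).mapHomologicalComplex (ComplexShape.up ℤ)).obj J) lo :=
    (CochainComplex.isStrictlyGE_iff _ lo).2 fun i hi =>
      (DCoh.gammaZ j).map_isZero (CochainComplex.isZero_of_isStrictlyGE J lo i hi)
  obtain ⟨i⟩ := RelInjSplit17.nonempty_homology_map_iso (GammaZRange17.Null j)
    (GammaZRange17.null_of_mono j)
    (((DCoh.gammaZ j).mapHomologicalComplex (ComplexShape.up ℤ)).obj J)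
    (fun i => GammaZRange17.null_gammaZ j (J.X i))
    (fun i => haveI := hJi i; GammaZRange17.relInj_gammaZ j (J.X i)) (DCoh.gammaAb X) lo m hex n hn
  let c : ((CxOX.sectZAb j).mapHomologicalComplex (ComplexShape.up ℤ)).obj J ≅
      ((DCoh.gammaAb X).mapHomologicalComplex (ComplexShape.up ℤ)).obj
        (((DCoh.gammaZ j).mapHomologicalComplex (ComplexShape.up ℤ)).obj J) :=
    HomologicalComplex.Hom.isoOfComponents (fun _ => Iso.refl _)
      (fun _ _ _ => (Category.id_comp _).trans (Category.comp_id _).symm)
  exact ⟨(HomologicalComplex.homologyFunctor AddCommGrpCat.{u} (ComplexShape.up ℤ) n).mapIso c ≪≫ i⟩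

end Groth.Agent.SuppVanish17
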